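import Mathlib
import Cfsg.Agent.Lib.H01.FrobAct
import Cfsg.Agent.Lib.H14.UniqueSub
import Cfsg.Statements.S0040
-- import your own Cfsg.Agent.* helpers here

set_option autoImplicit false
open Cfsg

namespace Cfsg.Agent.S0040

/-- `p`-subgroups of a fixed-point-free group have a unique subgroup of order `p`. -/
theorem uniqueP_of_fpf {G : Type*} [Group G] [Finite G] (K H : Subgroup G) (hHK : H ≤ Subgroup.normalizer (K : Set G))
    (hK : K ≠ ⊥) (hfpf : ∀ h ∈ H, h ≠ 1 → K ⊓ Subgroup.centralizer {h} = ⊥)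
    (p : ℕ) [Fact p.Prime] (P : Subgroup G) (hPH : P ≤ H) (hP : IsPGroup p P) :
    Cfsg.Agent.H14.UniqueP p P := by
  classical
  have hpr : p.Prime := Fact.out
  intro x y hx hy
  by_contra hyx
  have hx1 : x ≠ 1 := by
    rintro rfl
    rw [orderOf_one] at hx
    exact hpr.one_lt.ne hx
  haveI : Nontrivial P := ⟨⟨x, 1, hx1⟩⟩
  haveI := hP.center_nontrivial
  obtain ⟨z₀, hz₀⟩ := exists_ne (1 : Subgroup.center P)
  -- an element of order `p` in the centre
  have hz₀p : IsPGroup p (Subgroup.center P) := hP.to_subgroup _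
  obtain ⟨k, hk⟩ := hz₀p z₀
  -- take a power of order `p`
  have hord : ∃ z : P, z ∈ Subgroup.center P ∧ orderOf z = p := by
    have hz1 : (z₀ : P) ≠ 1 := fun h => hz₀ (Subtype.ext h)
    have hk' : (z₀ : P) ^ p ^ k = 1 := congrArg Subtype.val hk
    obtain ⟨j, -, hj⟩ := (Nat.dvd_prime_pow hpr).mp (orderOf_dvd_of_pow_eq_one hk')
    rcases j with _ | j
    · rw [pow_zero] at hj
      exact absurd (orderOf_eq_one_iff.mp hj) hz1
    · refine ⟨(z₀ : P) ^ p ^ j, Subgroup.pow_mem _ z₀.2 _, ?_⟩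
      have h1 := orderOf_pow' (z₀ : P) (pow_ne_zero j hpr.ne_zero)
      rw [hj] at h1
      rw [h1, Nat.gcd_eq_right (pow_dvd_pow p (Nat.le_succ j))]
      rw [pow_succ]
      exact Nat.mul_div_cancel_left _ (pow_pos hpr.pos j)
  obtain ⟨z, hzc, hzo⟩ := hord
  have hz1 : z ≠ 1 := by
    rintro rfl
    rw [orderOf_one] at hzo
    exact hpr.one_lt.ne hzo
  -- one of `x, y` is outside `⟨z⟩`
  have hw : ∃ w : P, orderOf w = p ∧ w ∉ Subgroup.zpowers z := by
    by_contra hall
    push Not at hall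
    have h1 := hall x hx
    have h2 := hall y hy
    apply hyx
    have h3 : Subgroup.zpowers x = Subgroup.zpowers z := by
      apply Subgroup.eq_of_le_of_card_ge
      · exact Subgroup.zpowers_le.mpr h1
      · rw [Nat.card_zpowers, Nat.card_zpowers, hx, hzo]
    rw [h3]
    exact h2
  obtain ⟨w, hwo, hwz⟩ := hw
  have hw1 : ((w : P) : G) ^ p = 1 := by
    have := pow_orderOf_eq_one w
    rw [hwo] at this
    exact congrArg Subtype.val this
  have hz1' : ((z : P) : G) ^ p = 1 := by
    have := pow_orderOf_eq_one z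
    rw [hzo] at this
    exact congrArg Subtype.val this
  have hcomm : Commute ((w : P) : G) ((z : P) : G) := by
    have := (Subgroup.mem_center_iff.mp hzc w)
    exact congrArg Subtype.val this
  have hzne : ((z : P) : G) ≠ 1 := fun h => hz1 (Subtype.ext h)
  have hcop : (Nat.card K).Coprime p := by
    apply Nat.Coprime.symm
    rw [Nat.Prime.coprime_iff_not_dvd hpr]
    apply Cfsg.Agent.H01.not_dvd_card_of_fpf K hz1' (hHK (hPH z.2))
    intro v hv hfix
    have h1 : v ∈ K ⊓ Subgroup.centralizer {((z : P) : G)} := by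
      refine ⟨hv, ?_⟩
      show v ∈ Subgroup.centralizer _
      rw [Subgroup.mem_centralizer_iff]
      rintro _ rfl
      exact mul_inv_eq_iff_eq_mul.mp hfix
    rw [hfpf _ (hPH z.2) hzne] at h1
    exact h1
  apply Cfsg.Agent.H01.false_of_pair K hK hcomm hw1 hz1' (hHK (hPH w.2)) (hHK (hPH z.2)) hcop
  rintro u (rfl | ⟨i, _, rfl⟩)
  · exact hfpf _ (hPH z.2) hzne
  · apply hfpf _ (mul_mem (hPH w.2) (pow_mem (hPH z.2) i))
    intro h
    apply hwz
    have h2 : w = (z ^ i)⁻¹ := by
      apply eq_inv_of_mul_eq_one_left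
      apply Subtype.ext
      simpa using h
    rw [h2]
    exact inv_mem (pow_mem (Subgroup.mem_zpowers z) i)

/-- Sylow subgroups of Frobenius complements: if H complements a nontrivial normal subgroup K and every nonidentity element of H has trivial centraliser in K, then each Sylow subgroup of H is cyclic or isomorphic to a generalized quaternion group. -/
theorem result {G : Type*} [Group G] [Finite G] (K H : Subgroup G) [K.Normal]
    (hc : Subgroup.IsComplement' K H) (hK : K ≠ ⊥) (hfpf : ∀ h ∈ H, h ≠ 1 → K ⊓ Subgroup.centralizer {h} = ⊥)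
    (p : ℕ) [Fact p.Prime] (P : Sylow p H) :
    IsCyclic P ∨ ∃ n : ℕ, Nonempty (P ≃* QuaternionGroup (2 ^ n)) := by

  classical
  haveI hn := ‹K.Normal›
  have hHK : H ≤ Subgroup.normalizer (K : Set G) := by
    rw [Subgroup.normalizer_eq_top_iff.mpr hn]
    exact le_top
  let P₀ : Subgroup G := (P : Subgroup H).map H.subtype
  have hP₀H : P₀ ≤ H := Subgroup.map_subtype_le _
  have hP₀p : IsPGroup p P₀ := P.isPGroup'.map _
  have hu := uniqueP_of_fpf K H hHK hK hfpf p P₀ hP₀H hP₀p
  let e : (P : Subgroup H) ≃* P₀ := (P : Subgroup H).equivMapOfInjective H.subtype H.subtype_injective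
  have hu' : Cfsg.Agent.H14.UniqueP p (P : Subgroup H) := by
    intro x y hx hy
    have h1 := hu (e x) (e y) (by rw [MulEquiv.orderOf_eq]; exact hx) (by rw [MulEquiv.orderOf_eq]; exact hy)
    obtain ⟨k, hk⟩ := Subgroup.mem_zpowers_iff.mp h1
    apply Subgroup.mem_zpowers_iff.mpr
    refine ⟨k, ?_⟩
    apply e.injective
    rw [map_zpow, hk]
  rcases Cfsg.Agent.H14.isCyclic_or_quaternion P.isPGroup' hu' with h | ⟨_, k, _, hq⟩
  · exact Or.inl h
  · exact Or.inr ⟨k, hq⟩


end Cfsg.Agent.S0040
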