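import Mathlib
import Cfsg.Agent.Lib.H01.FrobAct
import Cfsg.Statements.S0041
-- import your own Cfsg.Agent.* helpers here

set_option autoImplicit false
open Cfsg

namespace Cfsg.Agent.S0041

open scoped IsMulCommutative

/-- The abelian case. -/
theorem abelian_case {G : Type*} [Group G] [Finite G] (A V : Subgroup G) (hV : V ≠ ⊥)
    (hAV : A ≤ Subgroup.normalizer (V : Set G)) (hfpf : ∀ a ∈ A, a ≠ 1 → V ⊓ Subgroup.centralizer {a} = ⊥)
    [IsMulCommutative A] : IsCyclic A := by
  classical
  by_contra hnc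
  obtain ⟨p, hp, a, b, hap, hbp, hb1, hi⟩ := Cfsg.Agent.H01.exists_independent_pair (A := A) hnc
  haveI : Fact p.Prime := ⟨hp⟩
  have hab : Commute (a : G) (b : G) := by
    have := mul_comm a b
    exact congrArg Subtype.val this
  have hap' : (a : G) ^ p = 1 := congrArg Subtype.val hap
  have hbp' : (b : G) ^ p = 1 := congrArg Subtype.val hbp
  have hb1' : (b : G) ≠ 1 := fun h => hb1 (Subtype.ext h)
  have hcop : (Nat.card V).Coprime p := by
    apply Nat.Coprime.symm
    rw [Nat.Prime.coprime_iff_not_dvd hp]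
    apply Cfsg.Agent.H01.not_dvd_card_of_fpf V hbp' (hAV b.2)
    intro v hv hfix
    have h1 : v ∈ V ⊓ Subgroup.centralizer {(b : G)} := by
      refine ⟨hv, ?_⟩
      show v ∈ Subgroup.centralizer _
      rw [Subgroup.mem_centralizer_iff]
      rintro _ rfl
      have := mul_inv_eq_iff_eq_mul.mp hfix
      exact this
    rw [hfpf b b.2 hb1'] at h1
    exact h1
  apply Cfsg.Agent.H01.false_of_pair V hV hab hap' hbp' (hAV a.2) (hAV b.2) hcop
  rintro x (rfl | ⟨i, _, rfl⟩)
  · exact hfpf b b.2 hb1'
  · apply hfpf _ (mul_mem a.2 (pow_mem b.2 i))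
    intro h
    exact hi i (Subtype.ext (by simpa using h))

/-- A group acting on a nontrivial abelian group so that no nonidentity element has a nonidentity fixed point is cyclic, provided it is abelian or its order is a product of two (possibly equal) primes. -/
theorem result {G : Type*} [Group G] [Finite G] (A V : Subgroup G) [IsMulCommutative V]
    (hV : V ≠ ⊥) (hAV : A ≤ Subgroup.normalizer (V : Set G)) (hfpf : ∀ a ∈ A, a ≠ 1 → V ⊓ Subgroup.centralizer {a} = ⊥)
    (hA : IsMulCommutative A ∨ ∃ p q : ℕ, p.Prime ∧ q.Prime ∧ Nat.card A = p * q) : IsCyclic A := by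

  classical
  have hfpf' : ∀ a : A, a ≠ 1 → ∀ v : V,
      (V.normalizerMonoidHom.comp (Subgroup.inclusion hAV)) a v = v → v = 1 := by
    intro a ha v hv
    have h1 : (a : G) * v * (a : G)⁻¹ = v := congrArg Subtype.val hv
    have h2 : (v : G) ∈ V ⊓ Subgroup.centralizer {(a : G)} := by
      refine ⟨v.2, ?_⟩
      show (v : G) ∈ Subgroup.centralizer _
      rw [Subgroup.mem_centralizer_iff]
      rintro _ rfl
      exact mul_inv_eq_iff_eq_mul.mp h1
    rw [hfpf a a.2 (fun h => ha (Subtype.ext h))] at h2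
    exact Subtype.ext h2
  have hW : ∃ v : V, v ≠ 1 := Subgroup.ne_bot_iff_exists_ne_one.mp hV
  rcases hA with hA | ⟨p, q, hp, hq, hcard⟩
  · exact abelian_case A V hV hAV hfpf
  · rcases lt_trichotomy p q with hlt | heq | hgt
    · exact Cfsg.Agent.H01.isCyclic_of_fpf_pq (V.normalizerMonoidHom.comp (Subgroup.inclusion hAV)) hfpf' hW
        hq hp hlt (by rw [hcard, mul_comm])
    · subst heq
      haveI : Fact p.Prime := ⟨hp⟩
      have hc := IsPGroup.commutative_of_card_eq_prime_sq (p := p) (G := A) (by rw [hcard]; ring)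
      haveI : IsMulCommutative A := ⟨⟨hc⟩⟩
      exact abelian_case A V hV hAV hfpf
    · exact Cfsg.Agent.H01.isCyclic_of_fpf_pq (V.normalizerMonoidHom.comp (Subgroup.inclusion hAV)) hfpf' hW
        hp hq hgt hcard


end Cfsg.Agent.S0041
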