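import Mathlib
import Cfsg.Agent.Lib.H01.SZ
import Cfsg.Statements.S0039
-- import your own Cfsg.Agent.* helpers here

set_option autoImplicit false
open Cfsg

namespace Cfsg.Agent.S0039

open scoped Pointwise

/-- In a finite group that is a semidirect product of a normal subgroup K by a nontrivial subgroup H, H is a Frobenius complement exactly when each nonidentity element of H acts without nonidentity fixed points on K by conjugation. -/
theorem result {G : Type*} [Group G] [Finite G] (K H : Subgroup G) [K.Normal]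
    (hc : Subgroup.IsComplement' K H) (hK : K ≠ ⊥) (hH : H ≠ ⊥) :
    Cfsg.IsFrobeniusComplement H ↔ ∀ h ∈ H, h ≠ 1 → K ⊓ Subgroup.centralizer {h} = ⊥ := by

  have hdisj := hc.disjoint
  have hdis : ∀ x, x ∈ K → x ∈ H → x = 1 := fun x hx hy => Subgroup.disjoint_def.mp hdisj hx hy
  constructor
  · rintro ⟨-, -, hF⟩ h hh hh1
    rw [eq_bot_iff]
    intro k hk
    obtain ⟨hkK, hkC⟩ := Subgroup.mem_inf.mp hk
    rw [Subgroup.mem_centralizer_singleton_iff] at hkC
    rw [Subgroup.mem_bot]
    by_contra hk1
    have hkH : k ∉ H := fun h' => hk1 (hdis k hkK h')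
    have h1 := hF k hkH
    have h2 : h ∈ H ⊓ (MulAut.conj k • H) := by
      refine Subgroup.mem_inf.mpr ⟨hh, ?_⟩
      rw [Cfsg.Agent.H01.mem_conj_smul_iff]
      have : k⁻¹ * h * k = h := by
        rw [mul_assoc, ← hkC]
        group
      rw [this]
      exact hh
    rw [h1, Subgroup.mem_bot] at h2
    exact hh1 h2
  · intro hfpf
    refine ⟨hH, ?_, ?_⟩
    · intro htop
      rw [htop, disjoint_top] at hdisj
      exact hK hdisj
    · intro g hg
      rw [eq_bot_iff]
      intro x hx
      obtain ⟨hxH, hxg⟩ := Subgroup.mem_inf.mp hx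
      rw [Cfsg.Agent.H01.mem_conj_smul_iff] at hxg
      rw [Subgroup.mem_bot]
      by_contra hx1
      -- write `g = k * h`
      have hgtop : g ∈ K ⊔ H := by rw [hc.sup_eq_top]; trivial
      rw [Subgroup.mem_sup_of_normal_left] at hgtop
      obtain ⟨k, hk, h, hh, rfl⟩ := hgtop
      have hk1 : k ≠ 1 := by
        rintro rfl
        apply hg
        simpa using hh
      -- `y = k⁻¹ x k`
      have hy : k⁻¹ * x * k ∈ H := by
        have h3 : h * ((k * h)⁻¹ * x * (k * h)) * h⁻¹ ∈ H :=
          H.mul_mem (H.mul_mem hh hxg) (H.inv_mem hh)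
        have h4 : h * ((k * h)⁻¹ * x * (k * h)) * h⁻¹ = k⁻¹ * x * k := by group
        rwa [h4] at h3
      have hk' : x⁻¹ * (k⁻¹ * x * k) ∈ K := by
        have h5 : x⁻¹ * k⁻¹ * x ∈ K := by
          have := (inferInstance : K.Normal).conj_mem k⁻¹ (K.inv_mem hk) x⁻¹
          simpa using this
        have h6 : x⁻¹ * (k⁻¹ * x * k) = (x⁻¹ * k⁻¹ * x) * k := by group
        rw [h6]
        exact K.mul_mem h5 hk
      have h7 := hdis _ hk' (H.mul_mem (H.inv_mem hxH) hy)
      have h8 : k⁻¹ * x * k = x := by
        rw [inv_mul_eq_one] at h7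
        exact h7.symm
      have h9 : k ∈ K ⊓ Subgroup.centralizer {x} := by
        refine Subgroup.mem_inf.mpr ⟨hk, ?_⟩
        rw [Subgroup.mem_centralizer_singleton_iff]
        have h10 : x * k = k * x := by
          calc x * k = k * (k⁻¹ * x * k) := by group
            _ = k * x := by rw [h8]
        exact h10.symm
      rw [hfpf x hxH hx1, Subgroup.mem_bot] at h9
      exact hk1 h9


end Cfsg.Agent.S0039
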