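import Mathlib
import Cfsg.Agent.Lib.H01.FrobComp2
import Cfsg.Agent.Lib.H01.NormalComp
import Cfsg.Statements.S0069
-- import your own Cfsg.Agent.* helpers here

set_option autoImplicit false
open Cfsg

namespace Cfsg.Agent.S0069

open scoped commutatorElement
open scoped IsMulCommutative

/-- An involution acting without fixed points inverts. -/
theorem invert_of_invol {G : Type*} [Group G] [Finite G] (K : Subgroup G) [hKn : K.Normal] {s : G}
    (hs2 : s * s = 1) (hfix : ∀ v ∈ K, s * v = v * s → v = 1) :
    ∀ k ∈ K, s * k * s⁻¹ = k⁻¹ := by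
  classical
  have hsinv : s⁻¹ = s := by rw [inv_eq_iff_mul_eq_one]; exact hs2
  let φ : K → K := fun k => ⟨(k : G)⁻¹ * (s * k * s⁻¹), mul_mem (inv_mem k.2) (hKn.conj_mem _ k.2 s)⟩
  have hφ : Function.Injective φ := by
    intro k l hkl
    have h1 : (k : G)⁻¹ * (s * k * s⁻¹) = (l : G)⁻¹ * (s * l * s⁻¹) := congrArg Subtype.val hkl
    have h2 : ((l : G) * (k : G)⁻¹) ∈ K := mul_mem l.2 (inv_mem k.2)
    have h3 : s * ((l : G) * (k : G)⁻¹) = ((l : G) * (k : G)⁻¹) * s := by
      have h4 : (k : G)⁻¹ * s * k = (l : G)⁻¹ * s * l := by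
        have h4' : ((k : G)⁻¹ * (s * k * s⁻¹)) * s = ((l : G)⁻¹ * (s * l * s⁻¹)) * s := by rw [h1]
        simpa [mul_assoc] using h4'
      calc s * ((l : G) * (k : G)⁻¹) = (l : G) * ((l : G)⁻¹ * s * l) * (k : G)⁻¹ := by group
        _ = (l : G) * ((k : G)⁻¹ * s * k) * (k : G)⁻¹ := by rw [h4]
        _ = _ := by group
    have h5 := hfix _ h2 h3
    have h6 : (l : G) = k := mul_inv_eq_one.mp h5
    exact Subtype.ext h6.symm
  have hsurj := Finite.injective_iff_surjective.mp hφ
  intro u hu
  obtain ⟨k, hk⟩ := hsurj ⟨u, hu⟩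
  have hk' : (k : G)⁻¹ * (s * k * s⁻¹) = u := congrArg Subtype.val hk
  rw [← hk', hsinv]
  have e1 : s * ((k : G)⁻¹ * (s * k * s)) * s = s * (k : G)⁻¹ * s * k * (s * s) := by group
  have e2 : ((k : G)⁻¹ * (s * k * s))⁻¹ = s⁻¹ * (k : G)⁻¹ * s⁻¹ * k := by group
  rw [e1, e2, hs2, hsinv, mul_one]

/-- A Frobenius complement has nontrivial centre: if H ≠ 1 complements a nontrivial normal subgroup K and every nonidentity element of H has trivial centraliser in K, then the centre of H is nontrivial. -/
theorem result {G : Type*} [Group G] [Finite G] (K H : Subgroup G) [K.Normal]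
    (hc : Subgroup.IsComplement' K H) (hK : K ≠ ⊥) (hH : H ≠ ⊥) (hfpf : ∀ h ∈ H, h ≠ 1 → K ⊓ Subgroup.centralizer {h} = ⊥) :
    Subgroup.center H ≠ ⊥ := by

  classical
  haveI hn := ‹K.Normal›
  have hHK : H ≤ Subgroup.normalizer (K : Set G) := by
    rw [Subgroup.normalizer_eq_top_iff.mpr hn]
    exact le_top
  have hfixG : ∀ (a : G), a ∈ H → a ≠ 1 → ∀ v ∈ K, a * v = v * a → v = 1 := by
    intro a ha ha1 v hv hfix
    have h1 : v ∈ K ⊓ Subgroup.centralizer {a} := by
      refine ⟨hv, ?_⟩
      show v ∈ Subgroup.centralizer _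
      rw [Subgroup.mem_centralizer_iff]
      rintro _ rfl
      exact hfix
    rw [hfpf a ha ha1] at h1
    exact h1
  by_cases h2 : 2 ∣ Nat.card H
  · haveI : Fact (Nat.Prime 2) := ⟨Nat.prime_two⟩
    obtain ⟨t, ht⟩ := exists_prime_orderOf_dvd_card' 2 h2
    have hinv : ∀ s : H, orderOf s = 2 → ∀ k ∈ K, (s : G) * k * (s : G)⁻¹ = k⁻¹ := by
      intro s hs
      have hs1 : (s : G) ≠ 1 := by
        intro h
        have h3 : s = 1 := Subtype.ext h
        rw [h3, orderOf_one] at hs
        omega
      have hs2 : (s : G) * (s : G) = 1 := by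
        have := pow_orderOf_eq_one s
        rw [hs, pow_two] at this
        exact congrArg Subtype.val this
      exact invert_of_invol K hs2 (hfixG _ s.2 hs1)
    have huniq : ∀ s s' : H, orderOf s = 2 → orderOf s' = 2 → s = s' := by
      intro s s' hs hs'
      by_contra hne
      have hss : (s : G) * (s' : G) ≠ 1 := by
        intro h
        apply hne
        have h3 : s * s' = 1 := Subtype.ext h
        have h4 : s' * s' = 1 := by
          have := pow_orderOf_eq_one s'
          rwa [hs', pow_two] at this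
        exact mul_right_cancel (h3.trans h4.symm)
      apply hK
      rw [eq_bot_iff]
      intro k hk
      apply (Subgroup.mem_bot).mpr
      apply hfixG _ (mul_mem s.2 s'.2) hss k hk
      have h3 := hinv s' hs' k hk
      have h4 := hinv s hs k⁻¹ (inv_mem hk)
      rw [inv_inv] at h4
      have h5 : (s : G) * (s' : G) * k * ((s : G) * (s' : G))⁻¹ = k := by
        calc (s : G) * (s' : G) * k * ((s : G) * (s' : G))⁻¹
            = (s : G) * ((s' : G) * k * (s' : G)⁻¹) * (s : G)⁻¹ := by group
          _ = k := by rw [h3, h4]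
      exact mul_inv_eq_iff_eq_mul.mp h5
    intro hbot
    have htc : t ∈ Subgroup.center H := by
      rw [Subgroup.mem_center_iff]
      intro h
      have h3 : orderOf (h * t * h⁻¹) = 2 := by
        have h5 := MulEquiv.orderOf_eq (MulAut.conj h) t
        rw [MulAut.conj_apply] at h5
        rw [h5, ht]
      have h4 := huniq _ _ h3 ht
      exact mul_inv_eq_iff_eq_mul.mp h4
    rw [hbot, Subgroup.mem_bot] at htc
    rw [htc, orderOf_one] at ht
    omega
  · -- the odd case
    haveI hZ : IsZGroup H := by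
      refine ⟨fun p hp P => ?_⟩
      haveI : Fact p.Prime := ⟨hp⟩
      rcases Cfsg.Agent.S0040.result K H hc hK hfpf p P with h | ⟨n, ⟨e⟩⟩
      · exact h
      · exfalso
        apply h2
        have h3 : Nat.card (P : Subgroup H) = 4 * 2 ^ n := by
          rw [Nat.card_congr e.toEquiv, Nat.card_eq_fintype_card, QuaternionGroup.card]
        have h4 : Nat.card (P : Subgroup H) ∣ Nat.card H := Subgroup.card_subgroup_dvd_card _
        exact (Dvd.intro_left (2 * 2 ^ n) (by rw [h3]; ring)).trans h4
    haveI hnt : Nontrivial H := (Subgroup.nontrivial_iff_ne_bot H).mpr hH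
    have hlt : commutator H < ⊤ := IsZGroup.commutator_lt H
    have hcop : (Nat.card (commutator H)).Coprime (commutator H).index := IsZGroup.coprime_commutator_index H
    have hcyc : IsCyclic (commutator H) := IsZGroup.isCyclic_commutator H
    obtain ⟨B, hB⟩ := Subgroup.exists_right_complement'_of_coprime hcop
    have hidx : (commutator H).index ≠ 1 := fun h => hlt.ne (Subgroup.index_eq_one.mp h)
    obtain ⟨q, hq, hqd⟩ := Nat.exists_prime_and_dvd hidx
    haveI : Fact q.Prime := ⟨hq⟩
    have hcB : Nat.card B = (commutator H).index := Cfsg.Agent.H01.card_complement_eq_index hB.symm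
    obtain ⟨b₀, hb₀⟩ := exists_prime_orderOf_dvd_card' q (hcB ▸ hqd)
    set b : H := (b₀ : H) with hbdef
    have hbo : orderOf b = q := by
      rw [hbdef, Subgroup.orderOf_coe, hb₀]
    have hqC : ¬ q ∣ Nat.card (commutator H) := by
      intro h
      have h3 := Nat.dvd_gcd h hqd
      rw [hcop] at h3
      exact hq.one_lt.ne' (Nat.dvd_one.mp h3)
    obtain ⟨c, hc'⟩ := IsCyclic.exists_generator (α := commutator H)
    haveI hCab : IsMulCommutative (commutator H) := ⟨⟨(IsCyclic.commutative (α := commutator H)).is_comm.comm⟩⟩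
    have hcomm : ∀ v : H, v ∈ commutator H → (orderOf v).Prime → v * b = b * v := by
      intro v hv hvp
      have hvG : ((v : H) : G) ∈ H := v.2
      have hrq : orderOf v ≠ q := by
        intro h
        apply hqC
        rw [← h]
        exact Subgroup.orderOf_dvd_natCard _ hv
      have hcm : b * (c : H) * b⁻¹ ∈ commutator H := (inferInstance : (commutator H).Normal).conj_mem _ c.2 b
      obtain ⟨m, hm⟩ := Subgroup.mem_zpowers_iff.mp (hc' ⟨_, hcm⟩)
      obtain ⟨j, hj⟩ := Subgroup.mem_zpowers_iff.mp (hc' ⟨v, hv⟩)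
      have hm' : (c : H) ^ m = b * (c : H) * b⁻¹ := congrArg Subtype.val hm
      have hj' : (c : H) ^ j = v := congrArg Subtype.val hj
      have hn : b * v * b⁻¹ = v ^ m := by
        rw [← hj']
        have e : b * (c : H) ^ j * b⁻¹ = (b * (c : H) * b⁻¹) ^ j := by
          rw [conj_zpow]
        rw [e, ← hm', ← zpow_mul, ← zpow_mul, mul_comm]
      have h3 := Cfsg.Agent.H01.commute_of_primes K H hHK hK hfpf (v := (v : G)) (b := (b : G)) v.2 b.2
        (r := orderOf v) (q := q) hvp hq hrq (by rw [Subgroup.orderOf_coe]) (by rw [Subgroup.orderOf_coe, hbo])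
        (by
          have h4 : ((b * v * b⁻¹ : H) : G) = ((v ^ m : H) : G) := congrArg Subtype.val hn
          simp only [Subgroup.coe_mul, Subgroup.coe_inv, Subgroup.coe_zpow] at h4
          rw [h4]
          exact zpow_mem (Subgroup.mem_zpowers _) m)
      exact Subtype.ext h3
    have hcent : Subgroup.zpowers b ≤ Subgroup.centralizer ((commutator H : Subgroup H) : Set H) := by
      apply Cfsg.Agent.H01.centralizes_of_centralizes_prime_order
      · rw [Subgroup.normalizer_eq_top_iff.mpr inferInstance]
        exact le_top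
      · rw [Nat.card_zpowers, hbo]
        rw [Nat.Prime.coprime_iff_not_dvd hq]
        exact hqC
      · intro v hv hvp a ha
        obtain ⟨j, rfl⟩ := Subgroup.mem_zpowers_iff.mp ha
        have h3 : Commute b v := (hcomm v hv hvp).symm
        exact (h3.zpow_left j)
    have hbB : ∀ β ∈ B, b * β = β * b := by
      intro β hβ
      have h3a : ⁅b, β⁆ ∈ commutator H :=
        Subgroup.commutator_mem_commutator (Subgroup.mem_top _) (Subgroup.mem_top _)
      have h3b : ⁅b, β⁆ ∈ B := by
        rw [commutatorElement_def]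
        have hbB' : b ∈ B := b₀.2
        exact mul_mem (mul_mem (mul_mem hbB' hβ) (inv_mem hbB')) (inv_mem hβ)
      have h3 : ⁅b, β⁆ ∈ commutator H ⊓ B := ⟨h3a, h3b⟩
      rw [hB.disjoint.eq_bot, Subgroup.mem_bot, commutatorElement_eq_one_iff_commute] at h3
      exact h3
    intro hbot
    have hbc : b ∈ Subgroup.center H := by
      rw [Subgroup.mem_center_iff]
      intro h
      have h3 : h ∈ commutator H ⊔ B := by rw [hB.sup_eq_top]; trivial
      rw [Subgroup.mem_sup_of_normal_left] at h3
      obtain ⟨u, hu, β, hβ, rfl⟩ := h3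
      have h4 := Subgroup.mem_centralizer_iff.mp (hcent (Subgroup.mem_zpowers b)) u hu
      have h5 := hbB β hβ
      calc u * β * b = u * (β * b) := by group
        _ = u * (b * β) := by rw [h5]
        _ = (u * b) * β := by group
        _ = (b * u) * β := by rw [h4]
        _ = _ := by group
    rw [hbot, Subgroup.mem_bot] at hbc
    rw [hbc, orderOf_one] at hbo
    exact hq.one_lt.ne hbo


end Cfsg.Agent.S0069
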