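import Cfsg.Statements.S0648
import Mathlib

set_option autoImplicit false
open Cfsg

namespace Cfsg.Agent.S0648

open scoped commutatorElement

variable {G : Type*} [Group G]

def cm (u v : G) : G := u * v * u⁻¹ * v⁻¹

lemma cm_mul_left' (u v w : G) (h : Commute (cm v w) u) : cm (u * v) w = cm v w * cm u w := by
  have h1 : cm (u * v) w = u * cm v w * u⁻¹ * (u * w * u⁻¹ * w⁻¹) := by
    unfold cm; group
  rw [h1, h.symm.eq, mul_assoc (cm v w), mul_inv_cancel, mul_one]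
  rfl

lemma cm_mul_right' (u v w : G) (h : Commute (cm u w) v) : cm u (v * w) = cm u v * cm u w := by
  have h1 : cm u (v * w) = (u * v * u⁻¹ * v⁻¹) * (v * cm u w * v⁻¹) := by
    unfold cm; group
  rw [h1, h.symm.eq, mul_assoc (cm u w), mul_inv_cancel, mul_one]
  rfl

lemma cm_conj (g u v : G) : g * cm u v * g⁻¹ = cm (g * u * g⁻¹) (g * v * g⁻¹) := by
  unfold cm; group

lemma cm_swap (u v : G) : cm v u = (cm u v)⁻¹ := by
  unfold cm; group

lemma cm_one_right (u : G) : cm u 1 = 1 := by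
  unfold cm; group

lemma cm_one_left (u : G) : cm 1 u = 1 := by
  unfold cm; group

def xx (b a : G) : G := b⁻¹ * a * b * a⁻¹

def ee (b f c : G) : G := (xx b c)⁻¹ * f * xx b c * f⁻¹

lemma add_cancel6 {A : Type*} [AddCommGroup A] (t z1 z2 p1 p2 s : A)
    (h : (-t + z2 + z1) + (t + p1 + (p2 + s)) + (-(z1 + p1) + -(z2 + p2)) = 0) : s = 0 := by
  have : s = (-t + z2 + z1) + (t + p1 + (p2 + s)) + (-(z1 + p1) + -(z2 + p2)) := by abel
  rw [this]; exact h

lemma mul_cancel6 {A : Type*} [CommGroup A] (t z1 z2 p1 p2 s : A)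
    (h : (t⁻¹ * z2 * z1) * (t * p1 * (p2 * s)) * ((z1 * p1)⁻¹ * (z2 * p2)⁻¹) = 1) : s = 1 :=
  add_cancel6 (A := Additive A) t z1 z2 p1 p2 s h

lemma cancel6 (Z : Subgroup G) (hZ : ∀ x ∈ Z, ∀ y ∈ Z, x * y = y * x) {t z1 z2 p1 p2 s : G}
    (ht : t ∈ Z) (h1 : z1 ∈ Z) (h2 : z2 ∈ Z) (h3 : p1 ∈ Z) (h4 : p2 ∈ Z) (h5 : s ∈ Z)
    (h : (t⁻¹ * z2 * z1) * (t * p1 * (p2 * s)) * ((z1 * p1)⁻¹ * (z2 * p2)⁻¹) = 1) : s = 1 := by
  letI : CommGroup Z := { (inferInstance : Group Z) with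
    mul_comm := fun a b => Subtype.ext (hZ _ a.2 _ b.2) }
  have := mul_cancel6 (⟨t, ht⟩ : Z) ⟨z1, h1⟩ ⟨z2, h2⟩ ⟨p1, h3⟩ ⟨p2, h4⟩ ⟨s, h5⟩ (Subtype.ext h)
  exact congrArg Subtype.val this

theorem part1 (A B : Subgroup G) (hAB : A ≤ Subgroup.normalizer (B : Set G)) (hc : ⁅⁅B, B⁆, A⁆ = ⊥) :
    ⁅B, A⁆ ≤ B ∧ ⁅⁅B, A⁆, ⁅B, B⁆⁆ = ⊥ ∧ ⁅⁅⁅B, A⁆, ⁅B, A⁆⁆, B⁆ = ⊥ := by
  have hCB : ⁅B, A⁆ ≤ B := by
    rw [Subgroup.commutator_le]
    intro x hx g hg
    rw [commutatorElement_def]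
    have h1 := Subgroup.le_normalizer_iff.1 hAB g hg x⁻¹ (B.inv_mem hx)
    have : x * g * x⁻¹ * g⁻¹ = x * (g * x⁻¹ * g⁻¹) := by group
    rw [this]
    exact B.mul_mem hx h1
  have hDB : ⁅B, B⁆ ≤ B := by
    rw [Subgroup.commutator_le]
    intro x hx y hy
    rw [commutatorElement_def]
    exact B.mul_mem (B.mul_mem (B.mul_mem hx hy) (B.inv_mem hx)) (B.inv_mem hy)
  have hAD : ⁅A, ⁅B, B⁆⁆ = ⊥ := by
    rw [Subgroup.commutator_comm]; exact hc
  have hstepa : ⁅⁅B, A⁆, ⁅B, B⁆⁆ = ⊥ := by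
    apply Subgroup.commutator_commutator_eq_bot_of_rotate
    · rw [hAD]
      simp
    · apply le_bot_iff.1
      rw [← hc]
      exact Subgroup.commutator_mono (Subgroup.commutator_mono hDB le_rfl) le_rfl
  have hstepb : ⁅⁅⁅B, A⁆, ⁅B, A⁆⁆, B⁆ = ⊥ := by
    have h1 : ⁅⁅B, ⁅B, A⁆⁆, ⁅B, A⁆⁆ = ⊥ := by
      apply le_bot_iff.1
      rw [Subgroup.commutator_comm, ← hstepa]
      exact Subgroup.commutator_mono le_rfl (Subgroup.commutator_mono le_rfl hCB)
    have h2 : ⁅⁅⁅B, A⁆, B⁆, ⁅B, A⁆⁆ = ⊥ := by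
      rw [Subgroup.commutator_comm ⁅B, A⁆ B]
      exact h1
    exact Subgroup.commutator_commutator_eq_bot_of_rotate h2 h1
  exact ⟨hCB, hstepa, hstepb⟩

theorem part2 (A B : Subgroup G) (hAB : A ≤ Subgroup.normalizer (B : Set G)) (hc : ⁅⁅B, B⁆, A⁆ = ⊥)
    (hAc : ∀ a ∈ A, ∀ a' ∈ A, a * a' = a' * a) (b : G) (hb : b ∈ B)
    (hX : ⁅⁅Subgroup.closure {g : G | ∃ a ∈ A, g = b⁻¹ * a * b * a⁻¹}, A⁆, A⁆ = ⊥) :
    ∀ a ∈ A, ∀ c ∈ A, (cm (xx b a) (xx b c)) ^ 2 = 1 := by
  obtain ⟨hCB, hstepa, hstepb⟩ := part1 A B hAB hc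
  set C := ⁅B, A⁆ with hCdef
  set D := ⁅B, B⁆ with hDdef
  set X := Subgroup.closure {g : G | ∃ a ∈ A, g = b⁻¹ * a * b * a⁻¹} with hXdef
  -- basic commuting facts
  have hDA : ∀ a ∈ A, ∀ d ∈ D, a * d = d * a := by
    intro a ha d hd
    have h1 : d * a * d⁻¹ * a⁻¹ = 1 := by
      have := Subgroup.commutator_mem_commutator hd ha
      rw [hc, Subgroup.mem_bot] at this
      exact this
    have h2 : d * a = a * d := by
      calc d * a = (d * a * d⁻¹ * a⁻¹) * (a * d) := by group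
        _ = a * d := by rw [h1, one_mul]
    exact h2.symm
  have hDC : ∀ u ∈ C, ∀ d ∈ D, u * d = d * u := by
    intro u hu d hd
    have h1 : u * d * u⁻¹ * d⁻¹ = 1 := by
      have := Subgroup.commutator_mem_commutator hu hd
      rw [hstepa, Subgroup.mem_bot] at this
      exact this
    calc u * d = (u * d * u⁻¹ * d⁻¹) * (d * u) := by group
      _ = d * u := by rw [h1, one_mul]
  have hcen : ∀ u ∈ C, ∀ v ∈ C, ∀ y ∈ B, cm u v * y = y * cm u v := by
    intro u hu v hv y hy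
    have h0 : cm u v ∈ ⁅C, C⁆ := Subgroup.commutator_mem_commutator hu hv
    have h1 : cm u v * y * (cm u v)⁻¹ * y⁻¹ = 1 := by
      have := Subgroup.commutator_mem_commutator h0 hy
      rw [hstepb, Subgroup.mem_bot] at this
      exact this
    calc cm u v * y = (cm u v * y * (cm u v)⁻¹ * y⁻¹) * (y * cm u v) := by group
      _ = y * cm u v := by rw [h1, one_mul]
  have hcmB : ∀ u ∈ B, ∀ v ∈ B, cm u v ∈ D := fun u hu v hv => Subgroup.commutator_mem_commutator hu hv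
  have hDleB : D ≤ B := by
    rw [hDdef, Subgroup.commutator_le]
    intro x hx y hy
    rw [commutatorElement_def]
    exact B.mul_mem (B.mul_mem (B.mul_mem hx hy) (B.inv_mem hx)) (B.inv_mem hy)
  have hcCmem : ∀ u ∈ C, ∀ v ∈ C, cm u v ∈ D := fun u hu v hv => hcmB u (hCB hu) v (hCB hv)
  -- bilinearity
  have bl : ∀ u ∈ C, ∀ v ∈ C, ∀ w ∈ C, cm (u * v) w = cm v w * cm u w := by
    intro u hu v hv w hw
    apply cm_mul_left'
    exact hcen v hv w hw u (hCB hu)
  have br : ∀ u ∈ C, ∀ v ∈ C, ∀ w ∈ C, cm u (v * w) = cm u v * cm u w := by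
    intro u hu v hv w hw
    apply cm_mul_right'
    exact hcen u hu w hw v (hCB hv)
  have hbr : ∀ v ∈ C, ∀ w ∈ C, cm b (v * w) = cm b v * cm b w := by
    intro v hv w hw
    apply cm_mul_right'
    exact (hDC v hv _ (hcmB b hb w (hCB hw))).symm
  -- elements
  have hxC : ∀ a ∈ A, xx b a ∈ C := by
    intro a ha
    have := Subgroup.commutator_mem_commutator (B.inv_mem hb) ha
    rw [commutatorElement_def, inv_inv] at this
    exact this
  have hxX : ∀ a ∈ A, xx b a ∈ X := by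
    intro a ha
    exact Subgroup.subset_closure ⟨a, ha, rfl⟩
  have heC : ∀ f ∈ A, ∀ c ∈ A, ee b f c ∈ C := by
    intro f hf c hc'
    have := Subgroup.commutator_mem_commutator (B.inv_mem (hCB (hxC c hc'))) hf
    rw [commutatorElement_def, inv_inv] at this
    exact this
  have heX : ∀ f ∈ A, ∀ c ∈ A, ee b f c ∈ ⁅X, A⁆ := by
    intro f hf c hc'
    have := Subgroup.commutator_mem_commutator (X.inv_mem (hxX c hc')) hf
    rw [commutatorElement_def, inv_inv] at this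
    exact this
  have hefix : ∀ f ∈ A, ∀ c ∈ A, ∀ g ∈ A, g * ee b f c = ee b f c * g := by
    intro f hf c hc' g hg
    have h1 : ee b f c * g * (ee b f c)⁻¹ * g⁻¹ = 1 := by
      have := Subgroup.commutator_mem_commutator (heX f hf c hc') hg
      rw [hX, Subgroup.mem_bot] at this
      exact this
    calc g * ee b f c = (ee b f c * g * (ee b f c)⁻¹ * g⁻¹)⁻¹ * (ee b f c * g) := by group
      _ = ee b f c * g := by rw [h1, inv_one, one_mul]
  have F2 : ∀ f c : G, f * xx b c * f⁻¹ = xx b c * ee b f c := by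
    intro f c
    unfold ee
    group
  have F2b : ∀ f : G, f * b * f⁻¹ = b * xx b f := by
    intro f
    unfold xx
    group
  have F3 : ∀ f ∈ A, ∀ g ∈ A, ∀ c ∈ A, ee b (f * g) c = ee b f c * ee b g c := by
    intro f hf g hg c hc'
    have h1 : ee b (f * g) c = (xx b c)⁻¹ * (f * (g * xx b c * g⁻¹) * f⁻¹) := by
      unfold ee; group
    rw [h1, F2 g c]
    have h2 : f * (xx b c * ee b g c) * f⁻¹ = (f * xx b c * f⁻¹) * (f * ee b g c * f⁻¹) := by group
    rw [h2, F2 f c, hefix g hg c hc' f hf, mul_assoc (ee b g c), mul_inv_cancel, mul_one]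
    group
  have F4 : ∀ c d : G, xx b (c * d) = xx b c * (xx b d * ee b c d) := by
    intro c d
    rw [← F2 c d]
    unfold xx
    group
  have hconjC : ∀ f ∈ A, ∀ c ∈ A, f * xx b c * f⁻¹ ∈ C := by
    intro f hf c hc'
    rw [F2]
    exact C.mul_mem (hxC c hc') (heC f hf c hc')
  -- F5'
  have F5 : ∀ v ∈ C, (∀ g ∈ A, g * v = v * g) → ∀ g ∈ A, ∀ d ∈ A, cm v (ee b g d) = 1 := by
    intro v hv hvfix g hg d hd
    set y := xx b d with hy
    have hyC : y ∈ C := hxC d hd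
    have h1 : ee b g d = y⁻¹ * (g * y * g⁻¹) := by
      rw [hy]; unfold ee; group
    rw [h1, br v hv _ (C.inv_mem hyC) _ (hconjC g hg d hd)]
    have h2 : cm v (g * y * g⁻¹) = cm v y := by
      have h3 : g * cm v y * g⁻¹ = cm (g * v * g⁻¹) (g * y * g⁻¹) := cm_conj g v y
      have h4 : g * v * g⁻¹ = v := by rw [hvfix g hg]; group
      rw [h4] at h3
      rw [← h3, hDA g hg _ (hcCmem v hv y hyC)]
      group
    rw [h2]
    have h5 := br v hv _ (C.inv_mem hyC) _ hyC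
    rw [inv_mul_cancel, cm_one_right] at h5
    exact h5.symm
  -- F6
  have F6 : ∀ f ∈ A, ∀ a ∈ A, ∀ d ∈ A, cm (xx b a) (ee b f d) = cm (xx b d) (ee b f a) := by
    intro f hf a ha d hd
    set u := xx b a with hu
    set v := xx b d with hv
    set u' := ee b f a with hu'
    set v' := ee b f d with hv'
    have huC : u ∈ C := hxC a ha
    have hvC : v ∈ C := hxC d hd
    have hu'C : u' ∈ C := heC f hf a ha
    have hv'C : v' ∈ C := heC f hf d hd
    have h1 : f * cm u v * f⁻¹ = cm u v := by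
      rw [hDA f hf _ (hcCmem u huC v hvC)]
      group
    rw [cm_conj, hu, hv, F2, F2, ← hu, ← hv, ← hu', ← hv'] at h1
    rw [br _ (C.mul_mem huC hu'C) _ hvC _ hv'C, bl _ huC _ hu'C _ hvC, bl _ huC _ hu'C _ hv'C] at h1
    have h2 : cm u' v' = 1 := F5 u' hu'C (fun g hg => hefix f hf a ha g hg) f hf d hd
    rw [h2, one_mul, cm_swap v u'] at h1
    have h3 : (cm v u')⁻¹ * cm u v = cm u v * (cm v u')⁻¹ := by
      have := hcen u huC v hvC _ (B.inv_mem (hDleB (hcCmem v hvC u' hu'C)))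
      exact this.symm
    rw [h3, mul_assoc] at h1
    have h4 : (cm v u')⁻¹ * cm u v' = 1 := mul_left_cancel (h1.trans (mul_one _).symm)
    exact (inv_mul_eq_one.1 h4).symm
  -- F7
  have F7 : ∀ a ∈ A, ∀ c ∈ A, cm (xx b a) (xx b c) * ee b a c = ee b c a := by
    intro a ha c hc'
    have h1 : xx b (a * c) = xx b (c * a) := by rw [hAc a ha c hc']
    rw [F4, F4] at h1
    have h2 : xx b a * xx b c = xx b c * xx b a * cm (xx b a) (xx b c) := by
      have h3 : xx b a * xx b c = cm (xx b a) (xx b c) * (xx b c * xx b a) := by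
        unfold cm; group
      rw [h3]
      exact hcen _ (hxC a ha) _ (hxC c hc') _ (B.mul_mem (hCB (hxC c hc')) (hCB (hxC a ha)))
    have h4 : xx b c * xx b a * (cm (xx b a) (xx b c) * ee b a c) = xx b c * xx b a * ee b c a := by
      calc xx b c * xx b a * (cm (xx b a) (xx b c) * ee b a c)
          = (xx b c * xx b a * cm (xx b a) (xx b c)) * ee b a c := by group
        _ = xx b a * xx b c * ee b a c := by rw [h2]
        _ = xx b c * (xx b a * ee b c a) := by rw [mul_assoc, h1]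
        _ = xx b c * xx b a * ee b c a := by group
    exact mul_left_cancel h4
  -- F10
  have F10 : ∀ f ∈ A, ∀ d ∈ A, cm (xx b f) (xx b d) * cm (xx b f) (ee b f d) * cm b (ee b f d) = 1 := by
    intro f hf d hd
    set w := xx b d with hw
    set w' := ee b f d with hw'
    have hwC : w ∈ C := hxC d hd
    have hw'C : w' ∈ C := heC f hf d hd
    have hfC : xx b f ∈ C := hxC f hf
    have h1 : f * cm b w * f⁻¹ = cm b w := by
      rw [hDA f hf _ (hcmB b hb w (hCB hwC))]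
      group
    rw [cm_conj, hw, F2, F2b, ← hw, ← hw'] at h1
    have hwwC : w * w' ∈ C := C.mul_mem hwC hw'C
    rw [cm_mul_left' b (xx b f) (w * w') (hcen _ hfC _ hwwC b hb), br _ hfC _ hwC _ hw'C, hbr _ hwC _ hw'C] at h1
    -- `T` central
    have hT : (cm (xx b f) w * cm (xx b f) w') * cm b w = cm b w * (cm (xx b f) w * cm (xx b f) w') := by
      rw [mul_assoc, hcen _ hfC _ hw'C _ (hDleB (hcmB b hb w (hCB hwC))), ← mul_assoc,
        hcen _ hfC _ hwC _ (hDleB (hcmB b hb w (hCB hwC))), mul_assoc]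
    rw [← mul_assoc, hT, mul_assoc] at h1
    exact mul_left_cancel (h1.trans (mul_one _).symm)
  -- central subgroup
  let Z : Subgroup G := B ⊓ Subgroup.centralizer (B : Set G)
  have hZc : ∀ x ∈ Z, ∀ y ∈ Z, x * y = y * x := by
    intro x hx y hy
    exact Subgroup.mem_centralizer_iff.1 hy.2 x hx.1
  have hcZ : ∀ u ∈ C, ∀ v ∈ C, cm u v ∈ Z := by
    intro u hu v hv
    refine ⟨hDleB (hcCmem u hu v hv), ?_⟩
    show cm u v ∈ Subgroup.centralizer (B : Set G)
    rw [Subgroup.mem_centralizer_iff]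
    intro y hy
    exact (hcen u hu v hv y hy).symm
  -- F11
  have F11 : ∀ f ∈ A, ∀ g ∈ A, ∀ d ∈ A, cm (xx b f) (ee b g d) = 1 := by
    intro f hf g hg d hd
    have hfg : f * g ∈ A := A.mul_mem hf hg
    have hxf := hxC f hf
    have hxg := hxC g hg
    have hxd := hxC d hd
    have hefg := heC f hf g hg
    have hefd := heC f hf d hd
    have hegd := heC g hg d hd
    have h0 := F10 (f * g) hfg d hd
    have hXeq : xx b (f * g) = xx b f * (xx b g * ee b f g) := F4 f g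
    have hgg : xx b g * ee b f g ∈ C := C.mul_mem hxg hefg
    have hexp : ∀ w ∈ C, cm (xx b (f * g)) w = cm (ee b f g) w * cm (xx b g) w * cm (xx b f) w := by
      intro w hw
      rw [hXeq, bl _ hxf _ hgg _ hw, bl _ hxg _ hefg _ hw]
    have hefgfix : ∀ h ∈ A, h * ee b f g = ee b f g * h := fun h hh => hefix f hf g hg h hh
    have h1 : cm (xx b (f * g)) (xx b d) = (cm (xx b g) (ee b f d))⁻¹ * cm (xx b g) (xx b d) * cm (xx b f) (xx b d) := by
      rw [hexp _ hxd, cm_swap (xx b d) (ee b f g), F6 f hf d hd g hg]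
    have h2 : cm (xx b (f * g)) (ee b (f * g) d) =
        cm (xx b g) (ee b f d) * cm (xx b f) (ee b f d) * (cm (xx b g) (ee b g d) * cm (xx b f) (ee b g d)) := by
      rw [F3 f hf g hg d hd]
      have hX1 : xx b (f * g) ∈ C := hxC _ hfg
      rw [br _ hX1 _ hefd _ hegd, hexp _ hefd, hexp _ hegd,
        F5 _ hefg hefgfix f hf d hd, F5 _ hefg hefgfix g hg d hd, one_mul, one_mul]
    have h3 : cm b (ee b (f * g) d) = cm b (ee b f d) * cm b (ee b g d) := by
      rw [F3 f hf g hg d hd, hbr _ hefd _ hegd]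
    have h4 := F10 f hf d hd
    have h5 := F10 g hg d hd
    have h6 : cm b (ee b f d) = (cm (xx b f) (xx b d) * cm (xx b f) (ee b f d))⁻¹ := eq_inv_of_mul_eq_one_right h4
    have h7 : cm b (ee b g d) = (cm (xx b g) (xx b d) * cm (xx b g) (ee b g d))⁻¹ := eq_inv_of_mul_eq_one_right h5
    rw [h1, h2, h3, h6, h7] at h0
    exact cancel6 Z hZc (hcZ _ hxg _ hefd) (hcZ _ hxf _ hxd) (hcZ _ hxg _ hxd) (hcZ _ hxf _ hefd)
      (hcZ _ hxg _ hegd) (hcZ _ hxf _ hegd) h0
  -- conclusion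
  intro a ha c hc'
  have hxa := hxC a ha
  have hxc := hxC c hc'
  have hz := hcZ _ hxa _ hxc
  set z := cm (xx b a) (xx b c) with hzdef
  have e1 := F10 a ha c hc'
  have e2 := F10 c hc' a ha
  rw [F11 a ha a ha c hc', mul_one] at e1
  rw [F11 c hc' c hc' a ha, mul_one, cm_swap (xx b a) (xx b c), ← F7 a ha c hc', ← hzdef] at e2
  have e3 : cm b (z * ee b a c) = cm b (ee b a c) := by
    rw [cm_mul_right' b z (ee b a c)]
    · have : cm b z = 1 := by
        unfold cm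
        have h1 : b * z = z * b := (Subgroup.mem_centralizer_iff.1 hz.2 b hb)
        rw [h1]
        group
      rw [this, one_mul]
    · exact (Subgroup.mem_centralizer_iff.1 hz.2 _ (hDleB (hcmB b hb _ (hCB (heC a ha c hc')))))
  rw [e3] at e2
  have e4 : cm b (ee b a c) = z⁻¹ := eq_inv_of_mul_eq_one_right e1
  rw [e4] at e2
  -- `z⁻¹ * z⁻¹ = 1`
  have e5 : z ^ 2 * (z⁻¹ * z⁻¹) = 1 := by group
  rw [e2, mul_one] at e5
  exact e5


/-- If A acts on B centralizing [B, B], then [B, A] has derived subgroup central in B, and for abelian A and b ∈ B with [[b, A], A, A] = 1 the derived subgroup of the subgroup [b, A] generated by the commutators of b with A has exponent dividing 2. -/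
theorem result {G : Type*} [Group G] [Finite G] (A B : Subgroup G) (hAB : A ≤ Subgroup.normalizer (B : Set G)) (hc : ⁅⁅B, B⁆, A⁆ = ⊥) : ⁅⁅B, A⁆, ⁅B, A⁆⁆ ≤ B ⊓ Subgroup.centralizer (B : Set G) ∧ (IsMulCommutative A → ∀ b ∈ B, ⁅⁅(Subgroup.closure {g : G | ∃ a ∈ A, g = b⁻¹ * a * b * a⁻¹}), A⁆, A⁆ = ⊥ → ∀ w ∈ ⁅(Subgroup.closure {g : G | ∃ a ∈ A, g = b⁻¹ * a * b * a⁻¹}), (Subgroup.closure {g : G | ∃ a ∈ A, g = b⁻¹ * a * b * a⁻¹})⁆, w ^ 2 = 1) := by
  obtain ⟨hCB, hstepa, hstepb⟩ := part1 A B hAB hc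
  have hDleB : ⁅B, B⁆ ≤ B := by
    rw [Subgroup.commutator_le]
    intro x hx y hy
    rw [commutatorElement_def]
    exact B.mul_mem (B.mul_mem (B.mul_mem hx hy) (B.inv_mem hx)) (B.inv_mem hy)
  have hCCZ : ⁅⁅B, A⁆, ⁅B, A⁆⁆ ≤ B ⊓ Subgroup.centralizer (B : Set G) := by
    apply le_inf
    · exact (Subgroup.commutator_mono hCB hCB).trans hDleB
    · exact (Subgroup.commutator_eq_bot_iff_le_centralizer).1 hstepb
  refine ⟨hCCZ, ?_⟩
  intro hAcomm b hb hX
  have hAc : ∀ a ∈ A, ∀ a' ∈ A, a * a' = a' * a := by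
    intro a ha a' ha'
    have := hAcomm.is_comm.comm (⟨a, ha⟩ : A) ⟨a', ha'⟩
    exact congrArg Subtype.val this
  have hgen := part2 A B hAB hc hAc b hb hX
  set X := Subgroup.closure {g : G | ∃ a ∈ A, g = b⁻¹ * a * b * a⁻¹} with hXdef
  have hXC : X ≤ ⁅B, A⁆ := by
    rw [hXdef, Subgroup.closure_le]
    rintro _ ⟨a, ha, rfl⟩
    have := Subgroup.commutator_mem_commutator (B.inv_mem hb) ha
    rw [commutatorElement_def, inv_inv] at this
    exact this
  have hcz : ∀ u ∈ X, ∀ v ∈ X, cm u v ∈ B ⊓ Subgroup.centralizer (B : Set G) := by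
    intro u hu v hv
    exact hCCZ (Subgroup.commutator_mem_commutator (hXC hu) (hXC hv))
  have hZc : ∀ x ∈ B ⊓ Subgroup.centralizer (B : Set G), ∀ y ∈ B ⊓ Subgroup.centralizer (B : Set G), x * y = y * x := by
    intro x hx y hy
    exact Subgroup.mem_centralizer_iff.1 hy.2 x hx.1
  -- first variable
  have hstep1 : ∀ c ∈ A, ∀ u ∈ X, (cm u (xx b c)) ^ 2 = 1 := by
    intro c hc' u hu
    have hxX : xx b c ∈ X := Subgroup.subset_closure ⟨c, hc', rfl⟩
    induction hu using Subgroup.closure_induction with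
    | mem x hx =>
      obtain ⟨a, ha, rfl⟩ := hx
      exact hgen a ha c hc'
    | one => rw [cm_one_left]; simp
    | mul x y hx hy ihx ihy =>
      have hx' := hcz x hx _ hxX
      have hy' := hcz y hy _ hxX
      rw [cm_mul_left' x y _ (Subgroup.mem_centralizer_iff.1 hy'.2 x (hCB (hXC hx))).symm]
      have hcomm : Commute (cm y (xx b c)) (cm x (xx b c)) := hZc _ hy' _ hx'
      rw [hcomm.mul_pow, ihx, ihy, one_mul]
    | inv x hx ih =>
      have hx' := hcz x hx _ hxX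
      have hi' := hcz x⁻¹ (X.inv_mem hx) _ hxX
      have h1 := cm_mul_left' x⁻¹ x (xx b c) (Subgroup.mem_centralizer_iff.1 hx'.2 _ (hCB (hXC (X.inv_mem hx)))).symm
      rw [inv_mul_cancel, cm_one_left] at h1
      have h2 : cm x⁻¹ (xx b c) = (cm x (xx b c))⁻¹ := eq_inv_of_mul_eq_one_right h1.symm
      rw [h2, inv_pow, ih, inv_one]
  have hstep2 : ∀ u ∈ X, ∀ v ∈ X, (cm u v) ^ 2 = 1 := by
    intro u hu v hv
    induction hv using Subgroup.closure_induction with
    | mem x hx =>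
      obtain ⟨a, ha, rfl⟩ := hx
      exact hstep1 a ha u hu
    | one => rw [cm_one_right]; simp
    | mul x y hx hy ihx ihy =>
      have hx' := hcz u hu _ hx
      have hy' := hcz u hu _ hy
      rw [cm_mul_right' u x y (Subgroup.mem_centralizer_iff.1 hy'.2 x (hCB (hXC hx))).symm]
      have hcomm : Commute (cm u x) (cm u y) := hZc _ hx' _ hy'
      rw [hcomm.mul_pow, ihx, ihy, one_mul]
    | inv x hx ih =>
      have hx' := hcz u hu _ hx
      have h1 := cm_mul_right' u x⁻¹ x (Subgroup.mem_centralizer_iff.1 hx'.2 _ (hCB (hXC (X.inv_mem hx)))).symm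
      rw [inv_mul_cancel, cm_one_right] at h1
      have h2 : cm u x⁻¹ = (cm u x)⁻¹ := eq_inv_of_mul_eq_one_left h1.symm
      rw [h2, inv_pow, ih, inv_one]
  intro w hw
  have hwle : ⁅X, X⁆ ≤ B ⊓ Subgroup.centralizer (B : Set G) :=
    (Subgroup.commutator_mono hXC hXC).trans hCCZ
  rw [Subgroup.commutator_def] at hw
  induction hw using Subgroup.closure_induction with
  | mem x hx =>
    obtain ⟨u, hu, v, hv, rfl⟩ := hx
    exact hstep2 u hu v hv
  | one => simp
  | mul x y hx hy ihx ihy =>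
    have hx' : x ∈ B ⊓ Subgroup.centralizer (B : Set G) := hwle (by rw [Subgroup.commutator_def]; exact hx)
    have hy' : y ∈ B ⊓ Subgroup.centralizer (B : Set G) := hwle (by rw [Subgroup.commutator_def]; exact hy)
    have hcomm : Commute x y := hZc _ hx' _ hy'
    rw [hcomm.mul_pow, ihx, ihy, one_mul]
  | inv x hx ih => rw [inv_pow, ih, inv_one]

end Cfsg.Agent.S0648
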