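import Cfsg.Statements.S0663
import Mathlib
import Cfsg.Agent.Lib.H25.Critical

set_option autoImplicit false
open Cfsg

namespace Cfsg.Agent.S0663

open scoped commutatorElement

variable {L : Type*} [Group L] [Finite L] {p : ℕ} [hp : Fact p.Prime]

lemma comm_le_self {H G : Subgroup L} (h : G ≤ Subgroup.normalizer (H : Set L)) : ⁅H, G⁆ ≤ H := by
  rw [Subgroup.commutator_le]
  intro x hx g hg
  rw [commutatorElement_def]
  have h1 := Subgroup.le_normalizer_iff.1 h g hg x⁻¹ (H.inv_mem hx)
  have : x * g * x⁻¹ * g⁻¹ = x * (g * x⁻¹ * g⁻¹) := by group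
  rw [this]
  exact H.mul_mem hx h1

lemma comm_norm {H G : Subgroup L} (h : G ≤ Subgroup.normalizer (H : Set L)) :
    G ≤ Subgroup.normalizer ((⁅H, G⁆ : Subgroup L) : Set L) := by
  intro g hg
  rw [Subgroup.mem_normalizer_iff_map_conj_eq, Subgroup.map_commutator]
  rw [Subgroup.mem_normalizer_iff_map_conj_eq.1 (h hg),
    Subgroup.mem_normalizer_iff_map_conj_eq.1 ((Subgroup.le_normalizer : G ≤ _) hg)]

/-- stable elements -/
lemma stable {A H M : Subgroup L} (hA : IsPGroup p A) (hH : IsPGroup p H)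
    (h1 : A ≤ Subgroup.normalizer (H : Set L)) (h2 : A ≤ Subgroup.normalizer (M : Set L))
    (hMH : M ≤ H) (hne : M ≠ H) : ∃ t ∈ H, t ∉ M ∧ ∀ r ∈ A, t⁻¹ * (r * t * r⁻¹) ∈ M := by
  let φ : A →* MulAut H :=
    { toFun := fun r =>
        { toFun := fun x => ⟨r * x * (r : L)⁻¹, Subgroup.le_normalizer_iff.1 h1 r r.2 x x.2⟩
          invFun := fun x => ⟨(r : L)⁻¹ * x * r, by
            have := Subgroup.le_normalizer_iff.1 h1 r⁻¹ r⁻¹.2 x x.2
            simpa using this⟩
          left_inv := fun x => by apply Subtype.ext; simp [mul_assoc]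
          right_inv := fun x => by apply Subtype.ext; simp [mul_assoc]
          map_mul' := fun x y => by apply Subtype.ext; simp [mul_assoc] }
      map_one' := by ext x; simp
      map_mul' := fun r s => by ext x; simp [mul_assoc] }
  have hφ : ∀ (r : A) (x : H), ((φ r x : H) : L) = r * x * (r : L)⁻¹ := fun _ _ => rfl
  have hV : ∀ r : A, ∀ v ∈ M.subgroupOf H, φ r v ∈ M.subgroupOf H := by
    intro r v hv
    rw [Subgroup.mem_subgroupOf] at hv ⊢
    rw [hφ]
    exact Subgroup.le_normalizer_iff.1 h2 r r.2 v hv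
  have hVne : M.subgroupOf H ≠ ⊤ := by
    intro h
    apply hne
    rw [Subgroup.subgroupOf_eq_top] at h
    exact le_antisymm hMH h
  obtain ⟨t, ht, ht2⟩ := H25.exists_stable_elt φ hA hH (M.subgroupOf H) hV hVne
  refine ⟨t, t.2, fun h => ht (Subgroup.mem_subgroupOf.2 h), ?_⟩
  intro r hr
  have := ht2 ⟨r, hr⟩
  rw [Subgroup.mem_subgroupOf] at this
  exact this

/-- a subgroup `Ψ` of `H` normalized by its conjugation -/
lemma norm_grow {H K : Subgroup L} (hH : IsPGroup p H) (hKH : K ≤ H) (hne : K ≠ H) :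
    ∃ t ∈ H, t ∉ K ∧ t ∈ Subgroup.normalizer (K : Set L) := by
  have hKp : IsPGroup p K := IsPGroup.to_le hH hKH
  obtain ⟨t, ht, ht1, ht2⟩ := stable hKp hH (fun x hx => Subgroup.le_normalizer (hKH hx))
    Subgroup.le_normalizer hKH hne
  refine ⟨t⁻¹, H.inv_mem ht, fun h => ht1 (by simpa using K.inv_mem h), ?_⟩
  rw [Subgroup.mem_normalizer_iff_map_conj_eq]
  apply Subgroup.eq_of_le_of_card_ge
  · rintro _ ⟨r, hr, rfl⟩
    have h3 := ht2 r hr
    have h4 : t⁻¹ * r * t = t⁻¹ * (r * t * r⁻¹) * r := by group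
    show t⁻¹ * r * t⁻¹⁻¹ ∈ K
    rw [inv_inv, h4]
    exact K.mul_mem h3 hr
  · rw [Subgroup.card_map_of_injective (MulEquiv.injective _)]

/-- Every proper invariant subgroup of `H` lies in a proper subgroup containing `[H, G]`. -/
lemma exists_above {G H M : Subgroup L} (hG : IsPGroup p G) (hH : IsPGroup p H)
    (h1 : G ≤ Subgroup.normalizer (H : Set L)) (h2 : G ≤ Subgroup.normalizer (M : Set L))
    (hMH : M ≤ H) (hne : M ≠ H) :
    ∃ Ψ : Subgroup L, M ≤ Ψ ∧ Ψ ≤ H ∧ Ψ ≠ H ∧ ⁅H, G⁆ ≤ Ψ := by
  let 𝒮 : Set (Subgroup L) := {Ψ | M ≤ Ψ ∧ Ψ ≤ H ∧ Ψ ≠ H ∧ G ≤ Subgroup.normalizer (Ψ : Set L)}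
  have hne𝒮 : 𝒮.Nonempty := ⟨M, le_rfl, hMH, hne, h2⟩
  obtain ⟨Ψ, hΨ, hmax⟩ := Set.Finite.exists_maximal (Set.toFinite 𝒮) hne𝒮
  obtain ⟨hM, hΨH, hΨne, hΨG⟩ := hΨ
  have hmax' : ∀ K : Subgroup L, Ψ ≤ K → K ≤ H → K ≠ H → G ≤ Subgroup.normalizer (K : Set L) → K ≤ Ψ := by
    intro K h3 h4 h5 h6
    exact hmax ⟨hM.trans h3, h4, h5, h6⟩ h3
  -- `H` normalizes `Ψ`
  have hHN : H ≤ Subgroup.normalizer (Ψ : Set L) := by
    by_contra hcon
    let K : Subgroup L := H ⊓ Subgroup.normalizer (Ψ : Set L)
    have hK1 : Ψ ≤ K := le_inf hΨH Subgroup.le_normalizer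
    have hK2 : K ≠ H := by
      intro h
      apply hcon
      rw [← h]
      exact inf_le_right
    have hK3 : G ≤ Subgroup.normalizer (K : Set L) := by
      rw [Subgroup.le_normalizer_iff]
      intro g hg x hx
      refine ⟨Subgroup.le_normalizer_iff.1 h1 g hg x hx.1, ?_⟩
      exact (Subgroup.normalizer (Ψ : Set L)).mul_mem
        ((Subgroup.normalizer (Ψ : Set L)).mul_mem (hΨG hg) hx.2)
        ((Subgroup.normalizer (Ψ : Set L)).inv_mem (hΨG hg))
    have hK4 := hmax' K hK1 inf_le_left hK2 hK3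
    obtain ⟨t, ht, ht1, ht2⟩ := norm_grow hH hΨH hΨne
    exact ht1 (hK4 ⟨ht, ht2⟩)
  -- the subgroup `S`
  let S : Subgroup L :=
    { carrier := {x | x ∈ H ∧ ∀ g ∈ G, x * g * x⁻¹ * g⁻¹ ∈ Ψ}
      one_mem' := ⟨H.one_mem, fun g _ => by simp [Ψ.one_mem]⟩
      mul_mem' := by
        rintro x y ⟨hx, hx2⟩ ⟨hy, hy2⟩
        refine ⟨H.mul_mem hx hy, fun g hg => ?_⟩
        have h3 := Subgroup.le_normalizer_iff.1 hHN x hx _ (hy2 g hg)
        have h4 : x * y * g * (x * y)⁻¹ * g⁻¹ = (x * (y * g * y⁻¹ * g⁻¹) * x⁻¹) * (x * g * x⁻¹ * g⁻¹) := by group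
        rw [h4]
        exact Ψ.mul_mem h3 (hx2 g hg)
      inv_mem' := by
        rintro x ⟨hx, hx2⟩
        refine ⟨H.inv_mem hx, fun g hg => ?_⟩
        have h3 := Subgroup.le_normalizer_iff.1 hHN x⁻¹ (H.inv_mem hx) _ (Ψ.inv_mem (hx2 g hg))
        have h4 : x⁻¹ * g * x⁻¹⁻¹ * g⁻¹ = x⁻¹ * (x * g * x⁻¹ * g⁻¹)⁻¹ * x⁻¹⁻¹ := by group
        rw [h4]
        exact h3 }
  have hS1 : Ψ ≤ S := by
    intro x hx
    refine ⟨hΨH hx, fun g hg => ?_⟩
    have h3 := Subgroup.le_normalizer_iff.1 hΨG g hg x⁻¹ (Ψ.inv_mem hx)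
    have h4 : x * g * x⁻¹ * g⁻¹ = x * (g * x⁻¹ * g⁻¹) := by group
    rw [h4]
    exact Ψ.mul_mem hx h3
  have hS2 : S ≤ H := fun x hx => hx.1
  have hS3 : G ≤ Subgroup.normalizer (S : Set L) := by
    rw [Subgroup.le_normalizer_iff]
    intro g hg x hx
    refine ⟨Subgroup.le_normalizer_iff.1 h1 g hg x hx.1, fun g' hg' => ?_⟩
    have h3 : g⁻¹ * g' * g ∈ G := G.mul_mem (G.mul_mem (G.inv_mem hg) hg') hg
    have h4 := Subgroup.le_normalizer_iff.1 hΨG g hg _ (hx.2 _ h3)
    have h5 : g * x * g⁻¹ * g' * (g * x * g⁻¹)⁻¹ * g'⁻¹ = g * (x * (g⁻¹ * g' * g) * x⁻¹ * (g⁻¹ * g' * g)⁻¹) * g⁻¹ := by group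
    rw [h5]
    exact h4
  have hS4 : S = H := by
    by_contra h3
    have h4 := hmax' S hS1 hS2 h3 hS3
    obtain ⟨t, ht, ht1, ht2⟩ := stable hG hH h1 hΨG hΨH hΨne
    have h5 : t⁻¹ ∈ S := by
      refine ⟨H.inv_mem ht, fun g hg => ?_⟩
      have h6 := ht2 g hg
      have h7 : t⁻¹ * g * t⁻¹⁻¹ * g⁻¹ = t⁻¹ * (g * t * g⁻¹) := by group
      rw [h7]
      exact h6
    have h6 := h4 h5
    exact ht1 (by simpa using Ψ.inv_mem h6)
  refine ⟨Ψ, hM, hΨH, hΨne, ?_⟩
  rw [Subgroup.commutator_le]
  intro x hx g hg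
  rw [commutatorElement_def]
  have : x ∈ S := by rw [hS4]; exact hx
  exact this.2 g hg

/-- strict inclusion in a `p`-group multiplies the order by at least `p` -/
lemma card_step {X Y : Subgroup L} (hY : IsPGroup p Y) (h : X ≤ Y) (hne : ¬ Y ≤ X) :
    Nat.card X * p ≤ Nat.card Y := by
  have hpp : p.Prime := hp.out
  obtain ⟨m, hm⟩ := Subgroup.card_dvd_of_le h
  have hYpos : 0 < Nat.card Y := Nat.card_pos
  have hm1 : m ≠ 1 := by
    rintro rfl
    rw [mul_one] at hm
    exact hne (Subgroup.eq_of_le_of_card_ge h (le_of_eq hm)).ge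
  obtain ⟨t, ht⟩ := IsPGroup.iff_card.1 hY
  have hdvd : m ∣ p ^ t := by
    rw [← ht]
    exact Dvd.intro_left _ hm.symm
  obtain ⟨i, hi, rfl⟩ := (Nat.dvd_prime_pow hpp).1 hdvd
  have hi0 : i ≠ 0 := by
    rintro rfl
    exact hm1 rfl
  rw [hm]
  exact Nat.mul_le_mul_left _ (Nat.le_self_pow hi0 p)

lemma card_relIndex {X Y : Subgroup L} (h : X ≤ Y) : Nat.card X * X.relIndex Y = Nat.card Y := by
  have h1 := (X.subgroupOf Y).card_mul_index
  rwa [Nat.card_congr (Subgroup.subgroupOfEquivOfLe h).toEquiv] at h1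

section chain

variable (N G : Subgroup L)

lemma chain_le (hGN : G ≤ Subgroup.normalizer (N : Set L)) (i : ℕ) :
    Cfsg.iterCommutator N G i ≤ N ∧ G ≤ Subgroup.normalizer ((Cfsg.iterCommutator N G i : Subgroup L) : Set L) := by
  induction i with
  | zero => exact ⟨le_rfl, hGN⟩
  | succ i ih =>
    exact ⟨(comm_le_self ih.2).trans ih.1, comm_norm ih.2⟩

lemma chain_succ_le (hGN : G ≤ Subgroup.normalizer (N : Set L)) (i : ℕ) :
    Cfsg.iterCommutator N G (i + 1) ≤ Cfsg.iterCommutator N G i :=
  comm_le_self (chain_le N G hGN i).2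

lemma chain_anti (hGN : G ≤ Subgroup.normalizer (N : Set L)) {i j : ℕ} (h : i ≤ j) :
    Cfsg.iterCommutator N G j ≤ Cfsg.iterCommutator N G i := by
  induction h with
  | refl => exact le_rfl
  | step _ ih => exact (chain_succ_le N G hGN _).trans ih

end chain


/-- A p-group acts uniserially on a p-group N of order p^n exactly when the iterated commutator chain from N has length n; in that case the chain terms are all the invariant subgroups of N and they are normal in N. -/
theorem result {L : Type*} [Group L] [Finite L] {p : ℕ} [Fact p.Prime] (N G : Subgroup L) (hN : IsPGroup p N) (hG : IsPGroup p G) (hGN : G ≤ Subgroup.normalizer (N : Set L)) (n : ℕ) (hn : Nat.card N = p ^ n) : ((∀ H : Subgroup L, H ≤ N → G ≤ Subgroup.normalizer (H : Set L) → H ≠ ⊥ → (⁅H, G⁆).relIndex H = p) ↔ Cfsg.iterCommutator N G (n - 1) ≠ ⊥ ∨ n = 0) ∧ ((∀ H : Subgroup L, H ≤ N → G ≤ Subgroup.normalizer (H : Set L) → H ≠ ⊥ → (⁅H, G⁆).relIndex H = p) → ∀ H : Subgroup L, H ≤ N → G ≤ Subgroup.normalizer (H : Set L) → (∃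 i ≤ n, H = Cfsg.iterCommutator N G i) ∧ N ≤ Subgroup.normalizer (H : Set L)) := by
  set T := Cfsg.iterCommutator N G with hT
  have hpp : p.Prime := Fact.out
  have hT0 : T 0 = N := rfl
  have hTs : ∀ i, T (i + 1) = ⁅T i, G⁆ := fun i => rfl
  have hle : ∀ i, T i ≤ N := fun i => (chain_le N G hGN i).1
  have hinv : ∀ i, G ≤ Subgroup.normalizer ((T i : Subgroup L) : Set L) := fun i => (chain_le N G hGN i).2
  have hTp : ∀ i, IsPGroup p (T i) := fun i => IsPGroup.to_le hN (hle i)
  have hstep : ∀ i, T (i + 1) ≤ T i := fun i => chain_succ_le N G hGN i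
  have hlt : ∀ i, T i ≠ ⊥ → ¬ T i ≤ T (i + 1) := by
    intro i hi h
    obtain ⟨Ψ, -, h2, h3, h4⟩ := exists_above (M := ⊥) hG (hTp i) (hinv i)
      (fun g _ => by
        rw [Subgroup.mem_normalizer_iff_map_conj_eq]
        simp) bot_le (Ne.symm hi)
    exact h3 (le_antisymm h2 (h.trans h4))
  have hstepc : ∀ i, T i ≠ ⊥ → Nat.card (T (i + 1)) * p ≤ Nat.card (T i) :=
    fun i hi => card_step (hTp i) (hstep i) (hlt i hi)
  -- Facts from the exact orders
  have hfacts : (∀ i, i ≤ n → Nat.card (T i) = p ^ (n - i)) →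
      (T n = ⊥ ∧ (∀ i, i < n → (T (i + 1)).relIndex (T i) = p) ∧
      (∀ H : Subgroup L, H ≤ N → G ≤ Subgroup.normalizer (H : Set L) → ∃ i ≤ n, H = T i)) := by
    intro hF
    have hTn : T n = ⊥ := by
      apply Subgroup.eq_bot_of_card_eq
      rw [hF n le_rfl]
      simp
    have hrel : ∀ i, i < n → (T (i + 1)).relIndex (T i) = p := by
      intro i hi
      have h1 := card_relIndex (hstep i)
      rw [hF i hi.le, hF (i + 1) hi] at h1
      have h2 : n - i = (n - (i + 1)) + 1 := by omega
      rw [h2, pow_succ] at h1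
      exact Nat.eq_of_mul_eq_mul_left (pow_pos hpp.pos _) h1
    refine ⟨hTn, hrel, ?_⟩
    intro H hHN hHG
    have key : ∀ k i, i + k = n → H ≤ T i → ∃ j ≤ n, H = T j := by
      intro k
      induction k with
      | zero =>
        intro i hi hHi
        refine ⟨n, le_rfl, ?_⟩
        have : i = n := by omega
        subst this
        rw [hTn] at hHi ⊢
        exact le_bot_iff.1 hHi
      | succ k ih =>
        intro i hi hHi
        by_cases hH : H = T i
        · exact ⟨i, by omega, hH⟩
        · obtain ⟨Ψ, h1, h2, h3, h4⟩ := exists_above hG (hTp i) (hinv i) hHG hHi hH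
          apply ih (i + 1) (by omega)
          -- `Ψ = T (i + 1)`
          have h5 := hrel i (by omega)
          have h6 := Subgroup.relIndex_mul_relIndex (T (i + 1)) Ψ (T i) h4 h2
          rw [h5] at h6
          have h7 : Ψ.relIndex (T i) ∣ p := ⟨_, by rw [← h6, mul_comm]⟩
          rcases (Nat.dvd_prime hpp).1 h7 with h8 | h8
          · exfalso
            have h9 := Subgroup.relIndex_eq_one.1 h8
            exact h3 (le_antisymm h2 h9)
          · rw [h8] at h6
            have h9 : (T (i + 1)).relIndex Ψ = 1 := Nat.eq_of_mul_eq_mul_right hpp.pos (by rw [h6, one_mul])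
            have h10 := Subgroup.relIndex_eq_one.1 h9
            exact h1.trans h10
    exact key n 0 (by omega) hHN
  -- from the uniserial property to exact orders
  have hU : (∀ H : Subgroup L, H ≤ N → G ≤ Subgroup.normalizer (H : Set L) → H ≠ ⊥ → (⁅H, G⁆).relIndex H = p) →
      ∀ i, i ≤ n → Nat.card (T i) = p ^ (n - i) := by
    intro hu i
    induction i with
    | zero =>
      intro _
      rw [hT0, hn]
      simp
    | succ i ih =>
      intro hi
      have h1 := ih (by omega)
      have hne : T i ≠ ⊥ := by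
        intro h
        rw [h, Subgroup.card_bot] at h1
        have : 1 < p ^ (n - i) := Nat.one_lt_pow (by omega) hpp.one_lt
        omega
      have h2 := hu (T i) (hle i) (hinv i) hne
      have h3 := card_relIndex (hstep i)
      rw [hTs i] at h3 ⊢
      rw [h2, h1] at h3
      have h4 : n - i = (n - (i + 1)) + 1 := by omega
      rw [h4, pow_succ] at h3
      exact Nat.eq_of_mul_eq_mul_right hpp.pos h3
  have hnorm : (∀ i, i ≤ n → Nat.card (T i) = p ^ (n - i)) →
      ∀ i, i ≤ n → N ≤ Subgroup.normalizer ((T i : Subgroup L) : Set L) := by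
    intro hF i hi
    obtain ⟨hTn, hrel, hcl⟩ := hfacts hF
    have key : ∀ k j, j + k = i → T j ≤ Subgroup.normalizer ((T i : Subgroup L) : Set L) := by
      intro k
      induction k with
      | zero =>
        intro j hj
        have : j = i := by omega
        subst this
        exact Subgroup.le_normalizer
      | succ k ih =>
        intro j hj
        have h1 := ih (j + 1) (by omega)
        intro x hx
        have hxN : x ∈ N := hle j hx
        rw [Subgroup.mem_normalizer_iff_map_conj_eq]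
        let K := (T i).map (MulAut.conj x).toMonoidHom
        have hK1 : K ≤ N := by
          rintro _ ⟨y, hy, rfl⟩
          exact Subgroup.le_normalizer_iff.1 (Subgroup.le_normalizer : N ≤ _) x hxN y (hle i hy)
        have hK2 : G ≤ Subgroup.normalizer (K : Set L) := by
          rw [Subgroup.le_normalizer_iff]
          rintro g hg _ ⟨y, hy, rfl⟩
          have hc : x⁻¹ * g * x * g⁻¹ ∈ T (j + 1) := by
            rw [hTs j]
            have := Subgroup.commutator_mem_commutator ((T j).inv_mem hx) hg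
            rw [commutatorElement_def, inv_inv] at this
            exact this
          have hy2 : g * y * g⁻¹ ∈ T i := Subgroup.le_normalizer_iff.1 (hinv i) g hg y hy
          have hy3 := Subgroup.le_normalizer_iff.1 h1 _ hc _ hy2
          refine ⟨_, hy3, ?_⟩
          show x * ((x⁻¹ * g * x * g⁻¹) * (g * y * g⁻¹) * (x⁻¹ * g * x * g⁻¹)⁻¹) * x⁻¹ = g * (x * y * x⁻¹) * g⁻¹
          group
        obtain ⟨m, hm, hKm⟩ := hcl K hK1 hK2
        have hcK : Nat.card K = Nat.card (T i) :=
          Subgroup.card_map_of_injective (MulEquiv.injective _)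
        rw [hKm, hF m hm, hF i hi] at hcK
        have h2 := Nat.pow_right_injective hpp.two_le hcK
        have h3 : m = i := by omega
        rw [h3] at hKm
        exact hKm
    exact key i 0 (by omega)
  constructor
  · constructor
    · intro hu
      by_cases hn0 : n = 0
      · right; exact hn0
      left
      have h1 := hU hu (n - 1) (by omega)
      intro h
      have h2 : Nat.card (T (n - 1)) = 1 := by
        have h3 : T (n - 1) = ⊥ := h
        rw [h3, Subgroup.card_bot]
      rw [h1, show n - (n - 1) = 1 by omega, pow_one] at h2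
      exact hpp.one_lt.ne h2.symm
    · intro hc
      -- exact orders
      have hF : ∀ i, i ≤ n → Nat.card (T i) = p ^ (n - i) := by
        rcases Nat.eq_zero_or_pos n with rfl | hn0
        · intro i hi
          obtain rfl : i = 0 := by omega
          rw [hT0, hn]
        have hne : T (n - 1) ≠ ⊥ := by
          rcases hc with h | h
          · exact h
          · omega
        have hne' : ∀ i, i ≤ n - 1 → T i ≠ ⊥ := by
          intro i hi h
          apply hne
          have := chain_anti N G hGN hi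
          exact le_bot_iff.1 (h ▸ this)
        have up : ∀ i, i ≤ n - 1 → Nat.card (T i) * p ^ i ≤ p ^ n := by
          intro i
          induction i with
          | zero =>
            intro _
            rw [hT0, hn]
            simp
          | succ i ih =>
            intro hi
            have h1 := ih (by omega)
            have h2 := hstepc i (hne' i (by omega))
            calc Nat.card (T (i + 1)) * p ^ (i + 1) = (Nat.card (T (i + 1)) * p) * p ^ i := by ring
              _ ≤ Nat.card (T i) * p ^ i := Nat.mul_le_mul_right _ h2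
              _ ≤ p ^ n := h1
        have low : ∀ k, k ≤ n - 1 → p ^ (k + 1) ≤ Nat.card (T (n - 1 - k)) := by
          intro k
          induction k with
          | zero =>
            intro _
            obtain ⟨m, hm⟩ := IsPGroup.iff_card.1 (hTp (n - 1))
            simp only [Nat.sub_zero, zero_add, pow_one]
            rw [hm]
            have hm0 : m ≠ 0 := by
              rintro rfl
              apply hne
              apply Subgroup.eq_bot_of_card_eq
              rw [hm, pow_zero]
            exact Nat.le_self_pow hm0 p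
          | succ k ih =>
            intro hk
            have h1 := ih (by omega)
            have h2 := hstepc (n - 1 - (k + 1)) (hne' _ (by omega))
            rw [show n - 1 - (k + 1) + 1 = n - 1 - k by omega] at h2
            calc p ^ (k + 1 + 1) = p ^ (k + 1) * p := by ring
              _ ≤ Nat.card (T (n - 1 - k)) * p := Nat.mul_le_mul_right _ h1
              _ ≤ _ := h2
        have mid : ∀ i, i ≤ n - 1 → Nat.card (T i) = p ^ (n - i) := by
          intro i hi
          have h1 := up i hi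
          have h2 := low (n - 1 - i) (by omega)
          rw [show n - 1 - (n - 1 - i) = i by omega, show n - 1 - i + 1 = n - i by omega] at h2
          apply le_antisymm _ h2
          have h3 : p ^ n = p ^ (n - i) * p ^ i := by
            rw [← pow_add]; congr 1; omega
          rw [h3] at h1
          exact Nat.le_of_mul_le_mul_right h1 (pow_pos hpp.pos i)
        intro i hi
        by_cases hi2 : i ≤ n - 1
        · exact mid i hi2
        · have hin : i = n := by omega
          rw [hin]
          have h1 := hstepc (n - 1) hne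
          rw [show n - 1 + 1 = n by omega, mid (n - 1) le_rfl, show n - (n - 1) = 1 by omega, pow_one] at h1
          have h2 : Nat.card (T n) ≤ 1 := by
            by_contra h3
            have : 2 * p ≤ Nat.card (T n) * p := Nat.mul_le_mul_right _ (by omega)
            have := hpp.pos
            omega
          have h3 : 0 < Nat.card (T n) := Nat.card_pos
          rw [Nat.sub_self, pow_zero]
          omega
      obtain ⟨hTn, hrel, hcl⟩ := hfacts hF
      intro H hHN hHG hH
      obtain ⟨i, hi, rfl⟩ := hcl H hHN hHG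
      have hi2 : i < n := by
        rcases Nat.lt_or_ge i n with h | h
        · exact h
        · exfalso
          obtain rfl : i = n := by omega
          exact hH hTn
      exact hrel i hi2
  · intro hu H hHN hHG
    have hF := hU hu
    obtain ⟨hTn, hrel, hcl⟩ := hfacts hF
    obtain ⟨i, hi, rfl⟩ := hcl H hHN hHG
    exact ⟨⟨i, hi, rfl⟩, hnorm hF i hi⟩

end Cfsg.Agent.S0663
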