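import Cfsg.Statements.S0033
import Cfsg.Agent.Lib.H26.FPF
import Mathlib

set_option autoImplicit false
set_option linter.unusedVariables false

open Cfsg

namespace Cfsg.Agent.S0033

/-- Thompson's Theorem on fixed-point-free automorphisms: a finite group with an automorphism of prime order fixing only the identity is nilpotent. -/
theorem result {G : Type*} [Group G] [Finite G] (φ : G ≃* G)
    (hφ : MonoidHom.FixedPointFree (φ : G →* G)) (p : ℕ) (hp : p.Prime) (hord : orderOf φ = p) :
    Group.IsNilpotent G := by
  refine Cfsg.Agent.H26.FPF.nilpotent_of_fpf hp _ G (φ : G →* G) rfl hφ ?_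
  have h1 : φ ^ p = 1 := by
    rw [← hord]
    exact pow_orderOf_eq_one φ
  have h2 : ∀ (n : ℕ) (x : G), (φ ^ n) x = (φ : G →* G)^[n] x := by
    intro n
    induction n with
    | zero => intro x; rfl
    | succ n ih =>
      intro x
      rw [pow_succ', MulAut.mul_apply, ih, Function.iterate_succ_apply']
      rfl
  funext x
  rw [← h2, h1]
  rfl

end Cfsg.Agent.S0033
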