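import Mathlib
import Cfsg.Statements.S2065
import Cfsg.Agent.Lib.H17.J1Aut

set_option autoImplicit false
set_option linter.style.haveILetI false
open Cfsg

namespace Cfsg.Agent.S2065

open Cfsg.Agent.H17.J1

/-- induction over the group. -/
theorem G_induction (p : G → Prop) (h1 : p 1) (hX : ∀ g, p g → p (gX * g)) (hY : ∀ g, p g → p (gY * g)) :
    ∀ g, p g := by
  have hXk : ∀ (k : ℕ) (g : G), p g → p (gX ^ k * g) := by
    intro k
    induction k with
    | zero => intro g hg; simpa using hg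
    | succ k ih =>
      intro g hg
      rw [pow_succ', mul_assoc]
      exact hX _ (ih g hg)
  have hYk : ∀ (k : ℕ) (g : G), p g → p (gY ^ k * g) := by
    intro k
    induction k with
    | zero => intro g hg; simpa using hg
    | succ k ih =>
      intro g hg
      rw [pow_succ', mul_assoc]
      exact hY _ (ih g hg)
  have invX : gX⁻¹ = gX ^ 6 := by
    apply inv_eq_of_mul_eq_one_right
    rw [← pow_succ']
    have := pow_orderOf_eq_one gX
    rw [order_gX] at this
    exact this
  have invY : gY⁻¹ = gY ^ 4 := by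
    apply inv_eq_of_mul_eq_one_right
    rw [← pow_succ']
    have := pow_orderOf_eq_one gY
    rw [order_gY] at this
    exact this
  rintro ⟨g, hg⟩
  induction hg using Subgroup.closure_induction_left with
  | one => exact h1
  | mul_left x hx y hy ih =>
    rcases hx with rfl | hx
    · exact hX _ ih
    · have hx' : x = Cfsg.Spor.jankoY := hx
      subst hx'
      exact hY _ ih
  | inv_mul_cancel x hx y hy ih =>
    rcases hx with rfl | hx
    · have := hXk 6 _ ih
      rw [← invX] at this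
      exact this
    · have hx' : x = Cfsg.Spor.jankoY := hx
      subst hx'
      have := hYk 4 _ ih
      rw [← invY] at this
      exact this

def gWord (a b : G) : List Bool → G
  | [] => 1
  | x :: l => (if x then a else b) * gWord a b l

lemma phi_gWord (a b : G) (ca cb : ℕ) (ha : phi a = toM ca) (hb : phi b = toM cb) (l : List Bool) :
    phi (gWord a b l) = toM (wordD ca cb l) := by
  induction l with
  | nil => simp [gWord, wordD, toM_cI]
  | cons x l ih =>
    cases x
    · simp only [gWord, wordD, map_mul, toM_mulD, ih, if_false, Bool.false_eq_true, hb]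
    · simp only [gWord, wordD, map_mul, toM_mulD, ih, if_true, ha]

lemma map_gWord {K : Type*} [Group K] (f : G →* G) (a b : G) (l : List Bool) :
    f (gWord a b l) = gWord (f a) (f b) l := by
  induction l with
  | nil => simp [gWord]
  | cons x l ih =>
    cases x
    · simp only [gWord, map_mul, ih, if_false, Bool.false_eq_true]
    · simp only [gWord, map_mul, ih, if_true]

def gS : G := gWord gX gY wS
def gT : G := gWord gX gY wY
def gN : G := gWord gX gY wN

lemma phi_gS : phi gS = toM cSs := by rw [gS, phi_gWord _ _ _ _ phi_gX phi_gY, wS_eq]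
lemma phi_gT : phi gT = toM cYy := by rw [gT, phi_gWord _ _ _ _ phi_gX phi_gY, wY_eq]
lemma phi_gN : phi gN = toM cNn := by rw [gN, phi_gWord _ _ _ _ phi_gX phi_gY, wN_eq]

lemma gX_word : gX = gWord gS gT wX' := by
  apply phi_inj
  rw [phi_gWord _ _ _ _ phi_gS phi_gT, wX_eq, toM_mulD, toM_cI, one_mul, phi_gX]

lemma gY_word : gY = gWord gS gT wY' := by
  apply phi_inj
  rw [phi_gWord _ _ _ _ phi_gS phi_gT, wY_eq', toM_mulD, toM_cI, one_mul, phi_gY]

/-- two endomorphisms agreeing on the pair `gS`, `gT` agree. -/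
theorem hom_ext (f k : G →* G) (h1 : f gS = k gS) (h2 : f gT = k gT) : ∀ g, f g = k g := by
  have eX : f gX = k gX := by
    rw [gX_word, map_gWord (K := G), map_gWord (K := G), h1, h2]
  have eY : f gY = k gY := by
    rw [gY_word, map_gWord (K := G), map_gWord (K := G), h1, h2]
  apply G_induction
  · simp
  · intro g hg
    rw [map_mul, map_mul, hg, eX]
  · intro g hg
    rw [map_mul, map_mul, hg, eY]

/-! ### the conjugacy class -/

lemma cls_row (c : ℕ) (hc : c ∈ clsL) :
    (∃ c' ∈ clsL, mulD cX c = mulD c' cX) ∧ (∃ c' ∈ clsL, mulD cY c = mulD c' cY) := by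
  obtain ⟨r, hr, rfl⟩ := List.mem_map.mp hc
  have h2 := List.all_eq_true.mp clsT_ok r hr
  simp only [clsOK, Bool.and_eq_true] at h2
  obtain ⟨h3, h4, h5, h6⟩ := h2
  have hl : clsL.length = clsT.length := by simp [clsL]
  refine ⟨⟨_, gd_mem clsL _ (by rw [clsL_len]; exact h3), Nat.eq_of_beq_eq_true h5⟩,
    ⟨_, gd_mem clsL _ (by rw [clsL_len]; exact h4), Nat.eq_of_beq_eq_true h6⟩⟩

lemma conj_step (g w : G) (c c' cg : ℕ) (hg : phi g = toM cg) (hw : phi w = toM c)
    (h : mulD cg c = mulD c' cg) : phi (g * w * g⁻¹) = toM c' := by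
  have h1 : phi (g * w) = toM c' * phi g := by
    rw [map_mul, hg, hw, ← toM_mulD, h, toM_mulD]
  rw [map_mul, h1, mul_assoc, ← map_mul, mul_inv_cancel, map_one, mul_one]

lemma conj_mul' {H : Type*} [Group H] (a b w : H) : (a * b) * w * (a * b)⁻¹ = a * (b * w * b⁻¹) * a⁻¹ := by
  group

lemma conj_one' {H : Type*} [Group H] (w : H) : 1 * w * (1 : H)⁻¹ = w := by
  group

lemma conj_conj' {H : Type*} [Group H] (z c g w : H) (h : c⁻¹ * z * c = g * w * g⁻¹) :
    z = (c * g) * w * (c * g)⁻¹ := by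
  have h2 : z = c * (c⁻¹ * z * c) * c⁻¹ := by group
  rw [h2, h]
  group

theorem class_mem (g : G) : ∃ c ∈ clsL, phi (g * t1 * g⁻¹) = toM c := by
  refine G_induction (fun g => ∃ c ∈ clsL, phi (g * t1 * g⁻¹) = toM c) ?_ ?_ ?_ g
  · refine ⟨w2, w2_mem, ?_⟩
    rw [conj_one']
    exact phi_t1
  · rintro g ⟨c, hc, e⟩
    obtain ⟨⟨c', hc', h⟩, -⟩ := cls_row c hc
    refine ⟨c', hc', ?_⟩
    rw [conj_mul']
    exact conj_step gX (g * t1 * g⁻¹) c c' cX phi_gX e h
  · rintro g ⟨c, hc, e⟩
    obtain ⟨-, ⟨c', hc', h⟩⟩ := cls_row c hc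
    refine ⟨c', hc', ?_⟩
    rw [conj_mul']
    exact conj_step gY (g * t1 * g⁻¹) c c' cY phi_gY e h

/-- every nontrivial element of `E` is conjugate to `t1`. -/
theorem E_conj (x : G) (hx : x ∈ E) (hx1 : x ≠ 1) : ∃ g : G, x = g * t1 * g⁻¹ := by
  -- `E` is the image of the triples of signs
  let f : Bool × Bool × Bool → G := fun p => pick p.1 t1 * (pick p.2.1 t2 * pick p.2.2 t3)
  have hphi : ∀ p, phi (f p) = toM (cE p) := by
    intro p
    simp only [f, map_mul, phi_pick _ _ _ phi_t1, phi_pick _ _ _ phi_t2, phi_pick _ _ _ phi_t3, cE, toM_mulD]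
  have hf : ∀ p, f p ∈ E := by
    intro p
    have h1 : ∀ (b : Bool) (t : G), t ∈ E → pick b t ∈ E := by
      intro b t ht
      cases b
      · simp [pick, E.one_mem]
      · simpa [pick] using ht
    have m1 : t1 ∈ E := Subgroup.subset_closure (by simp)
    have m2 : t2 ∈ E := Subgroup.subset_closure (by simp)
    have m3 : t3 ∈ E := Subgroup.subset_closure (by simp)
    exact E.mul_mem (h1 _ _ m1) (E.mul_mem (h1 _ _ m2) (h1 _ _ m3))
  let f' : Bool × Bool × Bool → E := fun p => ⟨f p, hf p⟩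
  have hinj : Function.Injective f' := by
    intro p q h
    apply cE_inj
    have h1 : f p = f q := congrArg Subtype.val h
    have h2 := congrArg phi h1
    rw [hphi, hphi] at h2
    apply mulD_inj
    simpa [cE, toM_mulD] using h2
  have hb : Function.Bijective f' := by
    haveI : Finite E := Nat.finite_of_card_ne_zero (by rw [card_E]; norm_num)
    apply hinj.bijective_of_nat_card_le
    rw [card_E]
    simp
  obtain ⟨p, hp⟩ := hb.2 ⟨x, hx⟩
  have hp' : f p = x := congrArg Subtype.val hp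
  have hne : p ≠ (false, false, false) := by
    rintro rfl
    apply hx1
    rw [← hp']
    simp [f, pick]
  obtain ⟨i, hi⟩ := cE_rel p hne
  refine ⟨gX ^ i.val, ?_⟩
  have h1 : gX ^ i.val * t1 = x * gX ^ i.val := by
    apply phi_inj
    rw [map_mul, map_mul, ← hp', hphi, phi_t1, phi_pow gX cX phi_gX, ← toM_mulD, ← toM_mulD, hi]
  rw [h1, mul_inv_cancel_right]

/-- every involution lies in the listed class. -/
theorem involution_mem (z : G) (hz : orderOf z = 2) : ∃ c ∈ clsL, phi z = toM c := by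
  haveI : Fact (Nat.Prime 2) := ⟨Nat.prime_two⟩
  have hp : IsPGroup 2 (Subgroup.zpowers z) := by
    apply IsPGroup.of_card (n := 1)
    rw [Nat.card_zpowers, hz, pow_one]
  obtain ⟨c, hc⟩ := conj_into_E _ hp
  have h1 := hc z (Subgroup.mem_zpowers z)
  have hne : c⁻¹ * z * c ≠ 1 := by
    intro h
    have : z = 1 := by
      have h2 : z = c * (c⁻¹ * z * c) * c⁻¹ := by group
      rw [h2, h, mul_one, mul_inv_cancel]
    rw [this, orderOf_one] at hz
    omega
  obtain ⟨g, hg⟩ := E_conj _ h1 hne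
  obtain ⟨c', hc', e⟩ := class_mem (c * g)
  refine ⟨c', hc', ?_⟩
  rw [← e, ← conj_conj' z c g t1 hg]

/-! ### automorphisms -/

lemma toM_cube (z : ℕ) (h : (toM z) ^ 3 = 1) : Nat.beq (mulD z (mulD z z)) cI = true := by
  have h1 : mulD z (mulD z z) = mulD cI cI := by
    apply mulD_inj
    rw [toM_mulD, toM_mulD, toM_mulD, toM_cI, one_mul, ← h]
    rw [pow_succ', pow_two]
  rw [h1, cI_mul, Nat.beq_eq]

lemma toM_pow11 (z : ℕ) (h : (toM z) ^ 11 = 1) : Nat.beq (powD z cI 11) cI = true := by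
  have h1 : powD z cI 11 = mulD cI cI := by
    show mulD z (powD z cI 10) = mulD cI cI
    apply mulD_inj
    rw [← show powD z cI 11 = mulD z (powD z cI 10) from rfl, toM_powD _ _ _ toM_cI, toM_mulD, toM_cI, one_mul, h]
  rw [h1, cI_mul, Nat.beq_eq]

lemma order_gS : orderOf gS = 19 := by
  have := order_prime gS cSs 19 phi_gS (by norm_num) (by decide +kernel) (by decide +kernel)
  exact this

theorem key (ψ : G →* G) (hinj : Function.Injective ψ) (k : ℕ) (hk : k ≠ 0) (hk19 : k < 19)
    (hs : ψ gS = gS ^ k) :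
    ∃ h : G, ψ gS = h * gS * h⁻¹ ∧ ψ gT = h * gT * h⁻¹ := by
  -- the image of `gT` is an involution
  have hT2 : orderOf gT = 2 := order_prime gT cYy 2 phi_gT (by norm_num) (by decide +kernel) (by decide +kernel)
  have hy : orderOf (ψ gT) = 2 := by
    rw [orderOf_injective ψ hinj, hT2]
  obtain ⟨c', hc', ec⟩ := involution_mem _ hy
  -- the row
  have hany := ksT_all ⟨k, hk19⟩ (by
    intro h
    apply hk
    exact congrArg Fin.val h)
  obtain ⟨r, hr, hrk⟩ := List.any_eq_true.mp hany
  have hrk' : r.1 = k := Nat.eq_of_beq_eq_true hrk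
  have hrow := List.all_eq_true.mp ksT_ok r hr
  simp only [Bool.and_eq_true] at hrow
  have r1 : powD cSs cI r.1 = r.2.1 := Nat.eq_of_beq_eq_true hrow.1
  have r2 : powD cSs cI (3 * r.1) = r.2.2 := Nat.eq_of_beq_eq_true hrow.2
  have ps1 : phi (gS ^ k) = toM r.2.1 := by
    rw [phi_pow gS cSs phi_gS, ← r1, hrk']
  have ps3 : phi (gS ^ (3 * k)) = toM r.2.2 := by
    rw [phi_pow gS cSs phi_gS, ← r2, hrk']
  -- the relations
  have rel1G : (gS * gT) ^ 3 = 1 := by
    apply phi_inj
    rw [map_pow, map_mul, phi_gS, phi_gT, map_one, ← toM_mulD, pow_succ', pow_two, ← toM_mulD, ← toM_mulD,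
      rel1, toM_cI]
  have rel2G : (gS ^ 3 * gT) ^ 11 = 1 := by
    apply phi_inj
    have : phi (gS ^ 3 * gT) = toM (mulD (powD cSs cI 3) cYy) := by
      rw [map_mul, phi_pow gS cSs phi_gS, phi_gT, toM_mulD]
    rw [map_pow, this, ← toM_powD _ _ _ toM_cI, rel2, toM_cI, map_one]
  have img1 : (gS ^ k * ψ gT) ^ 3 = 1 := by
    have := congrArg ψ rel1G
    rwa [map_pow, map_mul, hs, map_one] at this
  have img2 : (gS ^ (3 * k) * ψ gT) ^ 11 = 1 := by
    have := congrArg ψ rel2G
    rw [map_pow, map_mul, map_pow, hs, map_one, ← pow_mul, mul_comm k 3] at this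
    exact this
  have t1 : Nat.beq (mulD (mulD r.2.1 c') (mulD (mulD r.2.1 c') (mulD r.2.1 c'))) cI = true := by
    apply toM_cube
    rw [toM_mulD, ← ps1, ← ec, ← map_mul, ← map_pow, img1, map_one]
  have t2 : Nat.beq (powD (mulD r.2.2 c') cI 11) cI = true := by
    apply toM_pow11
    rw [toM_mulD, ← ps3, ← ec, ← map_mul, ← map_pow, img2, map_one]
  have hrun := List.all_eq_true.mp (List.all_eq_true.mp autRun c' hc') r hr
  simp only [Bool.or_eq_true] at hrun
  rcases hrun with h | h
  · exfalso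
    have : relR r.2.2 c' (mulD r.2.1 c') = true := by
      simp only [relR, Bool.and_eq_true]
      exact ⟨t1, t2⟩
    rw [this] at h
    simp at h
  · obtain ⟨q, hq, hqk⟩ := List.any_eq_true.mp h
    simp only [Bool.and_eq_true] at hqk
    have q1 : q.1 = r.1 := Nat.eq_of_beq_eq_true hqk.1
    have q2 : q.2.1 = c' := Nat.eq_of_beq_eq_true hqk.2
    have hq' := List.all_eq_true.mp autT_ok q hq
    simp only [Bool.and_eq_true] at hq'
    have u1 := Nat.eq_of_beq_eq_true hq'.1
    have u2 := Nat.eq_of_beq_eq_true hq'.2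
    obtain ⟨h0, ph⟩ : ∃ h0 : G, phi h0 = toM (autG q) := by
      refine ⟨gS ^ q.2.2.1 * gN ^ q.2.2.2, ?_⟩
      simp only [autG, map_mul, toM_mulD]
      rw [phi_pow gS cSs phi_gS, phi_pow gN cNn phi_gN]
    refine ⟨h0, ?_, ?_⟩
    · rw [hs, eq_mul_inv_iff_mul_eq]
      apply phi_inj
      rw [map_mul, map_mul, ph, phi_gS, ps1, ← toM_mulD, ← toM_mulD, u1, q1, r1]
    · rw [eq_mul_inv_iff_mul_eq]
      apply phi_inj
      rw [map_mul, map_mul, ph, phi_gT, ec, ← toM_mulD, ← toM_mulD, u2, q2]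

lemma conj_end {H : Type*} [Group H] (c h g y : H) (h3 : c * y * c⁻¹ = h * g * h⁻¹) :
    (c⁻¹ * h) * g * (c⁻¹ * h)⁻¹ = y := by
  have h4 : y = c⁻¹ * (c * y * c⁻¹) * c := by group
  rw [h4, h3]
  group

/-- every automorphism is inner. -/
theorem all_inner (φ : MulAut G) : φ ∈ Cfsg.Inn G := by
  haveI : Finite G := Nat.finite_of_card_ne_zero (by rw [card_G]; norm_num)
  haveI : Fact (Nat.Prime 19) := ⟨by norm_num⟩
  have hord : orderOf (φ gS) = 19 :=
    (orderOf_injective φ.toMonoidHom φ.injective gS).trans order_gS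
  obtain ⟨c, hc⟩ := conj_mem_zpowers 19 (by rw [card_G]; norm_num) (φ gS) gS hord order_gS
  let ψ : G →* G := (MulAut.conj c).toMonoidHom.comp φ.toMonoidHom
  have hψ : ∀ g, ψ g = c * φ g * c⁻¹ := fun g => rfl
  have hinj : Function.Injective ψ := (MulAut.conj c).injective.comp φ.injective
  obtain ⟨n, hn⟩ := Subgroup.mem_zpowers_iff.mp hc
  -- pass to a natural exponent
  let k := (n % 19).toNat
  have hk1 : gS ^ n = gS ^ k := by
    have h1 : (k : ℤ) = n % 19 := Int.toNat_of_nonneg (Int.emod_nonneg _ (by norm_num))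
    rw [← zpow_natCast, h1]
    have e := zpow_mod_orderOf gS n
    rw [order_gS] at e
    exact e.symm
  have hk19 : k < 19 := by
    have h1 : (k : ℤ) = n % 19 := Int.toNat_of_nonneg (Int.emod_nonneg _ (by norm_num))
    have h2 : n % 19 < 19 := Int.emod_lt_of_pos _ (by norm_num)
    omega
  have hs : ψ gS = gS ^ k := by
    rw [hψ, ← hk1]
    exact hn.symm
  have hk0 : k ≠ 0 := by
    intro h0
    rw [h0, pow_zero] at hs
    have h1 : gS = 1 := hinj (by rw [hs, map_one])
    have h2 := order_gS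
    rw [h1, orderOf_one] at h2
    omega
  obtain ⟨h, h1, h2⟩ := key ψ hinj k hk0 hk19 hs
  let κ : G →* G := (MulAut.conj h).toMonoidHom
  have hκ : ∀ g, κ g = h * g * h⁻¹ := fun g => rfl
  have hall := hom_ext ψ κ (by rw [h1, hκ]) (by rw [h2, hκ])
  refine ⟨c⁻¹ * h, MulEquiv.ext (fun g => ?_)⟩
  have h3 := hall g
  rw [hψ, hκ] at h3
  show (c⁻¹ * h) * g * (c⁻¹ * h)⁻¹ = φ g
  exact conj_end c h g (φ g) h3

/-- The outer automorphism group of the Janko group J₁ (the group generated by two explicit 7 × 7 matrices over the integers modulo 11) is trivial: every automorphism is inner. -/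
theorem result : Nat.card (Cfsg.Out ↥Cfsg.Spor.J1) = 1 := by
  have h : Cfsg.Inn G = ⊤ := by
    rw [eq_top_iff]
    intro φ _
    exact all_inner φ
  show (Cfsg.Inn G).index = 1
  rw [h, Subgroup.index_top]

end Cfsg.Agent.S2065
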