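import Mathlib
import Cfsg.Statements.S0457
import Cfsg.Agent.S2065

set_option autoImplicit false
set_option linter.style.haveILetI false
set_option maxRecDepth 100000
open Cfsg

namespace Cfsg.Agent.S0457

open Cfsg.Agent.H17.J1 Cfsg.Agent.S2065

/-- a word of prime order, decided by computation. -/
lemma word_order (l : List Bool) (p : ℕ) (hp : p.Prime) (h1 : powD (wordD cX cY l) cI p = cI)
    (h2 : mulD cI (powD (wordD cX cY l) cI 1) ≠ cI) : orderOf (gWord gX gY l) = p :=
  order_prime _ _ p (phi_gWord _ _ _ _ phi_gX phi_gY l) hp h1 h2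

/-- a product of words is a generator. -/
lemma word_prod (l₁ l₂ : List Bool) (t : G) (c : ℕ) (ht : phi t = toM c)
    (h : mulD (wordD cX cY l₁) (wordD cX cY l₂) = mulD cI c) : gWord gX gY l₁ * gWord gX gY l₂ = t := by
  apply phi_inj
  rw [map_mul, phi_gWord _ _ _ _ phi_gX phi_gY, phi_gWord _ _ _ _ phi_gX phi_gY, ← toM_mulD, h, toM_mulD,
    toM_cI, one_mul, ht]

def aX2 : List Bool := [false,true,false,false,false,false,true,true,true,false]
def bX2 : List Bool := [false,true,false,false,false,false,true,true,true,false,true]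
def aY2 : List Bool := [true,false,false,false,false,true,true,true,false,true,true]
def bY2 : List Bool := [true,false,false,false,false,true,true,true,false,true,true,false]

lemma dec2 (N : Subgroup G) (h : ∀ a : G, orderOf a = 2 → a ∈ N) : gX ∈ N ∧ gY ∈ N := by
  have hp : Nat.Prime 2 := by norm_num
  constructor
  · rw [← word_prod aX2 bX2 gX cX phi_gX (by decide +kernel)]
    exact N.mul_mem (h _ (word_order _ _ hp (by decide +kernel) (by decide +kernel)))
      (h _ (word_order _ _ hp (by decide +kernel) (by decide +kernel)))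
  · rw [← word_prod aY2 bY2 gY cY phi_gY (by decide +kernel)]
    exact N.mul_mem (h _ (word_order _ _ hp (by decide +kernel) (by decide +kernel)))
      (h _ (word_order _ _ hp (by decide +kernel) (by decide +kernel)))

def aX3 : List Bool := [false,false,true,false,false,false,true,true,false,true,true,false,true]
def bX3 : List Bool := [true,false,false,true,false,false,false,true,false,false,true,true,false]
def aY3 : List Bool := [true,false,true,false,true,true,true,false,false]
def bY3 : List Bool := [false,false,true,false,true,false,true,true,true]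

lemma dec3 (N : Subgroup G) (h : ∀ a : G, orderOf a = 3 → a ∈ N) : gX ∈ N ∧ gY ∈ N := by
  have hp : Nat.Prime 3 := by norm_num
  constructor
  · rw [← word_prod aX3 bX3 gX cX phi_gX (by decide +kernel)]
    exact N.mul_mem (h _ (word_order _ _ hp (by decide +kernel) (by decide +kernel)))
      (h _ (word_order _ _ hp (by decide +kernel) (by decide +kernel)))
  · rw [← word_prod aY3 bY3 gY cY phi_gY (by decide +kernel)]
    exact N.mul_mem (h _ (word_order _ _ hp (by decide +kernel) (by decide +kernel)))
      (h _ (word_order _ _ hp (by decide +kernel) (by decide +kernel)))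

def aX5 : List Bool := [true,false,true,false,true]
def bX5 : List Bool := [false,false,false,false,true,false,true,false,false,false]
def aY5 : List Bool := [false,false]
def bY5 : List Bool := [false,false,false,false]

lemma dec5 (N : Subgroup G) (h : ∀ a : G, orderOf a = 5 → a ∈ N) : gX ∈ N ∧ gY ∈ N := by
  have hp : Nat.Prime 5 := by norm_num
  constructor
  · rw [← word_prod aX5 bX5 gX cX phi_gX (by decide +kernel)]
    exact N.mul_mem (h _ (word_order _ _ hp (by decide +kernel) (by decide +kernel)))
      (h _ (word_order _ _ hp (by decide +kernel) (by decide +kernel)))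
  · rw [← word_prod aY5 bY5 gY cY phi_gY (by decide +kernel)]
    exact N.mul_mem (h _ (word_order _ _ hp (by decide +kernel) (by decide +kernel)))
      (h _ (word_order _ _ hp (by decide +kernel) (by decide +kernel)))

def aX7 : List Bool := [true,true]
def bX7 : List Bool := [true,true,true,true,true,true]
def aY7 : List Bool := [true,false,false,true,true,false,true,true,true,false,false]
def bY7 : List Bool := [false,false,true,false,false,true,true,false,true,true,true]

lemma dec7 (N : Subgroup G) (h : ∀ a : G, orderOf a = 7 → a ∈ N) : gX ∈ N ∧ gY ∈ N := by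
  have hp : Nat.Prime 7 := by norm_num
  constructor
  · rw [← word_prod aX7 bX7 gX cX phi_gX (by decide +kernel)]
    exact N.mul_mem (h _ (word_order _ _ hp (by decide +kernel) (by decide +kernel)))
      (h _ (word_order _ _ hp (by decide +kernel) (by decide +kernel)))
  · rw [← word_prod aY7 bY7 gY cY phi_gY (by decide +kernel)]
    exact N.mul_mem (h _ (word_order _ _ hp (by decide +kernel) (by decide +kernel)))
      (h _ (word_order _ _ hp (by decide +kernel) (by decide +kernel)))

def aX11 : List Bool := [false,false,true,true]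
def bX11 : List Bool := [true,true,true,true,true,false,false,false,true]
def aY11 : List Bool := [true,false,true,true,true,false,true,true,true,false,false]
def bY11 : List Bool := [false,false,true,false,true,true,true,false,true,true,true]

lemma dec11 (N : Subgroup G) (h : ∀ a : G, orderOf a = 11 → a ∈ N) : gX ∈ N ∧ gY ∈ N := by
  have hp : Nat.Prime 11 := by norm_num
  constructor
  · rw [← word_prod aX11 bX11 gX cX phi_gX (by decide +kernel)]
    exact N.mul_mem (h _ (word_order _ _ hp (by decide +kernel) (by decide +kernel)))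
      (h _ (word_order _ _ hp (by decide +kernel) (by decide +kernel)))
  · rw [← word_prod aY11 bY11 gY cY phi_gY (by decide +kernel)]
    exact N.mul_mem (h _ (word_order _ _ hp (by decide +kernel) (by decide +kernel)))
      (h _ (word_order _ _ hp (by decide +kernel) (by decide +kernel)))

def aX19 : List Bool := [false,false,false,false,true,true]
def bX19 : List Bool := [true,true,true,true,true,false,true]
def aY19 : List Bool := [true,false,false,false,false,true]
def bY19 : List Bool := [false,true,false,false,false,false,true,false,false]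

lemma dec19 (N : Subgroup G) (h : ∀ a : G, orderOf a = 19 → a ∈ N) : gX ∈ N ∧ gY ∈ N := by
  have hp : Nat.Prime 19 := by norm_num
  constructor
  · rw [← word_prod aX19 bX19 gX cX phi_gX (by decide +kernel)]
    exact N.mul_mem (h _ (word_order _ _ hp (by decide +kernel) (by decide +kernel)))
      (h _ (word_order _ _ hp (by decide +kernel) (by decide +kernel)))
  · rw [← word_prod aY19 bY19 gY cY phi_gY (by decide +kernel)]
    exact N.mul_mem (h _ (word_order _ _ hp (by decide +kernel) (by decide +kernel)))
      (h _ (word_order _ _ hp (by decide +kernel) (by decide +kernel)))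


lemma top_of (N : Subgroup G) (hX : gX ∈ N) (hY : gY ∈ N) : N = ⊤ := by
  rw [eq_top_iff]
  intro g _
  refine G_induction (fun g => g ∈ N) N.one_mem ?_ ?_ g
  · intro g hg
    exact N.mul_mem hX hg
  · intro g hg
    exact N.mul_mem hY hg

/-- involutions are conjugate. -/
lemma invol_conj (z : G) (hz : orderOf z = 2) : ∃ c : G, z = c * t1 * c⁻¹ := by
  haveI : Fact (Nat.Prime 2) := ⟨Nat.prime_two⟩
  have hp : IsPGroup 2 (Subgroup.zpowers z) := by
    apply IsPGroup.of_card (n := 1)
    rw [Nat.card_zpowers, hz, pow_one]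
  obtain ⟨c, hc⟩ := conj_into_E _ hp
  have h1 := hc z (Subgroup.mem_zpowers z)
  have hne : c⁻¹ * z * c ≠ 1 := by
    intro h
    have : z = 1 := by
      have h2 : z = c * (c⁻¹ * z * c) * c⁻¹ := by group
      rw [h2, h, mul_one, mul_inv_cancel]
    rw [this, orderOf_one] at hz
    omega
  obtain ⟨g, hg⟩ := E_conj _ h1 hne
  exact ⟨c * g, conj_conj' z c g t1 hg⟩

lemma spread_odd (N : Subgroup G) (hN : N.Normal) (p : ℕ) [hp : Fact p.Prime] (hp2 : ¬ p ^ 2 ∣ Nat.card G)
    (y : G) (hyN : y ∈ N) (hy : orderOf y = p) (a : G) (ha : orderOf a = p) : a ∈ N := by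
  obtain ⟨c, hc⟩ := conj_mem_zpowers p hp2 y a hy ha
  have hz : c * y * c⁻¹ ∈ N := hN.conj_mem y hyN c
  have hzo : orderOf (c * y * c⁻¹) = p := by
    rw [← hy]
    have := orderOf_injective (MulAut.conj c).toMonoidHom (MulAut.conj c).injective y
    simpa using this
  have hle : Subgroup.zpowers (c * y * c⁻¹) ≤ Subgroup.zpowers a := by
    rw [Subgroup.zpowers_le]
    exact hc
  have heq : Subgroup.zpowers (c * y * c⁻¹) = Subgroup.zpowers a := by
    apply Subgroup.eq_of_le_of_card_ge hle
    rw [Nat.card_zpowers, Nat.card_zpowers, hzo, ha]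
  have hm : a ∈ Subgroup.zpowers (c * y * c⁻¹) := by
    rw [heq]
    exact Subgroup.mem_zpowers a
  exact (Subgroup.zpowers_le.mpr hz) hm

lemma spread_two (N : Subgroup G) (hN : N.Normal) (y : G) (hyN : y ∈ N) (hy : orderOf y = 2) (a : G)
    (ha : orderOf a = 2) : a ∈ N := by
  obtain ⟨c, hc⟩ := invol_conj y hy
  obtain ⟨d, hd⟩ := invol_conj a ha
  have h1 : t1 ∈ N := by
    have := hN.conj_mem y hyN c⁻¹
    rw [hc] at this
    have e : c⁻¹ * (c * t1 * c⁻¹) * c⁻¹⁻¹ = t1 := by group
    rwa [e] at this
  rw [hd]
  exact hN.conj_mem t1 h1 d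

theorem simple_G : IsSimpleGroup G := by
  haveI : Nontrivial G := by
    rw [← Finite.one_lt_card_iff_nontrivial, card_G]
    norm_num
  refine ⟨fun N hN => ?_⟩
  rcases N.bot_or_exists_ne_one with hbot | ⟨x, hxN, hx1⟩
  · exact Or.inl hbot
  right
  have h1 : orderOf x ≠ 1 := by
    rwa [Ne, orderOf_eq_one_iff]
  have hp : (orderOf x).minFac.Prime := Nat.minFac_prime h1
  obtain ⟨p, hpe⟩ : ∃ p, p = (orderOf x).minFac := ⟨_, rfl⟩
  rw [← hpe] at hp
  haveI := Fact.mk hp
  have hdiv : p ∣ orderOf x := hpe ▸ Nat.minFac_dvd _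
  obtain ⟨y, hye⟩ : ∃ y, y = x ^ (orderOf x / p) := ⟨_, rfl⟩
  have hy : orderOf y = p := hye ▸ orderOf_pow_orderOf_div (orderOf_pos x).ne' hdiv
  have hyN : y ∈ N := hye ▸ N.pow_mem hxN _
  have hpd : p ∣ 175560 := by
    rw [← card_G, ← hy]
    exact orderOf_dvd_natCard y
  have hcases : p = 2 ∨ p = 3 ∨ p = 5 ∨ p = 7 ∨ p = 11 ∨ p = 19 := by
    have e : (175560 : ℕ) = 2 ^ 3 * (3 * (5 * (7 * (11 * 19)))) := by norm_num
    rw [e] at hpd
    have hq : ∀ q : ℕ, q.Prime → p ∣ q → p = q := fun q hq h => (Nat.prime_dvd_prime_iff_eq hp hq).1 h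
    rcases (Nat.Prime.dvd_mul hp).1 hpd with h | h
    · exact Or.inl (hq 2 (by norm_num) (hp.dvd_of_dvd_pow h))
    rcases (Nat.Prime.dvd_mul hp).1 h with h | h
    · exact Or.inr (Or.inl (hq 3 (by norm_num) h))
    rcases (Nat.Prime.dvd_mul hp).1 h with h | h
    · exact Or.inr (Or.inr (Or.inl (hq 5 (by norm_num) h)))
    rcases (Nat.Prime.dvd_mul hp).1 h with h | h
    · exact Or.inr (Or.inr (Or.inr (Or.inl (hq 7 (by norm_num) h))))
    rcases (Nat.Prime.dvd_mul hp).1 h with h | h
    · exact Or.inr (Or.inr (Or.inr (Or.inr (Or.inl (hq 11 (by norm_num) h)))))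
    · exact Or.inr (Or.inr (Or.inr (Or.inr (Or.inr (hq 19 (by norm_num) h)))))
  have hgen : gX ∈ N ∧ gY ∈ N := by
    rcases hcases with rfl | rfl | rfl | rfl | rfl | rfl
    · exact dec2 N (spread_two N hN y hyN hy)
    · exact dec3 N (spread_odd N hN 3 (by rw [card_G]; norm_num) y hyN hy)
    · exact dec5 N (spread_odd N hN 5 (by rw [card_G]; norm_num) y hyN hy)
    · exact dec7 N (spread_odd N hN 7 (by rw [card_G]; norm_num) y hyN hy)
    · exact dec11 N (spread_odd N hN 11 (by rw [card_G]; norm_num) y hyN hy)
    · exact dec19 N (spread_odd N hN 19 (by rw [card_G]; norm_num) y hyN hy)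
  exact top_of N hgen.1 hgen.2

theorem result : ∃ x y : GL (Fin 7) (ZMod 11), (x : Matrix (Fin 7) (Fin 7) (ZMod 11)) = Cfsg.jankoMatrixX ∧ (y : Matrix (Fin 7) (Fin 7) (ZMod 11)) = Cfsg.jankoMatrixY ∧ Cfsg.IsJ1 (Subgroup.closure ({x, y} : Set (GL (Fin 7) (ZMod 11)))) := by
  refine ⟨Cfsg.Spor.jankoX, Cfsg.Spor.jankoY, rfl, rfl, simple_G, card_G⟩

end Cfsg.Agent.S0457
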