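import Mathlib
import Cfsg.Statements.S2330
import Cfsg.Agent.Lib.H10.GL2

set_option autoImplicit false

open Cfsg

namespace Cfsg.Agent.S2330

open Cfsg.Agent.H10

noncomputable def rep (F : Type*) [Field F] : Fˣ ⊕ (F × Fˣ) → ConjClasses (GL (Fin 2) F)
  | Sum.inl a => ConjClasses.mk (glScalar a)
  | Sum.inr x => ConjClasses.mk (glComp x.1 x.2)

lemma rep_bij (F : Type*) [Field F] : Function.Bijective (rep F) := by
  constructor
  · rintro (a | ⟨t, d⟩) (b | ⟨t', d'⟩) h
    · have hc : IsConj (glScalar a) (glScalar b) := ConjClasses.mk_eq_mk_iff_isConj.mp h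
      obtain ⟨-, -, h3⟩ := gl_conj_invariants hc
      have h4 := h3 a (by simp)
      simp only [glScalar_coe] at h4
      have h5 := congrFun (congrFun h4 0) 0
      simp at h5
      rw [Units.ext h5]
    · have hc : IsConj (glScalar a) (glComp t' d') := ConjClasses.mk_eq_mk_iff_isConj.mp h
      obtain ⟨-, -, h3⟩ := gl_conj_invariants hc
      exact absurd (h3 a (by simp)) (comp2_not_scalar _ _ _)
    · have hc : IsConj (glScalar b) (glComp t d) :=
        (ConjClasses.mk_eq_mk_iff_isConj.mp h).symm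
      obtain ⟨-, -, h3⟩ := gl_conj_invariants hc
      exact absurd (h3 b (by simp)) (comp2_not_scalar _ _ _)
    · have hc : IsConj (glComp t d) (glComp t' d') := ConjClasses.mk_eq_mk_iff_isConj.mp h
      obtain ⟨h1, h2, -⟩ := gl_conj_invariants hc
      simp only [glComp_coe, comp2_trace, comp2_det] at h1 h2
      rw [h1, Units.ext h2]
  · intro c
    obtain ⟨g, rfl⟩ := ConjClasses.mk_surjective c
    by_cases hg : ∃ a : F, (g : Matrix (Fin 2) (Fin 2) F) = a • (1 : Matrix (Fin 2) (Fin 2) F)
    · obtain ⟨a, ha⟩ := hg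
      have ha0 : a ≠ 0 := by
        rintro rfl
        have : (g : Matrix (Fin 2) (Fin 2) F).det ≠ 0 :=
          ((Matrix.isUnit_iff_isUnit_det _).mp g.isUnit).ne_zero
        apply this
        rw [ha]
        simp
      refine ⟨Sum.inl (Units.mk0 a ha0), ?_⟩
      change ConjClasses.mk _ = _
      congr 1
      apply Units.ext
      rw [ha]
      rfl
    · obtain ⟨d, -, hc⟩ := gl_isConj_glComp g hg
      exact ⟨Sum.inr (_, d), ConjClasses.mk_eq_mk_iff_isConj.mpr hc⟩

theorem result {F : Type*} [Field F] [Fintype F] :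
    Nat.card (ConjClasses (Matrix.GeneralLinearGroup (Fin 2) F)) = Fintype.card F ^ 2 - 1 := by
  classical
  have h := Nat.card_congr (Equiv.ofBijective _ (rep_bij F))
  rw [← h]
  simp only [Nat.card_eq_fintype_card, Fintype.card_sum, Fintype.card_prod, Fintype.card_units]
  have hq : 1 ≤ Fintype.card F := Fintype.card_pos
  obtain ⟨k, hk⟩ := Nat.exists_eq_add_of_le hq
  rw [hk]
  simp only [Nat.add_sub_cancel_left]
  have : (1 + k) ^ 2 - 1 = k + (1 + k) * k := by
    have : (1 + k) ^ 2 = k + (1 + k) * k + 1 := by ring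
    omega
  rw [this]

end Cfsg.Agent.S2330
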