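import Mathlib
import Cfsg.Statements.S2325
import Cfsg.Agent.Lib.H10.GL2

set_option autoImplicit false

open Cfsg

namespace Cfsg.Agent.S2325

open Cfsg.Agent.H10 Polynomial

/-- The scalar matrix `a` in `SL₂`, when `a² = 1`. -/
noncomputable def slSign (F : Type*) [Field F] (e : Bool) : Matrix.SpecialLinearGroup (Fin 2) F :=
  ⟨((if e then 1 else -1 : F)) • (1 : Matrix (Fin 2) (Fin 2) F), by
    cases e <;> simp [Matrix.det_fin_two]⟩

/-- sign as a field element. -/
def sgn (F : Type*) [Field F] (e : Bool) : F := if e then 1 else -1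

lemma sgn_sq (F : Type*) [Field F] (e : Bool) : sgn F e ^ 2 = 1 := by
  cases e <;> simp [sgn]

variable {F : Type*} [Field F]

lemma sgn_inj (h2 : (2 : F) ≠ 0) {e f : Bool} (h : sgn F e = sgn F f) : e = f := by
  cases e <;> cases f <;> simp [sgn] at h ⊢
  · exfalso
    apply h2
    linear_combination -h
  · exfalso
    apply h2
    linear_combination h

lemma char_ne_two [Fintype F] (hodd : Odd (Fintype.card F)) : ringChar F ≠ 2 := by
  intro h
  have := FiniteField.even_card_iff_char_two.mp h
  obtain ⟨k, hk⟩ := hodd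
  omega

lemma exists_norm [Fintype F] (hodd : Odd (Fintype.card F)) (t : F) (ht : t ^ 2 ≠ 4) (c : F) :
    ∃ a b : F, a ^ 2 + a * b * t + b ^ 2 = c := by
  have h2 : (2 : F) ≠ 0 := Ring.two_ne_zero (char_ne_two hodd)
  obtain ⟨h, rfl⟩ : ∃ h : F, t = 2 * h := ⟨t / 2, by field_simp⟩
  have hdeg : (Polynomial.C (1 - h ^ 2) * X ^ 2 - Polynomial.C c).degree = 2 := by
    have h1 : (1 - h ^ 2 : F) ≠ 0 := by
      intro h3
      apply ht
      linear_combination (-4) * h3
    have : (Polynomial.C (1 - h ^ 2) * X ^ 2 : F[X]).degree = 2 := by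
      rw [Polynomial.degree_C_mul_X_pow 2 h1]
      rfl
    rw [Polynomial.degree_sub_eq_left_of_degree_lt, this]
    rw [this]
    exact lt_of_le_of_lt Polynomial.degree_C_le (by norm_num)
  have hodd' : Fintype.card F % 2 = 1 := Nat.odd_iff.mp hodd
  obtain ⟨a, b, hab⟩ := FiniteField.exists_root_sum_quadratic (R := F)
    (f := X ^ 2) (Polynomial.degree_X_pow 2) hdeg hodd'
  simp only [Polynomial.eval_pow, Polynomial.eval_X, Polynomial.eval_sub, Polynomial.eval_mul,
    Polynomial.eval_C] at hab
  refine ⟨a - b * h, b, ?_⟩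
  linear_combination hab

/-- index type of the representatives -/
abbrev Idx (F : Type*) [Field F] : Type _ :=
  Bool ⊕ (Bool × Bool) ⊕ {t : F // t ≠ 2 ∧ t ≠ -2}

noncomputable def rep (ν : Fˣ) : Idx F → ConjClasses (Matrix.SpecialLinearGroup (Fin 2) F)
  | Sum.inl e => ConjClasses.mk (slSign F e)
  | Sum.inr (Sum.inl (e, n)) => ConjClasses.mk (slT (sgn F e * 2) (if n then ν else 1))
  | Sum.inr (Sum.inr t) => ConjClasses.mk (slT t.1 1)

@[simp] lemma slSign_coe (e : Bool) :
    ((slSign F e : Matrix.SpecialLinearGroup (Fin 2) F) : Matrix (Fin 2) (Fin 2) F)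
      = sgn F e • (1 : Matrix (Fin 2) (Fin 2) F) := rfl

lemma sgn_scalar_ne_slT (e : Bool) (t : F) (δ : Fˣ) : ¬ IsConj (slSign F e) (slT t δ) := by
  intro hc
  obtain ⟨-, h3⟩ := sl_conj_invariants hc
  exact twist_not_scalar _ _ _ δ.ne_zero (h3 _ (slSign_coe e))

lemma exists_sq_of_nonsquare [Fintype F] (δ ν : Fˣ) (hδ : ¬ IsSquare (δ : F))
    (hν : ¬ IsSquare (ν : F)) : ∃ s : Fˣ, δ = ν * s ^ 2 := by
  classical
  have h1 := quadraticChar_neg_one_iff_not_isSquare.mpr hδ
  have h2 := quadraticChar_neg_one_iff_not_isSquare.mpr hν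
  have h3 : quadraticChar F ((δ : F) * ν) = 1 := by
    rw [map_mul, h1, h2]
    norm_num
  have h4 := (quadraticChar_one_iff_isSquare (mul_ne_zero δ.ne_zero ν.ne_zero)).mp h3
  obtain ⟨r, hr⟩ := h4
  have hr0 : r ≠ 0 := by
    rintro rfl
    simp at hr
  refine ⟨Units.mk0 r hr0 * ν⁻¹, ?_⟩
  apply Units.ext
  simp only [Units.val_mul, Units.val_pow_eq_pow_val, Units.val_mk0, Units.val_inv_eq_inv_val]
  have := ν.ne_zero
  field_simp
  linear_combination hr

lemma rep_bij [Fintype F] (hodd : Odd (Fintype.card F)) (ν : Fˣ) (hν : ¬ IsSquare (ν : F)) :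
    Function.Bijective (rep (F := F) ν) := by
  have hch : ringChar F ≠ 2 := char_ne_two hodd
  have h2 : (2 : F) ≠ 0 := Ring.two_ne_zero hch
  constructor
  · rintro (e | ⟨e, n⟩ | ⟨t, ht⟩) (e' | ⟨e', n'⟩ | ⟨t', ht'⟩) h
    · have hc : IsConj (slSign F e) (slSign F e') := ConjClasses.mk_eq_mk_iff_isConj.mp h
      obtain ⟨-, h3⟩ := sl_conj_invariants hc
      have h4 := h3 _ (slSign_coe e)
      rw [slSign_coe] at h4
      have h5 := congrFun (congrFun h4 0) 0
      simp at h5
      rw [sgn_inj h2 h5.symm]
    · exact absurd (ConjClasses.mk_eq_mk_iff_isConj.mp h) (sgn_scalar_ne_slT _ _ _)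
    · exact absurd (ConjClasses.mk_eq_mk_iff_isConj.mp h) (sgn_scalar_ne_slT _ _ _)
    · exact absurd (ConjClasses.mk_eq_mk_iff_isConj.mp h).symm (sgn_scalar_ne_slT _ _ _)
    · have hc : IsConj (slT (sgn F e * 2) (if n then ν else 1))
          (slT (sgn F e' * 2) (if n' then ν else 1)) := ConjClasses.mk_eq_mk_iff_isConj.mp h
      obtain ⟨h1, -⟩ := sl_conj_invariants hc
      simp only [slT_coe, twist_trace] at h1
      have hee : e = e' := sgn_inj h2 (mul_right_cancel₀ h2 h1)
      subst hee
      have hnn : n = n' := by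
        cases n <;> cases n'
        · rfl
        · exfalso
          simp only [Bool.false_eq_true, if_false, if_true] at hc
          exact slT_not_isConj _ (sgn_sq F e) ν hν hc.symm
        · exfalso
          simp only [Bool.false_eq_true, if_false, if_true] at hc
          exact slT_not_isConj _ (sgn_sq F e) ν hν hc
        · rfl
      rw [hnn]
    · exfalso
      have hc : IsConj (slT (sgn F e * 2) (if n then ν else 1)) (slT t' 1) :=
        ConjClasses.mk_eq_mk_iff_isConj.mp h
      obtain ⟨h1, -⟩ := sl_conj_invariants hc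
      simp only [slT_coe, twist_trace] at h1
      cases e
      · apply ht'.2
        rw [← h1]
        simp [sgn]
      · apply ht'.1
        rw [← h1]
        simp [sgn]
    · exact absurd (ConjClasses.mk_eq_mk_iff_isConj.mp h).symm (sgn_scalar_ne_slT _ _ _)
    · exfalso
      have hc : IsConj (slT (sgn F e' * 2) (if n' then ν else 1)) (slT t 1) :=
        (ConjClasses.mk_eq_mk_iff_isConj.mp h).symm
      obtain ⟨h1, -⟩ := sl_conj_invariants hc
      simp only [slT_coe, twist_trace] at h1
      cases e'
      · apply ht.2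
        rw [← h1]
        simp [sgn]
      · apply ht.1
        rw [← h1]
        simp [sgn]
    · have hc : IsConj (slT t 1) (slT t' 1) := ConjClasses.mk_eq_mk_iff_isConj.mp h
      obtain ⟨h1, -⟩ := sl_conj_invariants hc
      simp only [slT_coe, twist_trace] at h1
      subst h1
      rfl
  · intro c
    obtain ⟨g, rfl⟩ := ConjClasses.mk_surjective c
    by_cases hg : ∃ a : F, (g : Matrix (Fin 2) (Fin 2) F) = a • (1 : Matrix (Fin 2) (Fin 2) F)
    · obtain ⟨a, ha⟩ := hg
      have h3 := sl_scalar_sq g a ha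
      have h4 : a = 1 ∨ a = -1 := by
        have : (a - 1) * (a + 1) = 0 := by linear_combination h3
        rcases mul_eq_zero.mp this with h | h
        · left; linear_combination h
        · right; linear_combination h
      have key : ∃ e, sgn F e = a := by
        rcases h4 with rfl | rfl
        · exact ⟨true, by simp [sgn]⟩
        · exact ⟨false, by simp [sgn]⟩
      obtain ⟨e, rfl⟩ := key
      refine ⟨Sum.inl e, ?_⟩
      change ConjClasses.mk _ = _
      congr 1
      apply Matrix.SpecialLinearGroup.ext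
      intro i j
      rw [ha, slSign_coe]
    · obtain ⟨δ, hc⟩ := sl_isConj_slT g hg
      set t := (g : Matrix (Fin 2) (Fin 2) F).trace with ht
      by_cases ht2 : t = 2 ∨ t = -2
      · have key : ∃ e, sgn F e * 2 = t := by
          rcases ht2 with h | h
          · exact ⟨true, by simp [sgn, h]⟩
          · exact ⟨false, by simp [sgn, h]⟩
        obtain ⟨e, he⟩ := key
        by_cases hδ : IsSquare (δ : F)
        · obtain ⟨r, hr⟩ := hδ
          have hr0 : r ≠ 0 := by
            rintro rfl
            simp at hr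
          refine ⟨Sum.inr (Sum.inl (e, false)), ConjClasses.mk_eq_mk_iff_isConj.mpr ?_⟩
          refine IsConj.trans ?_ hc
          simp only [Bool.false_eq_true, if_false, he]
          have := slT_isConj_of_sq t 1 (Units.mk0 r hr0)
          have e2 : (1 : Fˣ) * (Units.mk0 r hr0) ^ 2 = δ := by
            apply Units.ext
            simp [hr, sq]
          rwa [e2] at this
        · obtain ⟨s, hs⟩ := exists_sq_of_nonsquare δ ν hδ hν
          refine ⟨Sum.inr (Sum.inl (e, true)), ConjClasses.mk_eq_mk_iff_isConj.mpr ?_⟩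
          refine IsConj.trans ?_ hc
          simp only [if_true, he]
          rw [hs]
          exact slT_isConj_of_sq t ν s
      · push Not at ht2
        have ht4 : t ^ 2 ≠ 4 := by
          intro h4
          have : (t - 2) * (t + 2) = 0 := by linear_combination h4
          rcases mul_eq_zero.mp this with h | h
          · exact ht2.1 (by linear_combination h)
          · exact ht2.2 (by linear_combination h)
        obtain ⟨a, b, hab⟩ := exists_norm hodd t ht4 ((δ : F)⁻¹)
        refine ⟨Sum.inr (Sum.inr ⟨t, ht2⟩), ConjClasses.mk_eq_mk_iff_isConj.mpr ?_⟩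
        exact (slT_isConj_one_of_norm t δ a b hab).trans hc

lemma card_subtype [Fintype F] (hodd : Odd (Fintype.card F)) :
    Nat.card {t : F // t ≠ 2 ∧ t ≠ -2} + 2 = Fintype.card F := by
  classical
  have h2 : (2 : F) ≠ 0 := Ring.two_ne_zero (char_ne_two hodd)
  have hne : (2 : F) ≠ -2 := by
    intro h
    apply mul_ne_zero h2 h2
    linear_combination h
  rw [Nat.card_eq_fintype_card, Fintype.card_subtype]
  have : (Finset.univ.filter fun t : F => t ≠ 2 ∧ t ≠ -2) = ({2, -2} : Finset F)ᶜ := by
    ext t
    simp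
  rw [this, Finset.card_compl, Finset.card_pair hne]
  have : ({2, -2} : Finset F).card ≤ Fintype.card F := Finset.card_le_univ _
  rw [Finset.card_pair hne] at this
  omega

theorem result {F : Type*} [Field F] [Fintype F] (hodd : Odd (Fintype.card F)) :
    Nat.card (ConjClasses (Matrix.SpecialLinearGroup (Fin 2) F)) = Fintype.card F + 4 := by
  classical
  have hch : ringChar F ≠ 2 := char_ne_two hodd
  obtain ⟨ν, hν⟩ := FiniteField.exists_nonsquare hch
  have hν0 : ν ≠ 0 := by
    rintro rfl
    exact hν IsSquare.zero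
  have h := Nat.card_congr (Equiv.ofBijective _ (rep_bij hodd (Units.mk0 ν hν0) (by simpa using hν)))
  rw [← h]
  have h3 := card_subtype hodd
  rw [Nat.card_sum, Nat.card_sum, Nat.card_prod]
  simp only [Nat.card_eq_fintype_card, Fintype.card_bool] at h3 ⊢
  omega

end Cfsg.Agent.S2325
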