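import Mathlib
import Cfsg.Statements.S2331
import Cfsg.Agent.Lib.H10.GL2

set_option autoImplicit false

open Cfsg

namespace Cfsg.Agent.S2331

open Cfsg.Agent.H10

noncomputable def rep (F : Type*) [Field F] : Option F → ConjClasses (Matrix.SpecialLinearGroup (Fin 2) F)
  | none => ConjClasses.mk 1
  | some t => ConjClasses.mk (slT t 1)

lemma rep_bij (F : Type*) [Field F] [Fintype F] [CharP F 2] : Function.Bijective (rep F) := by
  have hchar : ringChar F = 2 := ringChar.eq F 2
  have h20 : (2 : F) = 0 := CharTwo.two_eq_zero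
  constructor
  · rintro (_ | t) (_ | t') h
    · rfl
    · have hc : IsConj (1 : Matrix.SpecialLinearGroup (Fin 2) F) (slT t' 1) :=
        ConjClasses.mk_eq_mk_iff_isConj.mp h
      obtain ⟨-, h3⟩ := sl_conj_invariants hc
      exact absurd (h3 1 (by simp)) (twist_not_scalar _ _ _ (by simp))
    · have hc : IsConj (1 : Matrix.SpecialLinearGroup (Fin 2) F) (slT t 1) :=
        (ConjClasses.mk_eq_mk_iff_isConj.mp h).symm
      obtain ⟨-, h3⟩ := sl_conj_invariants hc
      exact absurd (h3 1 (by simp)) (twist_not_scalar _ _ _ (by simp))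
    · have hc : IsConj (slT t 1) (slT t' 1) := ConjClasses.mk_eq_mk_iff_isConj.mp h
      obtain ⟨h1, -⟩ := sl_conj_invariants hc
      simp only [slT_coe, twist_trace] at h1
      rw [h1]
  · intro c
    obtain ⟨g, rfl⟩ := ConjClasses.mk_surjective c
    by_cases hg : ∃ a : F, (g : Matrix (Fin 2) (Fin 2) F) = a • (1 : Matrix (Fin 2) (Fin 2) F)
    · obtain ⟨a, ha⟩ := hg
      have h2 := sl_scalar_sq g a ha
      have ha1 : a = 1 := by
        have : (a - 1) ^ 2 = 0 := by
          linear_combination h2 + (1 - a) * h20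
        have := pow_eq_zero_iff (two_ne_zero) |>.mp this
        linear_combination this
      refine ⟨none, ?_⟩
      change ConjClasses.mk _ = _
      congr 1
      apply Matrix.SpecialLinearGroup.ext
      intro i j
      rw [ha, ha1]
      simp
    · obtain ⟨δ, hc⟩ := sl_isConj_slT g hg
      obtain ⟨s, hs⟩ := FiniteField.isSquare_of_char_two hchar ((δ : F)⁻¹)
      have hs0 : s ≠ 0 := by
        rintro rfl
        simp at hs
      refine ⟨some (g : Matrix (Fin 2) (Fin 2) F).trace, ConjClasses.mk_eq_mk_iff_isConj.mpr ?_⟩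
      refine IsConj.trans ?_ hc
      have := slT_isConj_of_sq (g : Matrix (Fin 2) (Fin 2) F).trace δ (Units.mk0 s hs0)
      have e : δ * (Units.mk0 s hs0) ^ 2 = 1 := by
        apply Units.ext
        simp only [Units.val_mul, Units.val_pow_eq_pow_val, Units.val_mk0, Units.val_one]
        rw [sq, ← hs]
        exact mul_inv_cancel₀ δ.ne_zero
      rw [e] at this
      exact this.symm

theorem result {F : Type*} [Field F] [Fintype F] [CharP F 2] :
    Nat.card (ConjClasses (Matrix.SpecialLinearGroup (Fin 2) F)) = Fintype.card F + 1 := by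
  classical
  have h := Nat.card_congr (Equiv.ofBijective _ (rep_bij F))
  rw [← h]
  simp [Nat.card_eq_fintype_card]

end Cfsg.Agent.S2331
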