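import Cfsg.Statements.S2813
import Cfsg.Agent.Lib.H12.Core2
-- import your own Cfsg.Agent.* helpers here

set_option autoImplicit false
open Cfsg

namespace Cfsg.Agent.S2813

open scoped commutatorElement


/-- Let K be a subgroup of the finite group H with O_p(K) = 1 and Y a p-subgroup of N_H(K) with [K, Y, Y] = 1. Then [K, Y] = 1. -/
theorem result {H : Type*} [Group H] [Finite H] {p : ℕ} [Fact p.Prime] (K : Subgroup H) (hO : Cfsg.pCore p ↥K = ⊥) (Y : Subgroup H) (hY : IsPGroup p ↥Y) (hYK : Y ≤ Subgroup.normalizer (K : Set H)) (hq : ⁅⁅K, Y⁆, Y⁆ = ⊥) : ⁅K, Y⁆ = ⊥ := by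
  set D := ⁅K, Y⁆ with hD
  have hKnY : ∀ y ∈ Y, ∀ k ∈ K, y * k * y⁻¹ ∈ K := fun y hy k hk =>
    (Subgroup.mem_normalizer_iff.1 (hYK hy) k).1 hk
  -- K normalizes D ⊔ Y
  have hKDY : K ≤ Subgroup.normalizer ((D ⊔ Y : Subgroup H) : Set H) := by
    intro k hk
    apply Cfsg.Agent.H13.mem_normalizer_of_map_conj_le
    rw [Subgroup.map_sup]
    apply sup_le
    · rw [Cfsg.Agent.H13.map_conj_eq_of_mem_normalizer
        (Cfsg.Agent.H12.conj_left_mem_normalizer_commutator hk)]
      exact le_sup_left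
    · rintro _ ⟨y, hy, rfl⟩
      have h1 : (MulAut.conj k).toMonoidHom y = ⁅k, y⁆ * y := by
        simp [commutatorElement_def]
      rw [h1]
      exact mul_mem ((le_sup_left : D ≤ D ⊔ Y) (Subgroup.commutator_mem_commutator hk hy))
        ((le_sup_right : Y ≤ D ⊔ Y) hy)
  -- D ⊔ Y normalizes Y
  have hDYY : D ⊔ Y ≤ Subgroup.normalizer (Y : Set H) := by
    apply sup_le
    · intro d hd
      rw [Subgroup.mem_normalizer_iff]
      intro y
      have hc : ∀ y ∈ Y, d * y = y * d := by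
        intro y hy
        have := Subgroup.commutator_mem_commutator hd hy
        rw [hq, Subgroup.mem_bot, commutatorElement_eq_one_iff_mul_comm] at this
        exact this
      constructor
      · intro hy
        rw [hc y hy, mul_inv_cancel_right]
        exact hy
      · intro hy
        have h2 := hc _ hy
        have h3 : y = d * y * d⁻¹ := by
          have h4 : d * (d * y * d⁻¹) = d * y * d⁻¹ * d := h2
          have h5 : d * (d * y * d⁻¹) = d * y := by rw [h4]; group
          exact (mul_left_cancel h5).symm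
        rw [h3]; exact hy
    · exact Subgroup.le_normalizer
  let A : ↥K → Subgroup H := fun k => Y.map (MulAut.conj (k : H)).toMonoidHom
  have hA1 : ∀ k, A k ≤ D ⊔ Y := by
    intro k
    have h1 : A k ≤ (D ⊔ Y).map (MulAut.conj (k : H)).toMonoidHom :=
      Subgroup.map_mono le_sup_right
    rwa [Cfsg.Agent.H13.map_conj_eq_of_mem_normalizer (hKDY k.2)] at h1
  have hA2 : ∀ k k', A k ≤ Subgroup.normalizer (A k' : Set H) := by
    intro k k'
    refine (hA1 k).trans ?_
    have h1 := Subgroup.map_mono (f := (MulAut.conj (k' : H)).toMonoidHom) hDYY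
    rw [Cfsg.Agent.H13.map_conj_eq_of_mem_normalizer (hKDY k'.2), Cfsg.Agent.H13.map_conj_normalizer] at h1
    exact h1
  have hS : IsPGroup p ↥(⨆ k, A k) :=
    Cfsg.Agent.H12.isPGroup_iSup_of_normalize A (fun k => IsPGroup.map hY _) hA2
  have hSK : K ≤ Subgroup.normalizer (((⨆ k, A k) : Subgroup H) : Set H) := by
    intro k hk
    apply Cfsg.Agent.H13.mem_normalizer_of_map_conj_le
    rw [Subgroup.map_iSup]
    apply iSup_le
    intro k'
    have h1 : (A k').map (MulAut.conj k).toMonoidHom = A (⟨k, hk⟩ * k') := by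
      simp only [A]
      rw [Cfsg.Agent.H13.map_conj_mul]
      rfl
    rw [h1]
    exact le_iSup A _
  have hT : IsPGroup p ↥((⨆ k, A k) ⊓ K) := hS.to_le inf_le_left
  have hTK : K ≤ Subgroup.normalizer ((((⨆ k, A k) ⊓ K) : Subgroup H) : Set H) := by
    refine le_trans (le_inf hSK Subgroup.le_normalizer) ?_
    exact Subgroup.inf_normalizer_le_normalizer_inf
  have h0 := Cfsg.Agent.H12.subgroupOf_le_pCore K _ hT hTK
  rw [hO] at h0
  rw [eq_bot_iff, Subgroup.commutator_le]
  intro k hk y hy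
  have hcK : ⁅k, y⁆ ∈ K := by
    have : ⁅k, y⁆ = k * (y * k⁻¹ * y⁻¹) := by rw [commutatorElement_def]; group
    rw [this]
    exact mul_mem hk (hKnY y hy _ (inv_mem hk))
  have hcS : ⁅k, y⁆ ∈ (⨆ k, A k) := by
    have h1 : ⁅k, y⁆ = (k * y * k⁻¹) * y⁻¹ := by rw [commutatorElement_def]
    rw [h1]
    refine mul_mem ?_ (inv_mem ?_)
    · exact (le_iSup A ⟨k, hk⟩) ⟨y, hy, rfl⟩
    · refine (le_iSup A 1) ⟨y, hy, ?_⟩
      simp
  have h3 : (⟨⁅k, y⁆, hcK⟩ : ↥K) ∈ ((⨆ k, A k) ⊓ K).subgroupOf K := by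
    rw [Subgroup.mem_subgroupOf]
    exact ⟨hcS, hcK⟩
  have h4 := h0 h3
  rw [Subgroup.mem_bot] at h4
  have h5 := congrArg Subtype.val h4
  simpa using h5

end Cfsg.Agent.S2813
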