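import Cfsg.Statements.S2842
import Cfsg.Agent.Lib.H13.WeakChar

set_option autoImplicit false
open Cfsg

namespace Cfsg.Agent.S2842

open Cfsg.Agent.H13

theorem result {H : Type*} [Group H] [Finite H] {p : ℕ} [Fact p.Prime] (Q : Subgroup H) (hQp : IsPGroup p ↥Q) (hQ1 : Q ≠ ⊥) (hwc : Cfsg.IsWeaklyClosedSubgroup p Q) (hCQ : Subgroup.centralizer ((Q : Subgroup H) : Set H) ≤ Q) (L : Subgroup H) (hQL : Q ≤ L) (hyp : Subgroup.centralizer (Cfsg.pCore p H : Set H) ≤ Cfsg.pCore p H ∨ ∃ y : H, y ≠ 1 ∧ y ∈ (Cfsg.pCoreOf p L) ⊓ Subgroup.centralizer ((Q : Subgroup H) : Set H) ∧ Subgroup.centralizer (Cfsg.pCore p ↥(Subgroup.centralizer ({y} : Set H)) : Set ↥(Subgroup.centralizer ({y} : Set H))) ≤ Cfsg.pCore p ↥(Subgroup.centralizer ({y} : Set H))) : ⁅Q, Subgroup.centralizer (((Cfsg.pCoreOf p L) : Subgroup H) : Set H)⁆ ≤ Q ⊓ (Cfsg.pCoreOf p L) ∧ IsPGroup p ↥(Subgroup.centralizer (((Cfsg.pCoreOf p L) : Subgroup H) : Set H)) ∧ Subgroup.centralizer (Cfsg.pCore p ↥L : Set ↥L) ≤ Cfsg.pCore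 p ↥L := by
  set O := pCoreOf p L with hO
  set C := Subgroup.centralizer ((O : Subgroup H) : Set H) with hCdef
  have hLO : L ≤ Subgroup.normalizer (O : Set H) := pCoreOf_normalized L
  have hLC : L ≤ Subgroup.normalizer (C : Set H) := hLO.trans (H01.normalizer_le_normalizer_centralizer O)
  have hQC' : Q ≤ Subgroup.normalizer (C : Set H) := hQL.trans hLC
  have hLD : L ≤ Subgroup.normalizer ((L ⊓ C : Subgroup H) : Set H) := fun g hg =>
    mem_normalizer_inf (Subgroup.le_normalizer hg) (hLC hg)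
  obtain ⟨hC, hCL⟩ : IsCharP p C ∧ L ⊓ C ≤ O := by
    rcases hyp with hH | ⟨y, hy1, ⟨hyO, hyC⟩, hyA⟩
    · have hA : IsCharP p (⊤ : Subgroup H) := isCharP_top_iff.mpr hH
      constructor
      · have hU : IsCharP p (Q ⊔ C : Subgroup H) := isCharP_of_wc_of_le hQp hwc hCQ hA le_sup_left le_top
        exact isCharP_of_le_of_normalizer hU le_sup_right (sup_le hQC' Subgroup.le_normalizer)
      · have h1 : IsCharP p L := isCharP_of_wc_of_le hQp hwc hCQ hA hQL le_top
        exact (isCharP_subgroup_iff L).mp h1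
    · replace hyC : y ∈ Subgroup.centralizer ((Q : Subgroup H) : Set H) := hyC
      set A := Subgroup.centralizer ({y} : Set H) with hAdef
      have hQA : Q ≤ A := by
        intro q hq
        rw [hAdef, Subgroup.mem_centralizer_iff]
        intro w hw
        rw [Set.mem_singleton_iff.mp hw]
        exact (Subgroup.mem_centralizer_iff.mp hyC q hq).symm
      have hCA : C ≤ A := by
        intro c hc
        rw [hAdef, Subgroup.mem_centralizer_iff]
        intro w hw
        rw [Set.mem_singleton_iff.mp hw]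
        exact Subgroup.mem_centralizer_iff.mp hc y hyO
      have hyA' : IsCharP p A := hyA
      constructor
      · have hU : IsCharP p (Q ⊔ C : Subgroup H) :=
          isCharP_of_wc_of_le hQp hwc hCQ hyA' le_sup_left (sup_le hQA hCA)
        exact isCharP_of_le_of_normalizer hU le_sup_right (sup_le hQC' Subgroup.le_normalizer)
      · have hL₁ : IsCharP p (L ⊓ A : Subgroup H) :=
          isCharP_of_wc_of_le hQp hwc hCQ hyA' (le_inf hQL hQA) inf_le_right
        have hD : IsCharP p (L ⊓ C : Subgroup H) :=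
          isCharP_of_le_of_normalizer hL₁ (inf_le_inf_left _ hCA) (inf_le_left.trans hLD)
        have hDO : pCoreOf p (L ⊓ C) ≤ O :=
          le_pCoreOf ((pCoreOf_le _).trans inf_le_left) (isPGroup_pCoreOf _)
            (hLD.trans (normalizer_le_normalizer_pCoreOf _))
        have hDp : IsPGroup p (L ⊓ C : Subgroup H) :=
          isPGroup_of_isCharP_of_centralizes hD (inf_le_right.trans (Subgroup.centralizer_le hDO))
        exact le_pCoreOf inf_le_left hDp hLD
  obtain ⟨h1, h2⟩ := wc_centralizer_core hQp hwc hCQ hQL hC hCL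
  exact ⟨h1, h2, (isCharP_subgroup_iff L).mpr hCL⟩

end Cfsg.Agent.S2842
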