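import Cfsg.Statements.S5394
import Cfsg.Agent.Lib.H27.GolayClasses
import Cfsg.Agent.Lib.H27.GolayOrd

set_option autoImplicit false
set_option maxRecDepth 100000
open scoped Pointwise
open Cfsg

namespace Cfsg.Agent.S5394

open Cfsg.Agent.H27.Golay

/-- The fixed set of `P c`. -/
theorem fix_filter_P {c : ℕ} (hok : permOK c = true) :
    (Finset.univ.filter fun p => P c p = p) = fs (fixMask (pa c)) := by
  ext p
  rw [Finset.mem_filter, mem_fs]
  have h2 : (fixMask (pa c)).testBit (idx p) = true ↔ idx p < 24 ∧ pa c (idx p) = idx p :=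
    testBit_fixMaskN (pa c) 24 (idx p)
  rw [h2, P_apply hok]
  constructor
  · rintro ⟨-, hp⟩
    refine ⟨idx_lt p, ?_⟩
    have := congrArg idx hp
    rwa [idx_pt' (pa_lt hok (idx_lt p))] at this
  · rintro ⟨-, hp⟩
    refine ⟨Finset.mem_univ _, ?_⟩
    rw [hp, pt_idx]

theorem c2A_fix_octad : (Finset.univ.filter fun p => P c2A p = p) ∈ octads := by
  rw [fix_filter_P (isM24_permOK c2A_ok)]
  exact mem_octads_fs (fixMask_lt _) (by decide +kernel) (by decide +kernel)

theorem conj_filter (g k : Equiv.Perm GolayPt) :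
    (Finset.univ.filter fun p => (k * g * k⁻¹) p = p) = k • (Finset.univ.filter fun p => g p = p) := by
  ext q
  rw [Finset.mem_smul_finset, Finset.mem_filter]
  constructor
  · rintro ⟨-, hq⟩
    refine ⟨k⁻¹ q, Finset.mem_filter.2 ⟨Finset.mem_univ _, ?_⟩, by simp⟩
    have h1 : k (g (k⁻¹ q)) = q := hq
    rw [Equiv.Perm.eq_inv_iff_eq]
    exact h1
  · rintro ⟨p, hp, rfl⟩
    have hp' : g p = p := (Finset.mem_filter.1 hp).2
    refine ⟨Finset.mem_univ _, ?_⟩
    change (k * g * k⁻¹) (k p) = k p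
    simp [Equiv.Perm.mul_apply, hp']

theorem order2_of_code {c : ℕ} (hok : permOK c = true) (h1 : pow2F (pa c) = true) (h2 : idF (pa c) = false) :
    orderOf (P c) = 2 := order2_of_tests hok h1 h2

/-- The automorphism group of the length-24 code built from the squares modulo 23 has exactly two conjugacy classes of involutions: an involution either fixes exactly the eight points of an octad or has no fixed points, both kinds occur, and any two involutions of the same kind are conjugate in the group. -/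
theorem result : (∀ g ∈ Cfsg.M24, orderOf g = 2 → (Finset.univ.filter fun p => g p = p) ∈ Cfsg.octads ∨ ∀ p, g p ≠ p) ∧ (∃ g ∈ Cfsg.M24, orderOf g = 2 ∧ (Finset.univ.filter fun p => g p = p) ∈ Cfsg.octads) ∧ (∃ g ∈ Cfsg.M24, orderOf g = 2 ∧ ∀ p, g p ≠ p) ∧ ∀ g ∈ Cfsg.M24, ∀ h ∈ Cfsg.M24, orderOf g = 2 → orderOf h = 2 → ((∀ p, g p ≠ p) ↔ (∀ p, h p ≠ p)) → ∃ k ∈ Cfsg.M24, k * g * k⁻¹ = h := by
  have hA := isM24_permOK c2A_ok
  have hB := isM24_permOK c2B_ok
  refine ⟨?_, ⟨P c2A, P_mem_M24 c2A_ok, order2_of_code hA (by decide +kernel) (by decide +kernel), c2A_fix_octad⟩,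
    ⟨P c2B, P_mem_M24 c2B_ok, order2_of_code hB (by decide +kernel) (by decide +kernel), ?_⟩, ?_⟩
  · intro g hg h2
    rcases fix_order2 hg h2 with h0 | h8
    · exact Or.inr (fixed_filter_empty h0)
    · left
      obtain ⟨k, hk, e⟩ := rep2A hg h2 (by omega)
      have h1 := smul_mem_octads (M24.inv_mem hk) c2A_fix_octad
      rw [← e, conj_filter, smul_smul, inv_mul_cancel, one_smul] at h1
      exact h1
  · have hf : fpfF (pa c2B) = true := by decide +kernel
    intro p hp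
    have h1 := allBelow_spec hf _ (idx_lt p)
    rw [P_apply hB] at hp
    have h2 := congrArg idx hp
    rw [idx_pt' (pa_lt hB (idx_lt p))] at h2
    rw [h2] at h1
    have : Nat.beq (idx p) (idx p) = true := Nat.beq_refl _
    rw [this] at h1
    cases h1
  · intro g hg h hh h2g h2h hiff
    have key : ∃ c : ℕ, (∃ k ∈ M24, k * g * k⁻¹ = P c) ∧ (∃ k ∈ M24, k * h * k⁻¹ = P c) := by
      by_cases hf : ∀ p, g p ≠ p
      · obtain ⟨k1, hk1, e1⟩ := rep2B hg h2g hf
        obtain ⟨k2, hk2, e2⟩ := rep2B hh h2h (hiff.1 hf)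
        exact ⟨c2B, ⟨k1, hk1, e1⟩, ⟨k2, hk2, e2⟩⟩
      · have hf' : ¬ ∀ p, h p ≠ p := fun h' => hf (hiff.2 h')
        have c1 : (Finset.univ.filter fun p => g p = p).card = 8 :=
          (fix_order2 hg h2g).resolve_left fun h0 => hf (fixed_filter_empty h0)
        have c2 : (Finset.univ.filter fun p => h p = p).card = 8 :=
          (fix_order2 hh h2h).resolve_left fun h0 => hf' (fixed_filter_empty h0)
        obtain ⟨k1, hk1, e1⟩ := rep2A hg h2g (by omega)
        obtain ⟨k2, hk2, e2⟩ := rep2A hh h2h (by omega)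
        exact ⟨c2A, ⟨k1, hk1, e1⟩, ⟨k2, hk2, e2⟩⟩
    obtain ⟨c, ⟨k1, hk1, e1⟩, ⟨k2, hk2, e2⟩⟩ := key
    refine ⟨k2⁻¹ * k1, M24.mul_mem (M24.inv_mem hk2) hk1, ?_⟩
    have : k2⁻¹ * k1 * g * (k2⁻¹ * k1)⁻¹ = k2⁻¹ * (k1 * g * k1⁻¹) * k2 := by group
    rw [this, e1, ← e2]
    group

end Cfsg.Agent.S5394
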