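import Cfsg.Statements.S0662
import Mathlib

set_option autoImplicit false
open Cfsg

namespace Cfsg.Agent.S0662

abbrev LL (G : Type*) [Group G] (k : ℕ) : Subgroup G := (⊤ : Subgroup G).lowerCentralSeries k

open scoped commutatorElement

section
variable {G : Type*} [Group G]

theorem L_succ_ne [Group.IsNilpotent G] (k : ℕ) (hk : k < Group.nilpotencyClass G) :
    LL G (k + 1) ≠ LL G k := by
  intro h
  have h1 : ∀ m, LL G (k + m) = LL G k := by
    intro m
    induction m with
    | zero => rfl
    | succ m ih =>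
      rw [← add_assoc]
      show (⊤ : Subgroup G).lowerCentralSeries (k + m + 1) = _
      rw [Subgroup.lowerCentralSeries_succ]
      have ih' : (⊤ : Subgroup G).lowerCentralSeries (k + m) = (⊤ : Subgroup G).lowerCentralSeries k := ih
      rw [ih', ← Subgroup.lowerCentralSeries_succ]
      exact h
  have h2 := h1 (Group.nilpotencyClass G - k)
  rw [show k + (Group.nilpotencyClass G - k) = Group.nilpotencyClass G by omega] at h2
  have h2' : (⊤ : Subgroup G).lowerCentralSeries (Group.nilpotencyClass G) = (⊤ : Subgroup G).lowerCentralSeries k := h2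
  rw [Subgroup.lowerCentralSeries_nilpotencyClass] at h2'
  have h3 := (Subgroup.lowerCentralSeries_eq_bot_iff_nilpotencyClass_le).mp h2'.symm
  omega

theorem L_one_le_of_cyclic (hc : IsCyclic (G ⧸ LL G 1)) : LL G 1 ≤ LL G 2 := by
  let K : Subgroup G := LL G 2
  let K1 : Subgroup G := LL G 1
  haveI : K.Normal := (inferInstance : (LL G 2).Normal)
  haveI : K1.Normal := (inferInstance : (LL G 1).Normal)
  have hle : K ≤ K1.comap (MonoidHom.id G) := by
    intro x hx
    exact Subgroup.lowerCentralSeries_antitone ⊤ (by norm_num : 1 ≤ 2) hx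
  let f : G ⧸ K →* G ⧸ K1 := QuotientGroup.map K K1 (MonoidHom.id G) hle
  haveI : IsCyclic (G ⧸ K1) := hc
  have hcomm : ∀ a b : G ⧸ K, a * b = b * a := by
    apply commutative_of_cyclic_center_quotient f
    intro q hq
    obtain ⟨g, rfl⟩ := QuotientGroup.mk_surjective q
    have hg : g ∈ K1 := by
      rw [MonoidHom.mem_ker] at hq
      exact (QuotientGroup.eq_one_iff g).mp hq
    rw [Subgroup.mem_center_iff]
    intro q'
    obtain ⟨h, rfl⟩ := QuotientGroup.mk_surjective q'
    have hcm : ⁅g⁻¹, h⁻¹⁆ ∈ K := by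
      rw [show K = ⁅K1, (⊤ : Subgroup G)⁆ from rfl]
      exact Subgroup.commutator_mem_commutator (K1.inv_mem hg) (Subgroup.mem_top _)
    rw [← QuotientGroup.mk_mul, ← QuotientGroup.mk_mul, QuotientGroup.eq]
    have : (h * g)⁻¹ * (g * h) = ⁅g⁻¹, h⁻¹⁆ := by
      simp [commutatorElement_def]
      group
    rw [this]
    exact hcm
  show K1 ≤ K
  rw [show K1 = ⁅(⊤ : Subgroup G), (⊤ : Subgroup G)⁆ from rfl, Subgroup.commutator_le]
  intro g _ h _
  rw [← QuotientGroup.eq_one_iff, commutatorElement_def]
  simp only [QuotientGroup.mk_mul, QuotientGroup.mk_inv]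
  rw [hcomm (g : G ⧸ K) h, mul_assoc, mul_assoc]
  simp

variable [Finite G] {p : ℕ} [hp : Fact p.Prime]

theorem L_step (hG : IsPGroup p G) [Group.IsNilpotent G] (k : ℕ) (hk : k < Group.nilpotencyClass G) :
    p * Nat.card (LL G (k + 1)) ≤ Nat.card (LL G k) := by
  have hle : LL G (k + 1) ≤ LL G k := Subgroup.lowerCentralSeries_antitone ⊤ (Nat.le_succ k)
  have hne := L_succ_ne (G := G) k hk
  obtain ⟨a, ha⟩ := (IsPGroup.iff_card.mp (hG.to_subgroup (LL G k)))
  obtain ⟨b, hb⟩ := (IsPGroup.iff_card.mp (hG.to_subgroup (LL G (k + 1))))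
  have hdvd : Nat.card (LL G (k + 1)) ∣ Nat.card (LL G k) := Subgroup.card_dvd_of_le hle
  rw [ha, hb] at hdvd ⊢
  have hb_le : b ≤ a := (Nat.pow_dvd_pow_iff_le_right hp.out.one_lt).mp hdvd
  have hb_ne : b ≠ a := by
    rintro rfl
    apply hne
    apply Subgroup.eq_of_le_of_card_ge hle
    rw [ha, hb]
  rw [← pow_succ']
  exact Nat.pow_le_pow_right hp.out.pos (by omega)

theorem L_lower (hG : IsPGroup p G) [Group.IsNilpotent G] (j : ℕ) (hj : j ≤ Group.nilpotencyClass G) :
    p ^ j ≤ Nat.card (LL G (Group.nilpotencyClass G - j)) := by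
  induction j with
  | zero =>
    simp only [pow_zero, Nat.sub_zero]
    exact Nat.card_pos
  | succ j ih =>
    have h1 := ih (by omega)
    have h2 := L_step hG (Group.nilpotencyClass G - (j + 1)) (by omega)
    rw [show Group.nilpotencyClass G - (j + 1) + 1 = Group.nilpotencyClass G - j by omega] at h2
    calc p ^ (j + 1) = p * p ^ j := pow_succ' _ _
      _ ≤ p * Nat.card (LL G (Group.nilpotencyClass G - j)) := Nat.mul_le_mul_left _ h1
      _ ≤ _ := h2

theorem L_upper {m : ℕ} (hcard : Nat.card G = p ^ m) [Group.IsNilpotent G]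
    (hc : 2 ≤ Group.nilpotencyClass G) (k : ℕ) (hk1 : 1 ≤ k) (hk : k ≤ Group.nilpotencyClass G) :
    Nat.card (LL G k) * p ^ (k + 1) ≤ p ^ m := by
  have hG : IsPGroup p G := IsPGroup.of_card hcard
  induction k, hk1 using Nat.le_induction with
  | base =>
    have h1 := Subgroup.card_mul_index (LL G 1)
    rw [hcard] at h1
    rw [← h1]
    apply Nat.mul_le_mul_left
    have hdvd : (LL G 1).index ∣ p ^ m := ⟨_, by rw [← h1, mul_comm]⟩
    obtain ⟨j, -, hj⟩ := (Nat.dvd_prime_pow hp.out).mp hdvd
    rw [hj]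
    apply Nat.pow_le_pow_right hp.out.pos
    have hj0 : j ≠ 0 := by
      rintro rfl
      rw [pow_zero, Subgroup.index_eq_one] at hj
      exact L_succ_ne (G := G) 0 (by omega) hj
    have hj1 : j ≠ 1 := by
      rintro rfl
      rw [pow_one] at hj
      haveI : Fact (Nat.card (G ⧸ LL G 1)).Prime := ⟨by rw [← Subgroup.index_eq_card, hj]; exact hp.out⟩
      have hcy : IsCyclic (G ⧸ LL G 1) := isCyclic_of_prime_card rfl
      have h2 := L_one_le_of_cyclic hcy
      have h3 : LL G 2 ≤ LL G 1 := Subgroup.lowerCentralSeries_antitone ⊤ (by norm_num : 1 ≤ 2)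
      exact L_succ_ne (G := G) 1 (by omega) (le_antisymm h3 h2)
    omega
  | succ k hk1 ih =>
    have h1 := ih (by omega)
    have h2 := L_step hG k (by omega)
    calc Nat.card (LL G (k + 1)) * p ^ (k + 1 + 1) = p * Nat.card (LL G (k + 1)) * p ^ (k + 1) := by ring
      _ ≤ Nat.card (LL G k) * p ^ (k + 1) := Nat.mul_le_mul_right _ h2
      _ ≤ _ := h1

/-- A group of order `p ^ r`, `r ≥ 2`, has class at most `r - 1`. -/
theorem L_bot_of_card {r : ℕ} (hcard : Nat.card G = p ^ r) (hr : 2 ≤ r) : LL G (r - 1) = ⊥ := by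
  haveI : Group.IsNilpotent G := (IsPGroup.of_card hcard).isNilpotent
  show (⊤ : Subgroup G).lowerCentralSeries (r - 1) = ⊥
  rw [Subgroup.lowerCentralSeries_eq_bot_iff_nilpotencyClass_le]
  by_contra hlt
  push Not at hlt
  have h2 : 2 ≤ Group.nilpotencyClass G := by omega
  have h3 := L_upper hcard h2 _ (by omega) le_rfl
  have h4 : LL G (Group.nilpotencyClass G) = ⊥ := Subgroup.lowerCentralSeries_nilpotencyClass
  rw [h4, Subgroup.card_bot, one_mul] at h3
  have h5 := (Nat.pow_le_pow_iff_right hp.out.one_lt).mp h3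
  omega

/-- A noncyclic group of order `p ^ 2` has exactly `p + 1` subgroups of order `p`. -/
theorem count_sub (hcard : Nat.card G = p ^ 2) (hnc : ¬ IsCyclic G) :
    Nat.card {M : Subgroup G // Nat.card M = p} = p + 1 := by
  classical
  haveI := Fintype.ofFinite G
  haveI := Fintype.ofFinite (Subgroup G)
  have hone : 1 < p := hp.out.one_lt
  have hord : ∀ v : G, v ≠ 1 → Nat.card (Subgroup.zpowers v) = p := by
    intro v hv
    rw [Nat.card_zpowers]
    have hdvd : orderOf v ∣ p ^ 2 := hcard ▸ orderOf_dvd_natCard v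
    obtain ⟨j, hj, hj2⟩ := (Nat.dvd_prime_pow hp.out).mp hdvd
    interval_cases j
    · rw [pow_zero, orderOf_eq_one_iff] at hj2
      exact absurd hj2 hv
    · simpa using hj2
    · exact absurd (isCyclic_of_orderOf_eq_card v (by rw [hj2, hcard])) hnc
  let S : Finset (Subgroup G) := Finset.univ.filter (fun M => Nat.card M = p)
  let s : Finset G := Finset.univ.filter (fun v => v ≠ 1)
  have hmaps : ∀ v ∈ s, Subgroup.zpowers v ∈ S := by
    intro v hv
    exact Finset.mem_filter.mpr ⟨Finset.mem_univ _, hord v (Finset.mem_filter.mp hv).2⟩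
  have hfib := Finset.card_eq_sum_card_fiberwise (f := fun v => Subgroup.zpowers v) (s := s) (t := S) hmaps
  have hfibc : ∀ M ∈ S, (s.filter (fun v => Subgroup.zpowers v = M)).card = p - 1 := by
    intro M hM
    have hMc : Nat.card M = p := (Finset.mem_filter.mp hM).2
    have h1 : s.filter (fun v => Subgroup.zpowers v = M) = (Finset.univ.filter (fun v => v ∈ M)).erase 1 := by
      ext v
      simp only [Finset.mem_filter, Finset.mem_univ, true_and, Finset.mem_erase, s]
      constructor
      · rintro ⟨hv, rfl⟩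
        exact ⟨hv, Subgroup.mem_zpowers v⟩
      · rintro ⟨hv, hvM⟩
        refine ⟨hv, ?_⟩
        apply Subgroup.eq_of_le_of_card_ge
        · rwa [Subgroup.zpowers_le]
        · rw [hMc, hord v hv]
    rw [h1, Finset.card_erase_of_mem (by simp [M.one_mem])]
    congr 1
    rw [← hMc, Nat.card_eq_fintype_card, Fintype.card_subtype]
  rw [Finset.sum_congr rfl hfibc, Finset.sum_const, smul_eq_mul] at hfib
  have hsc : s.card = p ^ 2 - 1 := by
    have : s = Finset.univ.erase 1 := by
      ext v; simp [s]
    rw [this, Finset.card_erase_of_mem (Finset.mem_univ _), Finset.card_univ, ← Nat.card_eq_fintype_card, hcard]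
  have hSc : Nat.card {M : Subgroup G // Nat.card M = p} = S.card := by
    rw [Nat.card_eq_fintype_card, Fintype.card_subtype]
  rw [hSc]
  rw [hsc] at hfib
  have h5 : p ^ 2 - 1 = (p + 1) * (p - 1) := by
    obtain ⟨q, rfl⟩ : ∃ q, p = q + 1 := ⟨p - 1, by omega⟩
    simp only [Nat.add_sub_cancel]
    have : (q + 1) ^ 2 = (q + 1 + 1) * q + 1 := by ring
    omega
  rw [h5] at hfib
  exact (Nat.eq_of_mul_eq_mul_right (by omega) hfib).symm

end

/-- In a p-group of maximal class of order at least p³ the normal subgroups of index at least p² are exactly the terms of the lower central series, and there are exactly p + 1 normal subgroups of index p. -/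
theorem result {G : Type*} [Group G] [Finite G] {p : ℕ} [Fact p.Prime] (n : ℕ) (hG : Nat.card G = p ^ n) (hcl : Group.nilpotencyClass G = n - 1) (hn : 3 ≤ n) : (∀ (N : Subgroup G) [N.Normal] (r : ℕ), 2 ≤ r → N.index = p ^ r → N = (⊤ : Subgroup G).lowerCentralSeries (r - 1)) ∧ Nat.card {N : Subgroup G // N.Normal ∧ N.index = p} = p + 1 := by
  classical
  have hpG : IsPGroup p G := IsPGroup.of_card hG
  haveI hnil : Group.IsNilpotent G := hpG.isNilpotent
  have hone : 1 < p := (Fact.out : p.Prime).one_lt
  have hcard : ∀ k, 1 ≤ k → k ≤ n - 1 → Nat.card (LL G k) = p ^ (n - 1 - k) := by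
    intro k hk1 hk2
    apply le_antisymm
    · have h1 := L_upper hG (by omega) k hk1 (by omega)
      have h2 : Nat.card (LL G k) * p ^ (k + 1) ≤ p ^ (n - 1 - k) * p ^ (k + 1) := by
        rw [← pow_add, show n - 1 - k + (k + 1) = n by omega]
        exact h1
      exact Nat.le_of_mul_le_mul_right h2 (by positivity)
    · have h1 := L_lower hpG (Group.nilpotencyClass G - k) (by omega)
      rw [show Group.nilpotencyClass G - (Group.nilpotencyClass G - k) = k by omega, hcl] at h1
      exact h1
  refine ⟨?_, ?_⟩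
  · intro N _ r hr hNi
    let π := QuotientGroup.mk' N
    have hQ : Nat.card (G ⧸ N) = p ^ r := by rw [← Subgroup.index_eq_card, hNi]
    have h1 := L_bot_of_card hQ hr
    have h2 : (LL G (r - 1)).map π = LL (G ⧸ N) (r - 1) := by
      show ((⊤ : Subgroup G).lowerCentralSeries (r - 1)).map π = _
      rw [Subgroup.map_lowerCentralSeries, Subgroup.map_top_of_surjective _ (QuotientGroup.mk'_surjective N)]
    rw [h1] at h2
    have hle : LL G (r - 1) ≤ N := by
      intro x hx
      have h3 : π x ∈ (LL G (r - 1)).map π := Subgroup.mem_map_of_mem _ hx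
      rw [h2, Subgroup.mem_bot] at h3
      exact (QuotientGroup.eq_one_iff x).mp h3
    have hmul := Subgroup.card_mul_index N
    rw [hNi, hG] at hmul
    have hrn : r ≤ n := by
      have hdvd : p ^ r ∣ p ^ n := ⟨_, by rw [← hmul, mul_comm]⟩
      exact (Nat.pow_dvd_pow_iff_le_right hone).mp hdvd
    have hNc : Nat.card N = p ^ (n - r) := by
      have : Nat.card N * p ^ r = p ^ (n - r) * p ^ r := by
        rw [hmul, ← pow_add]; congr 1; omega
      exact Nat.eq_of_mul_eq_mul_right (by positivity) this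
    symm
    apply Subgroup.eq_of_le_of_card_ge hle
    rw [hNc, hcard (r - 1) (by omega) (by omega), show n - 1 - (r - 1) = n - r by omega]
  · let K : Subgroup G := LL G 1
    haveI : K.Normal := (inferInstance : (LL G 1).Normal)
    let π := QuotientGroup.mk' K
    have hπs : Function.Surjective π := QuotientGroup.mk'_surjective K
    have hker : π.ker = K := QuotientGroup.ker_mk' K
    have hKc : Nat.card K = p ^ (n - 2) := by
      have := hcard 1 le_rfl (by omega)
      rwa [show n - 1 - 1 = n - 2 by omega] at this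
    have hVc : Nat.card (G ⧸ K) = p ^ 2 := by
      have h1 := Subgroup.card_mul_index K
      rw [hKc, hG, Subgroup.index_eq_card] at h1
      have : p ^ (n - 2) * Nat.card (G ⧸ K) = p ^ (n - 2) * p ^ 2 := by
        rw [h1, ← pow_add]; congr 1; omega
      exact Nat.eq_of_mul_eq_mul_left (by positivity) this
    have hcomm : ∀ a b : G ⧸ K, a * b = b * a := by
      intro a b
      obtain ⟨g, rfl⟩ := QuotientGroup.mk_surjective a
      obtain ⟨h, rfl⟩ := QuotientGroup.mk_surjective b
      rw [← QuotientGroup.mk_mul, ← QuotientGroup.mk_mul, QuotientGroup.eq]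
      have h1 : (g * h)⁻¹ * (h * g) = ⁅h⁻¹, g⁻¹⁆ := by
        simp [commutatorElement_def]
        group
      rw [h1]
      exact Subgroup.commutator_mem_commutator (Subgroup.mem_top _) (Subgroup.mem_top _)
    have hnc : ¬ IsCyclic (G ⧸ K) := fun h =>
      L_succ_ne (G := G) 1 (by omega) (le_antisymm
        (Subgroup.lowerCentralSeries_antitone ⊤ (by norm_num : 1 ≤ 2)) (L_one_le_of_cyclic h))
    rw [← count_sub hVc hnc]
    have hKle : ∀ N : Subgroup G, N.Normal → N.index = p → K ≤ N := by
      intro N hN hi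
      show ⁅(⊤ : Subgroup G), (⊤ : Subgroup G)⁆ ≤ N
      rw [Subgroup.commutator_le]
      intro g _ h _
      haveI : Fact (Nat.card (G ⧸ N)).Prime := ⟨by rw [← Subgroup.index_eq_card, hi]; exact Fact.out⟩
      have hcy : IsCyclic (G ⧸ N) := isCyclic_of_prime_card rfl
      letI := IsCyclic.commGroup (α := G ⧸ N)
      rw [← QuotientGroup.eq_one_iff, commutatorElement_def]
      simp only [QuotientGroup.mk_mul, QuotientGroup.mk_inv]
      rw [mul_comm (g : G ⧸ N) h, mul_assoc, mul_assoc]
      simp
    have hidx : ∀ (M : Subgroup (G ⧸ K)), Nat.card M = p ↔ M.index = p := by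
      intro M
      have h1 := Subgroup.card_mul_index M
      rw [hVc] at h1
      constructor
      · intro h
        rw [h, pow_two] at h1
        exact Nat.eq_of_mul_eq_mul_left (Fact.out : p.Prime).pos h1
      · intro h
        rw [h, pow_two] at h1
        exact Nat.eq_of_mul_eq_mul_right (Fact.out : p.Prime).pos h1
    apply Nat.card_congr
    refine ⟨fun N => ⟨N.1.map π, ?_⟩, fun M => ⟨M.1.comap π, ?_, ?_⟩, ?_, ?_⟩
    · rw [hidx, Subgroup.index_map, (MonoidHom.range_eq_top (f := π)).mpr hπs, Subgroup.index_top, mul_one, hker,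
        sup_eq_left.mpr (hKle N.1 N.2.1 N.2.2)]
      exact N.2.2
    · have hMn : M.1.Normal := ⟨fun x hx g => by rwa [hcomm g x, mul_inv_cancel_right]⟩
      exact Subgroup.Normal.comap hMn π
    · rw [Subgroup.index_comap_of_surjective _ hπs]
      exact (hidx M.1).mp M.2
    · intro N
      apply Subtype.ext
      show (N.1.map π).comap π = N.1
      exact Subgroup.comap_map_eq_self (by rw [hker]; exact hKle N.1 N.2.1 N.2.2)
    · intro M
      apply Subtype.ext
      show (M.1.comap π).map π = M.1
      exact Subgroup.map_comap_eq_self_of_surjective hπs _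

end Cfsg.Agent.S0662
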