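import Mathlib
import Cfsg.Statements.S3076
import Cfsg.Agent.Lib.H01.Fitting
import Cfsg.Agent.Lib.H06.FittingHall
import Cfsg.Agent.Lib.H03.PConstr
import Cfsg.Agent.Lib.H09.SylowIn
import Cfsg.Agent.Lib.H19.CyclicSylow
import Cfsg.Agent.Lib.H19.Lifts
import Cfsg.Agent.Lib.H08.PCoreL
import Cfsg.Agent.Lib.H14.FusionQd
-- import your own Cfsg.Agent.* helpers here

set_option autoImplicit false
open Cfsg

namespace Cfsg.Agent.S3076

section
variable {N : Type*} [Group N] [Finite N] {p : ℕ} [Fact p.Prime]

lemma pp_eq_one {x : N} (h1 : IsPGroup p (Subgroup.zpowers x)) (h2 : (orderOf x).Coprime p) : x = 1 := by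
  obtain ⟨k, hk⟩ := IsPGroup.iff_card.mp h1
  rw [Nat.card_zpowers] at hk
  rw [hk] at h2
  rcases k with _ | k
  · simpa using hk
  · exfalso
    have h8 := Nat.dvd_gcd (dvd_pow_self p (Nat.succ_ne_zero k)) (dvd_refl p)
    rw [Nat.Coprime.gcd_eq_one h2] at h8
    exact (Fact.out : p.Prime).one_lt.ne' (Nat.dvd_one.mp h8)

/-- `p`-part and `p'`-part of an element -/
lemma exists_decomp (x : N) : ∃ a b : N, x = a * b ∧ IsPGroup p (Subgroup.zpowers a) ∧
    (orderOf b).Coprime p ∧ a ∈ Subgroup.zpowers x ∧ b ∈ Subgroup.zpowers x := by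
  obtain ⟨a, b, hx, -, ha, hb, ha2, hb2⟩ := Cfsg.Agent.H19.exists_pi_decomp ({p} : Set ℕ) x
  refine ⟨a, b, hx, ?_, ?_, ha2, hb2⟩
  · rw [IsPGroup.iff_card, Nat.card_zpowers]
    have h0 : orderOf a ≠ 0 := (orderOf_pos a).ne'
    exact ⟨_, Nat.eq_prime_pow_of_unique_prime_dvd h0 (fun {d} hd hda => ha d hd hda)⟩
  · rw [Nat.coprime_comm, (Fact.out : p.Prime).coprime_iff_not_dvd]
    intro h
    exact hb p (Fact.out) h rfl

/-- the `N`-level form of the theorem -/
theorem level (H K S : Subgroup N) [hHn : H.Normal] [hKn : K.Normal]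
    (hK : ∀ x, x ∈ K ↔ ∀ h ∈ H, x * h = h * x) (hHS : H ≤ S) (hSp : IsPGroup p S) (hSyl : ¬ p ∣ S.index) :
    let T := (Cfsg.pCore p (N ⧸ K)).comap (QuotientGroup.mk' K)
    (H ≤ T ∧ ¬ p ∣ H.relIndex T) ↔ (S ⊓ K ≤ H ∧ Cfsg.pPrimePCore p N = H ⊔ K) := by
  intro T
  classical
  have hHp : IsPGroup p H := hSp.to_le hHS
  have hQn : (Cfsg.pCore p (N ⧸ K)).Normal := Cfsg.Agent.H01.pCore_normal p
  have hQp : IsPGroup p (Cfsg.pCore p (N ⧸ K)) := Cfsg.Agent.H01.pCore_isPGroup p
  have hTn : T.Normal := hQn.comap _
  have hKT : K ≤ T := by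
    intro x hx
    change (QuotientGroup.mk' K) x ∈ Cfsg.pCore p (N ⧸ K)
    rw [show (QuotientGroup.mk' K) x = 1 from (QuotientGroup.eq_one_iff x).mpr hx]
    exact one_mem _
  have hHT : H ≤ T := by
    have h1 : H.map (QuotientGroup.mk' K) ≤ Cfsg.pCore p (N ⧸ K) :=
      Cfsg.Agent.H01.le_pCore (hHn.map _ (QuotientGroup.mk'_surjective K)) (hHp.map _)
    intro x hx
    exact h1 ⟨x, hx, rfl⟩
  set L := Cfsg.pPrimeCore p N with hL
  have hLn : L.Normal := Cfsg.Agent.H03.pPrimeCore_normal'
  have hLc : (Nat.card L).Coprime p := Cfsg.Agent.H06.coprime_card_pPrimeCore p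
  have hLp : IsPGroup p (Cfsg.pCore p (N ⧸ L)) := Cfsg.Agent.H01.pCore_isPGroup p
  -- the `p'`-core centralizes `H`
  have hLK : L ≤ K := by
    intro x hx
    rw [hK]
    intro h hh
    have hdis : Disjoint H L := by
      rw [Subgroup.disjoint_def]
      intro y hy hy2
      have h1 : orderOf y ∣ Nat.card L := by
        have := Subgroup.orderOf_dvd_natCard L hy2
        exact this
      have h2 : IsPGroup p (Subgroup.zpowers y) := by
        have h3 : Subgroup.zpowers y ≤ H := Subgroup.zpowers_le.mpr hy
        exact hHp.to_le h3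
      apply pp_eq_one h2
      exact Nat.Coprime.coprime_dvd_left h1 hLc
    exact (Subgroup.commute_of_normal_of_disjoint H L hHn hLn hdis h x hh hx).symm
  -- `O_{p',p}` maps into `T`
  have hOT : Cfsg.pPrimePCore p N ≤ T := by
    let f : N ⧸ L →* N ⧸ K := QuotientGroup.map L K (MonoidHom.id N) (by
      intro x hx; exact hLK hx)
    have hf : Function.Surjective f := by
      intro z
      obtain ⟨x, rfl⟩ := QuotientGroup.mk_surjective z
      exact ⟨(x : N ⧸ L), rfl⟩
    have h1 : (Cfsg.pCore p (N ⧸ L)).map f ≤ Cfsg.pCore p (N ⧸ K) :=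
      Cfsg.Agent.H01.le_pCore ((Cfsg.Agent.H01.pCore_normal p).map f hf) (hLp.map f)
    intro x hx
    exact h1 ⟨(x : N ⧸ L), hx, rfl⟩
  -- `p`-subgroups of the Sylow subgroup
  constructor
  · rintro ⟨-, hidx⟩
    have hpsub : ∀ U : Subgroup N, U ≤ T → IsPGroup p U → U ≤ H := by
      intro U hUT hUp
      have h1 : IsPGroup p ↥(H ⊔ U) := by
        have h2 : IsPGroup p ↥(U ⊔ H) := by
          exact IsPGroup.to_sup_of_normal_right hUp hHp
        rwa [sup_comm] at h2
      have h3 := Cfsg.Agent.H09.eq_of_not_dvd_relIndex (p := p) (le_sup_left : H ≤ H ⊔ U)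
        (sup_le hHT hUT) h1 hidx
      rw [h3]
      exact le_sup_right
    refine ⟨?_, ?_⟩
    · exact hpsub _ (inf_le_right.trans hKT) (hSp.to_le inf_le_left)
    · apply le_antisymm
      · -- `O_{p',p} ≤ T = H K`
        refine hOT.trans ?_
        intro x hx
        obtain ⟨a, b, rfl, ha, hb, ha2, hb2⟩ := exists_decomp (p := p) x
        have haT : a ∈ T := (Subgroup.zpowers_le.mpr hx) ha2
        have hbT : b ∈ T := (Subgroup.zpowers_le.mpr hx) hb2
        have haH : a ∈ H := hpsub (Subgroup.zpowers a) (Subgroup.zpowers_le.mpr haT) ha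
          (Subgroup.mem_zpowers a)
        have hbK : b ∈ K := by
          have h1 : IsPGroup p (Subgroup.zpowers ((QuotientGroup.mk' K) b)) := by
            have h2 : Subgroup.zpowers ((QuotientGroup.mk' K) b) ≤ Cfsg.pCore p (N ⧸ K) :=
              Subgroup.zpowers_le.mpr hbT
            exact hQp.to_le h2
          have h3 : (orderOf ((QuotientGroup.mk' K) b)).Coprime p :=
            Nat.Coprime.coprime_dvd_left (orderOf_map_dvd _ _) hb
          have := pp_eq_one h1 h3
          exact (QuotientGroup.eq_one_iff b).mp this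
        exact mul_mem (Subgroup.mem_sup_left haH) (Subgroup.mem_sup_right hbK)
      · -- `H K ≤ O_{p',p}`
        apply sup_le
        · -- H
          have h1 : H.map (QuotientGroup.mk' L) ≤ Cfsg.pCore p (N ⧸ L) :=
            Cfsg.Agent.H01.le_pCore (hHn.map _ (QuotientGroup.mk'_surjective L)) (hHp.map _)
          intro x hx
          exact h1 ⟨x, hx, rfl⟩
        · -- K: burnside
          obtain ⟨P⟩ : Nonempty (Sylow p K) := inferInstance
          have hPH : (P : Subgroup K).map K.subtype ≤ H := by
            apply hpsub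
            · rintro _ ⟨y, -, rfl⟩
              exact hKT y.2
            · exact P.isPGroup'.map _
          have hPcent : ∀ y ∈ (P : Subgroup K), ∀ z : K, z * y = y * z := by
            intro y hy z
            have h1 : (y : N) ∈ H := hPH ⟨y, hy, rfl⟩
            have h2 := (hK z).mp z.2 y h1
            exact Subtype.ext h2
          obtain ⟨R, hRn, hR⟩ := Cfsg.Agent.H19.burnside_complement P (by
            intro z _
            rw [Subgroup.mem_centralizer_iff]
            intro y hy
            exact (hPcent y hy z).symm)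
          -- elements of `R`: all coprime elements of `K`
          have hRcard : (Nat.card R).Coprime p := by
            have hcard := hR.card_mul_card
            have hnd : ¬ p ∣ (P : Subgroup K).index := P.not_dvd_index
            have hix : (P : Subgroup K).index = Nat.card R := by
              have h1 := Subgroup.card_mul_index (P : Subgroup K)
              have h2 : 0 < Nat.card (P : Subgroup K) := Nat.card_pos
              have h3 : Nat.card R * Nat.card (P : Subgroup K) = Nat.card (P : Subgroup K) * (P : Subgroup K).index := by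
                rw [hcard, h1]
              rw [mul_comm] at h3
              exact (Nat.eq_of_mul_eq_mul_left h2 h3).symm
            rw [← hix, Nat.coprime_comm, (Fact.out : p.Prime).coprime_iff_not_dvd]
            exact hnd
          have hdecomp : ∀ z : K, ∃ r ∈ R, ∃ s ∈ (P : Subgroup K), z = r * s := by
            intro z
            obtain ⟨⟨r, s⟩, hrs⟩ := hR.2 z
            exact ⟨r.1, r.2, s.1, s.2, hrs.symm⟩
          have hRchar : ∀ z : K, (orderOf z).Coprime p → z ∈ R := by
            intro z hz
            obtain ⟨r, hr, s, hs, rfl⟩ := hdecomp z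
            have hcomm : Commute r s := (hPcent s hs r)
            set m := orderOf (r * s) with hm
            have h1 : r ^ m * s ^ m = 1 := by
              rw [← hcomm.mul_pow, hm]
              exact pow_orderOf_eq_one _
            have hsp : IsPGroup p (Subgroup.zpowers s) :=
              P.isPGroup'.to_le (Subgroup.zpowers_le.mpr hs)
            have h2 : s ^ m ∈ R := by
              have : s ^ m = (r ^ m)⁻¹ := (eq_inv_of_mul_eq_one_right h1)
              rw [this]
              exact inv_mem (pow_mem hr _)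
            have h3 : s ^ m = 1 := by
              have h4 : orderOf (s ^ m) ∣ Nat.card R := by
                have := Subgroup.orderOf_dvd_natCard R h2
                exact this
              apply pp_eq_one (hsp.to_le (Subgroup.zpowers_le.mpr (pow_mem (Subgroup.mem_zpowers s) m)))
              exact Nat.Coprime.coprime_dvd_left h4 hRcard
            have h5 : s = 1 := by
              obtain ⟨k, hk⟩ := (IsPGroup.iff_orderOf.mp P.isPGroup') ⟨s, hs⟩
              have h6 : orderOf s = p ^ k := by
                rw [← hk]; exact (Subgroup.orderOf_mk s hs).symm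
              have h7 : orderOf s ∣ m := orderOf_dvd_of_pow_eq_one h3
              have h8 : (orderOf s).Coprime p := Nat.Coprime.coprime_dvd_left h7 hz
              rw [h6] at h8
              rcases k with _ | k
              · simpa using h6
              · exfalso
                have h9 := Nat.dvd_gcd (dvd_pow_self p (Nat.succ_ne_zero k)) (dvd_refl p)
                rw [Nat.Coprime.gcd_eq_one h8] at h9
                exact (Fact.out : p.Prime).one_lt.ne' (Nat.dvd_one.mp h9)
            rw [h5, mul_one]
            exact hr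
          -- `R` is normal in `N`
          have hRL : R.map K.subtype ≤ L := by
            apply Cfsg.Agent.H08.le_pPrimeCore
            · constructor
              rintro _ ⟨z, hz, rfl⟩ g
              have hzc : (orderOf z).Coprime p := by
                have := Subgroup.orderOf_dvd_natCard R hz
                exact Nat.Coprime.coprime_dvd_left this hRcard
              refine ⟨⟨g * z.1 * g⁻¹, hKn.conj_mem _ z.2 g⟩, hRchar _ ?_, rfl⟩
              have h1 : orderOf (⟨g * z.1 * g⁻¹, hKn.conj_mem _ z.2 g⟩ : K) = orderOf (g * z.1 * g⁻¹) :=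
                Subgroup.orderOf_mk _ _
              rw [h1]
              have h2 : orderOf (g * z.1 * g⁻¹) = orderOf z.1 := by
                have : g * z.1 * g⁻¹ = MulAut.conj g z.1 := rfl
                rw [this]
                exact MulEquiv.orderOf_eq (MulAut.conj g) z.1
              rw [h2]
              have h3 : orderOf (z : N) = orderOf z := (Subgroup.orderOf_coe z)
              rw [h3]
              exact hzc
            · rw [Subgroup.card_map_of_injective K.subtype_injective]
              exact hRcard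
          have hLO : L ≤ Cfsg.pPrimePCore p N := by
            intro x hx
            change (QuotientGroup.mk' L) x ∈ Cfsg.pCore p (N ⧸ L)
            rw [show (QuotientGroup.mk' L) x = 1 from (QuotientGroup.eq_one_iff x).mpr hx]
            exact one_mem _
          have hHO : H ≤ Cfsg.pPrimePCore p N := by
            have h1 : H.map (QuotientGroup.mk' L) ≤ Cfsg.pCore p (N ⧸ L) :=
              Cfsg.Agent.H01.le_pCore (hHn.map _ (QuotientGroup.mk'_surjective L)) (hHp.map _)
            intro x hx
            exact h1 ⟨x, hx, rfl⟩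
          intro x hx
          obtain ⟨r, hr, s, hs, hrs⟩ := hdecomp ⟨x, hx⟩
          have hx2 : x = (r : N) * (s : N) := congrArg Subtype.val hrs
          rw [hx2]
          exact mul_mem (hLO (hRL ⟨r, hr, rfl⟩)) (hHO (hPH ⟨s, hs, rfl⟩))
  · rintro ⟨hSK, hO⟩
    have hO1 : H ⊔ K ≤ T := sup_le hHT hKT
    have hTO : T ≤ Cfsg.pPrimePCore p N := by
      -- the image of `T` in `N/L` is a normal `p`-subgroup
      have h1 : T.map (QuotientGroup.mk' L) ≤ Cfsg.pCore p (N ⧸ L) := by
        apply Cfsg.Agent.H01.le_pCore (hTn.map _ (QuotientGroup.mk'_surjective L))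
        rintro ⟨_, x, hx, rfl⟩
        obtain ⟨k, hk⟩ := hQp ⟨(QuotientGroup.mk' K) x, hx⟩
        have h2 : ((QuotientGroup.mk' K) x) ^ (p ^ k) = 1 := congrArg Subtype.val hk
        have h3 : x ^ (p ^ k) ∈ K := by
          rw [← map_pow] at h2
          exact (QuotientGroup.eq_one_iff _).mp h2
        have h4 : x ^ (p ^ k) ∈ Cfsg.pPrimePCore p N := by
          rw [hO]; exact Subgroup.mem_sup_right h3
        obtain ⟨j, hj⟩ := hLp ⟨(QuotientGroup.mk' L) (x ^ (p ^ k)), h4⟩
        have h5 : ((QuotientGroup.mk' L) (x ^ (p ^ k))) ^ (p ^ j) = 1 := congrArg Subtype.val hj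
        refine ⟨k + j, ?_⟩
        apply Subtype.ext
        change ((QuotientGroup.mk' L) x) ^ (p ^ (k + j)) = 1
        rw [pow_add, pow_mul, ← map_pow]
        exact h5
      intro x hx
      exact h1 ⟨x, hx, rfl⟩
    have hTeq : T = H ⊔ K := le_antisymm (hTO.trans hO.le) hO1
    refine ⟨hHT, ?_⟩
    let S' : Sylow p N := IsPGroup.toSylow hSp hSyl
    have h1 := Cfsg.Agent.H14.not_dvd_sylow_inf_normal S' T
    have h2 : (S' : Subgroup N) ⊓ T = H := by
      apply le_antisymm
      · rintro x ⟨hxS, hxT⟩
        rw [hTeq] at hxT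
        obtain ⟨h, hh, k, hk, rfl⟩ := Subgroup.mem_sup_of_normal_right.mp hxT
        have hk2 : k ∈ S := by
          have : k = h⁻¹ * (h * k) := by group
          rw [this]
          exact mul_mem (inv_mem (hHS hh)) hxS
        exact mul_mem hh (hSK ⟨hk2, hk⟩)
      · exact le_inf hHS hHT
    rw [h2] at h1
    exact h1


/-- transport to the ambient group -/
theorem aux {G : Type*} [Group G] [Finite G] {p : ℕ} [Fact p.Prime]
    (P : Subgroup G) (hPp : IsPGroup p P) (H C N : Subgroup G) (hHP : H ≤ P) (hHN : H ≤ N) (hCN : C ≤ N)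
    (hCc : ∀ x ∈ N, x ∈ C ↔ ∀ h ∈ H, x * h = h * x)
    (hSyl : ¬ p ∣ (P ⊓ N).relIndex N)
    [hHn : (H.subgroupOf N).Normal]
    [hC : (C.subgroupOf N).Normal] :
    (H ≤ ((Cfsg.pCore p (↥N ⧸ C.subgroupOf N)).comap (QuotientGroup.mk' _)).map N.subtype ∧
      ¬ p ∣ H.relIndex (((Cfsg.pCore p (↥N ⧸ C.subgroupOf N)).comap (QuotientGroup.mk' _)).map N.subtype)) ↔
    (P ⊓ C ≤ H ∧ (Cfsg.pPrimePCore p ↥N).map N.subtype = H ⊔ C) := by
  classical
  have hL := level (p := p) (H.subgroupOf N) (C.subgroupOf N) (P.subgroupOf N)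
    (by
      intro x
      rw [Subgroup.mem_subgroupOf, hCc _ x.2]
      constructor
      · intro h y hy
        exact Subtype.ext (h y hy)
      · intro h y hy
        exact (congrArg Subtype.val (h ⟨y, hHN hy⟩ hy)))
    (fun x hx => hHP hx)
    (IsPGroup.comap_of_injective hPp _ N.subtype_injective)
    (by
      rw [Subgroup.inf_relIndex_right] at hSyl
      exact hSyl)
  simp only at hL
  have e1 : H = (H.subgroupOf N).map N.subtype := (Subgroup.map_subgroupOf_eq_of_le hHN).symm
  have e2 : C = (C.subgroupOf N).map N.subtype := (Subgroup.map_subgroupOf_eq_of_le hCN).symm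
  set T := (Cfsg.pCore p (↥N ⧸ C.subgroupOf N)).comap (QuotientGroup.mk' (C.subgroupOf N)) with hT
  have a1 : H ≤ T.map N.subtype ↔ H.subgroupOf N ≤ T := by
    conv_lhs => rw [e1]
    exact Subgroup.map_le_map_iff_of_injective N.subtype_injective
  have a2 : H.relIndex (T.map N.subtype) = (H.subgroupOf N).relIndex T := by
    conv_lhs => rw [e1]
    exact Subgroup.relIndex_map_map_of_injective _ _ N.subtype_injective
  have a3 : P ⊓ C ≤ H ↔ P.subgroupOf N ⊓ C.subgroupOf N ≤ H.subgroupOf N := by
    constructor
    · intro h x hx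
      exact h ⟨hx.1, hx.2⟩
    · intro h x hx
      exact h (x := ⟨x, hCN hx.2⟩) ⟨hx.1, hx.2⟩
  have a4 : (Cfsg.pPrimePCore p ↥N).map N.subtype = H ⊔ C ↔
      Cfsg.pPrimePCore p ↥N = H.subgroupOf N ⊔ C.subgroupOf N := by
    conv_lhs => rw [e1, e2, ← Subgroup.map_sup]
    exact (Subgroup.map_injective N.subtype_injective).eq_iff
  rw [a1, a2, a3, a4]
  exact hL

end


/-- Let P be a Sylow p-subgroup of the finite group G and H ≤ P a subgroup with N_P(H) a Sylow p-subgroup of N_G(H). Let N be the preimage in N_G(H) of O_p(N_G(H)/C_G(H)). Then H is a Sylow p-subgroup of N if and only if C_P(H) ≤ H and O_{p',p}(N_G(H)) = H·C_G(H). -/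
theorem result {G : Type*} [Group G] [Finite G] {p : ℕ} [Fact p.Prime]
    (P : Sylow p G) (H : Subgroup G) (hHP : H ≤ (P : Subgroup G))
    (hSyl : ¬ p ∣ ((P : Subgroup G) ⊓ Subgroup.normalizer (H : Set G)).relIndex (Subgroup.normalizer (H : Set G)))
    [hC : ((Subgroup.centralizer (H : Set G)).subgroupOf (Subgroup.normalizer (H : Set G))).Normal] :
    (H ≤ ((Cfsg.pCore p (↥(Subgroup.normalizer (H : Set G)) ⧸
              (Subgroup.centralizer (H : Set G)).subgroupOf (Subgroup.normalizer (H : Set G)))).comap
            (QuotientGroup.mk' _)).map (Subgroup.normalizer (H : Set G)).subtype ∧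
      ¬ p ∣ H.relIndex (((Cfsg.pCore p (↥(Subgroup.normalizer (H : Set G)) ⧸
              (Subgroup.centralizer (H : Set G)).subgroupOf (Subgroup.normalizer (H : Set G)))).comap
            (QuotientGroup.mk' _)).map (Subgroup.normalizer (H : Set G)).subtype)) ↔
    ((P : Subgroup G) ⊓ Subgroup.centralizer (H : Set G) ≤ H ∧
      (Cfsg.pPrimePCore p ↥(Subgroup.normalizer (H : Set G))).map (Subgroup.normalizer (H : Set G)).subtype =
        H ⊔ Subgroup.centralizer (H : Set G)) := by
  classical
  exact aux (P : Subgroup G) P.isPGroup' H _ _ hHP Subgroup.le_normalizer (Subgroup.centralizer_le_normalizer _)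
    (by
      intro x hx
      rw [Subgroup.mem_centralizer_iff]
      constructor
      · intro h y hy
        exact (h y hy).symm
      · intro h y hy
        exact (h y hy).symm)
    hSyl (hHn := Subgroup.normal_subgroupOf_of_le_normalizer le_rfl)

end Cfsg.Agent.S3076
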