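import Cfsg.Statements.S3908
import Mathlib
import Cfsg.Agent.Lib.H14.UniqueSub
import Cfsg.Agent.Lib.H18.Basic
import Cfsg.Agent.Lib.H18.Syl

set_option autoImplicit false
open Cfsg

namespace Cfsg.Agent.S3908


open Cfsg

/-- In a `p`-group with an element of order `p²` and no elementary abelian subgroup of order `p²`,
there is a unique subgroup of order `p`. -/
theorem uniqueP_of_no_rank_two {Y : Type*} [Group Y] [Finite Y] {p : ℕ} [Fact p.Prime]
    (hY : IsPGroup p Y)
    (hno : ∀ E : Subgroup Y, IsMulCommutative E → (∀ e ∈ E, e ^ p = 1) → Nat.card E ≠ p ^ 2) :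
    H14.UniqueP p Y := by
  classical
  have hpp : p.Prime := Fact.out
  intro u v hu hv
  by_contra hvu
  -- a central element of order `p`
  have hnt : Nontrivial Y := by
    refine ⟨⟨u, 1, ?_⟩⟩
    intro h
    rw [h, orderOf_one] at hu
    exact hpp.ne_one hu.symm
  haveI : Nontrivial (Subgroup.center Y) := hY.center_nontrivial
  obtain ⟨k, hk0, hk⟩ := (hY.to_subgroup (Subgroup.center Y)).nontrivial_iff_card.mp inferInstance
  have hdvd : p ∣ Nat.card (Subgroup.center Y) := by
    rw [hk]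
    exact dvd_pow_self p hk0.ne'
  obtain ⟨⟨z, hzC⟩, hz'⟩ := exists_prime_orderOf_dvd_card' (G := Subgroup.center Y) p hdvd
  have hzord : orderOf z = p := by rw [← hz']; exact (Subgroup.orderOf_mk z hzC).symm
  have hzc : ∀ g, g * z = z * g := fun g => (Subgroup.mem_center_iff.mp hzC g)
  -- an element of order `p` outside `⟨z⟩`
  have hext : ∃ t : Y, orderOf t = p ∧ t ∉ Subgroup.zpowers z := by
    by_contra hall
    push Not at hall
    have h1 := hall u hu
    have h2 := hall v hv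
    apply hvu
    -- `⟨u⟩ = ⟨z⟩`
    have hcu : Nat.card (Subgroup.zpowers u) = p := by rw [Nat.card_zpowers, hu]
    have hcz : Nat.card (Subgroup.zpowers z) = p := by rw [Nat.card_zpowers, hzord]
    have hle : Subgroup.zpowers u ≤ Subgroup.zpowers z := Subgroup.zpowers_le.mpr h1
    have heq : Subgroup.zpowers u = Subgroup.zpowers z :=
      Subgroup.eq_of_le_of_card_ge hle (by rw [hcu, hcz])
    rw [heq]
    exact h2
  obtain ⟨t, htord, htz⟩ := hext
  let N : Subgroup Y := Subgroup.zpowers z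
  haveI hN : N.Normal := by
    constructor
    rintro _ ⟨i, rfl⟩ g
    refine ⟨i, ?_⟩
    have hc : Commute g (z ^ i) := Commute.zpow_right (hzc g) i
    show z ^ i = g * z ^ i * g⁻¹
    rw [hc.eq]
    group
  let H : Subgroup Y := Subgroup.zpowers t
  have hcH : Nat.card H = p := by rw [Nat.card_zpowers, htord]
  have hcN : Nat.card N = p := by rw [Nat.card_zpowers, hzord]
  have hinf : H ⊓ N = ⊥ := by
    by_contra hne
    have h1 : Nat.card (H ⊓ N : Subgroup Y) ∣ p := by
      rw [← hcH]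
      exact Subgroup.card_dvd_of_le inf_le_left
    rcases (Nat.dvd_prime hpp).mp h1 with h2 | h2
    · exact hne (Subgroup.card_eq_one.mp h2)
    · have h3 : H ⊓ N = H := Subgroup.eq_of_le_of_card_ge inf_le_left (by rw [h2, hcH])
      apply htz
      have h4 : t ∈ H ⊓ N := by rw [h3]; exact Subgroup.mem_zpowers t
      exact h4.2
  have hcard : Nat.card (H ⊔ N : Subgroup Y) = p ^ 2 := by
    have h1 := H18.card_sup_mul_card_inf H N
    rw [hinf, hcH, hcN, Subgroup.card_bot, mul_one] at h1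
    rw [h1, pow_two]
  have hform : ∀ x ∈ H ⊔ N, ∃ i j : ℤ, x = t ^ i * z ^ j := by
    intro x hx
    obtain ⟨h, hh, n, hn, rfl⟩ := (H18.mem_sup_normal_right (H := H) (N := N)).mp hx |> fun h => h
    obtain ⟨i, rfl⟩ := Subgroup.mem_zpowers_iff.mp hh
    obtain ⟨j, rfl⟩ := Subgroup.mem_zpowers_iff.mp hn
    exact ⟨i, j, rfl⟩
  refine hno (H ⊔ N) ⟨⟨?_⟩⟩ ?_ hcard
  · rintro ⟨a, ha⟩ ⟨b, hb⟩
    obtain ⟨i, j, rfl⟩ := hform a ha
    obtain ⟨i', j', rfl⟩ := hform b hb
    apply Subtype.ext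
    show t ^ i * z ^ j * (t ^ i' * z ^ j') = t ^ i' * z ^ j' * (t ^ i * z ^ j)
    have h1 : Commute (z ^ j) (t ^ i') := (Commute.zpow_right (hzc t) _ |>.zpow_left _ : Commute (t ^ i') (z ^ j)).symm |> fun h => h
    have h2 : Commute (z ^ j') (t ^ i) := (Commute.zpow_right (hzc t) _ |>.zpow_left _ : Commute (t ^ i) (z ^ j')).symm |> fun h => h
    calc t ^ i * z ^ j * (t ^ i' * z ^ j') = t ^ i * (z ^ j * t ^ i') * z ^ j' := by group
      _ = t ^ i * (t ^ i' * z ^ j) * z ^ j' := by rw [h1.eq]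
      _ = t ^ (i + i') * z ^ (j + j') := by rw [zpow_add, zpow_add]; group
      _ = t ^ i' * t ^ i * (z ^ j' * z ^ j) := by rw [add_comm i, add_comm j, zpow_add, zpow_add]
      _ = t ^ i' * (t ^ i * z ^ j') * z ^ j := by group
      _ = t ^ i' * (z ^ j' * t ^ i) * z ^ j := by rw [h2.eq]
      _ = t ^ i' * z ^ j' * (t ^ i * z ^ j) := by group
  · intro e he
    obtain ⟨i, j, rfl⟩ := hform e he
    have h1 : Commute (t ^ i) (z ^ j) := Commute.zpow_right (hzc t) _ |>.zpow_left _
    rw [h1.mul_pow, ← zpow_natCast, ← zpow_natCast, ← zpow_mul, ← zpow_mul, mul_comm i,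
      mul_comm j, zpow_mul, zpow_mul]
    simp only [zpow_natCast]
    have ht1 : t ^ p = 1 := by rw [← htord]; exact pow_orderOf_eq_one t
    have hz1 : z ^ p = 1 := by rw [← hzord]; exact pow_orderOf_eq_one z
    rw [ht1, hz1]
    simp

theorem key {G : Type*} [Group G] [Finite G]
    (hB : ∀ A B : Subgroup G, IsMulCommutative ↥A → IsMulCommutative ↥B → Nat.card ↥A = Nat.card ↥B →
      ∃ g : G, B = A.map (MulAut.conj g).toMonoidHom) {p : ℕ} [Fact p.Prime] (P : Sylow p G)
    {x : G} (hxP : x ∈ (P : Subgroup G)) (hx : x ^ p ≠ 1) : H14.UniqueP p (P : Subgroup G) := by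
  have hpp : p.Prime := Fact.out
  apply uniqueP_of_no_rank_two P.isPGroup'
  intro E hEc hEe hEcard
  -- an element of order `p²`
  obtain ⟨k, hk⟩ := (IsPGroup.iff_orderOf.mp P.isPGroup') ⟨x, hxP⟩
  have hk' : orderOf x = p ^ k := by rw [← Subgroup.orderOf_mk x hxP]; exact hk
  have hk2 : 2 ≤ k := by
    by_contra hlt
    apply hx
    have : k = 0 ∨ k = 1 := by omega
    rcases this with rfl | rfl
    · rw [pow_zero] at hk'
      rw [orderOf_eq_one_iff.mp hk']
      simp
    · rw [pow_one] at hk'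
      rw [← hk']
      exact pow_orderOf_eq_one x
  set x₁ := x ^ p ^ (k - 2) with hx₁
  have hord : orderOf x₁ = p ^ 2 := by
    rw [hx₁, orderOf_pow_of_dvd (pow_ne_zero _ hpp.ne_zero) (by rw [hk']; exact pow_dvd_pow p (by omega)), hk']
    rw [Nat.pow_div (by omega) hpp.pos]
    congr 1
    omega
  let E' : Subgroup G := E.map (P : Subgroup G).subtype
  have hcard' : Nat.card E' = p ^ 2 := by
    rw [← hEcard]
    exact Nat.card_congr (E.equivMapOfInjective _ (Subtype.val_injective)).symm.toEquiv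
  have hcomm : IsMulCommutative E' := by
    refine ⟨⟨?_⟩⟩
    rintro ⟨_, a, ha, rfl⟩ ⟨_, b, hb, rfl⟩
    apply Subtype.ext
    have h2 : (⟨a, ha⟩ : E) * ⟨b, hb⟩ = ⟨b, hb⟩ * ⟨a, ha⟩ := hEc.is_comm.comm _ _
    exact congrArg (fun z : E => ((z : (P : Subgroup G)) : G)) h2
  haveI hcyc : IsCyclic (Subgroup.zpowers x₁) := inferInstance
  obtain ⟨g, hg⟩ := hB (Subgroup.zpowers x₁) E' inferInstance hcomm (by
    rw [hcard', Nat.card_zpowers, hord])
  have hmem : g * x₁ * g⁻¹ ∈ E' := by
    rw [hg]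
    exact ⟨x₁, Subgroup.mem_zpowers x₁, rfl⟩
  obtain ⟨e, he, hee⟩ := hmem
  have h1 : (g * x₁ * g⁻¹) ^ p = 1 := by
    rw [← hee]
    have := hEe e he
    simpa using congrArg Subtype.val this
  rw [conj_pow] at h1
  have h2 : x₁ ^ p = 1 := by
    have h3 : g * x₁ ^ p = g := by
      have := congrArg (· * g) h1
      simpa using this
    simpa using h3
  have h3 := orderOf_dvd_of_pow_eq_one h2
  rw [hord] at h3
  have h4 := Nat.le_of_dvd hpp.pos h3
  have h5 := hpp.two_le
  nlinarith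



/-- Let G be a finite group in which any two abelian subgroups of the same order are conjugate. Then a Sylow 2-subgroup of G is cyclic, elementary abelian or generalized quaternion, and for an odd prime p a Sylow p-subgroup of G is cyclic or has exponent dividing p. -/
theorem result {G : Type*} [Group G] [Finite G] (hB : ∀ A B : Subgroup G, IsMulCommutative ↥A → IsMulCommutative ↥B → Nat.card ↥A = Nat.card ↥B → ∃ g : G, B = A.map (MulAut.conj g).toMonoidHom) :
    (∀ P : Sylow 2 G, IsCyclic ↥(P : Subgroup G) ∨ Cfsg.IsElementaryAbelian 2 (P : Subgroup G) ∨ ∃ k : ℕ, Nonempty (↥(P : Subgroup G) ≃* QuaternionGroup (2 ^ k))) ∧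
    ∀ (p : ℕ) [Fact p.Prime], p ≠ 2 → ∀ P : Sylow p G, IsCyclic ↥(P : Subgroup G) ∨ ∀ x ∈ (P : Subgroup G), x ^ p = 1 := by
  constructor
  · intro P
    haveI hF2 : Fact (Nat.Prime 2) := ⟨Nat.prime_two⟩
    by_cases h : ∀ x ∈ (P : Subgroup G), x ^ 2 = 1
    · right; left
      refine ⟨⟨⟨?_⟩⟩, h⟩
      rintro ⟨a, ha⟩ ⟨b, hb⟩
      apply Subtype.ext
      show a * b = b * a
      have h1 := h a ha
      have h2 := h b hb
      have h3 := h (a * b) (Subgroup.mul_mem _ ha hb)
      have ha' : a⁻¹ = a := inv_eq_of_mul_eq_one_left (by rw [← pow_two]; exact h1)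
      have hb' : b⁻¹ = b := inv_eq_of_mul_eq_one_left (by rw [← pow_two]; exact h2)
      have hab' : (a * b)⁻¹ = a * b := inv_eq_of_mul_eq_one_left (by rw [← pow_two]; exact h3)
      rw [mul_inv_rev, ha', hb'] at hab'
      exact hab'.symm
    · push Not at h
      obtain ⟨x, hxP, hx⟩ := h
      rcases H14.isCyclic_or_quaternion P.isPGroup' (key hB P hxP hx) with h1 | ⟨-, k, -, h1⟩
      · exact Or.inl h1
      · exact Or.inr (Or.inr ⟨k, h1⟩)
  · intro p _ hp P
    by_cases h : ∀ x ∈ (P : Subgroup G), x ^ p = 1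
    · exact Or.inr h
    · push Not at h
      obtain ⟨x, hxP, hx⟩ := h
      rcases H14.isCyclic_or_quaternion P.isPGroup' (key hB P hxP hx) with h1 | ⟨h2, -⟩
      · exact Or.inl h1
      · exact absurd h2 hp

end Cfsg.Agent.S3908
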