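import Cfsg.Statements.S3909
import Mathlib
import Cfsg.Agent.Lib.H18.Syl

set_option autoImplicit false
open Cfsg

namespace Cfsg.Agent.S3909

/-- Let G be a finite group in which any two abelian subgroups of the same order are conjugate. Let M be a normal subgroup of G. If M contains an element of the same order as a ∈ G, then a ∈ M; and if M is elementary abelian of order p^t with p prime and t ≥ 2, then M is the unique Sylow p-subgroup of G. -/
theorem result {G : Type*} [Group G] [Finite G] (hB : ∀ A B : Subgroup G, IsMulCommutative ↥A → IsMulCommutative ↥B → Nat.card ↥A = Nat.card ↥B → ∃ g : G, B = A.map (MulAut.conj g).toMonoidHom) (M : Subgroup G) [M.Normal] :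
    (∀ a : G, (∃ m ∈ M, orderOf m = orderOf a) → a ∈ M) ∧
    ∀ (p t : ℕ) [Fact p.Prime], 2 ≤ t → Nat.card ↥M = p ^ t → Cfsg.IsElementaryAbelian p M → ∀ P : Sylow p G, (P : Subgroup G) = M := by
    classical
  have hcz : ∀ z : G, IsMulCommutative (Subgroup.zpowers z) := by
    intro z
    refine ⟨⟨?_⟩⟩
    rintro ⟨a, ha⟩ ⟨b, hb⟩
    obtain ⟨i, rfl⟩ := Subgroup.mem_zpowers_iff.1 ha
    obtain ⟨j, rfl⟩ := Subgroup.mem_zpowers_iff.1 hb
    ext
    simp only [Subgroup.coe_mul]
    rw [← zpow_add, ← zpow_add, add_comm]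
  have part1 : ∀ a : G, (∃ m ∈ M, orderOf m = orderOf a) → a ∈ M := by
    rintro a ⟨m, hm, hma⟩
    obtain ⟨g, hg⟩ := hB (Subgroup.zpowers m) (Subgroup.zpowers a) (hcz m) (hcz a)
      (by rw [Nat.card_zpowers, Nat.card_zpowers, hma])
    have ha : a ∈ Subgroup.zpowers a := Subgroup.mem_zpowers a
    rw [hg, H18.mem_conj] at ha
    obtain ⟨i, hi⟩ := Subgroup.mem_zpowers_iff.1 ha
    have h1 : g⁻¹ * a * g ∈ M := by
      rw [← hi]; exact M.zpow_mem hm i
    have h2 := ‹M.Normal›.conj_mem _ h1 g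
    simpa [mul_assoc] using h2
  refine ⟨part1, ?_⟩
  intro p t _ ht hM hEA P
  obtain ⟨hcomm, hexp⟩ := hEA
  have hp := (Fact.out : p.Prime)
  have hMp : IsPGroup p M := IsPGroup.of_card hM
  have hMP : M ≤ (P : Subgroup G) := hMp.le_sylow_of_normal P
  refine le_antisymm ?_ hMP
  intro x hxP
  by_contra hxM
  obtain ⟨k, hk⟩ : ∃ k, orderOf x = p ^ k := by
    have := (IsPGroup.iff_orderOf.1 P.2) ⟨x, hxP⟩
    simpa using this
  -- `M` contains an element of order `p`
  have hord : ∃ m ∈ M, orderOf m = p := by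
    have h1 : p ∣ Nat.card M := by
      rw [hM]; exact dvd_pow_self p (by omega)
    obtain ⟨m, hm⟩ := exists_prime_orderOf_dvd_card' p h1
    exact ⟨m.1, m.2, by simpa using hm⟩
  have hk2 : 2 ≤ k := by
    by_contra hlt
    have : k = 0 ∨ k = 1 := by omega
    rcases this with rfl | rfl
    · rw [pow_zero, orderOf_eq_one_iff] at hk
      exact hxM (hk ▸ M.one_mem)
    · obtain ⟨m, hm, hmo⟩ := hord
      exact hxM (part1 x ⟨m, hm, by rw [hmo, hk, pow_one]⟩)
  obtain ⟨l, rfl⟩ : ∃ l, k = l + 2 := ⟨k - 2, by omega⟩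
  -- an element of order `p²`
  set y := x ^ (p ^ l) with hy
  have hyord : orderOf y = p ^ 2 := by
    have hpl : 0 < p ^ l := pow_pos hp.pos l
    rw [hy, orderOf_pow' x hpl.ne', hk, pow_add, Nat.gcd_eq_right (Dvd.intro _ rfl),
      Nat.mul_div_cancel_left _ hpl]
  -- a subgroup of order `p²` in `M`
  obtain ⟨E', hE'⟩ := Sylow.exists_subgroup_card_pow_prime (G := M) p (n := 2) (by
    rw [hM]; exact pow_dvd_pow p ht)
  set E := E'.map M.subtype with hE
  have hEcard : Nat.card E = p ^ 2 := by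
    rw [hE, ← hE']
    exact Nat.card_congr (E'.equivMapOfInjective _ M.subtype_injective).toEquiv.symm
  have hEM : E ≤ M := by
    rintro _ ⟨z, _, rfl⟩
    exact z.2
  have hEc : IsMulCommutative E := by
    refine ⟨⟨?_⟩⟩
    rintro ⟨a, ha⟩ ⟨b, hb⟩
    ext
    have := hcomm.is_comm.comm ⟨a, hEM ha⟩ ⟨b, hEM hb⟩
    simpa using congrArg Subtype.val this
  obtain ⟨g, hg⟩ := hB E (Subgroup.zpowers y) hEc (hcz y) (by rw [hEcard, Nat.card_zpowers, hyord])
  have hyy : y ∈ Subgroup.zpowers y := Subgroup.mem_zpowers y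
  rw [hg, H18.mem_conj] at hyy
  have h1 := hEM hyy
  have h2 := ‹M.Normal›.conj_mem _ h1 g
  have h3 : y ∈ M := by simpa [mul_assoc] using h2
  have h4 : y ^ p = 1 := hexp y h3
  have h5 : orderOf y ∣ p := orderOf_dvd_of_pow_eq_one h4
  rw [hyord] at h5
  have h6 := Nat.le_of_dvd hp.pos h5
  have h7 : p * 1 < p * p := Nat.mul_lt_mul_of_pos_left hp.one_lt hp.pos
  rw [pow_two] at h6
  omega

end Cfsg.Agent.S3909
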