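import Cfsg.Statements.S4022
import Mathlib
import Cfsg.Agent.Lib.H01.Hall
import Cfsg.Agent.Lib.H01.Solv
import Cfsg.Agent.Lib.H06.Meta
import Cfsg.Agent.Lib.H18.AbConj2
-- import your own Cfsg.Agent.* helpers here

set_option autoImplicit false
open Cfsg

namespace Cfsg.Agent.S4022


universe u

section aux

variable {G : Type u} [Group G]

abbrev cj (g : G) (H : Subgroup G) : Subgroup G := H.map (MulAut.conj g).toMonoidHom

lemma mem_cj {g x : G} {H : Subgroup G} : x ∈ cj g H ↔ g⁻¹ * x * g ∈ H := by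
  constructor
  · rintro ⟨y, hy, rfl⟩
    have : g⁻¹ * (MulAut.conj g).toMonoidHom y * g = y := by
      simp [MulAut.conj_apply, mul_assoc]
    rw [this]; exact hy
  · intro h
    refine ⟨_, h, ?_⟩
    simp [MulAut.conj_apply, mul_assoc]

lemma cj_mul (g h : G) (H : Subgroup G) : cj (g * h) H = cj g (cj h H) := by
  ext x
  simp only [mem_cj]
  have : (g * h)⁻¹ * x * (g * h) = h⁻¹ * (g⁻¹ * x * g) * h := by group
  rw [this]

lemma card_cj (g : G) (H : Subgroup G) : Nat.card (cj g H) = Nat.card H :=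
  Subgroup.card_map_of_injective (MulAut.conj g).injective

lemma cj_one (H : Subgroup G) : cj 1 H = H := by
  ext x; simp [mem_cj]

lemma cj_le {H K : Subgroup G} (h : H ≤ K) (g : G) : cj g H ≤ cj g K := Subgroup.map_mono h

lemma cj_normal (N : Subgroup G) [hN : N.Normal] (g : G) : cj g N = N := by
  ext x
  rw [mem_cj]
  constructor
  · intro h
    have := hN.conj_mem _ h g
    have e : g * (g⁻¹ * x * g) * g⁻¹ = x := by group
    rwa [e] at this
  · intro h
    have := hN.conj_mem _ h g⁻¹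
    simpa using this

lemma cj_inf (g : G) (A B : Subgroup G) : cj g (A ⊓ B) = cj g A ⊓ cj g B := by
  ext x; simp only [mem_cj, Subgroup.mem_inf]

lemma cj_sup (g : G) (A B : Subgroup G) : cj g (A ⊔ B) = cj g A ⊔ cj g B := Subgroup.map_sup _ _ _

lemma cj_self_of_mem_normalizer {g : G} {D : Subgroup G} (hg : g ∈ Subgroup.normalizer (D : Set G)) :
    cj g D = D := by
  ext x
  rw [mem_cj]
  have := Subgroup.mem_normalizer_iff.1 hg (g⁻¹ * x * g)
  have e : g * (g⁻¹ * x * g) * g⁻¹ = x := by group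
  rw [e] at this
  exact this

lemma cj_le_normalizer {C D : Subgroup G} (h : C ≤ Subgroup.normalizer (D : Set G)) (g : G) :
    cj g C ≤ Subgroup.normalizer ((cj g D : Subgroup G) : Set G) := by
  intro x hx
  rw [mem_cj] at hx
  rw [Subgroup.mem_normalizer_iff]
  intro y
  have := Subgroup.mem_normalizer_iff.1 (h hx) (g⁻¹ * y * g)
  simp only [SetLike.mem_coe, mem_cj] at this ⊢
  have e : g⁻¹ * (x * y * x⁻¹) * g = g⁻¹ * x * g * (g⁻¹ * y * g) * (g⁻¹ * x * g)⁻¹ := by group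
  rw [e]
  exact this

lemma le_normalizer_inf (H N : Subgroup G) [hN : N.Normal] :
    H ≤ Subgroup.normalizer ((H ⊓ N : Subgroup G) : Set G) := by
  intro h hh
  rw [Subgroup.mem_normalizer_iff]
  intro x
  simp only [SetLike.mem_coe, Subgroup.mem_inf]
  constructor
  · rintro ⟨h1, h2⟩
    exact ⟨H.mul_mem (H.mul_mem hh h1) (H.inv_mem hh), hN.conj_mem _ h2 h⟩
  · rintro ⟨h1, h2⟩
    have e : x = h⁻¹ * (h * x * h⁻¹) * h := by group
    refine ⟨?_, ?_⟩
    · rw [e]; exact H.mul_mem (H.mul_mem (H.inv_mem hh) h1) hh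
    · have := hN.conj_mem _ h2 h⁻¹
      rw [inv_inv] at this
      rw [e]; exact this

lemma le_normalizer_of_le_comm {D N : Subgroup G} (hD : D ≤ N) (hc : IsMulCommutative N) :
    N ≤ Subgroup.normalizer (D : Set G) := by
  intro n hn
  rw [Subgroup.mem_normalizer_iff]
  have hcomm : ∀ a ∈ N, ∀ b ∈ N, a * b = b * a := by
    intro a ha b hb
    have := mul_comm' (⟨a, ha⟩ : N) (⟨b, hb⟩ : N)
    exact congrArg Subtype.val this
  intro x
  constructor
  · intro h
    rw [hcomm n hn x (hD h)]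
    simpa using h
  · intro h
    have hx : x ∈ N := by
      have h1 := hD h
      have e : x = n⁻¹ * (n * x * n⁻¹) * n := by group
      rw [e]
      exact N.mul_mem (N.mul_mem (N.inv_mem hn) h1) hn
    rw [hcomm n hn x hx] at h
    simpa using h

lemma map_cj {Q : Type u} [Group Q] (f : G →* Q) (g : G) (A : Subgroup G) :
    (cj g A).map f = cj (f g) (A.map f) := by
  ext x
  constructor
  · rintro ⟨y, hy, rfl⟩
    rw [SetLike.mem_coe, mem_cj] at hy
    rw [mem_cj]
    refine ⟨g⁻¹ * y * g, hy, ?_⟩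
    simp [map_mul, map_inv]
  · intro hx
    rw [mem_cj] at hx
    obtain ⟨y, hy, e⟩ := hx
    refine ⟨g * y * g⁻¹, ?_, ?_⟩
    · rw [SetLike.mem_coe, mem_cj]
      have e2 : g⁻¹ * (g * y * g⁻¹) * g = y := by group
      rw [e2]; exact hy
    · simp only [map_mul, map_inv] at e ⊢
      rw [e]
      group

end aux

section fin

variable {G : Type u} [Group G] [Finite G]

lemma card_map_mk_mul (H N : Subgroup G) [N.Normal] :
    Nat.card (H.map (QuotientGroup.mk' N)) * Nat.card (H ⊓ N : Subgroup G) = Nat.card H := by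
  let f : H →* G ⧸ N := (QuotientGroup.mk' N).comp H.subtype
  have h1 : f.range = H.map (QuotientGroup.mk' N) := by
    rw [MonoidHom.range_comp, Subgroup.range_subtype]
  have h2 : f.ker = N.subgroupOf H := by
    ext x
    simp [f, MonoidHom.mem_ker, Subgroup.mem_subgroupOf, QuotientGroup.eq_one_iff]
  have h3 : Nat.card (N.subgroupOf H) = Nat.card (H ⊓ N : Subgroup G) := by
    have : (N.subgroupOf H).map H.subtype = H ⊓ N := by
      rw [Subgroup.subgroupOf_map_subtype, inf_comm]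
    rw [← this]
    exact (Subgroup.card_map_of_injective H.subtype_injective).symm
  have h4 := Subgroup.card_mul_index f.ker
  rw [Subgroup.index_ker, h1, h2, h3] at h4
  rw [mul_comm]
  exact h4

lemma exists_T {s : ℕ} [Fact s.Prime] (H N : Subgroup G) (hN : IsPGroup s N) :
    ∃ T : Subgroup G, T ≤ H ∧ H ⊓ N ≤ T ∧ IsPGroup s T ∧
      Nat.card T = s ^ (Nat.card H).factorization s := by
  have hp : IsPGroup s ((H ⊓ N : Subgroup G).subgroupOf H) := by
    have h1 : IsPGroup s (H ⊓ N : Subgroup G) := hN.to_le inf_le_right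
    exact h1.of_injective (Subgroup.subgroupOfEquivOfLe (inf_le_left : H ⊓ N ≤ H)).toMonoidHom
      (Subgroup.subgroupOfEquivOfLe (inf_le_left : H ⊓ N ≤ H)).injective
  obtain ⟨Q, hQ⟩ := hp.exists_le_sylow
  refine ⟨(Q : Subgroup H).map H.subtype, ?_, ?_, Q.2.map _, ?_⟩
  · rintro _ ⟨x, -, rfl⟩
    exact x.2
  · intro x hx
    refine ⟨⟨x, hx.1⟩, ?_, rfl⟩
    exact hQ (Subgroup.mem_subgroupOf.2 hx)
  · rw [Subgroup.card_map_of_injective H.subtype_injective]
    exact Sylow.card_eq_multiplicity Q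

lemma exists_between {s : ℕ} [hs : Fact s.Prime] {P D : Subgroup G} (hP : IsPGroup s P) (hDP : D ≤ P) (hne : D ≠ P) :
    ∃ U : Subgroup G, D ≤ U ∧ U ≤ P ∧ Nat.card U = s * Nat.card D := by
  have hD' : IsPGroup s (D.subgroupOf P) := by
    exact (hP.to_le hDP).of_injective (Subgroup.subgroupOfEquivOfLe hDP).toMonoidHom
      (Subgroup.subgroupOfEquivOfLe hDP).injective
  obtain ⟨a, ha⟩ := IsPGroup.iff_card.1 hD'
  obtain ⟨b, hb⟩ := IsPGroup.iff_card.1 hP
  have hcD : Nat.card (D.subgroupOf P) = Nat.card D :=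
    Nat.card_congr (Subgroup.subgroupOfEquivOfLe hDP).toEquiv
  have hlt : Nat.card D < Nat.card P := by
    apply lt_of_le_of_ne (Subgroup.card_le_of_le hDP)
    intro h
    exact hne (Subgroup.eq_of_le_of_card_ge hDP h.ge)
  have hab : a < b := by
    rw [← hcD, ha, hb] at hlt
    exact (Nat.pow_lt_pow_iff_right hs.out.one_lt).1 hlt
  have hdvd : s ^ (a + 1) ∣ Nat.card P := by
    rw [hb]
    exact pow_dvd_pow _ hab
  obtain ⟨K, hK, hDK⟩ := Sylow.exists_subgroup_card_pow_succ hdvd ha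
  refine ⟨K.map P.subtype, ?_, ?_, ?_⟩
  · intro x hx
    exact ⟨⟨x, hDP hx⟩, hDK (by simpa [Subgroup.mem_subgroupOf] using hx), rfl⟩
  · rintro _ ⟨x, -, rfl⟩
    exact x.2
  · rw [Subgroup.card_map_of_injective P.subtype_injective, hK, ← hcD, ha, pow_succ, mul_comm]

lemma sup_eq_of_coprime {D C H : Subgroup G} (hD : D ≤ H) (hC : C ≤ H)
    (hcop : (Nat.card D).Coprime (Nat.card C)) (hc : Nat.card D * Nat.card C = Nat.card H) : D ⊔ C = H := by
  apply Subgroup.eq_of_le_of_card_ge (sup_le hD hC)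
  have h1 : Nat.card D ∣ Nat.card (D ⊔ C : Subgroup G) := Subgroup.card_dvd_of_le le_sup_left
  have h2 : Nat.card C ∣ Nat.card (D ⊔ C : Subgroup G) := Subgroup.card_dvd_of_le le_sup_right
  have h3 := Nat.Coprime.mul_dvd_of_dvd_of_dvd hcop h1 h2
  rw [hc] at h3
  exact Nat.le_of_dvd Nat.card_pos h3

lemma exists_compl [Group.IsSolvable G] (H : Subgroup G) (m n : ℕ) (hH : Nat.card H = m * n) (hc : m.Coprime n) :
    ∃ C : Subgroup G, C ≤ H ∧ Nat.card C = m := by
  obtain ⟨C, hC, -⟩ := Cfsg.Agent.H01.hall_containment _ H rfl m n hH hc ⊥ (by simp)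
  refine ⟨C.map H.subtype, ?_, ?_⟩
  · rintro _ ⟨x, -, rfl⟩
    exact x.2
  · rw [Subgroup.card_map_of_injective H.subtype_injective, hC]

lemma eq_cj_of_subgroupOf {J X Y : Subgroup G} (hX : X ≤ J) (hY : Y ≤ J) (j : J)
    (h : Y.subgroupOf J = cj j (X.subgroupOf J)) (hc : Nat.card Y = Nat.card X) :
    Y = cj (j : G) X := by
  apply Subgroup.eq_of_le_of_card_ge
  · intro x hx
    have h1 : (⟨x, hY hx⟩ : J) ∈ Y.subgroupOf J := by
      simpa [Subgroup.mem_subgroupOf] using hx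
    rw [h, mem_cj, Subgroup.mem_subgroupOf] at h1
    rw [mem_cj]
    simpa using h1
  · rw [card_cj, hc]

/-- Hall subgroups in a subgroup. -/
lemma exists_hall_pair [Group.IsSolvable G] (M : Subgroup G) {s : ℕ} (hs : s.Prime) (A B : Subgroup G) (hA : A ≤ M)
    (hB : B ≤ M) (hAc : (Nat.card A).Coprime s) (hBc : (Nat.card B).Coprime s) :
    ∃ J : Subgroup G, J ≤ M ∧ ∃ μ ∈ M, A ≤ J ∧ cj μ B ≤ J ∧ (Nat.card J).Coprime s := by
  classical
  have hM0 : Nat.card M ≠ 0 := Nat.card_pos.ne'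
  have hMf : Nat.card M / s ^ (Nat.card M).factorization s * s ^ (Nat.card M).factorization s = Nat.card M := by
    rw [mul_comm]
    exact Nat.ordProj_mul_ordCompl_eq_self _ _
  have hcop : (Nat.card M / s ^ (Nat.card M).factorization s).Coprime s := (Nat.coprime_ordCompl hs hM0).symm
  have hcop' : (Nat.card M / s ^ (Nat.card M).factorization s).Coprime (s ^ (Nat.card M).factorization s) :=
    Nat.Coprime.pow_right _ hcop
  have hcA : Nat.card (A.subgroupOf M) = Nat.card A :=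
    Nat.card_congr (Subgroup.subgroupOfEquivOfLe hA).toEquiv
  have hcB : Nat.card (B.subgroupOf M) = Nat.card B :=
    Nat.card_congr (Subgroup.subgroupOfEquivOfLe hB).toEquiv
  obtain ⟨J₁, hJ₁, hAJ⟩ := Cfsg.Agent.H01.hall_containment _ M rfl _ _ hMf.symm hcop' (A.subgroupOf M)
    (by rw [hcA]; exact Nat.Coprime.pow_right _ hAc)
  obtain ⟨J₂, hJ₂, hBJ⟩ := Cfsg.Agent.H01.hall_containment _ M rfl _ _ hMf.symm hcop' (B.subgroupOf M)
    (by rw [hcB]; exact Nat.Coprime.pow_right _ hBc)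
  obtain ⟨μ, hμ⟩ := Cfsg.Agent.H01.hall_conj _ M rfl _ _ hMf.symm hcop' J₂ J₁ hJ₂ hJ₁
  refine ⟨J₁.map M.subtype, ?_, (μ : G), μ.2, ?_, ?_, ?_⟩
  · rintro _ ⟨x, -, rfl⟩
    exact x.2
  · intro x hx
    exact ⟨⟨x, hA hx⟩, hAJ (by simpa [Subgroup.mem_subgroupOf] using hx), rfl⟩
  · intro x hx
    rw [mem_cj] at hx
    have hxB : (μ : G)⁻¹ * x * μ ∈ B := hx
    have hxM : (μ : G)⁻¹ * x * μ ∈ M := hB hxB
    have h1 : (⟨(μ : G)⁻¹ * x * μ, hxM⟩ : M) ∈ J₂ := hBJ (by simpa [Subgroup.mem_subgroupOf] using hxB)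
    have h2 : μ * ⟨(μ : G)⁻¹ * x * μ, hxM⟩ * μ⁻¹ ∈ J₁ := by
      rw [← hμ]
      exact Subgroup.mem_map_of_mem _ h1
    refine ⟨_, h2, ?_⟩
    simp [mul_assoc]
  · rw [Subgroup.card_map_of_injective M.subtype_injective, hJ₁]
    exact hcop

end fin

section main

variable {G : Type u} [Group G] [Finite G]

lemma card_inf_eq {s : ℕ} [hs : Fact s.Prime]
    (hD : ∀ H K : Subgroup G, IsPGroup s H → IsPGroup s K → Nat.card H = Nat.card K → ∃ g : G, K = cj g H)
    (N : Subgroup G) [N.Normal] (hN : IsPGroup s N) (H K : Subgroup G) (hc : Nat.card H = Nat.card K) :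
    Nat.card (H ⊓ N : Subgroup G) = Nat.card (K ⊓ N : Subgroup G) := by
  obtain ⟨T₁, h1, h2, h3, h4⟩ := exists_T H N hN
  obtain ⟨T₂, k1, k2, k3, k4⟩ := exists_T K N hN
  obtain ⟨g, hg⟩ := hD T₁ T₂ h3 k3 (by rw [h4, k4, hc])
  have e1 : H ⊓ N = T₁ ⊓ N := le_antisymm (le_inf h2 inf_le_right) (inf_le_inf_right _ h1)
  have e2 : K ⊓ N = T₂ ⊓ N := le_antisymm (le_inf k2 inf_le_right) (inf_le_inf_right _ k1)
  have e3 : T₂ ⊓ N = cj g (T₁ ⊓ N) := by rw [cj_inf, cj_normal N g, hg]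
  rw [e1, e2, e3, card_cj]

theorem final_step [Group.IsSolvable G]
    (IH : ∀ (J : Type u) [Group J] [Finite J] [Group.IsSolvable J], Nat.card J < Nat.card G →
      (∀ p : ℕ, p.Prime → ∀ H K : Subgroup J, IsPGroup p H → IsPGroup p K → Nat.card H = Nat.card K → ∃ g : J, K = cj g H) →
      ∀ r : ℕ, (∀ p : ℕ, p.Prime → p ≠ r → ∀ P : Sylow p J, IsCyclic P) →
      ∀ H K : Subgroup J, Nat.card H = Nat.card K → ∃ g : J, K = cj g H)
    (hD : ∀ p : ℕ, p.Prime → ∀ H K : Subgroup G, IsPGroup p H → IsPGroup p K → Nat.card H = Nat.card K → ∃ g : G, K = cj g H)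
    (r : ℕ) (hcyc : ∀ p : ℕ, p.Prime → p ≠ r → ∀ P : Sylow p G, IsCyclic P)
    (N : Subgroup G) [hNn : N.Normal] {s : ℕ} (hs : s.Prime) (hN1 : N ≠ ⊥) (hab : IsMulCommutative N) (hNs : IsPGroup s N)
    (H K : Subgroup G) (hc : Nat.card H = Nat.card K) (hsup : H ⊔ N = K ⊔ N) : ∃ g : G, K = cj g H := by
  classical
  haveI : Fact s.Prime := ⟨hs⟩
  have hinf := card_inf_eq (hD s hs) N hNs H K hc
  obtain ⟨T₁, h1, h2, h3, h4⟩ := exists_T H N hNs
  obtain ⟨T₂, k1, k2, k3, k4⟩ := exists_T K N hNs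
  have e1 : T₁ ⊓ N = H ⊓ N := le_antisymm (inf_le_inf_right _ h1) (le_inf h2 inf_le_right)
  have hdich : H ⊓ N = N ∨ T₁ ≤ N := by
    by_contra hcon
    push_neg at hcon
    obtain ⟨hne1, hne2⟩ := hcon
    obtain ⟨U₂, -, hU₂, hcU₂⟩ := exists_between hNs (inf_le_right : H ⊓ N ≤ N) hne1
    have hne3 : H ⊓ N ≠ T₁ := by
      intro he
      apply hne2
      rw [← he]; exact inf_le_right
    obtain ⟨U₁, -, hU₁, hcU₁⟩ := exists_between h3 h2 hne3
    obtain ⟨g, hg⟩ := hD s hs U₂ U₁ (hNs.to_le hU₂) (h3.to_le hU₁) (by rw [hcU₁, hcU₂])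
    have hU₁N : U₁ ≤ N := by
      have h5 : cj g U₂ ≤ cj g N := cj_le hU₂ g
      rw [cj_normal N g] at h5
      rw [hg]
      exact h5
    have hle : U₁ ≤ H ⊓ N := by
      rw [← e1]; exact le_inf hU₁ hU₁N
    have h6 := Subgroup.card_le_of_le hle
    rw [hcU₁] at h6
    have hpos : 0 < Nat.card (H ⊓ N : Subgroup G) := Nat.card_pos
    have := hs.two_le
    nlinarith
  rcases hdich with hN | hT
  · have hNH : N ≤ H := inf_eq_right.1 hN
    have hcN : Nat.card (K ⊓ N : Subgroup G) = Nat.card N := by rw [← hinf, hN]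
    have hKN : K ⊓ N = N := Subgroup.eq_of_le_of_card_ge inf_le_right hcN.ge
    have hNK : N ≤ K := inf_eq_right.1 hKN
    have e : H = K :=
      calc H = H ⊔ N := (sup_eq_left.2 hNH).symm
        _ = K ⊔ N := hsup
        _ = K := sup_eq_left.2 hNK
    exact ⟨1, by rw [cj_one, e]⟩
  · have hT1 : T₁ = H ⊓ N := le_antisymm (le_inf h1 hT) h2
    have hT2 : T₂ = K ⊓ N := by
      apply (Subgroup.eq_of_le_of_card_ge k2 ?_).symm
      rw [k4, ← hc, ← h4, hT1, hinf]
    have hH0 : Nat.card H ≠ 0 := Nat.card_pos.ne'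
    obtain ⟨a, m, hHm, hmc, hD1c⟩ : ∃ a m : ℕ, Nat.card H = m * s ^ a ∧ m.Coprime s ∧
        Nat.card (H ⊓ N : Subgroup G) = s ^ a := by
      refine ⟨(Nat.card H).factorization s, Nat.card H / s ^ (Nat.card H).factorization s, ?_, ?_, ?_⟩
      · rw [mul_comm]
        exact (Nat.ordProj_mul_ordCompl_eq_self _ _).symm
      · exact (Nat.coprime_ordCompl hs hH0).symm
      · rw [← hT1, h4]
    have hma : m.Coprime (s ^ a) := Nat.Coprime.pow_right _ hmc
    have hD2c : Nat.card (K ⊓ N : Subgroup G) = s ^ a := by rw [← hinf, hD1c]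
    obtain ⟨C₁, hC₁, hC₁c⟩ := exists_compl H m (s ^ a) hHm hma
    obtain ⟨C₂, hC₂, hC₂c⟩ := exists_compl K m (s ^ a) (by rw [← hc]; exact hHm) hma
    have hH1 : (H ⊓ N) ⊔ C₁ = H := sup_eq_of_coprime inf_le_left hC₁
      (by rw [hD1c, hC₁c]; exact hma.symm) (by rw [hD1c, hC₁c, hHm, mul_comm])
    have hK2 : (K ⊓ N) ⊔ C₂ = K := sup_eq_of_coprime inf_le_left hC₂
      (by rw [hD2c, hC₂c]; exact hma.symm) (by rw [hD2c, hC₂c, ← hc, hHm, mul_comm])
    have hcH : Nat.card (H.map (QuotientGroup.mk' N)) = m := by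
      have h5 := card_map_mk_mul H N
      rw [hD1c, hHm] at h5
      exact Nat.eq_of_mul_eq_mul_right (pow_pos hs.pos _) h5
    have hL : Nat.card (H ⊔ N : Subgroup G) = m * Nat.card N := by
      have e : (H.map (QuotientGroup.mk' N)).comap (QuotientGroup.mk' N) = H ⊔ N := by
        rw [Subgroup.comap_map_eq, QuotientGroup.ker_mk']
      rw [← e, Cfsg.Agent.H01.card_comap_mk, hcH]
    have hmN : m.Coprime (Nat.card N) := by
      obtain ⟨b, hb⟩ := IsPGroup.iff_card.1 hNs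
      rw [hb]
      exact Nat.Coprime.pow_right _ hmc
    have hC₁L : C₁ ≤ H ⊔ N := hC₁.trans le_sup_left
    have hC₂L : C₂ ≤ H ⊔ N := by
      rw [hsup]
      exact hC₂.trans le_sup_left
    have hc1 : Nat.card (C₁.subgroupOf (H ⊔ N)) = m := by
      rw [← hC₁c]
      exact Nat.card_congr (Subgroup.subgroupOfEquivOfLe hC₁L).toEquiv
    have hc2 : Nat.card (C₂.subgroupOf (H ⊔ N)) = m := by
      rw [← hC₂c]
      exact Nat.card_congr (Subgroup.subgroupOfEquivOfLe hC₂L).toEquiv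
    obtain ⟨ℓ, hℓ⟩ := Cfsg.Agent.H01.hall_conj _ (H ⊔ N : Subgroup G) rfl m (Nat.card N) hL hmN _ _ hc1 hc2
    have hℓ' : C₂ = cj (ℓ : G) C₁ :=
      eq_cj_of_subgroupOf hC₁L hC₂L ℓ hℓ.symm (by rw [hC₁c, hC₂c])
    have hℓN : (ℓ : G) ∈ Subgroup.normalizer ((H ⊓ N : Subgroup G) : Set G) := by
      have h5 : H ⊔ N ≤ Subgroup.normalizer ((H ⊓ N : Subgroup G) : Set G) :=
        sup_le (le_normalizer_inf H N) (le_normalizer_of_le_comm inf_le_right hab)
      exact h5 ℓ.2
    have hℓD : cj (ℓ : G) (H ⊓ N) = H ⊓ N := cj_self_of_mem_normalizer hℓN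
    by_cases hDD : H ⊓ N = K ⊓ N
    · refine ⟨ℓ, ?_⟩
      calc K = (K ⊓ N) ⊔ C₂ := hK2.symm
        _ = cj (ℓ : G) (H ⊓ N) ⊔ cj (ℓ : G) C₁ := by rw [hℓD, ← hDD, ← hℓ']
        _ = cj (ℓ : G) ((H ⊓ N) ⊔ C₁) := (cj_sup _ _ _).symm
        _ = cj (ℓ : G) H := by rw [hH1]
    · have hsr : s = r := by
        by_contra hne
        obtain ⟨P, hP⟩ := hNs.exists_le_sylow
        have hPc := hcyc s hs hne P
        exact hDD (Cfsg.Agent.H06.eq_of_card_eq_of_le_cyclic hPc ((inf_le_right).trans hP)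
          ((inf_le_right).trans hP) hinf)
      subst hsr
      obtain ⟨g, hg⟩ := hD s hs (H ⊓ N) (K ⊓ N) (hNs.to_le inf_le_right) (hNs.to_le inf_le_right) hinf
      have hC₂M : C₂ ≤ Subgroup.normalizer ((K ⊓ N : Subgroup G) : Set G) := hC₂.trans (le_normalizer_inf K N)
      have hC₁M : cj g C₁ ≤ Subgroup.normalizer ((K ⊓ N : Subgroup G) : Set G) := by
        have h5 := cj_le_normalizer (hC₁.trans (le_normalizer_inf H N)) g
        rwa [← hg] at h5
      have hcC₁ : Nat.card (cj g C₁) = m := by rw [card_cj, hC₁c]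
      obtain ⟨J, hJM, μ, hμ, hC₂J, hJ1, hJc⟩ := exists_hall_pair _ hs C₂ (cj g C₁) hC₂M hC₁M
        (by rw [hC₂c]; exact hmc) (by rw [hcC₁]; exact hmc)
      have hsG : s ∣ Nat.card G := by
        have h5 : Nat.card N ≠ 1 := fun h => hN1 (Subgroup.eq_bot_of_card_eq N h)
        obtain ⟨b, hb⟩ := IsPGroup.iff_card.1 hNs
        have hb0 : b ≠ 0 := by
          rintro rfl
          exact h5 (by rw [hb, pow_zero])
        exact (dvd_pow_self s hb0).trans (hb ▸ Subgroup.card_subgroup_dvd_card N)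
      have hJlt : Nat.card J < Nat.card G := by
        apply lt_of_le_of_ne (Subgroup.card_le_card_group J)
        intro h
        rw [h] at hJc
        exact hs.one_lt.ne' (Nat.Coprime.eq_one_of_dvd hJc.symm hsG)
      have hcycJ : ∀ p : ℕ, p.Prime → ∀ P : Subgroup J, IsPGroup p P → IsCyclic P := by
        intro p hp P hP
        haveI : Fact p.Prime := ⟨hp⟩
        by_cases hps : p = s
        · subst hps
          obtain ⟨k, hk⟩ := IsPGroup.iff_card.1 hP
          have hk0 : k = 0 := by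
            by_contra hk0
            have h5 : p ∣ Nat.card J := (dvd_pow_self p hk0).trans (hk ▸ Subgroup.card_subgroup_dvd_card P)
            exact hp.one_lt.ne' (Nat.Coprime.eq_one_of_dvd hJc.symm h5)
          have h6 : Nat.card P = 1 := by rw [hk, hk0, pow_zero]
          haveI : Subsingleton P := (Nat.card_eq_one_iff_unique.1 h6).1
          exact isCyclic_of_subsingleton
        · have hP' : IsPGroup p (P.map J.subtype) := hP.map _
          obtain ⟨Q, hQ⟩ := hP'.exists_le_sylow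
          haveI hQc := hcyc p hp hps Q
          let f : P →* Q :=
            { toFun := fun x => ⟨((x : J) : G), hQ ⟨(x : J), x.2, rfl⟩⟩
              map_one' := rfl
              map_mul' := fun _ _ => rfl }
          refine isCyclic_of_injective f ?_
          intro x y hxy
          have h7 : ((f x : Q) : G) = ((f y : Q) : G) := by rw [hxy]
          exact Subtype.ext (Subtype.ext h7)
      have hDJ : ∀ p : ℕ, p.Prime → ∀ H' K' : Subgroup J, IsPGroup p H' → IsPGroup p K' →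
          Nat.card H' = Nat.card K' → ∃ g : J, K' = cj g H' := by
        intro p hp H' K' hH' hK' hcc
        haveI : Fact p.Prime := ⟨hp⟩
        obtain ⟨P₁, hP₁⟩ := hH'.exists_le_sylow
        obtain ⟨P₂, hP₂⟩ := hK'.exists_le_sylow
        obtain ⟨x, hx⟩ := MulAction.exists_smul_eq J P₁ P₂
        have hPc := hcycJ p hp P₂ P₂.2
        refine ⟨x, ?_⟩
        have h5 : cj x H' ≤ P₂ := by
          rw [← hx]
          exact cj_le hP₁ x
        exact (Cfsg.Agent.H06.eq_of_card_eq_of_le_cyclic hPc h5 hP₂ (by rw [card_cj, hcc])).symm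
      have hcJ : ∀ p : ℕ, p.Prime → p ≠ s → ∀ P : Sylow p J, IsCyclic P :=
        fun p hp _ P => hcycJ p hp P P.2
      have hc3 : Nat.card ((cj μ (cj g C₁)).subgroupOf J) = m := by
        rw [← hcC₁, ← card_cj μ (cj g C₁)]
        exact Nat.card_congr (Subgroup.subgroupOfEquivOfLe hJ1).toEquiv
      have hc4 : Nat.card (C₂.subgroupOf J) = m := by
        rw [← hC₂c]
        exact Nat.card_congr (Subgroup.subgroupOfEquivOfLe hC₂J).toEquiv
      obtain ⟨j, hj⟩ := IH J hJlt hDJ s hcJ _ _ (hc3.trans hc4.symm)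
      have hj' : C₂ = cj (j : G) (cj μ (cj g C₁)) :=
        eq_cj_of_subgroupOf hJ1 hC₂J j hj (by rw [card_cj, card_cj, hC₁c, hC₂c])
      have hjN : cj (j : G) (K ⊓ N) = K ⊓ N := cj_self_of_mem_normalizer (hJM j.2)
      have hμN : cj μ (K ⊓ N) = K ⊓ N := cj_self_of_mem_normalizer hμ
      refine ⟨j * (μ * g), ?_⟩
      calc K = (K ⊓ N) ⊔ C₂ := hK2.symm
        _ = cj ((j : G) * (μ * g)) (H ⊓ N) ⊔ cj ((j : G) * (μ * g)) C₁ := by
            rw [cj_mul, cj_mul, cj_mul, cj_mul, ← hg, hμN, hjN, ← hj']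
        _ = cj ((j : G) * (μ * g)) ((H ⊓ N) ⊔ C₁) := (cj_sup _ _ _).symm
        _ = cj ((j : G) * (μ * g)) H := by rw [hH1]

lemma lift_p {p s : ℕ} [hp : Fact p.Prime] [hs : Fact s.Prime] (N : Subgroup G) [N.Normal] (hNs : IsPGroup s N)
    (A : Subgroup (G ⧸ N)) (hA : IsPGroup p A) :
    ∃ A₀ : Subgroup G, IsPGroup p A₀ ∧ A₀.map (QuotientGroup.mk' N) = A ∧
      Nat.card A₀ = (if p = s then Nat.card A * Nat.card N else Nat.card A) := by
  obtain ⟨a, ha⟩ := IsPGroup.iff_card.1 hA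
  by_cases hps : p = s
  · subst hps
    refine ⟨A.comap (QuotientGroup.mk' N), ?_, Subgroup.map_comap_eq_self_of_surjective (QuotientGroup.mk'_surjective N) A, ?_⟩
    · obtain ⟨b, hb⟩ := IsPGroup.iff_card.1 hNs
      exact IsPGroup.of_card (n := a + b) (by rw [Cfsg.Agent.H01.card_comap_mk, ha, hb, pow_add])
    · rw [if_pos rfl, Cfsg.Agent.H01.card_comap_mk]
  · let X := A.comap (QuotientGroup.mk' N)
    have hdvd : p ^ a ∣ Nat.card X := by
      have : Nat.card X = Nat.card A * Nat.card N := Cfsg.Agent.H01.card_comap_mk N A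
      rw [this, ha]
      exact Dvd.intro _ rfl
    obtain ⟨K, hK⟩ := Sylow.exists_subgroup_card_pow_prime p hdvd
    have hK' : Nat.card (K.map X.subtype) = p ^ a := by
      rw [Subgroup.card_map_of_injective X.subtype_injective, hK]
    have hA₀ : IsPGroup p (K.map X.subtype) := IsPGroup.of_card hK'
    have hdis : Disjoint (K.map X.subtype) N := IsPGroup.disjoint_of_ne p s hps _ _ hA₀ hNs
    have hbot : K.map X.subtype ⊓ N = ⊥ := disjoint_iff.1 hdis
    have h1 := card_map_mk_mul (K.map X.subtype) N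
    rw [hbot, Subgroup.card_bot, mul_one, hK'] at h1
    refine ⟨K.map X.subtype, hA₀, ?_, by rw [if_neg hps, hK', ha]⟩
    apply Subgroup.eq_of_le_of_card_ge
    · rintro _ ⟨_, ⟨x, -, rfl⟩, rfl⟩
      exact x.2
    · rw [h1, ha]

theorem main_thm : ∀ (n : ℕ) (G : Type u) [Group G] [Finite G] [Group.IsSolvable G], Nat.card G = n →
    (∀ p : ℕ, p.Prime → ∀ H K : Subgroup G, IsPGroup p H → IsPGroup p K → Nat.card H = Nat.card K → ∃ g : G, K = cj g H) →
    ∀ r : ℕ, (∀ p : ℕ, p.Prime → p ≠ r → ∀ P : Sylow p G, IsCyclic P) →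
    ∀ H K : Subgroup G, Nat.card H = Nat.card K → ∃ g : G, K = cj g H := by
  intro n
  induction n using Nat.strong_induction_on with
  | _ n ih =>
  intro G _ _ _ hn hD r hcyc H K hc
  by_cases hnt : Nontrivial G
  swap
  · rw [not_nontrivial_iff_subsingleton] at hnt
    exact ⟨1, by rw [cj_one]; exact Subsingleton.elim _ _⟩
  obtain ⟨N, s, hNn, hN1, hs, hab, hpow⟩ := Cfsg.Agent.H01.exists_elementary_abelian_normal (G := G)
  haveI := hNn
  haveI : Fact s.Prime := ⟨hs⟩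
  have hNs : IsPGroup s N := fun x => ⟨1, by
    rw [pow_one]
    exact Subtype.ext (hpow x x.2)⟩
  have IH : ∀ (J : Type u) [Group J] [Finite J] [Group.IsSolvable J], Nat.card J < Nat.card G →
      (∀ p : ℕ, p.Prime → ∀ H K : Subgroup J, IsPGroup p H → IsPGroup p K → Nat.card H = Nat.card K → ∃ g : J, K = cj g H) →
      ∀ r : ℕ, (∀ p : ℕ, p.Prime → p ≠ r → ∀ P : Sylow p J, IsCyclic P) →
      ∀ H K : Subgroup J, Nat.card H = Nat.card K → ∃ g : J, K = cj g H :=
    fun J _ _ _ hlt hDJ r' hcJ H' K' hc' => ih _ (hn ▸ hlt) J rfl hDJ r' hcJ H' K' hc'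
  have hNgt : 1 < Nat.card N := by
    have h5 : Nat.card N ≠ 1 := fun h => hN1 (Subgroup.eq_bot_of_card_eq N h)
    have h6 : 0 < Nat.card N := Nat.card_pos
    omega
  have hqlt : Nat.card (G ⧸ N) < Nat.card G := by
    have h := N.card_mul_index
    have h4 : N.index = Nat.card (G ⧸ N) := rfl
    rw [h4] at h
    have h6 : 0 < Nat.card (G ⧸ N) := Nat.card_pos
    nlinarith
  have hDq : ∀ p : ℕ, p.Prime → ∀ A B : Subgroup (G ⧸ N), IsPGroup p A → IsPGroup p B →
      Nat.card A = Nat.card B → ∃ g : G ⧸ N, B = cj g A := by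
    intro p hp A B hA hB hcc
    haveI : Fact p.Prime := ⟨hp⟩
    obtain ⟨A₀, hA₀, hAm, hAc⟩ := lift_p N hNs A hA
    obtain ⟨B₀, hB₀, hBm, hBc⟩ := lift_p N hNs B hB
    obtain ⟨g, hg⟩ := hD p hp A₀ B₀ hA₀ hB₀ (by rw [hAc, hBc, hcc])
    refine ⟨QuotientGroup.mk' N g, ?_⟩
    rw [← hBm, ← hAm, hg, map_cj]
  have hcq : ∀ p : ℕ, p.Prime → p ≠ r → ∀ P : Sylow p (G ⧸ N), IsCyclic P := by
    intro p hp hne P
    haveI : Fact p.Prime := ⟨hp⟩
    obtain ⟨Q, rfl⟩ := Sylow.mapSurjective_surjective (QuotientGroup.mk'_surjective N) p P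
    haveI := hcyc p hp hne Q
    rw [Sylow.coe_mapSurjective]
    exact isCyclic_of_surjective ((QuotientGroup.mk' N).subgroupMap (Q : Subgroup G))
      ((QuotientGroup.mk' N).subgroupMap_surjective _)
  have hinf := card_inf_eq (hD s hs) N hNs H K hc
  have hmapc : Nat.card (H.map (QuotientGroup.mk' N)) = Nat.card (K.map (QuotientGroup.mk' N)) := by
    have h5 := card_map_mk_mul H N
    have h6 := card_map_mk_mul K N
    rw [hc, ← h6, ← hinf] at h5
    exact Nat.eq_of_mul_eq_mul_right Nat.card_pos h5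
  obtain ⟨gb, hgb⟩ := IH (G ⧸ N) hqlt hDq r hcq _ _ hmapc
  obtain ⟨g, rfl⟩ := QuotientGroup.mk'_surjective N gb
  have e : K ⊔ N = cj g H ⊔ N := by
    have h1 : K.map (QuotientGroup.mk' N) = (cj g H).map (QuotientGroup.mk' N) := by rw [hgb, map_cj]
    have h2 := congrArg (Subgroup.comap (QuotientGroup.mk' N)) h1
    rwa [Subgroup.comap_map_eq, Subgroup.comap_map_eq, QuotientGroup.ker_mk'] at h2
  obtain ⟨g₂, hg₂⟩ := final_step IH hD r hcyc N hs hN1 hab hNs (cj g H) K (by rw [card_cj, hc]) e.symm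
  exact ⟨g₂ * g, by rw [cj_mul]; exact hg₂⟩

end main


/-- Let G be a finite solvable group in which, for every prime p, any two p-subgroups of the same order are conjugate, and suppose the Sylow p-subgroups of G are cyclic for all primes p with at most one exception. Then any two subgroups of G of the same order are conjugate. -/
theorem result {G : Type*} [Group G] [Finite G]
    [Group.IsSolvable G] (hD : ∀ p : ℕ, p.Prime → ∀ H K : Subgroup G, IsPGroup p H → IsPGroup p K → Nat.card H = Nat.card K →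
      ∃ g : G, K = H.map (MulAut.conj g).toMonoidHom)
    (r : ℕ) (hcyc : ∀ p : ℕ, p.Prime → p ≠ r → ∀ P : Sylow p G, IsCyclic P) :
    ∀ H K : Subgroup G, Nat.card H = Nat.card K → ∃ g : G, K = H.map (MulAut.conj g).toMonoidHom := by
  exact main_thm _ G rfl hD r hcyc

end Cfsg.Agent.S4022
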