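import Mathlib
import Cfsg.Statements.S1020
import Cfsg.Agent.Lib.H17.Mob6

set_option autoImplicit false
set_option maxRecDepth 100000
set_option linter.style.haveILetI false
open Cfsg

namespace Cfsg.Agent.S1020

open Cfsg.Agent.H17.Mob

def L17 : List (Bool × ℕ) := [(true, 0), (true, 0), (true, 1), (false, 0), (true, 2), (false, 6), (false, 1), (false, 3), (true, 3), (true, 7), (false, 7), (false, 5), (false, 2), (true, 6), (false, 4), (true, 5), (true, 4)]
def R17 : List ℕ := [1, 2, 4, 8, 9, 13, 15, 16]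
theorem log17 : logB 17 2 3 L17 = true := by decide +kernel
theorem chk17 : chkB 17 8 R17 R17 L17 = true := by decide +kernel
theorem roots17 : ∀ l : ZMod 17, l ^ 8 = 1 → l.val ∈ R17 := by decide +kernel

theorem g017 : ((2 : ℕ) : ZMod 17) ≠ 0 := by decide +kernel
theorem g0m17 : ((2 : ℕ) : ZMod 17) ^ 8 = 1 := by decide +kernel
theorem n017 : ((3 : ℕ) : ZMod 17) ≠ 0 := by decide +kernel

theorem main17 {G : Type*} [Group G] [Finite G] [IsSimpleGroup G] (h : Nat.card G = 2448) {F : Type*} [Field F] [Fintype F] (hF : Fintype.card F = 17) : Nonempty (G ≃* Matrix.ProjectiveSpecialLinearGroup (Fin 2) F) := by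
  haveI : Fact (Nat.Prime 17) := ⟨by norm_num⟩
  have hq : Nat.card G = 17 * 144 := by omega
  obtain ⟨h1, h2, h3⟩ := sylow_number (p := 17) (X := G) 144 (by norm_num) hq (by norm_num)
  have hn : Nat.card (Sylow 17 G) = 18 := by
    have hle := Nat.le_of_dvd (by norm_num) h1
    generalize Nat.card (Sylow 17 G) = k at *
    interval_cases k <;> omega
  refine psl_simple_recog hF (by norm_num) 8 (by norm_num) (by norm_num) (by omega) (by rw [h]; norm_num) (by norm_num) (by rw [hn]) 2 3 R17 R17 L17 log17 (by decide +kernel) chk17 g017 g0m17 n017 roots17 (fun _ _ _ _ _ _ c hc _ _ => roots17 c hc)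

theorem result {G : Type*} [Group G] [Finite G] [IsSimpleGroup G] (h : Nat.card G = 2448) {F : Type*} [Field F] [Fintype F] (hF : Fintype.card F = 17) : Nonempty (G ≃* Matrix.ProjectiveSpecialLinearGroup (Fin 2) F) :=
  main17 h hF

end Cfsg.Agent.S1020
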