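import Mathlib
import Cfsg.Agent.Lib.H01.CentralExt
import Cfsg.Agent.Lib.H12.FStarAct3
import Cfsg.Statements.S0101
-- import your own Cfsg.Agent.* helpers here

set_option autoImplicit false
open Cfsg

namespace Cfsg.Agent.S0101


/-- In a perfect central extension, the kernel meets each Sylow p-subgroup P inside the Frattini subgroup of P. -/
theorem result {H : Type*} {G : Type*} [Group H] [Group G] [Finite H] (σ : H →* G) (hσ : Function.Surjective σ) (hc : σ.ker ≤ Subgroup.center H) (hH : commutator H = ⊤) {p : ℕ} [Fact p.Prime] (P : Sylow p H) : σ.ker ⊓ (P : Subgroup H) ≤ (frattini P).map (P : Subgroup H).subtype := by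
  classical
  intro x hx
  have hxZ : x ∈ Subgroup.center H := hc hx.1
  have hxP : x ∈ (P : Subgroup H) := hx.2
  have h1 := Cfsg.Agent.H01.central_mem_commutator_sylow hH P hxZ hxP
  have h2 : (⟨x, hxP⟩ : (P : Subgroup H)) ∈ Subgroup.center (P : Subgroup H) := by
    rw [Subgroup.mem_center_iff]
    intro g
    apply Subtype.ext
    exact Subgroup.mem_center_iff.mp hxZ g
  exact ⟨_, Cfsg.Agent.H12.center_inf_commutator_le_frattini h2 h1, rfl⟩


end Cfsg.Agent.S0101
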