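import Mathlib
import Cfsg.Agent.Lib.H01.StrongEmb
import Cfsg.Agent.Lib.H18.PGroup
import Cfsg.Statements.S0214
-- import your own Cfsg.Agent.* helpers here

set_option autoImplicit false
open Cfsg

namespace Cfsg.Agent.S0214

open scoped Pointwise


/-- Let H be a proper subgroup of the finite group G and P a nontrivial Sylow 2-subgroup of H. Then H is strongly embedded in G if and only if N_G(X) ≤ H for every nontrivial subgroup X of P. -/
theorem result {G : Type*} [Group G] [Finite G] (H : Subgroup G) (hH : H ≠ ⊤) (P : Sylow 2 ↥H) (hP : (P : Subgroup ↥H) ≠ ⊥) : Cfsg.IsStronglyEmbedded H ↔ (∀ X : Subgroup ↥H, X ≤ (P : Subgroup ↥H) → X ≠ ⊥ → Subgroup.normalizer ((X.map H.subtype : Subgroup G) : Set G) ≤ H) := by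
  classical
  haveI : Fact (Nat.Prime 2) := ⟨Nat.prime_two⟩
  have hinv : ∀ X : Subgroup G, IsPGroup 2 X → X ≠ ⊥ → ∃ t ∈ X, orderOf t = 2 := by
    intro X hX hne
    obtain ⟨k, hk⟩ := IsPGroup.iff_card.mp hX
    have hk0 : k ≠ 0 := by
      rintro rfl
      apply hne
      exact Subgroup.eq_bot_of_card_eq X (by simpa using hk)
    obtain ⟨t, ht⟩ := exists_prime_orderOf_dvd_card' (G := X) 2 (by rw [hk]; exact dvd_pow_self 2 hk0)
    exact ⟨t, t.2, by rw [Subgroup.orderOf_coe]; exact ht⟩
  have heven : Even (Nat.card H) := by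
    have h1 : IsPGroup 2 ((P : Subgroup H).map H.subtype) := P.isPGroup'.map H.subtype
    have h2 : (P : Subgroup H).map H.subtype ≠ ⊥ := by
      intro h
      apply hP
      exact (Subgroup.map_eq_bot_iff_of_injective _ H.subtype_injective).mp h
    obtain ⟨t, ht, ht2⟩ := hinv _ h1 h2
    obtain ⟨u, -, rfl⟩ := ht
    have : orderOf u ∣ Nat.card H := orderOf_dvd_natCard u
    rw [← Subgroup.orderOf_coe] at this
    have h3 : ((H.subtype) u) = (u : G) := rfl
    rw [h3] at ht2
    rw [ht2] at this
    exact even_iff_two_dvd.mpr this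
  rw [Cfsg.Agent.H01.stronglyEmbedded_iff H hH heven]
  constructor
  · intro h X hXP hX g hg
    have h1 : IsPGroup 2 (X.map H.subtype) :=
      (P.isPGroup'.to_le hXP).map H.subtype
    have h2 : X.map H.subtype ≠ ⊥ := by
      intro h'
      exact hX ((Subgroup.map_eq_bot_iff_of_injective _ H.subtype_injective).mp h')
    obtain ⟨t, ht, ht2⟩ := hinv _ h1 h2
    have htH : t ∈ H := by
      obtain ⟨u, -, rfl⟩ := ht
      exact u.2
    apply h t htH ht2 g
    have h3 : g⁻¹ * t * g ∈ X.map H.subtype := by
      have := (Subgroup.mem_normalizer_iff.mp (inv_mem hg) t).mp ht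
      simpa using this
    obtain ⟨u, -, hu⟩ := h3
    rw [← hu]; exact u.2
  · intro hX
    -- Step A: every nontrivial 2-subgroup of `H` has its normalizer in `H`
    have hA : ∀ X : Subgroup G, X ≤ H → IsPGroup 2 X → X ≠ ⊥ →
        Subgroup.normalizer (X : Set G) ≤ H := by
      intro X hXH hXp hXne g hg
      let X₁ : Subgroup H := X.comap H.subtype
      have hX₁p : IsPGroup 2 X₁ := hXp.comap_subtype
      obtain ⟨Q, hQ⟩ := hX₁p.exists_le_sylow
      obtain ⟨a, ha⟩ := MulAction.exists_smul_eq H Q P
      let X₂ : Subgroup H := X₁.map (MulAut.conj a).toMonoidHom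
      have hX₂P : X₂ ≤ (P : Subgroup H) := by
        rintro _ ⟨u, hu, rfl⟩
        rw [← ha, Sylow.coe_subgroup_smul]
        exact Subgroup.smul_mem_pointwise_smul _ _ _ (hQ hu)
      have hX₂ne : X₂ ≠ ⊥ := by
        intro h
        apply hXne
        have h1 : X₁ = ⊥ := (Subgroup.map_eq_bot_iff_of_injective _ (MulAut.conj a).injective).mp h
        rw [eq_bot_iff]
        intro x hx
        have h2 : (⟨x, hXH hx⟩ : H) ∈ X₁ := hx
        rw [h1, Subgroup.mem_bot] at h2
        have := congrArg Subtype.val h2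
        simpa using this
      have h3 := hX X₂ hX₂P hX₂ne
      have h4 : (a : G) * g * (a : G)⁻¹ ∈ Subgroup.normalizer ((X₂.map H.subtype : Subgroup G) : Set G) := by
        rw [Subgroup.mem_normalizer_iff]
        intro y
        have hk : ∀ z : G, z ∈ X₂.map H.subtype ↔ (a : G)⁻¹ * z * a ∈ X := by
          intro z
          constructor
          · rintro ⟨_, ⟨u, hu, rfl⟩, rfl⟩
            have : (a : G)⁻¹ * (H.subtype ((MulAut.conj a).toMonoidHom u)) * a = (u : G) := by
              simp [MulAut.conj_apply]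
              group
            rw [this]; exact hu
          · intro hz
            refine ⟨(MulAut.conj a).toMonoidHom ⟨_, hXH hz⟩, ⟨⟨_, hXH hz⟩, hz, rfl⟩, ?_⟩
            simp [MulAut.conj_apply]
            group
        rw [hk, hk]
        have h5 := Subgroup.mem_normalizer_iff.mp hg ((a : G)⁻¹ * y * a)
        rw [h5]
        have : (a : G)⁻¹ * (a * g * (a : G)⁻¹ * y * (a * g * (a : G)⁻¹)⁻¹) * a =
            g * ((a : G)⁻¹ * y * a) * g⁻¹ := by group
        rw [this]
      have h5 := h3 h4
      have h6 : g = (a : G)⁻¹ * ((a : G) * g * (a : G)⁻¹) * a := by group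
      rw [h6]
      exact mul_mem (mul_mem (inv_mem a.2) h5) a.2
    intro t ht hto g hg
    by_contra hgH
    set D : Subgroup G := H ⊓ H.map (MulAut.conj g).toMonoidHom with hD
    have htD : t ∈ D := Cfsg.Agent.H01.mem_inf_conj ht hg
    have hDeven : 2 ∣ Nat.card D := by
      have : orderOf (⟨t, htD⟩ : D) ∣ Nat.card D := orderOf_dvd_natCard _
      rwa [Subgroup.orderOf_mk, hto] at this
    obtain ⟨S₀⟩ : Nonempty (Sylow 2 D) := inferInstance
    set S : Subgroup G := (S₀ : Subgroup D).map D.subtype with hS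
    have hSp : IsPGroup 2 S := S₀.isPGroup'.map D.subtype
    have hSD : S ≤ D := by
      rintro _ ⟨u, -, rfl⟩
      exact u.2
    have hSmax : ∀ S' : Subgroup G, IsPGroup 2 S' → S ≤ S' → S' ≤ D → S' = S := by
      intro S' hS'p hSS' hS'D
      have h1 : (S₀ : Subgroup D) ≤ S'.comap D.subtype := by
        intro u hu
        exact hSS' ⟨u, hu, rfl⟩
      have h2 := S₀.is_maximal' hS'p.comap_subtype h1
      apply le_antisymm _ hSS'
      intro x hx
      have h3 : (⟨x, hS'D hx⟩ : D) ∈ S'.comap D.subtype := hx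
      rw [h2] at h3
      exact ⟨_, h3, rfl⟩
    have hSne : S ≠ ⊥ := by
      intro h
      have h1 : (S₀ : Subgroup D) = ⊥ := (Subgroup.map_eq_bot_iff_of_injective _ D.subtype_injective).mp h
      have h2 := (S₀ : Subgroup D).card_mul_index
      rw [h1, Subgroup.card_bot, one_mul] at h2
      apply S₀.not_dvd_index
      rw [h1] at *
      rw [h2]
      exact hDeven
    have hSH : S ≤ H := fun x hx => (hSD hx).1
    -- the conjugate `X = S ^ (g⁻¹)` in `H`
    set X : Subgroup G := S.map (MulAut.conj g⁻¹).toMonoidHom with hXdef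
    have hXp : IsPGroup 2 X := hSp.map _
    have hXH : X ≤ H := by
      rintro _ ⟨u, hu, rfl⟩
      have := (Cfsg.Agent.H01.of_mem_inf_conj (hSD hu)).2
      simpa [MulAut.conj_apply] using this
    have hXne : X ≠ ⊥ := by
      intro h
      exact hSne ((Subgroup.map_eq_bot_iff_of_injective _ (MulAut.conj g⁻¹).injective).mp h)
    have hNS : Subgroup.normalizer (S : Set G) ≤ D := by
      intro u hu
      refine ⟨hA S hSH hSp hSne hu, ?_⟩
      have hu' : g⁻¹ * u * g ∈ Subgroup.normalizer (X : Set G) := by
        rw [Subgroup.mem_normalizer_iff]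
        intro y
        have hk : ∀ z : G, z ∈ X ↔ g * z * g⁻¹ ∈ S := by
          intro z
          constructor
          · rintro ⟨w, hw, rfl⟩
            have : g * (MulAut.conj g⁻¹).toMonoidHom w * g⁻¹ = w := by
              simp [MulAut.conj_apply]
              group
            rw [this]; exact hw
          · intro hz
            refine ⟨_, hz, ?_⟩
            simp [MulAut.conj_apply]
            group
        rw [hk, hk]
        have h5 := Subgroup.mem_normalizer_iff.mp hu (g * y * g⁻¹)
        rw [h5]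
        have : u * (g * y * g⁻¹) * u⁻¹ = g * (g⁻¹ * u * g * y * (g⁻¹ * u * g)⁻¹) * g⁻¹ := by group
        rw [this]
      have h6 := hA X hXH hXp hXne hu'
      refine ⟨_, h6, ?_⟩
      simp [MulAut.conj_apply]
      group
    -- `S` is a Sylow subgroup of `G`
    let S₁ : Sylow 2 G :=
      { toSubgroup := S
        isPGroup' := hSp
        is_maximal' := by
          intro Q hQ hSQ
          by_contra hne
          have hlt : S < Q := lt_of_le_of_ne hSQ (Ne.symm hne)
          obtain ⟨y, hyQ, hyS, hyN⟩ := Cfsg.Agent.H18.exists_mem_sdiff_normalizer hQ hlt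
          have h1 := hSmax (Q ⊓ Subgroup.normalizer (S : Set G)) (hQ.to_inf_left)
            (le_inf hSQ Subgroup.le_normalizer) (inf_le_right.trans hNS)
          have h2 : y ∈ Q ⊓ Subgroup.normalizer (S : Set G) := ⟨hyQ, hyN⟩
          rw [h1] at h2
          exact hyS h2 }
    have hr : ¬ 2 ∣ S.relIndex H := by
      intro h
      have h1 : ¬ 2 ∣ S.index := S₁.not_dvd_index
      apply h1
      rw [← Subgroup.relIndex_mul_index hSH]
      exact Dvd.dvd.mul_right h _
    have hc : Nat.card X = Nat.card S :=
      Nat.card_congr (S.equivMapOfInjective _ (MulAut.conj g⁻¹).injective).toEquiv.symm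
    obtain ⟨x, hxH, hx⟩ := Cfsg.Agent.H18.exists_conj_in_of_not_dvd hSH hXH hSp hXp hr hc
    -- `g * x` normalizes `S`
    have hgx : g * x ∈ Subgroup.normalizer (S : Set G) := by
      rw [Subgroup.mem_normalizer_iff]
      intro y
      have hk1 : ∀ z : G, z ∈ X ↔ g * z * g⁻¹ ∈ S := by
        intro z
        constructor
        · rintro ⟨w, hw, rfl⟩
          have : g * (MulAut.conj g⁻¹).toMonoidHom w * g⁻¹ = w := by
            simp [MulAut.conj_apply]
            group
          rw [this]; exact hw
        · intro hz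
          refine ⟨_, hz, ?_⟩
          simp [MulAut.conj_apply]
          group
      have hk2 : ∀ z : G, z ∈ X ↔ x⁻¹ * z * x ∈ S := by
        intro z
        rw [hx]
        constructor
        · rintro ⟨w, hw, rfl⟩
          have : x⁻¹ * (MulAut.conj x).toMonoidHom w * x = w := by
            simp [MulAut.conj_apply]
            group
          rw [this]; exact hw
        · intro hz
          refine ⟨_, hz, ?_⟩
          simp [MulAut.conj_apply]
          group
      -- y ∈ S ↔ x y x⁻¹ ∈ X ↔ g x y x⁻¹ g⁻¹ ∈ S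
      have h1 : y ∈ S ↔ x * y * x⁻¹ ∈ X := by
        rw [hk2]
        have : x⁻¹ * (x * y * x⁻¹) * x = y := by group
        rw [this]
      rw [h1, hk1]
      have : g * (x * y * x⁻¹) * g⁻¹ = g * x * y * (g * x)⁻¹ := by group
      rw [this]
    have h7 := (hNS hgx).1
    apply hgH
    have h8 : g = (g * x) * x⁻¹ := by group
    rw [h8]
    exact mul_mem h7 (inv_mem hxH)


end Cfsg.Agent.S0214
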