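import Mathlib
import Cfsg.Agent.Lib.H01.StrongEmb
import Cfsg.Statements.S0223
-- import your own Cfsg.Agent.* helpers here

set_option autoImplicit false
open Cfsg

namespace Cfsg.Agent.S0223


/-- Let H be a proper subgroup of even order of the finite group G. Then H is strongly embedded if and only if (i) C_G(t) ≤ H for every involution t of H and (ii) H controls fusion of its involutions: involutions of H conjugate in G are conjugate in H. -/
theorem result {G : Type*} [Group G] [Finite G] (H : Subgroup G) (hH : H ≠ ⊤) (heven : Even (Nat.card H)) : Cfsg.IsStronglyEmbedded H ↔ ((∀ t ∈ H, orderOf t = 2 → Subgroup.centralizer ({t} : Set G) ≤ H) ∧ (∀ t ∈ H, ∀ s ∈ H, orderOf t = 2 → orderOf s = 2 → IsConj t s → ∃ h ∈ H, h * t * h⁻¹ = s)) := by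
  rw [Cfsg.Agent.H01.stronglyEmbedded_iff H hH heven]
  constructor
  · intro h
    constructor
    · intro t ht h2 g hg
      have hc : t * g = g * t := Subgroup.mem_centralizer_iff.mp hg t rfl
      apply h t ht h2
      have : g⁻¹ * t * g = t := by
        rw [mul_assoc, hc]; group
      rw [this]; exact ht
    · intro t ht s hs h2 h3 hc
      obtain ⟨g, hg⟩ := isConj_iff.mp hc
      refine ⟨g⁻¹⁻¹, ?_, ?_⟩
      · rw [inv_inv]
        have : g⁻¹⁻¹ * t * g⁻¹ ∈ H := by rw [inv_inv, hg]; exact hs
        have h5 := h t ht h2 g⁻¹ this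
        have := inv_mem h5
        rwa [inv_inv] at this
      · rw [inv_inv]; exact hg
  · rintro ⟨h1, h2⟩ t ht hto g hg
    have hs : orderOf (g⁻¹ * t * g) = 2 := by
      have : g⁻¹ * t * g = MulAut.conj g⁻¹ t := by simp [MulAut.conj_apply]
      rw [this, MulEquiv.orderOf_eq, hto]
    have hc : IsConj t (g⁻¹ * t * g) := by
      rw [isConj_iff]; exact ⟨g⁻¹, by simp⟩
    obtain ⟨h, hh, hhe⟩ := h2 t ht _ hg hto hs hc
    -- `h⁻¹ g⁻¹` centralizes `t`
    have h3 : g * h ∈ Subgroup.centralizer ({t} : Set G) := by
      rw [Subgroup.mem_centralizer_iff]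
      intro y hy
      rw [show y = t from hy]
      have : h * t = g⁻¹ * t * g * h := by
        rw [← hhe]; group
      calc t * (g * h) = g * (g⁻¹ * t * g * h) := by group
        _ = g * (h * t) := by rw [this]
        _ = g * h * t := by group
    have h4 := h1 t ht hto h3
    have h5 : g = (g * h) * h⁻¹ := by group
    rw [h5]
    exact mul_mem h4 (inv_mem hh)


end Cfsg.Agent.S0223
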