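import Mathlib
import Cfsg.Agent.Lib.H01.StrongEmb
import Cfsg.Statements.S0224
-- import your own Cfsg.Agent.* helpers here

set_option autoImplicit false
open Cfsg

namespace Cfsg.Agent.S0224


/-- Let H be a proper subgroup of even order of the finite group G. Then H is strongly embedded if and only if each involution of H fixes exactly one point (namely the coset H) in the action of G on the cosets of H. -/
theorem result {G : Type*} [Group G] [Finite G] (H : Subgroup G) (hH : H ≠ ⊤) (heven : Even (Nat.card H)) : Cfsg.IsStronglyEmbedded H ↔ ∀ t ∈ H, orderOf t = 2 → Nat.card {c : G ⧸ H // t • c = c} = 1 := by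
  classical
  rw [Cfsg.Agent.H01.stronglyEmbedded_iff H hH heven]
  have hfix : ∀ (t g : G), t • ((g : G) : G ⧸ H) = (g : G ⧸ H) ↔ g⁻¹ * t * g ∈ H := by
    intro t g
    rw [MulAction.Quotient.smul_coe, QuotientGroup.eq]
    have : (t • g)⁻¹ * g = (g⁻¹ * t * g)⁻¹ := by
      rw [smul_eq_mul]; group
    rw [this, inv_mem_iff]
  constructor
  · intro h t ht h2
    rw [Nat.card_eq_one_iff_unique]
    refine ⟨⟨?_⟩, ⟨⟨((1 : G) : G ⧸ H), ?_⟩⟩⟩
    · rintro ⟨a, ha⟩ ⟨b, hb⟩
      apply Subtype.ext
      show a = b
      induction a using QuotientGroup.induction_on with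
      | H a =>
      induction b using QuotientGroup.induction_on with
      | H b =>
      have h3 := h t ht h2 a ((hfix t a).mp ha)
      have h4 := h t ht h2 b ((hfix t b).mp hb)
      rw [QuotientGroup.eq]
      exact mul_mem (inv_mem h3) h4
    · rw [hfix]; simpa using ht
  · intro h t ht h2 g hg
    have h1 := h t ht h2
    rw [Nat.card_eq_one_iff_unique] at h1
    have hs := h1.1
    have h3 : (⟨((g : G) : G ⧸ H), (hfix t g).mpr hg⟩ : {c : G ⧸ H // t • c = c}) =
        ⟨((1 : G) : G ⧸ H), (hfix t 1).mpr (by simpa using ht)⟩ := Subsingleton.elim _ _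
    have h4 : ((g : G) : G ⧸ H) = ((1 : G) : G ⧸ H) := congrArg Subtype.val h3
    rw [QuotientGroup.eq] at h4
    simpa using inv_mem h4


end Cfsg.Agent.S0224
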