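import Cfsg.Statements.S0647
import Cfsg.Agent.Lib.H03.Basic

set_option autoImplicit false
open Cfsg

namespace Cfsg.Agent.S0647

/-- For a nonempty family of maximal abelian subgroups of a finite group, the intersection of the family is the centre of the subgroup it generates, which is also the full centralizer of that subgroup. -/
theorem result {S : Type*} [Group S] [Finite S] (𝒜 : Set (Subgroup S)) (hne : 𝒜.Nonempty) (hab : ∀ A ∈ 𝒜, IsMulCommutative A) (hmax : ∀ A ∈ 𝒜, ∀ B : Subgroup S, IsMulCommutative B → A ≤ B → B = A) : sInf 𝒜 = sSup 𝒜 ⊓ Subgroup.centralizer ((sSup 𝒜 : Subgroup S) : Set S) ∧ sInf 𝒜 = Subgroup.centralizer ((sSup 𝒜 : Subgroup S) : Set S) := by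
  have h1 : sInf 𝒜 ≤ Subgroup.centralizer ((sSup 𝒜 : Subgroup S) : Set S) := by
    intro x hx
    rw [Subgroup.mem_centralizer_iff]
    have hx' : ∀ A ∈ 𝒜, x ∈ A := fun A hA => (Subgroup.mem_sInf.mp hx) A hA
    have : sSup 𝒜 ≤ Subgroup.centralizer ({x} : Set S) := by
      refine sSup_le fun A hA => ?_
      intro y hy
      rw [Subgroup.mem_centralizer_iff]
      intro z hz
      rw [Set.mem_singleton_iff] at hz
      subst hz
      exact H03.mul_comm_of_isMulCommutative (hab A hA) (hx' A hA) hy
    intro y hy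
    have := this hy
    rw [Subgroup.mem_centralizer_iff] at this
    exact (this x rfl).symm
  have h2 : Subgroup.centralizer ((sSup 𝒜 : Subgroup S) : Set S) ≤ sInf 𝒜 := by
    intro x hx
    rw [Subgroup.mem_sInf]
    intro A hA
    have hxA : ∀ a ∈ A, a * x = x * a := by
      intro a ha
      rw [Subgroup.mem_centralizer_iff] at hx
      exact hx a (le_sSup hA ha)
    have hB : IsMulCommutative (A ⊔ Subgroup.zpowers x : Subgroup S) :=
      H03.isMulCommutative_sup_zpowers (hab A hA) hxA
    have := hmax A hA _ hB le_sup_left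
    have hx2 : x ∈ (A ⊔ Subgroup.zpowers x : Subgroup S) :=
      (le_sup_right : Subgroup.zpowers x ≤ _) (Subgroup.mem_zpowers x)
    rw [this] at hx2
    exact hx2
  have heq : sInf 𝒜 = Subgroup.centralizer ((sSup 𝒜 : Subgroup S) : Set S) := le_antisymm h1 h2
  refine ⟨?_, heq⟩
  apply le_antisymm
  · refine le_inf ?_ h1
    obtain ⟨A, hA⟩ := hne
    exact (sInf_le hA).trans (le_sSup hA)
  · exact inf_le_right.trans h2

end Cfsg.Agent.S0647
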