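import Cfsg.Statements.S0649
import Mathlib

set_option autoImplicit false
open Cfsg

namespace Cfsg.Agent.S0649

/-- In the Glauberman replacement situation, if B does not normalize A then some element of B normalizes N_S(A) without normalizing A. -/
theorem result {S : Type*} [Group S] [Finite S] {p : ℕ} [Fact p.Prime] (hS : IsPGroup p S) (B : Subgroup S) [B.Normal] (hB2 : p = 2 → IsMulCommutative B) (A : Subgroup S) (hA : IsMulCommutative A) (hBA : ⁅B, B⁆ ≤ A) (hnot : ¬ B ≤ Subgroup.normalizer (A : Set S)) : ∃ b ∈ B, b ∈ Subgroup.normalizer ((Subgroup.normalizer (A : Set S)) : Set S) ∧ b ∉ Subgroup.normalizer (A : Set S) := by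
  set N := Subgroup.normalizer (A : Set S) with hN
  -- consider `N ⊔ B`
  have hlt : N < N ⊔ B := by
    refine lt_of_le_of_ne le_sup_left ?_
    intro h
    apply hnot
    rw [h]
    exact le_sup_right
  -- `N` is a proper subgroup of `N ⊔ B`; use the normalizer condition inside `N ⊔ B`
  have hp : IsPGroup p ↥(N ⊔ B) := IsPGroup.to_subgroup hS _
  have hnil2 : Group.IsNilpotent ↥(N ⊔ B) := hp.isNilpotent
  have hcond2 := Group.normalizerCondition_of_isNilpotent (G := ↥(N ⊔ B))
  have hNlt : N.subgroupOf (N ⊔ B) < ⊤ := by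
    rw [lt_top_iff_ne_top]
    intro h
    rw [Subgroup.subgroupOf_eq_top] at h
    exact absurd (le_antisymm h le_sup_left) (ne_of_gt hlt)
  have := hcond2 _ hNlt
  obtain ⟨y, hy1, hy2⟩ := SetLike.exists_of_lt this
  -- `y ∈ N ⊔ B`, `y` normalizes `N`, `y ∉ N`
  have hymem : (y : S) ∈ N ⊔ B := y.2
  have hycoe : (y : S) ∈ ((N ⊔ B : Subgroup S) : Set S) := hymem
  rw [Subgroup.mul_normal] at hycoe
  obtain ⟨n, hn, b, hb, hnb⟩ := Set.mem_mul.mp hycoe
  have hyN : (y : S) ∈ Subgroup.normalizer (N : Set S) := by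
    rw [Subgroup.mem_normalizer_iff] at hy1 ⊢
    intro z
    constructor
    · intro hz
      have hz' : z ∈ N ⊔ B := (le_sup_left : N ≤ N ⊔ B) hz
      have := (hy1 ⟨z, hz'⟩).mp (by simpa [Subgroup.mem_subgroupOf] using hz)
      simpa [Subgroup.mem_subgroupOf] using this
    · intro hz
      have hz1 : (y : S) * z * (y : S)⁻¹ ∈ N ⊔ B := (le_sup_left : N ≤ N ⊔ B) hz
      have hz' : z ∈ N ⊔ B := by
        have h3 := (N ⊔ B).mul_mem ((N ⊔ B).mul_mem ((N ⊔ B).inv_mem y.2) hz1) y.2
        simpa [mul_assoc] using h3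
      have := (hy1 ⟨z, hz'⟩).mpr (by simpa [Subgroup.mem_subgroupOf] using hz)
      simpa [Subgroup.mem_subgroupOf] using this
  refine ⟨b, hb, ?_, ?_⟩
  · have hb' : b = n⁻¹ * (y : S) := by rw [← hnb]; group
    rw [hb']
    refine Subgroup.mul_mem _ (Subgroup.inv_mem _ (Subgroup.le_normalizer hn)) hyN
  · intro hbN
    apply hy2
    have : (y : S) ∈ N := by
      rw [← hnb]
      exact N.mul_mem hn hbN
    exact this

end Cfsg.Agent.S0649
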