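import Cfsg.Statements.S0651
import Mathlib
import Cfsg.Agent.Lib.H03.GRepl

set_option autoImplicit false
open Cfsg

namespace Cfsg.Agent.S0651


/-- For odd p and D normal in the p-group S, the abelian subgroups of D of largest order satisfy the replacement property: a class-2 normal subgroup B of S with a member containing [B, B] but not B normalizes some such member. -/
theorem result {S : Type*} [Group S] [Finite S] {p : ℕ} [Fact p.Prime] (hS : IsPGroup p S) (hp : p ≠ 2) (D : Subgroup S) [D.Normal] : ∀ (B : Subgroup S) [B.Normal], ⁅⁅B, B⁆, B⁆ = ⊥ → (∃ U ∈ (Set.image (fun A : Subgroup ↥D => A.map D.subtype) (Cfsg.maxAbelianSubgroups ↥D)), ⁅B, B⁆ ≤ U ∧ ¬ B ≤ U) → ∃ A ∈ (Set.image (fun A : Subgroup ↥D => A.map D.subtype) (Cfsg.maxAbelianSubgroups ↥D)), ⁅B, B⁆ ≤ A ∧ ¬ B ≤ A ∧ B ≤ Subgroup.normalizer (A : Set S) := by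
  intro B _ _ hU
  have hcom : ∀ (A₀ : Subgroup ↥D), IsMulCommutative A₀ → IsMulCommutative ↥(A₀.map D.subtype) := by
    intro A₀ h
    constructor
    constructor
    rintro ⟨_, x, hx, rfl⟩ ⟨_, y, hy, rfl⟩
    apply Subtype.ext
    have := h.is_comm.comm (⟨x, hx⟩ : A₀) ⟨y, hy⟩
    exact congrArg (fun z : A₀ => ((z : ↥D) : S)) this
  apply H03.GRepl.replacement_family hS hp D B _ _ _ _ hU
  · rintro _ ⟨A₀, h, rfl⟩
    exact hcom A₀ h.1
  · rintro _ ⟨A₀, h, rfl⟩
    exact Subgroup.map_subtype_le A₀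
  · rintro _ ⟨A₀, h, rfl⟩ A' hA'D hA'c hcard -
    refine ⟨A'.subgroupOf D, ⟨?_, ?_⟩, Subgroup.map_subgroupOf_eq_of_le hA'D⟩
    · constructor
      constructor
      rintro ⟨x, hx⟩ ⟨y, hy⟩
      apply Subtype.ext
      apply Subtype.ext
      have := hA'c.is_comm.comm (⟨(x : S), hx⟩ : A') ⟨(y : S), hy⟩
      have h9 := congrArg (Subtype.val : A' → S) this
      exact h9
    · intro B' hB'
      have h1 := h.2 B' hB'
      have h2 : Nat.card ↥(A'.subgroupOf D) = Nat.card A' :=
        Nat.card_congr (Subgroup.subgroupOfEquivOfLe hA'D).toEquiv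
      have h3 : Nat.card ↥(A₀.map D.subtype) = Nat.card A₀ :=
        Subgroup.card_map_of_injective D.subtype_injective
      rw [h2, hcard, h3]
      exact h1

end Cfsg.Agent.S0651
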