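import Cfsg.Statements.S0652
import Mathlib
import Cfsg.Agent.Lib.H03.GRepl

set_option autoImplicit false
open Cfsg

namespace Cfsg.Agent.S0652


/-- For odd p and D normal in the p-group S, the elementary abelian subgroups of D of largest order satisfy the replacement property for class-2 normal subgroups of S. -/
theorem result {S : Type*} [Group S] [Finite S] {p : ℕ} [Fact p.Prime] (hS : IsPGroup p S) (hp : p ≠ 2) (D : Subgroup S) [D.Normal] : ∀ (B : Subgroup S) [B.Normal], ⁅⁅B, B⁆, B⁆ = ⊥ → (∃ U ∈ (Set.image (fun A : Subgroup ↥D => A.map D.subtype) (Cfsg.maxElementaryAbelianSubgroups p ↥D)), ⁅B, B⁆ ≤ U ∧ ¬ B ≤ U) → ∃ A ∈ (Set.image (fun A : Subgroup ↥D => A.map D.subtype) (Cfsg.maxElementaryAbelianSubgroups p ↥D)), ⁅B, B⁆ ≤ A ∧ ¬ B ≤ A ∧ B ≤ Subgroup.normalizer (A : Set S) := by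
  intro B _ _ hU
  have hcom : ∀ (A₀ : Subgroup ↥D), IsElementaryAbelian p A₀ → IsElementaryAbelian p (A₀.map D.subtype) := by
    intro A₀ h
    constructor
    · constructor
      constructor
      rintro ⟨_, x, hx, rfl⟩ ⟨_, y, hy, rfl⟩
      apply Subtype.ext
      have := h.1.is_comm.comm (⟨x, hx⟩ : A₀) ⟨y, hy⟩
      exact congrArg (fun z : A₀ => ((z : ↥D) : S)) this
    · rintro _ ⟨x, hx, rfl⟩
      have := h.2 x hx
      exact congrArg Subtype.val this
  apply H03.GRepl.replacement_family hS hp D B _ _ _ _ hU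
  · rintro _ ⟨A₀, h, rfl⟩
    exact (hcom A₀ h.1).1
  · rintro _ ⟨A₀, h, rfl⟩
    exact Subgroup.map_subtype_le A₀
  · rintro _ ⟨A₀, h, rfl⟩ A' hA'D hA'c hcard hexp
    have hEA' : IsElementaryAbelian p A' := by
      refine ⟨hA'c, ?_⟩
      have h1 : Monoid.exponent ↥(A₀.map D.subtype) ∣ p := by
        apply Monoid.exponent_dvd_of_forall_pow_eq_one
        rintro ⟨x, hx⟩
        apply Subtype.ext
        exact (hcom A₀ h.1).2 x hx
      have h2 := hexp.trans h1
      intro a ha
      have h3 := Monoid.exponent_dvd_iff_forall_pow_eq_one.1 h2 ⟨a, ha⟩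
      exact congrArg Subtype.val h3
    refine ⟨A'.subgroupOf D, ⟨⟨?_, ?_⟩, ?_⟩, Subgroup.map_subgroupOf_eq_of_le hA'D⟩
    · constructor
      constructor
      rintro ⟨x, hx⟩ ⟨y, hy⟩
      apply Subtype.ext
      apply Subtype.ext
      have := hA'c.is_comm.comm (⟨(x : S), hx⟩ : A') ⟨(y : S), hy⟩
      have h9 := congrArg (Subtype.val : A' → S) this
      exact h9
    · rintro ⟨x, hx⟩ hx'
      apply Subtype.ext
      exact hEA'.2 x hx'
    · intro B' hB'
      have h1 := h.2 B' hB'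
      have h2 : Nat.card ↥(A'.subgroupOf D) = Nat.card A' :=
        Nat.card_congr (Subgroup.subgroupOfEquivOfLe hA'D).toEquiv
      have h3 : Nat.card ↥(A₀.map D.subtype) = Nat.card A₀ :=
        Subgroup.card_map_of_injective D.subtype_injective
      rw [h2, hcard, h3]
      exact h1

end Cfsg.Agent.S0652
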