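import Cfsg.Statements.S0655
import Cfsg.Agent.Lib.H03.EA

set_option autoImplicit false
open Cfsg

namespace Cfsg.Agent.S0655

/-- In a p-group the intersection of all elementary abelian subgroups of largest order is the subgroup generated by the elements of order dividing p in the centre (equivalently the centralizer) of the elementary-version Thompson subgroup. -/
theorem result {S : Type*} [Group S] [Finite S] {p : ℕ} [Fact p.Prime] (hS : IsPGroup p S) : sInf (Cfsg.maxElementaryAbelianSubgroups p S) = Cfsg.omegaCenterThompson p S ∧ Cfsg.omegaCenterThompson p S = Cfsg.omegaOne p (Subgroup.centralizer (Cfsg.thompsonSubgroup p S : Set S)) := by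
  classical
  have key : ∀ A ∈ Cfsg.maxElementaryAbelianSubgroups p S, ∀ y : S, y ^ p = 1 → y ∈ Subgroup.centralizer (Cfsg.thompsonSubgroup p S : Set S) → y ∈ A := by
    intro A hA y hyp hyC
    have hAJ : A ≤ Cfsg.thompsonSubgroup p S := le_sSup hA
    refine H03.mem_of_centralizes_maxEA hA hyp ?_
    intro a ha
    rw [Subgroup.mem_centralizer_iff] at hyC
    exact hyC a (hAJ ha)
  obtain ⟨A₀, hA₀⟩ := H03.maxElementaryAbelian_nonempty p S
  have hEq : Cfsg.omegaCenterThompson p S = Cfsg.omegaOne p (Subgroup.centralizer (Cfsg.thompsonSubgroup p S : Set S)) := by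
    apply le_antisymm
    · apply Subgroup.closure_mono
      rintro x ⟨hx1, hx2⟩
      exact ⟨hx1.2, hx2⟩
    · apply Subgroup.closure_mono
      rintro x ⟨hx1, hx2⟩
      exact ⟨⟨(le_sSup hA₀ : A₀ ≤ _) (key A₀ hA₀ x hx2 hx1), hx1⟩, hx2⟩
  refine ⟨le_antisymm ?_ ?_, hEq⟩
  · rw [hEq]
    intro x hx
    apply Subgroup.subset_closure
    have hxA : ∀ A ∈ Cfsg.maxElementaryAbelianSubgroups p S, x ∈ A := fun A hA => Subgroup.mem_sInf.mp hx A hA
    refine ⟨?_, hA₀.1.2 x (hxA A₀ hA₀)⟩
    rw [Subgroup.mem_centralizer_iff]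
    have : Cfsg.thompsonSubgroup p S ≤ Subgroup.centralizer ({x} : Set S) := by
      refine sSup_le fun A hA => ?_
      intro y hy
      rw [Subgroup.mem_centralizer_iff]
      intro z hz
      rw [Set.mem_singleton_iff] at hz
      subst hz
      exact H03.mul_comm_of_isMulCommutative hA.1.1 (hxA A hA) hy
    intro y hy
    have h := this hy
    rw [Subgroup.mem_centralizer_iff] at h
    exact (h x rfl).symm
  · rw [Cfsg.omegaCenterThompson, Cfsg.omegaOne, Subgroup.closure_le]
    rintro x ⟨hx1, hx2⟩
    rw [SetLike.mem_coe, Subgroup.mem_sInf]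
    intro A hA
    exact key A hA x hx2 hx1.2

end Cfsg.Agent.S0655
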