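import Cfsg.Statements.S0752
import Mathlib

set_option autoImplicit false
open Cfsg

namespace Cfsg.Agent.S0752

open Module

universe u v

theorem alt_family {F : Type v} [Field F] : ∀ (n : ℕ) (V : Type u) [AddCommGroup V] [Module F V] [FiniteDimensional F V]
    (B : LinearMap.BilinForm F V), B.IsAlt → finrank F V = n →
    ∃ (m k : ℕ) (e f : Fin m → V) (r : Fin k → V),
      (∀ i j, B (e i) (f j) = if i = j then 1 else 0) ∧ (∀ i j, B (e i) (e j) = 0) ∧ (∀ i j, B (f i) (f j) = 0) ∧
      (∀ j v, B (r j) v = 0) ∧ LinearIndependent F r ∧ 2 * m + k = n := by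
  intro n
  induction n using Nat.strong_induction_on with
  | _ n ih =>
    intro V _ _ _ B hA hn
    have hself : ∀ z, B z z = 0 := fun z => hA z
    have hsk : ∀ a b, B b a = - B a b := by
      intro a b
      have := hself (a + b)
      simp only [map_add, LinearMap.add_apply, hself, zero_add, add_zero] at this
      linear_combination this
    by_cases h0 : ∀ x y, B x y = 0
    · refine ⟨0, n, Fin.elim0, Fin.elim0, fun i => Module.finBasisOfFinrankEq F V hn i, fun i => i.elim0, fun i => i.elim0, fun i => i.elim0,
        fun j v => h0 _ _, (Module.finBasisOfFinrankEq F V hn).linearIndependent, by omega⟩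
    · push Not at h0
      obtain ⟨x, y, hxy⟩ := h0
      set e₀ := x with he₀
      set f₀ := (B x y)⁻¹ • y with hf₀
      have hef : B e₀ f₀ = 1 := by
        rw [hf₀, map_smul, smul_eq_mul, inv_mul_cancel₀ hxy]
      have hfe : B f₀ e₀ = -1 := by rw [hsk e₀ f₀, hef]
      let φ : V →ₗ[F] F × F := LinearMap.prod (B e₀) (B f₀)
      have hφ : ∀ z, φ z = (B e₀ z, B f₀ z) := fun z => rfl
      have hsurj : Function.Surjective φ := by
        rintro ⟨a, b⟩
        refine ⟨a • f₀ - b • e₀, ?_⟩
        rw [hφ]
        simp [hef, hfe, hself]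
      let U : Submodule F V := LinearMap.ker φ
      have hU : ∀ z, z ∈ U ↔ B e₀ z = 0 ∧ B f₀ z = 0 := by
        intro z
        simp only [U, LinearMap.mem_ker, hφ, Prod.mk_eq_zero]
      have hfr : finrank F U + 2 = n := by
        change finrank F (LinearMap.ker φ) + 2 = n
        have h1 := LinearMap.finrank_range_add_finrank_ker φ
        rw [LinearMap.range_eq_top.2 hsurj, finrank_top, Module.finrank_prod, finrank_self, hn] at h1
        omega
      let BU : LinearMap.BilinForm F U := B.domRestrict₁₂ U U
      have hBU : ∀ a b : U, BU a b = B a b := fun _ _ => rfl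
      have hAU : BU.IsAlt := fun a => hself a
      obtain ⟨m, k, e, f, r, h1, h2, h3, h4, h5, h6⟩ := ih (finrank F U) (by omega) U BU hAU rfl
      have hUdec : ∀ z : V, ∃ a b : F, ∃ u : U, z = a • e₀ + b • f₀ + u := by
        intro z
        refine ⟨- B f₀ z, B e₀ z, ⟨z - (- B f₀ z) • e₀ - (B e₀ z) • f₀, ?_⟩, by simp⟩
        rw [hU]
        simp [hef, hfe, hself]
      refine ⟨m + 1, k, Fin.cons e₀ (fun i => (e i : V)), Fin.cons f₀ (fun i => (f i : V)), fun i => (r i : V), ?_, ?_, ?_, ?_, ?_, ?_⟩
      · intro i j
        refine Fin.cases ?_ (fun i => ?_) i <;> refine Fin.cases ?_ (fun j => ?_) j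
        · simpa using hef
        · simp only [Fin.cons_zero, Fin.cons_succ]
          rw [((hU _).1 (f j).2).1]
          simp [(Fin.succ_ne_zero j).symm]
        · simp only [Fin.cons_zero, Fin.cons_succ]
          rw [hsk f₀, ((hU _).1 (e i).2).2]
          simp [Fin.succ_ne_zero i]
        · simp only [Fin.cons_succ, Fin.succ_inj]
          exact h1 i j
      · intro i j
        refine Fin.cases ?_ (fun i => ?_) i <;> refine Fin.cases ?_ (fun j => ?_) j
        · simpa using hself e₀
        · simp only [Fin.cons_zero, Fin.cons_succ]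
          exact ((hU _).1 (e j).2).1
        · simp only [Fin.cons_zero, Fin.cons_succ]
          rw [hsk e₀, ((hU _).1 (e i).2).1, neg_zero]
        · simp only [Fin.cons_succ]
          exact h2 i j
      · intro i j
        refine Fin.cases ?_ (fun i => ?_) i <;> refine Fin.cases ?_ (fun j => ?_) j
        · simpa using hself f₀
        · simp only [Fin.cons_zero, Fin.cons_succ]
          exact ((hU _).1 (f j).2).2
        · simp only [Fin.cons_zero, Fin.cons_succ]
          rw [hsk f₀, ((hU _).1 (f i).2).2, neg_zero]
        · simp only [Fin.cons_succ]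
          exact h3 i j
      · intro j v
        obtain ⟨a, b, u, rfl⟩ := hUdec v
        simp only [map_add, map_smul, smul_eq_mul]
        rw [hsk e₀ (r j : V), hsk f₀ (r j : V), ((hU _).1 (r j).2).1, ((hU _).1 (r j).2).2]
        have := h4 j u
        rw [hBU] at this
        rw [this]
        simp
      · exact h5.map' U.subtype (by simp)
      · omega


/-- Classification of alternating forms: for an alternating bilinear form B on a finite-dimensional space over any field there is a basis indexed by (Fin m ⊕ Fin m) ⊕ Fin k such that B (e_i, f_j) = δ_ij, the e's are pairwise orthogonal, the f's are pairwise orthogonal, and the last k basis vectors are orthogonal to everything (they span the radical). -/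
theorem result {F V : Type*} [Field F] [AddCommGroup V] [Module F V] [FiniteDimensional F V] (B : LinearMap.BilinForm F V) (hA : B.IsAlt) : ∃ (m k : ℕ) (b : Module.Basis ((Fin m ⊕ Fin m) ⊕ Fin k) F V), (∀ i j : Fin m, B (b (Sum.inl (Sum.inl i))) (b (Sum.inl (Sum.inr j))) = if i = j then 1 else 0) ∧ (∀ i j : Fin m, B (b (Sum.inl (Sum.inl i))) (b (Sum.inl (Sum.inl j))) = 0) ∧ (∀ i j : Fin m, B (b (Sum.inl (Sum.inr i))) (b (Sum.inl (Sum.inr j))) = 0) ∧ (∀ (j : Fin k) (v : V), B (b (Sum.inr j)) v = 0) := by
  classical
  obtain ⟨m, k, e, f, r, h1, h2, h3, h4, h5, h6⟩ := alt_family (F := F) _ V B hA rfl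
  refine ?_
  have hsk : ∀ a b, B b a = - B a b := by
    intro a b
    have hself : ∀ z, B z z = 0 := fun z => hA z
    have := hself (a + b)
    simp only [map_add, LinearMap.add_apply, hself, zero_add, add_zero] at this
    linear_combination this
  let b0 : (Fin m ⊕ Fin m) ⊕ Fin k → V := Sum.elim (Sum.elim e f) r
  have hli : LinearIndependent F b0 := by
    rw [Fintype.linearIndependent_iff]
    intro g hg
    rw [Fintype.sum_sum_type, Fintype.sum_sum_type] at hg
    simp only [b0, Sum.elim_inl, Sum.elim_inr] at hg
    have ha : ∀ j, g (Sum.inl (Sum.inl j)) = 0 := by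
      intro j
      have := congrArg (fun z => B z (f j)) hg
      simp only [map_add, map_sum, map_smul, LinearMap.add_apply, LinearMap.sum_apply, LinearMap.smul_apply, smul_eq_mul, h1, h3, h4,
        mul_ite, mul_one, mul_zero, Finset.sum_const_zero, add_zero, Finset.sum_ite_eq', Finset.mem_univ, if_true, map_zero, LinearMap.zero_apply] at this
      exact this
    have hb : ∀ j, g (Sum.inl (Sum.inr j)) = 0 := by
      intro j
      have := congrArg (fun z => B (e j) z) hg
      have hr : ∀ i, B (e j) (r i) = 0 := by
        intro i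
        rw [hsk (r i) (e j), h4, neg_zero]
      simp only [map_add, map_sum, map_smul, smul_eq_mul, h1, h2, hr,
        mul_ite, mul_one, mul_zero, Finset.sum_const_zero, add_zero, zero_add, Finset.sum_ite_eq, Finset.mem_univ, if_true, map_zero] at this
      exact this
    simp only [ha, hb, zero_smul, Finset.sum_const_zero, zero_add] at hg
    have hc := Fintype.linearIndependent_iff.mp h5 _ hg
    rintro (i | i)
    · rcases i with i | i
      · exact ha i
      · exact hb i
    · exact hc i
  let bb : Module.Basis ((Fin m ⊕ Fin m) ⊕ Fin k) F V :=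
    Module.Basis.mk hli (hli.span_eq_top_of_card_eq_finrank' (by
      simp only [Fintype.card_sum, Fintype.card_fin]
      omega)).ge
  have hb : ∀ i, bb i = b0 i := by
    intro i
    simp [bb]
  refine ⟨m, k, bb, ?_, ?_, ?_, ?_⟩
  · intro i j
    rw [hb, hb]
    exact h1 i j
  · intro i j
    rw [hb, hb]
    exact h2 i j
  · intro i j
    rw [hb, hb]
    exact h3 i j
  · intro j v
    rw [hb]
    exact h4 j v

end Cfsg.Agent.S0752
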