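import Cfsg.Statements.S0994
import Cfsg.Agent.Lib.H04.NC
import Cfsg.Agent.Lib.H04.PrimeSylow
-- import your own Cfsg.Agent.* helpers here

set_option autoImplicit false
open Cfsg

namespace Cfsg.Agent.S0994



/-- No finite simple group has order 1188 = 2^2 * 3^3 * 11. -/
theorem result {G : Type*} [Group G] [Finite G] [IsSimpleGroup G] : Nat.card G ≠ 1188 := by
  intro h
  haveI : Fact (Nat.Prime 11) := ⟨by norm_num⟩
  have hnp : ¬ (Nat.card G).Prime := by rw [h]; norm_num
  have hG := H04.not_isMulCommutative_of_not_prime hnp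
  obtain ⟨P⟩ : Nonempty (Sylow 11 G) := inferInstance
  have hP : Nat.card P = 11 := by
    have := H04.card_sylow_eq_pow (G := G) (p := 11) 1 108 (by rw [h]; norm_num) (by norm_num) P
    simpa using this
  have hd : Nat.card (Sylow 11 G) ∣ 108 := H04.card_sylow_dvd_of_card_eq P 108 (by rw [hP, h])
  have hm : Nat.card (Sylow 11 G) ≡ 1 [MOD 11] := card_sylow_modEq_one 11 G
  have hne := H04.sylow_ne_normal hnp P (by rw [hP]; norm_num)
  have hn : Nat.card (Sylow 11 G) = 12 := by
    have hle := Nat.le_of_dvd (by norm_num) hd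
    have hd' := Nat.mod_eq_zero_of_dvd hd
    have hm' : Nat.card (Sylow 11 G) % 11 = 1 := hm
    generalize Nat.card (Sylow 11 G) = n at hle hd' hm' hne ⊢
    interval_cases n <;> omega
  have hi : (Subgroup.normalizer ((P : Subgroup G) : Set G)).index = 12 := by
    rw [← hn]
    exact (Sylow.card_eq_index_normalizer P).symm
  have hcn : Nat.card (Subgroup.normalizer ((P : Subgroup G) : Set G)) = 99 := by
    have := (Subgroup.normalizer ((P : Subgroup G) : Set G)).card_mul_index
    rw [hi, h] at this
    omega
  have hr1 := H04.relIndex_dvd_pred_of_card_prime (P := (P : Subgroup G)) (q := 11) (by norm_num) hP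
  have hr2 : (Subgroup.centralizer ((P : Subgroup G) : Set G)).relIndex
      (Subgroup.normalizer ((P : Subgroup G) : Set G)) ∣ 99 := by
    rw [← hcn]
    exact Subgroup.relIndex_dvd_card _ _
  have hr : (Subgroup.centralizer ((P : Subgroup G) : Set G)).relIndex
      (Subgroup.normalizer ((P : Subgroup G) : Set G)) = 1 := by
    have : Nat.Coprime (11 - 1) 99 := by norm_num
    exact Nat.eq_one_of_dvd_coprimes this hr1 hr2
  have hPne : (P : Subgroup G) ≠ ⊥ := by
    intro hb
    rw [show Nat.card P = Nat.card (P : Subgroup G) from rfl, hb, Subgroup.card_bot] at hP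
    omega
  exact H04.relIndex_ne_one hG P hPne hr

end Cfsg.Agent.S0994
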