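import Cfsg.Statements.S3315
import Cfsg.Agent.Lib.H11.PSU3c
import Cfsg.Agent.Lib.Lead.HermCount
import Cfsg.Agent.Lib.Lead.GUOrder
import Cfsg.Agent.Lib.Lead.SUOrder
-- import your own Cfsg.Agent.* helpers here

set_option autoImplicit false
open Cfsg

namespace Cfsg.Agent.S3315

/-! ### Sign sums -/

def chi (x : ZMod 2) : ℤ := if x = 0 then 1 else -1

lemma chi_add (x y : ZMod 2) : chi (x + y) = chi x * chi y := by
  revert x y; decide

lemma chi_zero : chi 0 = 1 := by decide

lemma chi_of_ne {x : ZMod 2} (h : x ≠ 0) : chi x = -1 := if_neg h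

lemma sum_chi {A : Type*} [AddCommGroup A] [Fintype A] (f : A →+ ZMod 2) (x₀ : A)
    (h : f x₀ ≠ 0) : ∑ x, chi (f x) = 0 := by
  have h1 : ∑ x, chi (f (x + x₀)) = ∑ x, chi (f x) :=
    Equiv.sum_comp (Equiv.addRight x₀) (fun x => chi (f x))
  have h2 : ∀ x, chi (f (x + x₀)) = - chi (f x) := by
    intro x
    rw [map_add, chi_add, chi_of_ne h]
    ring
  simp only [h2, Finset.sum_neg_distrib] at h1
  linarith

/-- A subgroup on which the quadratic function vanishes, of size at least the square root of the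
whole group, forces the total sign sum to be positive. -/
theorem quad_count {V : Type*} [AddCommGroup V] [Fintype V] (Q : V → ZMod 2) (B : V → V → ZMod 2)
    (hQ : ∀ a c, Q (a + c) = Q a + Q c + B a c)
    (hB : ∀ a c d, B a (c + d) = B a c + B a d)
    (hs : ∀ a c, B a c = B c a)
    (hnd : ∀ a, a ≠ 0 → ∃ c, B a c ≠ 0)
    (C : AddSubgroup V) (hC : ∀ c ∈ C, Q c = 0)
    (hcard : Fintype.card V ≤ (Nat.card C) ^ 2) : 0 < ∑ a, chi (Q a) := by
  classical
  letI : Fintype C := Fintype.ofFinite _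
  have hcardC : Nat.card C = Fintype.card C := Nat.card_eq_fintype_card
  rw [hcardC] at hcard
  let Cp : Finset V := Finset.univ.filter (fun a => ∀ w ∈ C, B a w = 0)
  have hB0 : ∀ a, B a 0 = 0 := by
    intro a
    have := hB a 0 0
    rw [add_zero] at this
    have h2 := this
    linear_combination (exp := 1) (-1 : ZMod 2) * h2
  have hB1 : ∀ a c d, B (a + c) d = B a d + B c d := by
    intro a c d
    rw [hs (a + c) d, hB, hs d a, hs d c]
  -- the inner sums
  have inner : ∀ a, ∑ w : C, chi (B a w) = if a ∈ Cp then (Fintype.card C : ℤ) else 0 := by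
    intro a
    by_cases ha : a ∈ Cp
    · rw [if_pos ha]
      have h3 : ∀ w : C, chi (B a w) = 1 := by
        intro w
        have := (Finset.mem_filter.1 ha).2 w w.2
        rw [this, chi_zero]
      simp [h3]
    · rw [if_neg ha]
      have : ¬ ∀ w ∈ C, B a w = 0 := fun h => ha (Finset.mem_filter.2 ⟨Finset.mem_univ _, h⟩)
      push Not at this
      obtain ⟨w₀, hw₀, hne⟩ := this
      exact sum_chi (AddMonoidHom.mk' (fun w : C => B a w) (fun x y => hB a x y)) ⟨w₀, hw₀⟩ hne
  have hdouble : ∑ w : C, ∑ a : V, chi (B a w) = (Fintype.card V : ℤ) := by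
    rw [Finset.sum_eq_single (0 : C)]
    · simp [hB0, chi_zero]
    · intro w _ hw
      have hw' : (w : V) ≠ 0 := fun h => hw (Subtype.ext h)
      obtain ⟨c, hc⟩ := hnd w hw'
      rw [hs] at hc
      exact sum_chi (AddMonoidHom.mk' (fun a : V => B a w) (fun x y => hB1 x y w)) c hc
    · simp
  have hdouble2 : ∑ w : C, ∑ a : V, chi (B a w) = Cp.card * (Fintype.card C : ℤ) := by
    rw [Finset.sum_comm]
    simp only [inner]
    rw [Finset.sum_ite]
    simp [Cp]
  have hprod : (Cp.card : ℤ) * (Fintype.card C : ℤ) = Fintype.card V := by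
    rw [← hdouble2, hdouble]
  have hprod' : Cp.card * Fintype.card C = Fintype.card V := by exact_mod_cast hprod
  have hBCC : ∀ c ∈ C, ∀ w ∈ C, B c w = 0 := by
    intro c hc w hw
    have h := hQ c w
    rw [hC _ (C.add_mem hc hw), hC _ hc, hC _ hw] at h
    simpa using h.symm
  let Cf : Finset V := Finset.univ.filter (fun a => a ∈ C)
  have hCf : Cf.card = Fintype.card C := by
    rw [Fintype.card_subtype]
  have hCfp : Cf ⊆ Cp := by
    intro c hc
    exact Finset.mem_filter.2 ⟨Finset.mem_univ _, hBCC c (Finset.mem_filter.1 hc).2⟩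
  have hCpos : 0 < Fintype.card C := Fintype.card_pos
  have hle : Cp.card ≤ Cf.card := by
    rw [hCf]
    by_contra hlt
    push Not at hlt
    have : Fintype.card C ^ 2 < Cp.card * Fintype.card C := by
      rw [sq]
      exact Nat.mul_lt_mul_of_pos_right hlt hCpos
    omega
  have hCeq : Cf = Cp := Finset.eq_of_subset_of_card_le hCfp hle
  -- the main double sum
  have h1 : ∑ w : C, ∑ a : V, chi (Q (a + w)) = Fintype.card C * ∑ a, chi (Q a) := by
    have : ∀ w : C, ∑ a : V, chi (Q (a + w)) = ∑ a, chi (Q a) := fun w =>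
      Equiv.sum_comp (Equiv.addRight (w : V)) (fun x => chi (Q x))
    simp [this]
  have h2 : ∑ w : C, ∑ a : V, chi (Q (a + w)) = (Fintype.card C : ℤ) * Fintype.card C := by
    have h3 : ∀ (w : C) (a : V), chi (Q (a + w)) = chi (Q a) * chi (B a w) := by
      intro w a
      rw [hQ, hC _ w.2, add_zero, chi_add]
    simp only [h3]
    rw [Finset.sum_comm]
    simp only [← Finset.mul_sum, inner]
    have h4 : ∀ a : V, chi (Q a) * (if a ∈ Cp then (Fintype.card C : ℤ) else 0) =
        if a ∈ Cp then (Fintype.card C : ℤ) else 0 := by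
      intro a
      by_cases ha : a ∈ Cp
      · rw [if_pos ha]
        have : a ∈ C := by
          rw [← hCeq] at ha
          exact (Finset.mem_filter.1 ha).2
        rw [hC a this, chi_zero, one_mul]
      · rw [if_neg ha, mul_zero]
    simp only [h4]
    rw [Finset.sum_ite]
    have h5 : Cp.card = Fintype.card C := by rw [← hCeq, hCf]
    simp [Cp] at h5 ⊢
    exact h5
  have h6 : (Fintype.card C : ℤ) * ∑ a, chi (Q a) = (Fintype.card C : ℤ) * Fintype.card C := by
    rw [← h1, h2]
  have hCpos' : (0 : ℤ) < Fintype.card C := by exact_mod_cast hCpos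
  have h7 : ∑ a, chi (Q a) = Fintype.card C := mul_left_cancel₀ hCpos'.ne' h6
  rw [h7]
  exact hCpos'

/-! ### The field computations -/

section fieldpart

open Cfsg.Agent

variable {K : Type*} [Field K] [Fintype K] {q : ℕ}

lemma fr_add (hF : Fintype.card K = q ^ 2) (x y : K) : (x + y) ^ q = x ^ q + y ^ q := by
  obtain ⟨φ, hφ⟩ := Lead.exists_frob hF
  rw [← hφ, ← hφ, ← hφ, map_add]

/-- The additive subgroup fixed by the `q`-power map, in characteristic two. -/
def Fq (hF : Fintype.card K = q ^ 2) (h2 : ∀ x : K, x + x = 0) : AddSubgroup K where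
  carrier := {z | z ^ q = z}
  add_mem' {a b} ha hb := by
    show (a + b) ^ q = a + b
    rw [fr_add hF, show a ^ q = a from ha, show b ^ q = b from hb]
  zero_mem' := by
    show (0 : K) ^ q = 0
    exact zero_pow (by have := Lead.two_le_q hF; omega)
  neg_mem' {a} ha := by
    have hneg : -a = a := by
      have := h2 a
      linear_combination -this
    show (-a) ^ q = -a
    rw [hneg]
    exact ha

lemma mem_Fq (hF : Fintype.card K = q ^ 2) (h2 : ∀ x : K, x + x = 0) (z : K) :
    z ∈ Fq hF h2 ↔ z ^ q = z := Iff.rfl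

/-- The norm as a map to the fixed subgroup. -/
def Nm (hF : Fintype.card K = q ^ 2) (h2 : ∀ x : K, x + x = 0) (a : K) : Fq hF h2 :=
  ⟨a ^ (q + 1), Lead.norm_fixed hF a⟩

lemma card_fib (hF : Fintype.card K = q ^ 2) (h2 : ∀ x : K, x + x = 0) [DecidableEq K]
    (z : Fq hF h2) (hz : z ≠ 0) :
    (Finset.univ.filter (fun a : K => Nm hF h2 a = z)).card = q + 1 := by
  classical
  have hq2 := Lead.two_le_q hF
  have hz0 : (z : K) ≠ 0 := fun h => hz (Subtype.ext h)
  obtain ⟨c, hc⟩ := H11.PSU3.exists_norm hF (by omega) (z : K) hz0 z.2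
  have hc0 : c ≠ 0 := by
    rintro rfl
    rw [zero_pow (by omega)] at hc
    exact hz0 hc.symm
  have h1 := Lead.card_norm_one hF
  rw [Nat.card_eq_fintype_card, Fintype.card_subtype] at h1
  rw [← h1]
  symm
  apply Finset.card_bij (fun u _ => c * u)
  · intro u hu
    have hu' := (Finset.mem_filter.1 hu).2
    refine Finset.mem_filter.2 ⟨Finset.mem_univ _, Subtype.ext ?_⟩
    show (c * u) ^ (q + 1) = z
    rw [mul_pow, hc, hu', mul_one]
  · intro u _ v _ h
    exact mul_left_cancel₀ hc0 h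
  · intro a ha
    have ha' : a ^ (q + 1) = z := congrArg Subtype.val (Finset.mem_filter.1 ha).2
    refine ⟨a / c, Finset.mem_filter.2 ⟨Finset.mem_univ _, ?_⟩, ?_⟩
    · rw [div_pow, ha', hc, div_self hz0]
    · field_simp

lemma card_fib_zero (hF : Fintype.card K = q ^ 2) (h2 : ∀ x : K, x + x = 0) [DecidableEq K] :
    (Finset.univ.filter (fun a : K => Nm hF h2 a = 0)).card = 1 := by
  rw [Finset.card_eq_one]
  refine ⟨0, ?_⟩
  ext a
  simp only [Finset.mem_filter, Finset.mem_univ, true_and, Finset.mem_singleton]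
  constructor
  · intro h
    have h' : a ^ (q + 1) = 0 := congrArg Subtype.val h
    exact pow_eq_zero_iff (by omega) |>.1 h'
  · rintro rfl
    apply Subtype.ext
    show (0 : K) ^ (q + 1) = 0
    exact zero_pow (by omega)

lemma sum_norm (hF : Fintype.card K = q ^ 2) (h2 : ∀ x : K, x + x = 0)
    [Fintype (Fq hF h2)] (h : Fq hF h2 → ℤ) :
    ∑ a : K, h (Nm hF h2 a) = (q + 1) * ∑ z, h z - q * h 0 := by
  classical
  rw [← Finset.sum_fiberwise Finset.univ (Nm hF h2) (fun a => h (Nm hF h2 a))]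
  have h1 : ∀ z : Fq hF h2, ∑ a ∈ Finset.univ.filter (fun a : K => Nm hF h2 a = z), h (Nm hF h2 a) =
      ((q + 1) - q * (if z = 0 then 1 else 0)) * h z := by
    intro z
    have h3 : ∀ a ∈ Finset.univ.filter (fun a : K => Nm hF h2 a = z), h (Nm hF h2 a) = h z := by
      intro a ha
      rw [(Finset.mem_filter.1 ha).2]
    rw [Finset.sum_congr rfl h3, Finset.sum_const, nsmul_eq_mul]
    by_cases hz : z = 0
    · subst hz
      rw [card_fib_zero, if_pos rfl]
      push_cast
      ring
    · rw [card_fib hF h2 z hz, if_neg hz]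
      push_cast
      ring
  simp only [h1, sub_mul, Finset.sum_sub_distrib, ← Finset.mul_sum, mul_assoc]
  congr 2
  simp

lemma card_Fq (hF : Fintype.card K = q ^ 2) (h2 : ∀ x : K, x + x = 0)
    [Fintype (Fq hF h2)] : Fintype.card (Fq hF h2) = q := by
  have h1 := sum_norm hF h2 (fun _ => (1 : ℤ))
  simp only [Finset.sum_const, Finset.card_univ, nsmul_eq_mul, mul_one, hF] at h1
  have hq2 := Lead.two_le_q hF
  have h3 : ((q : ℤ) + 1) * (Fintype.card (Fq hF h2) : ℤ) = ((q : ℤ) + 1) * q := by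
    push_cast at h1
    linear_combination -h1
  have hq1 : ((q : ℤ) + 1) ≠ 0 := by positivity
  exact_mod_cast mul_left_cancel₀ hq1 h3

lemma exists_tr_one (hF : Fintype.card K = q ^ 2) (h2 : ∀ x : K, x + x = 0) :
    ∃ ω : K, ω + ω ^ q = 1 := by
  classical
  have hq2 := Lead.two_le_q hF
  have hex : ∃ ω : K, ω ^ q ≠ ω := by
    by_contra hall
    push Not at hall
    letI : Fintype (Fq hF h2) := Fintype.ofFinite _
    have h1 := card_Fq hF h2
    have h3 : Fintype.card (Fq hF h2) = Fintype.card K :=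
      Fintype.card_congr ⟨fun z => z.1, fun a => ⟨a, hall a⟩, fun _ => rfl, fun _ => rfl⟩
    rw [h1, hF] at h3
    nlinarith
  obtain ⟨ω, hω⟩ := hex
  have hne : ω + ω ^ q ≠ 0 := by
    intro h
    apply hω
    have := h2 ω
    linear_combination h - this
  refine ⟨ω / (ω + ω ^ q), ?_⟩
  have hfix : (ω + ω ^ q) ^ q = ω + ω ^ q := by
    rw [fr_add hF, Lead.pow_q_sq hF]
    ring
  rw [div_pow, hfix]
  field_simp

lemma exists_tr (hF : Fintype.card K = q ^ 2) (h2 : ∀ x : K, x + x = 0) (w : K) (hw : w ^ q = w) :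
    ∃ y : K, y + y ^ q = w := by
  obtain ⟨ω, hω⟩ := exists_tr_one hF h2
  refine ⟨w * ω, ?_⟩
  rw [mul_pow, hw]
  linear_combination w * hω

lemma exists_D (hF : Fintype.card K = q ^ 2) (h2 : ∀ x : K, x + x = 0) (a z : K) (ha : a ≠ 0)
    (hz : z ^ q = z) : ∃ c : K, a ^ q * c + a * c ^ q = z := by
  have hq2 := Lead.two_le_q hF
  have hN : a ^ (q + 1) ≠ 0 := pow_ne_zero _ ha
  have hfix : (z / a ^ (q + 1)) ^ q = z / a ^ (q + 1) := by
    rw [div_pow, hz, Lead.norm_fixed hF]
  obtain ⟨y, hy⟩ := exists_tr hF h2 _ hfix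
  refine ⟨a * y, ?_⟩
  rw [mul_pow]
  have h3 : a ^ (q + 1) * (y + y ^ q) = z := by
    rw [hy]
    field_simp
  rw [← h3, pow_succ]
  ring

end fieldpart

/-! ### The model of the Sylow subgroup -/

section modelpart

open Cfsg.Agent

/-- Coordinates `(a, s)` on a group with the multiplication of the Sylow subgroup of `SU₃`. -/
structure Mod (P : Type*) [Group P] (K : Type*) [Field K] (q : ℕ) where
  pa : P → K
  ps : P → K
  ext' : ∀ g h, pa g = pa h → ps g = ps h → g = h
  pa_mul : ∀ g h, pa (g * h) = pa g + pa h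
  ps_mul : ∀ g h, ps (g * h) = ps g + ps h + (pa g) ^ q * pa h
  rel : ∀ g, ps g + (ps g) ^ q = (pa g) ^ (q + 1)
  surj : ∀ a s, s + s ^ q = a ^ (q + 1) → ∃ g, pa g = a ∧ ps g = s

variable {K : Type*} [Field K] [Fintype K] {q : ℕ} {P : Type*} [Group P] (M : Mod P K q)

lemma Mod.pa_one : M.pa 1 = 0 := by
  have := M.pa_mul 1 1
  rw [mul_one] at this
  linear_combination -this

lemma Mod.pa_inv (h2 : ∀ x : K, x + x = 0) (g : P) : M.pa g⁻¹ = M.pa g := by
  have h1 := M.pa_mul g⁻¹ g
  rw [inv_mul_cancel, M.pa_one] at h1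
  have := h2 (M.pa g)
  linear_combination -h1 - this

lemma Mod.central_of_pa (hq : q ≠ 0) (g : P) (h : M.pa g = 0) (y : P) : g * y = y * g := by
  apply M.ext'
  · rw [M.pa_mul, M.pa_mul, add_comm]
  · rw [M.ps_mul, M.ps_mul, h, zero_pow hq]
    ring

lemma Mod.pa_of_central (hF : Fintype.card K = q ^ 2) (h2 : ∀ x : K, x + x = 0) (g : P)
    (hg : ∀ y, g * y = y * g) : M.pa g = 0 := by
  have hq2 := Lead.two_le_q hF
  by_contra ha
  obtain ⟨ω, hω⟩ := exists_tr_one hF h2
  obtain ⟨s, hs⟩ := exists_tr hF h2 ((M.pa g * ω) ^ (q + 1)) (Lead.norm_fixed hF _)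
  obtain ⟨y, hy1, hy2⟩ := M.surj _ _ hs
  have h1 := congrArg M.ps (hg y)
  rw [M.ps_mul, M.ps_mul, hy1, mul_pow] at h1
  have h3 : (M.pa g) ^ q * (M.pa g) * (ω - ω ^ q) = 0 := by
    linear_combination h1
  have hne : (M.pa g) ^ q * (M.pa g) ≠ 0 := mul_ne_zero (pow_ne_zero _ ha) ha
  have h4 : ω - ω ^ q = 0 := (mul_eq_zero.1 h3).resolve_left hne
  have h5 := h2 ω
  have h6 : (1 : K) = 0 := by linear_combination -hω + h5 - h4
  exact one_ne_zero h6

/-- The image under an automorphism whose square is inner fixes the centre. -/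
theorem main_fix [CharP K 2] (hF : Fintype.card K = q ^ 2) (β : P ≃* P) (t : P)
    (hβ : ∀ y, β (β y) = t * y * t⁻¹) (g : P) (hg : M.pa g = 0) : β g = g := by
  classical
  have h2 : ∀ x : K, x + x = 0 := fun x => CharTwo.add_self_eq_zero x
  have hq2 := Lead.two_le_q hF
  have hq0 : q ≠ 0 := by omega
  -- the centre is preserved
  have hc : ∀ g, M.pa g = 0 → M.pa (β g) = 0 := by
    intro g hg
    apply M.pa_of_central hF h2
    intro y
    have h1 := M.central_of_pa hq0 g hg (β.symm y)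
    have h3 := congrArg β h1
    simpa using h3
  -- sections
  have hsec : ∀ a : K, ∃ g, M.pa g = a := by
    intro a
    obtain ⟨s, hs⟩ := exists_tr hF h2 (a ^ (q + 1)) (Lead.norm_fixed hF _)
    obtain ⟨y, hy1, -⟩ := M.surj _ _ hs
    exact ⟨y, hy1⟩
  choose sec hsec using hsec
  let b : K → K := fun a => M.pa (β (sec a))
  have hb : ∀ y, M.pa (β y) = b (M.pa y) := by
    intro y
    have h1 : y = sec (M.pa y) * ((sec (M.pa y))⁻¹ * y) := by group
    have h3 : M.pa ((sec (M.pa y))⁻¹ * y) = 0 := by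
      rw [M.pa_mul, M.pa_inv h2, hsec]
      exact h2 _
    conv_lhs => rw [h1, map_mul, M.pa_mul, hc _ h3, add_zero]
  have badd : ∀ a c, b (a + c) = b a + b c := by
    intro a c
    have h1 := hb (sec a * sec c)
    rw [map_mul, M.pa_mul, M.pa_mul, hsec, hsec] at h1
    exact h1.symm
  have binv : ∀ a, b (b a) = a := by
    intro a
    have h1 := hb (β (sec a))
    rw [hβ, M.pa_mul, M.pa_mul, M.pa_inv h2, hsec] at h1
    have h3 : b (M.pa (β (sec a))) = b (b a) := rfl
    rw [← h3, ← h1]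
    have := h2 (M.pa t)
    linear_combination this
  -- the central elements
  have hzz : ∀ z : Fq hF h2, ∃ g, M.pa g = 0 ∧ M.ps g = z := by
    intro z
    apply M.surj
    have hz : (z : K) ^ q = z := z.2
    rw [hz, zero_pow (by omega)]
    exact h2 _
  choose gz hgz1 hgz2 using hzz
  have hσfix : ∀ z : Fq hF h2, (M.ps (β (gz z))) ^ q = M.ps (β (gz z)) := by
    intro z
    have h1 := M.rel (β (gz z))
    rw [hc _ (hgz1 z), zero_pow (by omega)] at h1
    have := h2 (M.ps (β (gz z)))
    linear_combination h1 - this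
  let σ : Fq hF h2 → Fq hF h2 := fun z => ⟨M.ps (β (gz z)), hσfix z⟩
  have hgzadd : ∀ z z', gz (z + z') = gz z * gz z' := by
    intro z z'
    apply M.ext'
    · rw [M.pa_mul, hgz1, hgz1, hgz1, add_zero]
    · rw [M.ps_mul, hgz1, hgz2, hgz2, hgz2, zero_pow hq0, zero_mul, add_zero]
      rfl
  have hσadd : ∀ z z', σ (z + z') = σ z + σ z' := by
    intro z z'
    apply Subtype.ext
    show M.ps (β (gz (z + z'))) = M.ps (β (gz z)) + M.ps (β (gz z'))
    rw [hgzadd, map_mul, M.ps_mul, hc _ (hgz1 z), zero_pow hq0, zero_mul, add_zero]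
  -- squares
  have hsq : ∀ y, y * y = gz (Nm hF h2 (M.pa y)) := by
    intro y
    apply M.ext'
    · rw [M.pa_mul, hgz1]
      exact h2 _
    · rw [M.ps_mul, hgz2, h2, zero_add]
      show _ = (M.pa y) ^ (q + 1)
      rw [pow_succ]
  have hσN : ∀ a, σ (Nm hF h2 a) = Nm hF h2 (b a) := by
    intro a
    apply Subtype.ext
    have h1 := hsq (sec a)
    rw [hsec] at h1
    show M.ps (β (gz (Nm hF h2 a))) = (b a) ^ (q + 1)
    rw [← h1, map_mul, M.ps_mul, h2, zero_add, pow_succ]
  -- the heart of the proof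
  have hσid : ∀ z, σ z = z := by
    by_contra hne
    push Not at hne
    obtain ⟨z₀, hz₀⟩ := hne
    have hv : ((z₀ : K) + (σ z₀ : K)) ≠ 0 := by
      intro h
      apply hz₀
      apply Subtype.ext
      have := h2 (z₀ : K)
      linear_combination h - this
    letI : Module (ZMod 2) K := (ZMod.algebra K 2).toModule
    obtain ⟨lam, hlam⟩ : ∃ lam : Module.Dual (ZMod 2) K, lam ((z₀ : K) + (σ z₀ : K)) ≠ 0 := by
      by_contra hall
      push Not at hall
      exact hv ((Module.forall_dual_apply_eq_zero_iff (ZMod 2) _).1 hall)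
    let ν : Fq hF h2 →+ ZMod 2 := AddMonoidHom.mk' (fun z => lam (z : K) + lam (σ z : K)) (by
      intro x y
      rw [hσadd]
      show lam ((x : K) + (y : K)) + lam (((σ x : Fq hF h2) : K) + ((σ y : Fq hF h2) : K)) = _
      rw [map_add, map_add]
      ring)
    have hνz₀ : ν z₀ ≠ 0 := by
      have : ν z₀ = lam ((z₀ : K) + (σ z₀ : K)) := by
        show lam (z₀ : K) + lam (σ z₀ : K) = _
        rw [map_add]
      rw [this]
      exact hlam
    have hDm : ∀ a c : K, (a ^ q * c + a * c ^ q) ^ q = a ^ q * c + a * c ^ q := by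
      intro a c
      rw [fr_add hF, mul_pow, mul_pow, Lead.pow_q_sq hF, Lead.pow_q_sq hF]
      ring
    let Dm : K → K → Fq hF h2 := fun a c => ⟨a ^ q * c + a * c ^ q, hDm a c⟩
    have hNadd : ∀ a c, Nm hF h2 (a + c) = Nm hF h2 a + Nm hF h2 c + Dm a c := by
      intro a c
      apply Subtype.ext
      show (a + c) ^ (q + 1) = a ^ (q + 1) + c ^ (q + 1) + (a ^ q * c + a * c ^ q)
      rw [pow_succ, fr_add hF, pow_succ, pow_succ]
      ring
    have hC2 : ∀ c ∈ (AddMonoidHom.mk' (fun a => b a + a) (fun x y => by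
        rw [badd]; ring) : K →+ K).ker, b c = c := by
      intro c hc
      have hc' : b c + c = 0 := hc
      have := h2 c
      linear_combination hc' - this
    let r : K →+ K := AddMonoidHom.mk' (fun a => b a + a) (fun x y => by rw [badd]; ring)
    have hrr : r.range ≤ r.ker := by
      rintro _ ⟨a, rfl⟩
      show b (b a + a) + (b a + a) = 0
      rw [badd, binv]
      have h3 := h2 a
      have h4 := h2 (b a)
      linear_combination h3 + h4
    have hcardC : Fintype.card K ≤ (Nat.card r.ker) ^ 2 := by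
      have h1 := AddSubgroup.card_eq_card_quotient_mul_card_addSubgroup r.ker
      rw [Nat.card_congr (QuotientAddGroup.quotientKerEquivRange r).toEquiv] at h1
      have h3 : Nat.card r.range ≤ Nat.card r.ker :=
        Nat.card_le_card_of_injective _ (AddSubgroup.inclusion_injective hrr)
      rw [Nat.card_eq_fintype_card] at h1
      rw [h1, sq]
      exact Nat.mul_le_mul_right _ h3
    have hpos := quad_count (fun a => ν (Nm hF h2 a)) (fun a c => ν (Dm a c))
      (by
        intro a c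
        show ν (Nm hF h2 (a + c)) = _
        rw [hNadd, map_add, map_add])
      (by
        intro a c d
        rw [← map_add]
        congr 1
        apply Subtype.ext
        show a ^ q * (c + d) + a * (c + d) ^ q = _ + _
        rw [fr_add hF]
        show _ = (a ^ q * c + a * c ^ q) + (a ^ q * d + a * d ^ q)
        ring)
      (by
        intro a c
        congr 1
        apply Subtype.ext
        show a ^ q * c + a * c ^ q = c ^ q * a + c * a ^ q
        ring)
      (by
        intro a ha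
        obtain ⟨c, hc⟩ := exists_D hF h2 a (z₀ : K) ha z₀.2
        refine ⟨c, ?_⟩
        have : Dm a c = z₀ := Subtype.ext hc
        rw [this]
        exact hνz₀)
      r.ker
      (by
        intro c hc
        show lam (Nm hF h2 c : K) + lam (σ (Nm hF h2 c) : K) = 0
        rw [hσN, hC2 c hc]
        exact CharTwo.add_self_eq_zero _)
      hcardC
    letI : Fintype (Fq hF h2) := Fintype.ofFinite _
    have hS := sum_norm hF h2 (fun z => chi (ν z))
    rw [sum_chi ν z₀ hνz₀, map_zero, chi_zero] at hS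
    have hq0' : (0 : ℤ) < q := by exact_mod_cast (by omega : 0 < q)
    have : (0 : ℤ) < ∑ a : K, chi (ν (Nm hF h2 a)) := hpos
    rw [hS] at this
    linarith
  -- conclusion
  have hfix : (M.ps g) ^ q = M.ps g := by
    have h1 := M.rel g
    rw [hg, zero_pow (by omega)] at h1
    have := h2 (M.ps g)
    linear_combination h1 - this
  have hgz : g = gz ⟨M.ps g, hfix⟩ := by
    apply M.ext'
    · rw [hg, hgz1]
    · rw [hgz2]
  apply M.ext'
  · rw [hg]
    exact hc g hg
  · have h1 := congrArg Subtype.val (hσid ⟨M.ps g, hfix⟩)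
    show M.ps (β g) = _
    have h3 : M.ps (β (gz ⟨M.ps g, hfix⟩)) = M.ps g := h1
    rw [← hgz] at h3
    exact h3

end modelpart

/-! ### The matrices -/

section matpart

open Cfsg.Agent
open scoped Matrix

variable {F : Type*} [Field F] [Fintype F] {q : ℕ}

/-- The Sylow element with coordinates `(a, s)`. -/
def mat (q : ℕ) (a s : F) : Matrix (Fin 3) (Fin 3) F :=
  !![1 + s, s, a ^ q; s, 1 + s, a ^ q; a, a, 1]

lemma mat_mul [CharP F 2] (hF : Fintype.card F = q ^ 2) (a s c t : F) :
    mat q a s * mat q c t = mat q (a + c) (s + t + a ^ q * c) := by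
  have c2 : (2 : F) = 0 := CharTwo.two_eq_zero
  have hfr := fr_add hF a c
  ext i j
  fin_cases i <;> fin_cases j <;>
    simp [mat, Matrix.mul_apply, Fin.sum_univ_three, hfr]
  · linear_combination (s * t) * c2
  · linear_combination (s * t) * c2
  · linear_combination (s * c ^ q) * c2
  · linear_combination (s * t) * c2
  · linear_combination (s * t) * c2
  · linear_combination (s * c ^ q) * c2
  · linear_combination (a * t) * c2
  · linear_combination (a * t) * c2
  · linear_combination (a * c ^ q) * c2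

lemma mat_zero (hq : q ≠ 0) : mat q (0 : F) 0 = 1 := by
  ext i j
  fin_cases i <;> fin_cases j <;> simp [mat, zero_pow hq]

lemma mat_det [CharP F 2] (a s : F) : (mat q a s).det = 1 := by
  have c2 : (2 : F) = 0 := CharTwo.two_eq_zero
  rw [Matrix.det_fin_three]
  simp [mat]
  linear_combination (s - a ^ q * a) * c2

lemma mat_pres [CharP F 2] (hF : Fintype.card F = q ^ 2) (a s : F) (h : s + s ^ q = a ^ (q + 1))
    (u v : Fin 3 → F) :
    Cfsg.hermForm 3 F q (mat q a s *ᵥ u) (mat q a s *ᵥ v) = Cfsg.hermForm 3 F q u v := by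
  have c2 : (2 : F) = 0 := CharTwo.two_eq_zero
  simp only [Cfsg.hermForm, Fin.sum_univ_three, Matrix.mulVec, dotProduct]
  simp only [mat]
  simp [Fin.sum_univ_three, fr_add hF, mul_pow, Lead.pow_q_sq hF]
  rw [pow_succ] at h
  generalize (v 0) ^ q = v0 at *
  generalize (v 1) ^ q = v1 at *
  generalize (v 2) ^ q = v2 at *
  generalize u 0 = u0 at *
  generalize u 1 = u1 at *
  generalize u 2 = u2 at *
  generalize s ^ q = s' at *
  generalize a ^ q = a' at *
  linear_combination (u0 + u1) * (v0 + v1) * h +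
    ((u0 + u1) * (v0 + v1) * a * a' + a * (u0 + u1) * v2 + a' * u2 * (v0 + v1) +
      (s * (u0 + u1) + a' * u2) * (s' * (v0 + v1) + a * v2)) * c2

/-- The element of `SU₃`. -/
def mkEl [CharP F 2] (hF : Fintype.card F = q ^ 2) (a s : F) (h : s + s ^ q = a ^ (q + 1)) :
    ↥(Cfsg.SU 3 F q) :=
  ⟨⟨mat q a s, mat_det a s⟩, fun u v => mat_pres hF a s h u v⟩

lemma coe_mkEl [CharP F 2] (hF : Fintype.card F = q ^ 2) (a s : F) (h : s + s ^ q = a ^ (q + 1)) :
    ((mkEl hF a s h).1 : Matrix (Fin 3) (Fin 3) F) = mat q a s := rfl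

/-- The explicit Sylow `2`-subgroup. -/
def P0 [CharP F 2] (hF : Fintype.card F = q ^ 2) : Subgroup ↥(Cfsg.SU 3 F q) where
  carrier := {g | ∃ a s : F, s + s ^ q = a ^ (q + 1) ∧ (g.1 : Matrix (Fin 3) (Fin 3) F) = mat q a s}
  mul_mem' := by
    rintro g g' ⟨a, s, h, hg⟩ ⟨c, t, h', hg'⟩
    refine ⟨a + c, s + t + a ^ q * c, ?_, ?_⟩
    · have c2 : (2 : F) = 0 := CharTwo.two_eq_zero
      rw [fr_add hF, fr_add hF, mul_pow, Lead.pow_q_sq hF, pow_succ, fr_add hF]
      rw [pow_succ] at h h'
      linear_combination h + h'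
    · show ((g.1 : Matrix (Fin 3) (Fin 3) F) * (g'.1 : Matrix (Fin 3) (Fin 3) F)) = _
      rw [hg, hg', mat_mul hF]
  one_mem' := by
    have hq0 : q ≠ 0 := by have := Lead.two_le_q hF; omega
    refine ⟨0, 0, ?_, ?_⟩
    · rw [zero_pow hq0, zero_pow (by omega), add_zero]
    · rw [mat_zero hq0]
      rfl
  inv_mem' := by
    rintro g ⟨a, s, h, hg⟩
    have hq0 : q ≠ 0 := by have := Lead.two_le_q hF; omega
    have hel : s ^ q + (s ^ q) ^ q = a ^ (q + 1) := by
      rw [Lead.pow_q_sq hF, add_comm]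
      exact h
    refine ⟨a, s ^ q, hel, ?_⟩
    have h1 : g * mkEl hF a (s ^ q) hel = 1 := by
      apply Subtype.ext
      apply Subtype.ext
      show (g.1 : Matrix (Fin 3) (Fin 3) F) * mat q a (s ^ q) = 1
      rw [hg, mat_mul hF]
      have h2 : s + s ^ q + a ^ q * a = 0 := by
        rw [h, pow_succ]
        exact CharTwo.add_self_eq_zero _
      rw [h2, CharTwo.add_self_eq_zero, mat_zero hq0]
    have h3 : g⁻¹ = mkEl hF a (s ^ q) hel := inv_eq_of_mul_eq_one_right h1
    rw [h3]
    rfl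

lemma pa_mat (a s : F) : mat q a s 2 0 = a := by simp [mat]

lemma ps_mat (a s : F) : mat q a s 0 1 = s := by simp [mat]

/-- The coordinates on the explicit Sylow subgroup. -/
def modP0 [CharP F 2] (hF : Fintype.card F = q ^ 2) : Mod (P0 hF) F q where
  pa g := (g.1.1 : Matrix (Fin 3) (Fin 3) F) 2 0
  ps g := (g.1.1 : Matrix (Fin 3) (Fin 3) F) 0 1
  ext' := by
    rintro ⟨g, a, s, h, hg⟩ ⟨g', a', s', h', hg'⟩ h1 h2
    simp only [hg, hg', pa_mat, ps_mat] at h1 h2
    subst h1 h2
    apply Subtype.ext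
    apply Subtype.ext
    apply Subtype.ext
    exact hg.trans hg'.symm
  pa_mul := by
    rintro ⟨g, a, s, h, hg⟩ ⟨g', a', s', h', hg'⟩
    show ((g.1 : Matrix (Fin 3) (Fin 3) F) * (g'.1 : Matrix (Fin 3) (Fin 3) F)) 2 0 = _
    simp only [hg, hg', mat_mul hF, pa_mat]
  ps_mul := by
    rintro ⟨g, a, s, h, hg⟩ ⟨g', a', s', h', hg'⟩
    show ((g.1 : Matrix (Fin 3) (Fin 3) F) * (g'.1 : Matrix (Fin 3) (Fin 3) F)) 0 1 = _
    simp only [hg, hg', mat_mul hF, pa_mat, ps_mat]
  rel := by
    rintro ⟨g, a, s, h, hg⟩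
    simp only [hg, pa_mat, ps_mat]
    exact h
  surj := by
    intro a s h
    refine ⟨⟨mkEl hF a s h, a, s, h, rfl⟩, ?_, ?_⟩
    · exact pa_mat a s
    · exact ps_mat a s

/-- The order of a group with coordinates. -/
lemma Mod.card_eq [CharP F 2] (hF : Fintype.card F = q ^ 2) {P : Type*} [Group P] (M : Mod P F q) :
    Nat.card P = q ^ 3 := by
  classical
  have h2 : ∀ x : F, x + x = 0 := fun x => CharTwo.add_self_eq_zero x
  have hsec : ∀ a : F, ∃ s, s + s ^ q = a ^ (q + 1) := fun a =>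
    exists_tr hF h2 (a ^ (q + 1)) (Lead.norm_fixed hF _)
  choose s₀ hs₀ using hsec
  have hmem : ∀ g : P, (M.ps g + s₀ (M.pa g)) ^ q = M.ps g + s₀ (M.pa g) := by
    intro g
    rw [fr_add hF]
    have h3 := M.rel g
    have h4 := hs₀ (M.pa g)
    have h5 := h2 (M.ps g)
    have h6 := h2 ((s₀ (M.pa g)) ^ q)
    linear_combination h3 - h4 - h5 + h6
  have hmk : ∀ (a : F) (z : Fq hF h2), ∃ g, M.pa g = a ∧ M.ps g = s₀ a + z := by
    intro a z
    apply M.surj
    rw [fr_add hF, show (z : F) ^ q = z from z.2, ← hs₀ a]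
    have := h2 (z : F)
    linear_combination this
  choose mk hmk1 hmk2 using hmk
  let e : P ≃ F × Fq hF h2 :=
    { toFun := fun g => (M.pa g, ⟨M.ps g + s₀ (M.pa g), hmem g⟩)
      invFun := fun p => mk p.1 p.2
      left_inv := by
        intro g
        apply M.ext'
        · rw [hmk1]
        · rw [hmk2]
          show s₀ (M.pa g) + (M.ps g + s₀ (M.pa g)) = _
          have := h2 (s₀ (M.pa g))
          linear_combination this
      right_inv := by
        rintro ⟨a, z⟩
        have h1 := hmk1 a z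
        have h3 := hmk2 a z
        ext
        · exact h1
        · show M.ps (mk a z) + s₀ (M.pa (mk a z)) = z
          rw [h1, h3]
          have := h2 (s₀ a)
          linear_combination this }
  rw [Nat.card_congr e, Nat.card_prod, Nat.card_eq_fintype_card, hF]
  letI : Fintype (Fq hF h2) := Fintype.ofFinite _
  rw [Nat.card_eq_fintype_card, card_Fq]
  ring

end matpart

/-! ### Assembling -/

lemma charP_of_card {F : Type*} [Field F] [Fintype F] {n : ℕ} (hF : Fintype.card F = 4 ^ n) (hn : 2 ≤ n) :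
    CharP F 2 := by
  obtain ⟨p, hp⟩ := CharP.exists F
  haveI := hp
  obtain ⟨e, hpp, he⟩ := FiniteField.card F p
  have h1 : p ∣ 4 ^ n := by
    rw [← hF, he]
    exact dvd_pow_self p e.ne_zero
  have h2 : p ∣ 4 := hpp.dvd_of_dvd_pow h1
  have h3 : p ∣ 2 ^ 2 := by simpa using h2
  have h4 : p ∣ 2 := hpp.dvd_of_dvd_pow h3
  have h5 : p = 2 := (Nat.prime_dvd_prime_iff_eq hpp Nat.prime_two).1 h4
  rw [h5] at hp
  exact hp

theorem aux {R : Type*} [Group R] [Finite R]
    (n : ℕ) (hn : 2 ≤ n) (q : ℕ) (hq : q = 2 ^ n) {F : Type*} [Field F] [Fintype F] (hF : Fintype.card F = 4 ^ n)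
    (P : Sylow 2 ↥(Cfsg.SU 3 F q)) (S' : Subgroup R) (hS : Nonempty (↥S' ≃* ↥(P : Subgroup ↥(Cfsg.SU 3 F q))))
    (hidx : S'.index = 2) :
    (Subgroup.center ↥S').map S'.subtype ≤ Subgroup.center R := by
  have hqq : (2 ^ n) ^ 2 = 4 ^ n := by
    rw [← pow_mul, mul_comm, pow_mul]
    norm_num
  have hF' : Fintype.card F = q ^ 2 := by rw [hF, hq, hqq]
  haveI : CharP F 2 := charP_of_card hF hn
  haveI : Fact (Nat.Prime 2) := ⟨Nat.prime_two⟩
  have hq2 : 4 ≤ q := by
    rw [hq]
    calc 4 = 2 ^ 2 := by norm_num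
      _ ≤ 2 ^ n := Nat.pow_le_pow_right (by norm_num) hn
  have hqeven : 2 ∣ q := by
    rw [hq]
    exact dvd_pow_self 2 (by omega)
  -- the order of SU₃
  have hcardG : Nat.card ↥(Cfsg.SU 3 F q) = q ^ 3 * ((q ^ 2 - 1) * (q ^ 3 + 1)) := by
    have h1 := Lead.card_GU_eq hF' (n := 3) (by norm_num)
    have h2 := Lead.card_GU (n := 3) hF'
    rw [h1] at h2
    simp only [Finset.prod_range_succ, Finset.prod_range_zero] at h2
    norm_num at h2
    have hq1 : 0 < q + 1 := by omega
    apply Nat.eq_of_mul_eq_mul_left hq1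
    rw [h2]
    ring
  have hodd : ¬ 2 ∣ ((q ^ 2 - 1) * (q ^ 3 + 1)) := by
    have h1 : ¬ 2 ∣ (q ^ 2 - 1) := by
      intro h
      have h3 : 2 ∣ q ^ 2 := dvd_pow hqeven (by norm_num)
      have h4 : 1 ≤ q ^ 2 := Nat.one_le_pow _ _ (by omega)
      omega
    have h2 : ¬ 2 ∣ (q ^ 3 + 1) := by
      intro h
      have h3 : 2 ∣ q ^ 3 := dvd_pow hqeven (by norm_num)
      omega
    intro h
    rcases (Nat.Prime.dvd_mul Nat.prime_two).1 h with h | h
    · exact h1 h
    · exact h2 h
  have hne : (q ^ 2 - 1) * (q ^ 3 + 1) ≠ 0 := by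
    intro h
    exact hodd (by rw [h]; exact dvd_zero 2)
  have hfact : (Nat.card ↥(Cfsg.SU 3 F q)).factorization 2 = 3 * n := by
    rw [hcardG, Nat.factorization_mul (pow_ne_zero _ (by omega)) hne, Finsupp.add_apply,
      Nat.factorization_eq_zero_of_not_dvd hodd, add_zero, hq, ← pow_mul,
      Nat.Prime.factorization_pow Nat.prime_two]
    simp [mul_comm]
  have hcardP0 : Nat.card (P0 (q := q) hF') = 2 ^ (Nat.card ↥(Cfsg.SU 3 F q)).factorization 2 := by
    rw [hfact, (modP0 hF').card_eq hF', hq, ← pow_mul, mul_comm]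
  let Q0 : Sylow 2 ↥(Cfsg.SU 3 F q) := Sylow.ofCard (P0 hF') hcardP0
  obtain ⟨e₀⟩ := hS
  let φ : ↥S' ≃* (P0 (q := q) hF') := e₀.trans (Sylow.equiv P Q0)
  -- normal subgroup of index two
  haveI hnorm : S'.Normal := Subgroup.normal_of_index_eq_two hidx
  rintro _ ⟨z, hz, rfl⟩
  rw [Subgroup.mem_center_iff]
  intro x
  by_cases hx : x ∈ S'
  · have := (Subgroup.mem_center_iff.1 hz) ⟨x, hx⟩
    exact congrArg Subtype.val this
  · have hxx : x * x ∈ S' := Subgroup.mul_self_mem_of_index_two hidx x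
    let α : ↥S' ≃* ↥S' := MulAut.conjNormal x
    let β : (P0 (q := q) hF') ≃* (P0 (q := q) hF') := φ.symm.trans (α.trans φ)
    have hαα : ∀ y : ↥S', α (α y) = (⟨x * x, hxx⟩ : ↥S') * y * (⟨x * x, hxx⟩ : ↥S')⁻¹ := by
      intro y
      apply Subtype.ext
      show x * (x * (y : R) * x⁻¹) * x⁻¹ = x * x * y * (x * x)⁻¹
      group
    have hβ : ∀ y, β (β y) = φ ⟨x * x, hxx⟩ * y * (φ ⟨x * x, hxx⟩)⁻¹ := by
      intro y
      show φ (α (φ.symm (φ (α (φ.symm y))))) = _
      rw [MulEquiv.symm_apply_apply, hαα, map_mul, map_mul, map_inv, MulEquiv.apply_symm_apply]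
    have hzc : ∀ y : (P0 (q := q) hF'), φ z * y = y * φ z := by
      intro y
      have h1 := (Subgroup.mem_center_iff.1 hz) (φ.symm y)
      have h2 := congrArg φ h1
      rw [map_mul, map_mul, MulEquiv.apply_symm_apply] at h2
      exact h2.symm
    have hpa := (modP0 hF').pa_of_central hF' (fun x => CharTwo.add_self_eq_zero x) (φ z) hzc
    have hfix := main_fix (modP0 hF') hF' β _ hβ (φ z) hpa
    have h3 : α z = z := by
      have h4 : φ (α z) = φ z := by
        have h6 : β (φ z) = φ (α (φ.symm (φ z))) := rfl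
        rw [MulEquiv.symm_apply_apply] at h6
        rw [← h6]
        exact hfix
      exact φ.injective h4
    have h5 : x * (z : R) * x⁻¹ = z := congrArg Subtype.val h3
    show x * (z : R) = z * x
    calc x * (z : R) = x * (z : R) * x⁻¹ * x := by group
      _ = z * x := by rw [h5]


/-- Let S be a Sylow 2-subgroup of SU₃(2ⁿ), n ≥ 2 (realised over the field with 4ⁿ elements). If a finite 2-group R contains a subgroup S' of index 2 isomorphic to S, then the centre of S' is contained in the centre of R. -/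
theorem result {R : Type*} [Group R] [Finite R]
    (hR : IsPGroup 2 R) (n : ℕ) (hn : 2 ≤ n) {F : Type*} [Field F] [Fintype F] (hF : Fintype.card F = 4 ^ n)
    (P : Sylow 2 ↥(Cfsg.SU 3 F (2 ^ n))) (S' : Subgroup R) (hS : Nonempty (↥S' ≃* ↥(P : Subgroup ↥(Cfsg.SU 3 F (2 ^ n)))))
    (hidx : S'.index = 2) :
    (Subgroup.center ↥S').map S'.subtype ≤ Subgroup.center R := by
  exact aux n hn (2 ^ n) rfl hF P S' hS hidx

end Cfsg.Agent.S3315
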