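import Cfsg.Statements.S1141
import Cfsg.Agent.S3315
import Cfsg.Agent.Lib.Lead.SUCenter
-- import your own Cfsg.Agent.* helpers here

set_option autoImplicit false
open Cfsg

namespace Cfsg.Agent.S1141

open Cfsg.Agent.S3315
open Cfsg.Agent
open scoped commutatorElement

section act

variable {F : Type*} [Field F] [Fintype F] [CharP F 2] {q : ℕ} {T : Type*} [Group T]

/-- the torus acts on the coordinates -/
theorem exists_act (hF : Fintype.card F = q ^ 2) (M : Mod T F q) (l : F) (hl : l ^ q = l) (g : T) :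
    ∃ g', M.pa g' = l * M.pa g ∧ M.ps g' = l ^ 2 * M.ps g := by
  apply M.surj
  have h1 := M.rel g
  rw [mul_pow, mul_pow, show (l ^ 2) ^ q = (l ^ q) ^ 2 by ring, hl, pow_succ l q, hl]
  linear_combination l ^ 2 * h1

noncomputable def act (hF : Fintype.card F = q ^ 2) (M : Mod T F q) (l : F) (hl : l ^ q = l) (g : T) : T :=
  Classical.choose (exists_act hF M l hl g)

lemma act_pa (hF : Fintype.card F = q ^ 2) (M : Mod T F q) (l : F) (hl : l ^ q = l) (g : T) :
    M.pa (act hF M l hl g) = l * M.pa g := (Classical.choose_spec (exists_act hF M l hl g)).1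

lemma act_ps (hF : Fintype.card F = q ^ 2) (M : Mod T F q) (l : F) (hl : l ^ q = l) (g : T) :
    M.ps (act hF M l hl g) = l ^ 2 * M.ps g := (Classical.choose_spec (exists_act hF M l hl g)).2

lemma act_mul (hF : Fintype.card F = q ^ 2) (M : Mod T F q) (l : F) (hl : l ^ q = l) (g h : T) :
    act hF M l hl (g * h) = act hF M l hl g * act hF M l hl h := by
  apply M.ext'
  · rw [M.pa_mul, act_pa, act_pa, act_pa, M.pa_mul]
    ring
  · rw [M.ps_mul, act_ps, act_ps, act_ps, act_pa, act_pa, M.ps_mul, mul_pow, hl]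
    ring

lemma act_act (hF : Fintype.card F = q ^ 2) (M : Mod T F q) (l k : F) (hl : l ^ q = l) (hk : k ^ q = k)
    (hlk : (l * k) ^ q = l * k) (g : T) :
    act hF M (l * k) hlk g = act hF M l hl (act hF M k hk g) := by
  apply M.ext'
  · rw [act_pa, act_pa, act_pa]
    ring
  · rw [act_ps, act_ps, act_ps]
    ring

lemma act_one (hF : Fintype.card F = q ^ 2) (M : Mod T F q) (h1 : (1 : F) ^ q = 1) (g : T) :
    act hF M 1 h1 g = g := by
  apply M.ext'
  · rw [act_pa, one_mul]
  · rw [act_ps, one_pow, one_mul]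

/-- the group of elements of the fixed field -/
def fixU (F : Type*) [Field F] (q : ℕ) : Subgroup Fˣ where
  carrier := {u | ((u : Fˣ) : F) ^ q = u}
  one_mem' := by simp
  mul_mem' := by
    intro a b ha hb
    simp only [Set.mem_setOf_eq, Units.val_mul, mul_pow] at *
    rw [ha, hb]
  inv_mem' := by
    intro a ha
    simp only [Set.mem_setOf_eq, Units.val_inv_eq_inv_val, inv_pow] at *
    rw [ha]

lemma fixU_pow (v : fixU F q) : ((v : Fˣ) : F) ^ q = ((v : Fˣ) : F) := v.2

noncomputable def actHom (hF : Fintype.card F = q ^ 2) (M : Mod T F q) : fixU F q →* MulAut T where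
  toFun u :=
    { toFun := act hF M ((u : Fˣ) : F) (fixU_pow u)
      invFun := act hF M (((u⁻¹ : fixU F q) : Fˣ) : F) (fixU_pow u⁻¹)
      left_inv := by
        intro g
        rw [← act_act hF M _ _ (fixU_pow u⁻¹) (fixU_pow u) (by
          have := (u⁻¹ * u).2
          simpa using this)]
        have h1 : (((u⁻¹ : fixU F q) : Fˣ) : F) * ((u : Fˣ) : F) = 1 := by
          have := congrArg (fun x : fixU F q => ((x : Fˣ) : F)) (inv_mul_cancel u)
          simpa using this
        apply M.ext'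
        · rw [act_pa, h1, one_mul]
        · rw [act_ps, h1, one_pow, one_mul]
      right_inv := by
        intro g
        rw [← act_act hF M _ _ (fixU_pow u) (fixU_pow u⁻¹) (by
          have := (u * u⁻¹).2
          simpa using this)]
        have h1 : ((u : Fˣ) : F) * (((u⁻¹ : fixU F q) : Fˣ) : F) = 1 := by
          have := congrArg (fun x : fixU F q => ((x : Fˣ) : F)) (mul_inv_cancel u)
          simpa using this
        apply M.ext'
        · rw [act_pa, h1, one_mul]
        · rw [act_ps, h1, one_pow, one_mul]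
      map_mul' := act_mul hF M _ (fixU_pow u) }
  map_one' := by
    ext g
    exact act_one hF M (by simp) g
  map_mul' u v := by
    ext g
    exact act_act hF M _ _ (fixU_pow u) (fixU_pow v) (fixU_pow (u * v)) g

end act

theorem suzuki_of_mod {F : Type*} [Field F] [Fintype F] [CharP F 2] {q n : ℕ} (hq : q = 2 ^ n) (hn : 2 ≤ n)
    (hF : Fintype.card F = q ^ 2) {T : Type*} [Group T] [Finite T] (M : Mod T F q) :
    Nat.card T = q ^ 3 ∧ Nat.card (Subgroup.center T) = q ∧ Cfsg.IsSuzukiTwoGroup T := by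
  classical
  have h2 : ∀ x : F, x + x = 0 := fun x => CharTwo.add_self_eq_zero x
  have hq4 : 4 ≤ q := by
    rw [hq]
    calc 4 = 2 ^ 2 := by norm_num
      _ ≤ 2 ^ n := Nat.pow_le_pow_right (by norm_num) hn
  have hq0 : q ≠ 0 := by omega
  have hcent : ∀ g : T, g ∈ Subgroup.center T ↔ M.pa g = 0 := by
    intro g
    constructor
    · intro hg
      exact M.pa_of_central hF h2 g (fun y => (Subgroup.mem_center_iff.1 hg y).symm)
    · intro hg
      exact Subgroup.mem_center_iff.2 (fun y => (M.central_of_pa hq0 g hg y).symm)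
  have hT : Nat.card T = q ^ 3 := M.card_eq hF
  have hsurj : ∀ a : F, ∃ g, M.pa g = a := by
    intro a
    obtain ⟨s, hs⟩ := exists_tr hF h2 (a ^ (q + 1)) (Lead.norm_fixed hF _)
    obtain ⟨g, hg, -⟩ := M.surj a s hs
    exact ⟨g, hg⟩
  let f : T →* Multiplicative F :=
    { toFun := fun g => Multiplicative.ofAdd (M.pa g)
      map_one' := by rw [M.pa_one]; rfl
      map_mul' := fun a b => by rw [M.pa_mul]; rfl }
  have hfs : Function.Surjective f := by
    intro a
    obtain ⟨g, hg⟩ := hsurj (Multiplicative.toAdd a)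
    exact ⟨g, congrArg Multiplicative.ofAdd hg⟩
  have hker : f.ker = Subgroup.center T := by
    ext g
    rw [hcent, MonoidHom.mem_ker]
    constructor
    · intro h
      exact congrArg Multiplicative.toAdd h
    · intro h
      show Multiplicative.ofAdd (M.pa g) = 1
      rw [h]
      rfl
  have hcardF : Nat.card (T ⧸ Subgroup.center T) = q ^ 2 := by
    rw [← hker, Nat.card_congr (QuotientGroup.quotientKerEquivOfSurjective f hfs).toEquiv]
    show Nat.card F = q ^ 2
    rw [Nat.card_eq_fintype_card, hF]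
  have hZ : Nat.card (Subgroup.center T) = q := by
    have h1 := Subgroup.card_eq_card_quotient_mul_card_subgroup (Subgroup.center T)
    rw [hT, hcardF] at h1
    have h3 : q ^ 2 * q = q ^ 2 * Nat.card (Subgroup.center T) := by
      rw [← h1]
      ring
    exact (Nat.eq_of_mul_eq_mul_left (by positivity) h3).symm
  refine ⟨hT, hZ, inferInstance, ?_, ?_, ?_, ?_⟩
  · apply IsPGroup.of_card (n := n * 3)
    rw [hT, hq, pow_mul]
  · by_contra hall
    push Not at hall
    obtain ⟨g, hg⟩ := hsurj 1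
    have h1 := M.pa_of_central hF h2 g (hall g)
    rw [hg] at h1
    exact one_ne_zero h1
  · have hps1 : M.ps 1 = 0 := by
      have h1 := M.ps_mul 1 1
      rw [mul_one, M.pa_one, zero_pow hq0, zero_mul, add_zero] at h1
      linear_combination -h1
    letI : Fintype (Fq hF h2) := Fintype.ofFinite _
    have h3 : 2 < Fintype.card (Fq hF h2) := by
      rw [card_Fq]
      omega
    obtain ⟨a, b, c, hab, hac, hbc⟩ := Fintype.two_lt_card_iff.1 h3
    have hmk : ∀ z : Fq hF h2, ∃ g, M.pa g = 0 ∧ M.ps g = z := by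
      intro z
      apply M.surj
      rw [zero_pow (by omega), show (z : F) ^ q = z from z.2]
      exact h2 _
    obtain ⟨x, hx1, hx2⟩ := hmk (a - c)
    obtain ⟨y, hy1, hy2⟩ := hmk (b - c)
    have hsq0 : ∀ g : T, M.pa g = 0 → g * g = 1 := by
      intro g h
      apply M.ext'
      · rw [M.pa_mul, h, M.pa_one, add_zero]
      · rw [M.ps_mul, hps1, h, zero_pow hq0, zero_mul, add_zero, h2]
    refine ⟨x, y, ?_, ?_, hsq0 x hx1, ?_, hsq0 y hy1⟩
    · intro h
      rw [h, hy2] at hx2
      apply hab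
      exact sub_left_injective (Subtype.ext hx2).symm
    · rintro rfl
      rw [hps1] at hx2
      exact hac (sub_eq_zero.1 (Subtype.ext hx2.symm))
    · rintro rfl
      rw [hps1] at hy2
      exact hbc (sub_eq_zero.1 (Subtype.ext hy2.symm))
  · have hps1 : M.ps 1 = 0 := by
      have h1 := M.ps_mul 1 1
      rw [mul_one, M.pa_one, zero_pow hq0, zero_mul, add_zero] at h1
      linear_combination -h1
    have hinv : ∀ g : T, g ≠ 1 → g * g = 1 → M.pa g = 0 ∧ M.ps g ≠ 0 ∧ (M.ps g) ^ q = M.ps g := by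
      intro g hg1 hg2
      have h1 := congrArg M.ps hg2
      rw [M.ps_mul, hps1, h2, zero_add] at h1
      have h3 : M.pa g = 0 := by
        have h4 : M.pa g ^ (q + 1) = 0 := by
          rw [pow_succ]
          exact h1
        exact pow_eq_zero_iff (by omega) |>.1 h4
      refine ⟨h3, ?_, ?_⟩
      · intro h4
        apply hg1
        apply M.ext'
        · rw [h3, M.pa_one]
        · rw [h4, hps1]
      · have h4 := M.rel g
        rw [h3, zero_pow (by omega)] at h4
        have h5 := h2 (M.ps g)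
        linear_combination h4 - h5
    refine ⟨(actHom hF M).range, ?_, ?_⟩
    · exact isCyclic_of_surjective (actHom hF M).rangeRestrict (actHom hF M).rangeRestrict_surjective
    · intro x y hx1 hxx hy1 hyy
      obtain ⟨hxa, hxs, hxq⟩ := hinv x hx1 hxx
      obtain ⟨hya, hys, hyq⟩ := hinv y hy1 hyy
      set w : F := M.ps y / M.ps x with hw
      have hwq : w ^ q = w := by
        rw [hw, div_pow, hxq, hyq]
      obtain ⟨m, hm⟩ : ∃ m, n = m + 1 := ⟨n - 1, by omega⟩
      have hqm : q = 2 * 2 ^ m := by rw [hq, hm, pow_succ']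
      set l : F := w ^ (2 ^ m) with hl
      have hl2 : l ^ 2 = w := by
        rw [hl, ← pow_mul, mul_comm, ← pow_succ', ← hm, ← hq, hwq]
      have hlq : l ^ q = l := by
        rw [hl, ← pow_mul, mul_comm, pow_mul, hwq]
      have hw0 : w ≠ 0 := div_ne_zero hys hxs
      have hl0 : l ≠ 0 := pow_ne_zero _ hw0
      let u : fixU F q := ⟨Units.mk0 l hl0, hlq⟩
      have hact : ∀ v : fixU F q, ((v : Fˣ) : F) ^ 2 = w → (actHom hF M v) x = y := by
        intro v hv
        show act hF M ((v : Fˣ) : F) (fixU_pow v) x = y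
        apply M.ext'
        · rw [act_pa, hxa, hya, mul_zero]
        · rw [act_ps, hv, hw]
          field_simp
      refine ⟨⟨actHom hF M u, ⟨u, rfl⟩⟩, hact u hl2, ?_⟩
      rintro ⟨_, v, rfl⟩ hv
      have hv1 : act hF M ((v : Fˣ) : F) (fixU_pow v) x = y := hv
      have hv2 := congrArg M.ps hv1
      rw [act_ps] at hv2
      have hv3 : ((v : Fˣ) : F) ^ 2 = w := by
        rw [hw, ← hv2]
        field_simp
      have hv4 : ((v : Fˣ) : F) = l := by
        have h5 : (((v : Fˣ) : F) + l) ^ 2 = 0 := by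
          rw [add_pow_two, hv3, hl2, mul_assoc, CharTwo.two_eq_zero, zero_mul, add_zero]
          exact h2 w
        have h6 := pow_eq_zero_iff (two_ne_zero) |>.1 h5
        have h7 := h2 l
        linear_combination h6 - h7
      have hvu : v = u := by
        apply Subtype.ext
        apply Units.ext
        exact hv4
      subst hvu
      rfl

theorem main_aux {F : Type*} [Field F] [Fintype F] {n q : ℕ} (hq : q = 2 ^ n) (hn : 2 ≤ n)
    (hF : Fintype.card F = q ^ 2) (S : Sylow 2 (Cfsg.PSU 3 F q)) :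
    Nat.card S = q ^ 3 ∧ Nat.card (Subgroup.center ↥(S : Subgroup (Cfsg.PSU 3 F q))) = q ∧
      Cfsg.IsSuzukiTwoGroup ↥(S : Subgroup (Cfsg.PSU 3 F q)) := by
  classical
  have hF4 : Fintype.card F = 4 ^ n := by
    rw [hF, hq, ← pow_mul, mul_comm, pow_mul]
    norm_num
  haveI : CharP F 2 := charP_of_card hF4 hn
  haveI : Fact (Nat.Prime 2) := ⟨Nat.prime_two⟩
  have hq4 : 4 ≤ q := by
    rw [hq]
    calc 4 = 2 ^ 2 := by norm_num
      _ ≤ 2 ^ n := Nat.pow_le_pow_right (by norm_num) hn
  have hq0 : q ≠ 0 := by omega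
  have hqeven : Even q := by
    rw [hq]
    exact (Nat.even_pow' (by omega)).2 even_two
  -- the order of the projective group
  have hcard := Lead.card_PSU (n := 3) (F := F) (q := q) hF (by norm_num)
  generalize hN : Nat.card (Cfsg.PSU 3 F q) = N at hcard
  simp only [Finset.prod_range_succ, Finset.prod_range_zero] at hcard
  norm_num at hcard
  have hd : Nat.gcd 3 (q + 1) ∣ 3 := Nat.gcd_dvd_left _ _
  have hdodd : ¬ 2 ∣ Nat.gcd 3 (q + 1) := fun h => by
    have := h.trans hd
    omega
  have hq1 : ¬ 2 ∣ q ^ 2 - 1 := by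
    obtain ⟨r, hr⟩ := hqeven
    have h1 : q ^ 2 = 2 * (2 * r * r) := by rw [hr]; ring
    have h2 : 1 ≤ q ^ 2 := Nat.one_le_pow _ _ (by omega)
    omega
  have hq3 : ¬ 2 ∣ q ^ 3 + 1 := by
    obtain ⟨r, hr⟩ := hqeven
    have h1 : q ^ 3 = 2 * (2 * 2 * r * r * r) := by rw [hr]; ring
    omega
  have hN3 : Nat.gcd 3 (q + 1) * N = q ^ 3 * ((q ^ 2 - 1) * (q ^ 3 + 1)) := by
    have h1 : (q + 1) * (Nat.gcd 3 (q + 1) * N) = (q + 1) * (q ^ 3 * ((q ^ 2 - 1) * (q ^ 3 + 1))) := by
      rw [show (q + 1) * (Nat.gcd 3 (q + 1) * N) = Nat.gcd 3 (q + 1) * ((q + 1) * N) by ring, hcard]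
      ring
    exact Nat.eq_of_mul_eq_mul_left (by omega) h1
  have hN0 : N ≠ 0 := by
    rw [← hN]
    exact Nat.card_pos.ne'
  have hd0 : Nat.gcd 3 (q + 1) ≠ 0 := by
    intro h
    rw [h] at hd
    omega
  have hfact : (Nat.card (Cfsg.PSU 3 F q)).factorization 2 = n * 3 := by
    rw [hN]
    have h1 : (Nat.gcd 3 (q + 1) * N).factorization 2 = (q ^ 3 * ((q ^ 2 - 1) * (q ^ 3 + 1))).factorization 2 := by
      rw [hN3]
    rw [Nat.factorization_mul hd0 hN0, Finsupp.add_apply,
      Nat.factorization_eq_zero_of_not_dvd hdodd, zero_add,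
      Nat.factorization_mul (by positivity) (Nat.mul_ne_zero (by intro h; apply hq1; rw [h]; exact dvd_zero _) (by omega)), Finsupp.add_apply,
      Nat.factorization_mul (by intro h; apply hq1; rw [h]; exact dvd_zero _) (by omega), Finsupp.add_apply,
      Nat.factorization_eq_zero_of_not_dvd hq1, Nat.factorization_eq_zero_of_not_dvd hq3] at h1
    rw [h1, hq, ← pow_mul, Nat.Prime.factorization_pow Nat.prime_two]
    simp
  let π := QuotientGroup.mk' (Subgroup.center (Cfsg.SU 3 F q))
  have hP0card : Nat.card (P0 (q := q) hF) = q ^ 3 := (modP0 hF).card_eq hF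
  have hP02 : ∀ x ∈ P0 (q := q) hF, ∃ k : ℕ, x ^ (2 ^ k) = 1 := by
    intro x hx
    have hP : IsPGroup 2 (P0 (q := q) hF) := by
      apply IsPGroup.of_card (n := n * 3)
      rw [hP0card, hq, pow_mul]
    obtain ⟨k, hk⟩ := hP ⟨x, hx⟩
    refine ⟨k, ?_⟩
    have := congrArg Subtype.val hk
    simpa using this
  have hinj : Function.Injective (π.comp (P0 (q := q) hF).subtype) := by
    rw [injective_iff_map_eq_one]
    rintro ⟨x, hx⟩ h
    have hxc : x ∈ Subgroup.center (Cfsg.SU 3 F q) := (QuotientGroup.eq_one_iff x).1 h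
    obtain ⟨k, hk⟩ := hP02 x hx
    have h1 : orderOf x ∣ 2 ^ k := orderOf_dvd_of_pow_eq_one hk
    have h2 : orderOf (⟨x, hxc⟩ : Subgroup.center (Cfsg.SU 3 F q)) ∣ Nat.card (Subgroup.center (Cfsg.SU 3 F q)) :=
      orderOf_dvd_natCard _
    rw [Subgroup.orderOf_mk, Lead.card_center_SU hF (by norm_num)] at h2
    have h3 : Nat.Coprime (2 ^ k) (Nat.gcd 3 (q + 1)) := by
      apply Nat.Coprime.pow_left
      exact (Nat.Prime.coprime_iff_not_dvd Nat.prime_two).2 hdodd
    have h4 := Nat.eq_one_of_dvd_coprimes h3 h1 h2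
    exact Subtype.ext (orderOf_eq_one_iff.1 h4)
  let P₁ : Subgroup (Cfsg.PSU 3 F q) := (P0 (q := q) hF).map π
  have hP₁ : Nat.card P₁ = 2 ^ (Nat.card (Cfsg.PSU 3 F q)).factorization 2 := by
    have h1 : P₁ = (π.comp (P0 (q := q) hF).subtype).range := by
      rw [MonoidHom.range_comp, Subgroup.range_subtype]
    rw [hfact, h1, Nat.card_congr (MonoidHom.ofInjective hinj).symm.toEquiv, hP0card, hq, pow_mul]
  let Q0 : Sylow 2 (Cfsg.PSU 3 F q) := Sylow.ofCard P₁ hP₁
  have h1 : P₁ = (π.comp (P0 (q := q) hF).subtype).range := by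
    rw [MonoidHom.range_comp, Subgroup.range_subtype]
  let e₂ : ↥(Q0 : Subgroup (Cfsg.PSU 3 F q)) ≃* ↥(P0 (q := q) hF) :=
    (MulEquiv.subgroupCongr h1).trans (MonoidHom.ofInjective hinj).symm
  let φ : ↥(S : Subgroup (Cfsg.PSU 3 F q)) ≃* ↥(P0 (q := q) hF) := (Sylow.equiv S Q0).trans e₂
  let M₀ := modP0 (q := q) hF
  let M : Mod ↥(S : Subgroup (Cfsg.PSU 3 F q)) F q :=
    { pa := fun g => M₀.pa (φ g)
      ps := fun g => M₀.ps (φ g)
      ext' := fun g h h1 h3 => φ.injective (M₀.ext' _ _ h1 h3)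
      pa_mul := fun g h => by
        show M₀.pa (φ (g * h)) = _
        rw [map_mul, M₀.pa_mul]
      ps_mul := fun g h => by
        show M₀.ps (φ (g * h)) = _
        rw [map_mul, M₀.ps_mul]
      rel := fun g => M₀.rel _
      surj := fun a s h => by
        obtain ⟨g, h1, h3⟩ := M₀.surj a s h
        exact ⟨φ.symm g, by simpa using h1, by simpa using h3⟩ }
  exact suzuki_of_mod hq hn hF M


/-- Let `q = 2^n ≥ 4` and `|F| = q²`. A Sylow 2-subgroup `S` of `PSU₃(q)` has order `q³`, its centre has order `q`, and `S` is a Suzuki 2-group. -/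
theorem result {F : Type*} [Field F] [Fintype F] {n : ℕ} (hn : 2 ≤ n)
    (hF : Fintype.card F = (2 ^ n) ^ 2) (S : Sylow 2 (Cfsg.PSU 3 F (2 ^ n))) :
    Nat.card S = (2 ^ n) ^ 3 ∧ Nat.card (Subgroup.center ↥(S : Subgroup (Cfsg.PSU 3 F (2 ^ n)))) = 2 ^ n ∧
      Cfsg.IsSuzukiTwoGroup ↥(S : Subgroup (Cfsg.PSU 3 F (2 ^ n))) := by
  exact main_aux rfl hn hF S

end Cfsg.Agent.S1141
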