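import Mathlib
import Cfsg.Statements.S1158
import Cfsg.Agent.Lib.H10.ReeF1

set_option autoImplicit false

open Cfsg

namespace Cfsg.Agent.S1158

theorem result {K : Type*} [Field K] [Fintype K] {m : ℕ} (hm : 1 ≤ m) (hK : Fintype.card K = 3 ^ (2 * m + 1)) :
    ∀ kn ∈ ({((3 ^ (2 * m + 1) - 1) / 2, 2 * (3 ^ (2 * m + 1) - 1)), ((3 ^ (2 * m + 1) + 1) / 4, 6 * (3 ^ (2 * m + 1) + 1)),
        (3 ^ (2 * m + 1) - 3 ^ (m + 1) + 1, 6 * (3 ^ (2 * m + 1) - 3 ^ (m + 1) + 1)),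
        (3 ^ (2 * m + 1) + 3 ^ (m + 1) + 1, 6 * (3 ^ (2 * m + 1) + 3 ^ (m + 1) + 1))} : Set (ℕ × ℕ)),
      ∃ A : Subgroup ↥(Cfsg.Lie.twistedG2 K (3 ^ m)), IsCyclic A ∧ Nat.card A = kn.1 ∧
        Nat.card (Subgroup.normalizer (A : Set ↥(Cfsg.Lie.twistedG2 K (3 ^ m)))) = kn.2 ∧
        ∀ A₀ : Subgroup ↥(Cfsg.Lie.twistedG2 K (3 ^ m)), A₀ ≤ A → A₀ ≠ ⊥ →
          Subgroup.normalizer (A₀ : Set ↥(Cfsg.Lie.twistedG2 K (3 ^ m))) = Subgroup.normalizer (A : Set ↥(Cfsg.Lie.twistedG2 K (3 ^ m))) := by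
  have := H10.ree_charP hK
  intro kn hkn
  simp only [Set.mem_insert_iff, Set.mem_singleton_iff] at hkn
  obtain ⟨A₁, A₂, h1, h2, h3, h4, -⟩ := H10.exists_ree_tori hK hm
  rcases hkn with rfl | rfl | rfl | rfl
  · obtain ⟨A, hc, hcard, -, -, hN, hA⟩ := H10.ree_split_torus hK hm
    exact ⟨A, hc, hcard, hN, hA⟩
  · obtain ⟨hN, hA⟩ := H10.ree_D0_torus hK hm
    exact ⟨H10.tD0 hK, H10.tD0_cyclic hK, H10.card_tD0 hK, hN, hA⟩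
  · have e : Nat.card A₂.1 = 3 ^ (2 * m + 1) - 3 ^ (m + 1) + 1 := by omega
    refine ⟨A₂.1, A₂.2.isCyclic, e, ?_, A₂.2.normalizer_eq⟩
    show Nat.card _ = 6 * (3 ^ (2 * m + 1) - 3 ^ (m + 1) + 1)
    rw [h4, e]
  · refine ⟨A₁.1, A₁.2.isCyclic, h1, ?_, A₁.2.normalizer_eq⟩
    show Nat.card _ = 6 * (3 ^ (2 * m + 1) + 3 ^ (m + 1) + 1)
    rw [h3, h1]

end Cfsg.Agent.S1158
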