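import Mathlib
import Cfsg.Statements.S1159
import Cfsg.Agent.Lib.H10.ReeF2

set_option autoImplicit false

open Cfsg

namespace Cfsg.Agent.S1159

theorem result {K : Type*} [Field K] [Fintype K] {m : ℕ} (hm : 1 ≤ m) (hK : Fintype.card K = 3 ^ (2 * m + 1)) (d : ℕ) :
    (∃ g : ↥(Cfsg.Lie.twistedG2 K (3 ^ m)), orderOf g = d) ↔
      (d ∣ 6 ∨ d ∣ 9 ∨ d ∣ 3 ^ (2 * m + 1) - 1 ∨ d ∣ (3 ^ (2 * m + 1) + 1) / 2 ∨
        d ∣ 3 ^ (2 * m + 1) - 3 ^ (m + 1) + 1 ∨ d ∣ 3 ^ (2 * m + 1) + 3 ^ (m + 1) + 1) := by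
  have := H10.ree_charP hK
  exact H10.exists_orderOf_iff hK hm d

end Cfsg.Agent.S1159
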