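import Cfsg.Statements.S1249
import Cfsg.Agent.Lib.H13.Weak
-- import your own Cfsg.Agent.* helpers here

set_option autoImplicit false
open Cfsg

namespace Cfsg.Agent.S1249

/-- Let P and Q be Sylow p-subgroups of the finite group G both containing the subgroup A. If A is strongly closed in P, then A is strongly closed in Q. -/
theorem result {G : Type*} [Group G] [Finite G] {p : ℕ} [Fact p.Prime] (P Q : Sylow p G) (A : Subgroup G) (hAQ : A ≤ Q) (hA : Cfsg.IsStronglyClosed A (P : Subgroup G)) : Cfsg.IsStronglyClosed A (Q : Subgroup G) := by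
  obtain ⟨h, hh⟩ := Cfsg.Agent.H13.sylow_conj P Q
  have key : ∀ x ∈ (Q : Subgroup G), h⁻¹ * x * h ∈ (P : Subgroup G) := by
    intro x hx
    rw [hh, Cfsg.Agent.H13.mem_map_conj] at hx
    exact hx
  have h1 : A.map (MulAut.conj h⁻¹).toMonoidHom ≤ A := by
    rintro _ ⟨a, ha, rfl⟩
    have := hA.2 a ha h⁻¹ (by simpa using key a (hAQ ha))
    exact this
  have h2 : A.map (MulAut.conj h⁻¹).toMonoidHom = A :=
    Subgroup.eq_of_le_of_card_ge h1 (by rw [Cfsg.Agent.H13.card_map_conj])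
  refine ⟨hAQ, fun x hx g hg => ?_⟩
  have h3 : (h⁻¹ * g) * x * (h⁻¹ * g)⁻¹ ∈ (P : Subgroup G) := by
    have := key _ hg
    convert this using 1
    group
  have h4 := hA.2 x hx _ h3
  rw [← h2] at h4
  rw [Cfsg.Agent.H13.mem_map_conj] at h4
  have h5 : g * x * g⁻¹ = (h⁻¹)⁻¹ * ((h⁻¹ * g) * x * (h⁻¹ * g)⁻¹) * h⁻¹ := by group
  rw [h5]
  exact h4

end Cfsg.Agent.S1249
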