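import Cfsg.Statements.S1250
import Cfsg.Agent.Lib.H13.Weak
-- import your own Cfsg.Agent.* helpers here

set_option autoImplicit false
open Cfsg

namespace Cfsg.Agent.S1250

/-- Let S be a Sylow p-subgroup of the finite group G, A ≤ S strongly closed in S, and N a normal subgroup. Then the image of A in G ⧸ N is strongly closed in the image of S (which is a Sylow p-subgroup of G ⧸ N). -/
theorem result {G : Type*} [Group G] [Finite G] {p : ℕ} [Fact p.Prime] (S : Sylow p G) (A : Subgroup G) (hA : Cfsg.IsStronglyClosed A (S : Subgroup G)) (N : Subgroup G) [N.Normal] : Cfsg.IsStronglyClosed (A.map (QuotientGroup.mk' N)) ((S : Subgroup G).map (QuotientGroup.mk' N)) := by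
  refine ⟨Subgroup.map_mono hA.1, ?_⟩
  rintro _ ⟨a, ha, rfl⟩ g' hg'
  obtain ⟨g, rfl⟩ := QuotientGroup.mk'_surjective N g'
  set y := g * a * g⁻¹ with hy
  have hmk : (QuotientGroup.mk' N) g * (QuotientGroup.mk' N) a * ((QuotientGroup.mk' N) g)⁻¹ = (QuotientGroup.mk' N) y := by
    simp [hy]
  rw [hmk] at hg' ⊢
  obtain ⟨s, hs, hse⟩ := hg'
  have hyK : y ∈ (S : Subgroup G) ⊔ N := by
    have h1 : s⁻¹ * y ∈ N := by
      rw [← QuotientGroup.eq]
      exact hse
    have : y = s * (s⁻¹ * y) := by group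
    rw [this]
    exact Subgroup.mul_mem _ (Subgroup.mem_sup_left hs) (Subgroup.mem_sup_right h1)
  have hyp : IsPGroup p (Subgroup.zpowers y) := by
    have hap : IsPGroup p (Subgroup.zpowers a) :=
      S.isPGroup'.to_le ((Subgroup.zpowers_le).2 (hA.1 ha))
    rw [IsPGroup.iff_card] at hap ⊢
    obtain ⟨n, hn⟩ := hap
    refine ⟨n, ?_⟩
    rw [Nat.card_zpowers] at hn ⊢
    rw [hy, ← hn]
    have : g * a * g⁻¹ = (MulAut.conj g).toMonoidHom a := rfl
    rw [this]
    exact orderOf_injective _ (MulAut.conj g).injective a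
  set K : Subgroup G := (S : Subgroup G) ⊔ N with hK
  have hzK : Subgroup.zpowers y ≤ K := (Subgroup.zpowers_le).2 hyK
  obtain ⟨T, hT⟩ := Cfsg.Agent.H13.exists_sylow_subgroup_le hzK hyp
  have hSK : (S : Subgroup G) ≤ K := le_sup_left
  haveI : Finite K := inferInstance
  obtain ⟨c, hc⟩ := MulAction.exists_smul_eq K T (S.subtype hSK)
  have hcy : (c : G) * y * (c : G)⁻¹ ∈ (S : Subgroup G) := by
    obtain ⟨t, ht, hte⟩ := hT (Subgroup.mem_zpowers y)
    have h2 : c * t * c⁻¹ ∈ ((S.subtype hSK : Sylow p K) : Subgroup K) := by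
      rw [← hc]
      exact ⟨t, ht, rfl⟩
    have h3 : ((c * t * c⁻¹ : K) : G) ∈ (S : Subgroup G) := by
      simpa [Sylow.coe_subtype, Subgroup.mem_subgroupOf] using h2
    have hte' : (t : G) = y := hte
    rw [← hte']
    simpa using h3
  obtain ⟨s₁, hs₁, n₁, hn₁, hc₁⟩ := Subgroup.mem_sup_of_normal_right.1 c.2
  have h6 : n₁ * y * n₁⁻¹ ∈ (S : Subgroup G) := by
    have h7 : n₁ * y * n₁⁻¹ = s₁⁻¹ * ((c : G) * y * (c : G)⁻¹) * s₁ := by
      rw [← hc₁]; group
    rw [h7]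
    exact S.1.mul_mem (S.1.mul_mem (S.1.inv_mem hs₁) hcy) hs₁
  have h8 : (n₁ * g) * a * (n₁ * g)⁻¹ ∈ (S : Subgroup G) := by
    have : (n₁ * g) * a * (n₁ * g)⁻¹ = n₁ * y * n₁⁻¹ := by rw [hy]; group
    rwa [this]
  have h9 := hA.2 a ha _ h8
  refine ⟨_, h9, ?_⟩
  have h10 : (n₁ * g) * a * (n₁ * g)⁻¹ = n₁ * y * n₁⁻¹ := by rw [hy]; group
  rw [h10]
  have h11 : (QuotientGroup.mk' N) n₁ = 1 := by
    rw [QuotientGroup.mk'_apply, QuotientGroup.eq_one_iff]; exact hn₁
  rw [map_mul, map_mul, map_inv, h11]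
  simp

end Cfsg.Agent.S1250
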