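import Cfsg.Statements.S1251
import Cfsg.Agent.Lib.H15.ZStarGen

set_option autoImplicit false
set_option linter.style.haveILetI false
open Cfsg

namespace Cfsg.Agent.S1251

open Cfsg.Agent.H15

/-- Let S be a Sylow 2-subgroup of the finite group G and A ≤ S strongly closed in S. If H is a subgroup normalized by A with no nontrivial normal subgroup of odd order and A ∩ H = 1, then A ≤ C_G(H). -/
theorem result {G : Type*} [Group G] [Finite G] (S : Sylow 2 G) (A : Subgroup G) (hA : Cfsg.IsStronglyClosed A (S : Subgroup G)) (H : Subgroup G) (hAH : A ≤ Subgroup.normalizer (H : Set G)) (hO : Cfsg.oddCore ↥H = ⊥) (hdisj : A ⊓ H = ⊥) : A ≤ Subgroup.centralizer (H : Set G) := by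
  classical
  haveI : Fact (Nat.Prime 2) := ⟨Nat.prime_two⟩
  obtain ⟨hAS, hAcl⟩ := hA
  have hAp : IsPGroup 2 A := S.isPGroup'.to_le hAS
  have hAH' : ∀ a ∈ A, ∀ h ∈ H, a * h * a⁻¹ ∈ H := fun a ha h hh =>
    (Subgroup.mem_normalizer_iff.mp (hAH ha) h).mp hh
  have hdisj' : ∀ t, t ∈ A → t ∈ H → t = 1 := fun t h1 h2 => by
    have : t ∈ A ⊓ H := ⟨h1, h2⟩
    rw [hdisj] at this
    exact this
  -- `M = A H`
  set M : Subgroup G := A ⊔ H with hM
  have hMmem : ∀ m ∈ M, ∃ a ∈ A, ∃ h ∈ H, m = a * h := by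
    intro m hm
    have h1 : (m : G) ∈ ((A ⊔ H : Subgroup G) : Set G) := hm
    rw [Subgroup.coe_mul_of_left_le_normalizer_right A H hAH, Set.mem_mul] at h1
    obtain ⟨a, ha, h, hh, rfl⟩ := h1
    exact ⟨a, ha, h, hh, rfl⟩
  have hAM : A ≤ M := le_sup_left
  have hHM : H ≤ M := le_sup_right
  -- a Sylow subgroup of `M` containing `A`
  have hA' : IsPGroup 2 (A.subgroupOf M) := hAp.comap_of_injective M.subtype (Subgroup.subtype_injective _)
  obtain ⟨T, hT⟩ := hA'.exists_le_sylow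
  have hTp : IsPGroup 2 ((T : Subgroup M).map M.subtype) := T.isPGroup'.map _
  obtain ⟨c₀, -, hc₀⟩ := exists_conj_le_sylow_of_le ⊤ _ S le_top le_top hTp
  have hAT : ∀ a (ha : a ∈ A), (⟨a, hAM ha⟩ : M) ∈ (T : Subgroup M) := fun a ha =>
    hT (by simpa [Subgroup.mem_subgroupOf] using ha)
  have hc₀A : ∀ a ∈ A, c₀ * a * c₀⁻¹ ∈ A := fun a ha =>
    hAcl a ha c₀ (hc₀ a ⟨⟨a, hAM ha⟩, hAT a ha, rfl⟩)
  -- `c₀` normalizes `A`
  have hc₀A' : ∀ y ∈ A, ∃ a ∈ A, c₀ * a * c₀⁻¹ = y := by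
    let f : A → A := fun a => ⟨c₀ * a * c₀⁻¹, hc₀A a a.2⟩
    have hf : Function.Injective f := by
      intro a b hab
      have h1 : c₀ * (a : G) * c₀⁻¹ = c₀ * (b : G) * c₀⁻¹ := congrArg Subtype.val hab
      exact Subtype.ext (mul_left_cancel (mul_right_cancel h1))
    have hsurj := (Finite.injective_iff_surjective.mp hf)
    intro y hy
    obtain ⟨a, ha⟩ := hsurj ⟨y, hy⟩
    exact ⟨a, a.2, congrArg Subtype.val ha⟩
  intro a ha
  rw [Subgroup.mem_centralizer_iff]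
  intro h hh
  -- the group `L`
  set Y := Subgroup.zpowers a with hY
  have hYA : Y ≤ A := Subgroup.zpowers_le.mpr ha
  set L : Subgroup G := Y ⊔ H with hL
  have hLmem : ∀ m ∈ L, ∃ u ∈ Y, ∃ k ∈ H, m = u * k := by
    intro m hm
    have h1 : (m : G) ∈ ((Y ⊔ H : Subgroup G) : Set G) := hm
    rw [Subgroup.coe_mul_of_left_le_normalizer_right Y H (hYA.trans hAH), Set.mem_mul] at h1
    obtain ⟨a, ha, h, hh, rfl⟩ := h1
    exact ⟨a, ha, h, hh, rfl⟩
  have hYL : Y ≤ L := le_sup_left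
  have hHL : H ≤ L := le_sup_right
  have hLM : L ≤ M := sup_le (hYA.trans hAM) hHM
  have haL : a ∈ L := hYL (Subgroup.mem_zpowers a)
  have hhL : h ∈ L := hHL hh
  set a' : L := ⟨a, haL⟩ with ha'
  set Q : Subgroup L := Subgroup.zpowers a' with hQ
  have hQmem : ∀ q : L, q ∈ Q → (q : G) ∈ Y := by
    rintro q ⟨n, rfl⟩
    exact Subgroup.zpow_mem _ (Subgroup.mem_zpowers a) n
  have hQp : IsPGroup 2 Q := by
    obtain ⟨k, hk⟩ := hAp ⟨a, ha⟩
    have h1 : a' ^ 2 ^ k = 1 := by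
      apply Subtype.ext
      have := congrArg Subtype.val hk
      simpa [ha'] using this
    obtain ⟨j, -, hj⟩ := (Nat.dvd_prime_pow Nat.prime_two).mp (orderOf_dvd_of_pow_eq_one h1)
    rw [IsPGroup.iff_card]
    exact ⟨j, by rw [hQ, Nat.card_zpowers, hj]⟩
  obtain ⟨Ta, hTa⟩ := hQp.exists_le_sylow
  -- move `Ta` into `S`
  have hDp : IsPGroup 2 (((Ta : Subgroup L).map L.subtype).subgroupOf M) :=
    (Ta.isPGroup'.map L.subtype).comap_of_injective M.subtype (Subgroup.subtype_injective _)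
  obtain ⟨m, -, hm⟩ := exists_conj_le_sylow_of_le ⊤ _ T le_top le_top hDp
  obtain ⟨a₁, ha₁, h₁, hh₁, hm₁⟩ := hMmem m m.2
  have hc : ∀ d ∈ (Ta : Subgroup L), (c₀ * h₁) * (d : G) * (c₀ * h₁)⁻¹ ∈ (S : Subgroup G) := by
    intro d hd
    have h2 : (⟨(d : G), hLM d.2⟩ : M) ∈ ((Ta : Subgroup L).map L.subtype).subgroupOf M := by
      rw [Subgroup.mem_subgroupOf]
      exact ⟨d, hd, rfl⟩
    have h3 := hm _ h2
    have h4 : (⟨a₁, hAM ha₁⟩ : M)⁻¹ * (m * ⟨(d : G), hLM d.2⟩ * m⁻¹) * (⟨a₁, hAM ha₁⟩ : M) ∈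
        (T : Subgroup M) :=
      Subgroup.mul_mem _ (Subgroup.mul_mem _ (Subgroup.inv_mem _ (hAT a₁ ha₁)) h3) (hAT a₁ ha₁)
    have h5 := hc₀ _ ⟨_, h4, rfl⟩
    convert h5 using 1
    simp only [Subgroup.coe_subtype, Subgroup.coe_mul, Subgroup.coe_inv, hm₁]
    group
  -- weak closure
  have hWC : ∀ q ∈ Q, ∀ g : L, g * q * g⁻¹ ∈ (Ta : Subgroup L) → g * q * g⁻¹ = q := by
    intro q hq g hg
    have hqY : (q : G) ∈ Y := hQmem q hq
    have hqA : (q : G) ∈ A := hYA hqY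
    obtain ⟨u, hu, k, hk, hgk⟩ := hLmem _ (L.inv_mem g.2)
    have hcomm : u * (q : G) = q * u := by
      obtain ⟨n₁, rfl⟩ := hu
      obtain ⟨n₂, hn₂⟩ := hqY
      rw [← hn₂, ← zpow_add, ← zpow_add, add_comm]
    have hb : ((g * q * g⁻¹ : L) : G) = k⁻¹ * q * k := by
      have h1 : (g : G) = k⁻¹ * u⁻¹ := by
        have := congrArg (fun x : G => x⁻¹) hgk
        simpa using this
      simp only [Subgroup.coe_mul, Subgroup.coe_inv, h1, mul_inv_rev, inv_inv]
      calc k⁻¹ * u⁻¹ * (q : G) * (u * k) = k⁻¹ * u⁻¹ * ((q : G) * u) * k := by group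
        _ = k⁻¹ * u⁻¹ * (u * q) * k := by rw [hcomm]
        _ = k⁻¹ * q * k := by group
    set b : G := ((g * q * g⁻¹ : L) : G) with hbdef
    have hcb := hc _ hg
    have hcq := hc q (hTa hq)
    have hbA : (c₀ * h₁) * b * (c₀ * h₁)⁻¹ ∈ A := by
      have h1 := hAcl q hqA ((c₀ * h₁) * g) (by
        convert hcb using 1
        simp only [Subgroup.coe_mul, Subgroup.coe_inv]
        group)
      convert h1 using 1
      simp only [hbdef, Subgroup.coe_mul, Subgroup.coe_inv]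
      group
    have hqA' : (c₀ * h₁) * (q : G) * (c₀ * h₁)⁻¹ ∈ A := hAcl q hqA _ hcq
    have hy : c₀ * (h₁ * (b * (q : G)⁻¹) * h₁⁻¹) * c₀⁻¹ ∈ A := by
      have h1 := A.mul_mem hbA (A.inv_mem hqA')
      convert h1 using 1
      group
    obtain ⟨a₂, ha₂, ha₂y⟩ := hc₀A' _ hy
    have h6 : a₂ = h₁ * (b * (q : G)⁻¹) * h₁⁻¹ := by
      have := ha₂y
      have h7 : c₀⁻¹ * (c₀ * a₂ * c₀⁻¹) * c₀ = c₀⁻¹ * (c₀ * (h₁ * (b * (q : G)⁻¹) * h₁⁻¹) * c₀⁻¹) * c₀ := by
        rw [this]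
      simpa [mul_assoc] using h7
    have hbq : b * (q : G)⁻¹ ∈ H := by
      rw [hb]
      have h8 := hAH' q hqA k hk
      have h9 := H.mul_mem (H.inv_mem hk) h8
      convert h9 using 1
      group
    have h10 : a₂ ∈ H := by
      rw [h6]
      exact H.mul_mem (H.mul_mem hh₁ hbq) (H.inv_mem hh₁)
    have h11 := hdisj' a₂ ha₂ h10
    have h12 : b * (q : G)⁻¹ = 1 := by
      rw [h11] at h6
      have h13 : h₁⁻¹ * 1 * h₁ = h₁⁻¹ * (h₁ * (b * (q : G)⁻¹) * h₁⁻¹) * h₁ := by rw [h6]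
      simpa [mul_assoc] using h13.symm
    apply Subtype.ext
    exact mul_inv_eq_one.mp h12
  have hodd := wc_mod_odd Ta Q hTa hWC a' (Subgroup.mem_zpowers a') ⟨h, hhL⟩
  -- descend to `H`
  let ι : H →* L := Subgroup.inclusion hHL
  have hι : Function.Injective ι := Subgroup.inclusion_injective hHL
  set K : Subgroup H := (oddCore L).comap ι with hK
  have hKn : K.Normal := Subgroup.Normal.comap (by
    show (oddCore L).Normal
    infer_instance) ι
  have hKc : (Nat.card K).Coprime 2 := by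
    have h1 : Nat.card K ∣ Nat.card (oddCore L) := by
      let f : K →* oddCore L := (ι.subgroupComap (oddCore L))
      exact Subgroup.card_dvd_of_injective f (by
        intro x y hxy
        apply Subtype.ext
        apply hι
        exact congrArg Subtype.val hxy)
    exact Nat.Coprime.coprime_dvd_left h1 card_oddCore_coprime
  have hKbot : K ≤ ⊥ := by
    rw [← hO]
    exact le_oddCore hKn hKc
  have hcomH : a * h * a⁻¹ * h⁻¹ ∈ H := H.mul_mem (hAH' a ha h hh) (H.inv_mem hh)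
  have h20 : (⟨a * h * a⁻¹ * h⁻¹, hcomH⟩ : H) ∈ K := by
    show ι _ ∈ oddCore L
    convert hodd using 1
    apply Subtype.ext
    rfl
  have h21 := hKbot h20
  rw [Subgroup.mem_bot] at h21
  have h22 : a * h * a⁻¹ * h⁻¹ = 1 := congrArg Subtype.val h21
  have h23 : a * h * a⁻¹ = h := mul_inv_eq_one.mp h22
  calc h * a = a * h * a⁻¹ * a := by rw [h23]
    _ = a * h := by group

end Cfsg.Agent.S1251
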