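import Cfsg.Statements.S1339
import Cfsg.Agent.Lib.H13.CharP
import Cfsg.Agent.Lib.H10.Unipotent
-- import your own Cfsg.Agent.* helpers here

set_option autoImplicit false
open Cfsg

namespace Cfsg.Agent.S1339

open Matrix Cfsg

section
variable {F : Type*} [Field F] {n : ℕ}

theorem ent_right (g : Matrix (Fin n) (Fin n) F) (i j k m : Fin n) :
    (g * Matrix.transvection i j (1 : F) : Matrix (Fin n) (Fin n) F) k m = g k m + if m = j then g k i else 0 := by
  simp only [Matrix.transvection, Matrix.mul_add, Matrix.mul_one, Matrix.add_apply]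
  congr 1
  simp only [Matrix.mul_apply, Matrix.single_apply]
  by_cases hm : m = j
  · subst hm
    simp
  · have hm' : ¬ j = m := fun h => hm h.symm
    simp [hm, hm']

theorem ent_left (g : Matrix (Fin n) (Fin n) F) (i j k m : Fin n) :
    (Matrix.transvection i j (1 : F) * g : Matrix (Fin n) (Fin n) F) k m = g k m + if k = i then g j m else 0 := by
  simp only [Matrix.transvection, Matrix.add_mul, Matrix.one_mul, Matrix.add_apply]
  congr 1
  simp only [Matrix.mul_apply, Matrix.single_apply]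
  by_cases hk : k = i
  · subst hk
    simp
  · have hk' : ¬ i = k := fun h => hk h.symm
    simp [hk, hk']

end


/-- Let F be a field with 2 elements, n ≥ 3, and t ∈ SL(n, F) a transvection (t = 1 + E_{ij}, i ≠ j). Then the generalized Fitting subgroup of C(t) is O_2(C(t)). -/
theorem result {F : Type*} [Field F] [Fintype F] [DecidableEq F] (hF : Fintype.card F = 2) (n : ℕ) (hn : 3 ≤ n) (i j : Fin n) (hij : i ≠ j) (t : Matrix.SpecialLinearGroup (Fin n) F) (ht : (t : Matrix (Fin n) (Fin n) F) = Matrix.transvection i j 1) : Cfsg.generalizedFittingSubgroup ↥(Subgroup.centralizer ({t} : Set (Matrix.SpecialLinearGroup (Fin n) F))) = Cfsg.pCore 2 ↥(Subgroup.centralizer ({t} : Set (Matrix.SpecialLinearGroup (Fin n) F))) := by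
  classical
haveI hp2 : Fact (Nat.Prime 2) := ⟨Nat.prime_two⟩
haveI hchar : CharP F 2 := charP_of_card_eq_prime hF
have h11 : (1 : F) + 1 = 0 := CharTwo.add_self_eq_zero 1
have hel : ∀ x : F, x = 0 ∨ x = 1 := by
  intro x
  have h1 : ({0, 1} : Finset F).card = Fintype.card F := by
    rw [hF, Finset.card_pair zero_ne_one]
  have h := Finset.eq_univ_of_card _ h1
  have : x ∈ ({0, 1} : Finset F) := h ▸ Finset.mem_univ x
  simpa using this
let C := Subgroup.centralizer ({t} : Set (Matrix.SpecialLinearGroup (Fin n) F))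
have hmem : ∀ g : Matrix.SpecialLinearGroup (Fin n) F, g ∈ C ↔
    (∀ k, k ≠ i → (g : Matrix (Fin n) (Fin n) F) k i = 0) ∧ (∀ m, m ≠ j → (g : Matrix (Fin n) (Fin n) F) j m = 0) ∧
      (g : Matrix (Fin n) (Fin n) F) i i = (g : Matrix (Fin n) (Fin n) F) j j := by
  intro g
  rw [Subgroup.mem_centralizer_singleton_iff]
  have e : g * t = t * g ↔ (g : Matrix (Fin n) (Fin n) F) * Matrix.transvection i j 1 = Matrix.transvection i j 1 * (g : Matrix (Fin n) (Fin n) F) := by
    rw [← ht]
    constructor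
    · intro h
      exact congrArg (fun x : Matrix.SpecialLinearGroup (Fin n) F => (x : Matrix (Fin n) (Fin n) F)) h
    · intro h
      exact Subtype.ext h
  rw [e]
  constructor
  · intro h
    have h1 : ∀ k m, (if m = j then (g : Matrix (Fin n) (Fin n) F) k i else 0) = (if k = i then (g : Matrix (Fin n) (Fin n) F) j m else 0) := by
      intro k m
      have := congrFun (congrFun h k) m
      rw [ent_right, ent_left] at this
      exact add_left_cancel this
    refine ⟨?_, ?_, ?_⟩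
    · intro k hk
      have := h1 k j
      simpa [hk] using this
    · intro m hm
      have := h1 i m
      simpa [hm] using this.symm
    · have := h1 i j
      simpa using this
  · rintro ⟨h0, h1, h2⟩
    apply Matrix.ext
    intro k m
    rw [ent_right, ent_left]
    congr 1
    by_cases hm : m = j
    · by_cases hk : k = i
      · subst hm; subst hk
        simp [h2]
      · subst hm
        simp [hk, h0 k hk]
    · by_cases hk : k = i
      · subst hk
        simp [hm, h1 m hm]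
      · simp [hm, hk]
have hdiag : ∀ g : Matrix.SpecialLinearGroup (Fin n) F, g ∈ C → (g : Matrix (Fin n) (Fin n) F) i i = 1 := by
  intro g hg
  obtain ⟨h0, -, -⟩ := (hmem g).1 hg
  rcases hel ((g : Matrix (Fin n) (Fin n) F) i i) with h | h
  · exfalso
    have h1 : (g : Matrix (Fin n) (Fin n) F).det = 0 := by
      apply Matrix.det_eq_zero_of_column_eq_zero i
      intro k
      by_cases hk : k = i
      · rw [hk, h]
      · exact h0 k hk
    rw [g.2] at h1
    exact one_ne_zero h1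
  · exact h
let e : Fin n → F := Pi.single i 1
have hCe : ∀ g : Matrix.SpecialLinearGroup (Fin n) F, g ∈ C → (g : Matrix (Fin n) (Fin n) F) *ᵥ e = e := by
  intro g hg
  obtain ⟨h0, -, -⟩ := (hmem g).1 hg
  funext k
  simp only [e, Matrix.mulVec_single_one]
  by_cases hk : k = i
  · subst hk
    simp [hdiag g hg]
  · simp [hk, h0 k hk]
have hdiag' : ∀ g : Matrix.SpecialLinearGroup (Fin n) F, g ∈ C → (g : Matrix (Fin n) (Fin n) F) j j = 1 := by
  intro g hg
  obtain ⟨-, -, h2⟩ := (hmem g).1 hg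
  rw [← h2, hdiag g hg]
have hCr : ∀ g : Matrix.SpecialLinearGroup (Fin n) F, g ∈ C → ∀ x : Fin n → F, ((g : Matrix (Fin n) (Fin n) F) *ᵥ x) j = x j := by
  intro g hg x
  obtain ⟨-, h1, -⟩ := (hmem g).1 hg
  simp only [Matrix.mulVec, dotProduct]
  rw [Finset.sum_eq_single j]
  · rw [hdiag' g hg, one_mul]
  · intro m _ hm
    rw [h1 m hm, zero_mul]
  · simp
have hinv1 : ∀ (g : Matrix.SpecialLinearGroup (Fin n) F) (x : Fin n → F), ((g⁻¹ : Matrix.SpecialLinearGroup (Fin n) F) : Matrix (Fin n) (Fin n) F) *ᵥ ((g : Matrix (Fin n) (Fin n) F) *ᵥ x) = x := by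
  intro g x
  rw [Matrix.mulVec_mulVec]
  have : ((g⁻¹ : Matrix.SpecialLinearGroup (Fin n) F) : Matrix (Fin n) (Fin n) F) * (g : Matrix (Fin n) (Fin n) F) = 1 := by
    have h := congrArg (fun x : Matrix.SpecialLinearGroup (Fin n) F => (x : Matrix (Fin n) (Fin n) F)) (inv_mul_cancel g)
    exact h
  rw [this, Matrix.one_mulVec]
have hinv2 : ∀ (g : Matrix.SpecialLinearGroup (Fin n) F) (x : Fin n → F), (g : Matrix (Fin n) (Fin n) F) *ᵥ (((g⁻¹ : Matrix.SpecialLinearGroup (Fin n) F) : Matrix (Fin n) (Fin n) F) *ᵥ x) = x := by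
  intro g x
  have := hinv1 g⁻¹ x
  rwa [inv_inv] at this
let Q₀ : Subgroup (Matrix.SpecialLinearGroup (Fin n) F) :=
  { carrier := {g | g ∈ C ∧ ∀ x : Fin n → F, x j = 0 → ∃ a : F, (g : Matrix (Fin n) (Fin n) F) *ᵥ x = x + a • e}
    mul_mem' := by
      rintro g h ⟨hg, hg'⟩ ⟨hh, hh'⟩
      refine ⟨C.mul_mem hg hh, ?_⟩
      intro x hx
      obtain ⟨a, ha⟩ := hg' x hx
      obtain ⟨b, hb⟩ := hh' x hx
      refine ⟨a + b, ?_⟩
      have : ((g * h : Matrix.SpecialLinearGroup (Fin n) F) : Matrix (Fin n) (Fin n) F) = (g : Matrix (Fin n) (Fin n) F) * (h : Matrix (Fin n) (Fin n) F) := rfl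
      rw [this, ← Matrix.mulVec_mulVec, hb, Matrix.mulVec_add, Matrix.mulVec_smul, hCe g hg, ha, add_smul]
      abel
    one_mem' := by
      refine ⟨C.one_mem, ?_⟩
      intro x _
      refine ⟨0, ?_⟩
      have : ((1 : Matrix.SpecialLinearGroup (Fin n) F) : Matrix (Fin n) (Fin n) F) = 1 := rfl
      rw [this, Matrix.one_mulVec, zero_smul, add_zero]
    inv_mem' := by
      rintro g ⟨hg, hg'⟩
      refine ⟨C.inv_mem hg, ?_⟩
      intro x hx
      obtain ⟨a, ha⟩ := hg' x hx
      refine ⟨-a, ?_⟩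
      have h1 := hinv1 g x
      rw [ha, Matrix.mulVec_add, Matrix.mulVec_smul, hCe _ (C.inv_mem hg)] at h1
      have h2 : ((g⁻¹ : Matrix.SpecialLinearGroup (Fin n) F) : Matrix (Fin n) (Fin n) F) *ᵥ x = x - a • e := eq_sub_of_add_eq h1
      rw [neg_smul, h2]
      abel }
have hQ₀ : ∀ g, g ∈ Q₀ ↔ g ∈ C ∧ ∀ x : Fin n → F, x j = 0 → ∃ a : F, (g : Matrix (Fin n) (Fin n) F) *ᵥ x = x + a • e := fun _ => Iff.rfl
let Q : Subgroup C := Q₀.subgroupOf C
have hQn : Q.Normal := by
  constructor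
  rintro ⟨q, hqC⟩ hq ⟨c, hc⟩
  rw [Subgroup.mem_subgroupOf] at hq ⊢
  obtain ⟨-, hq'⟩ := (hQ₀ q).1 hq
  refine (hQ₀ _).2 ⟨C.mul_mem (C.mul_mem hc hqC) (C.inv_mem hc), ?_⟩
  · intro x hx
    have hx' : (((c⁻¹ : Matrix.SpecialLinearGroup (Fin n) F) : Matrix (Fin n) (Fin n) F) *ᵥ x) j = 0 := by
      rw [hCr _ (C.inv_mem hc), hx]
    obtain ⟨a, ha⟩ := hq' _ hx'
    refine ⟨a, ?_⟩
    change ((c * q * c⁻¹ : Matrix.SpecialLinearGroup (Fin n) F) : Matrix (Fin n) (Fin n) F) *ᵥ x = _
    have e1 : ((c * q * c⁻¹ : Matrix.SpecialLinearGroup (Fin n) F) : Matrix (Fin n) (Fin n) F) =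
        (c : Matrix (Fin n) (Fin n) F) * (q : Matrix (Fin n) (Fin n) F) * ((c⁻¹ : Matrix.SpecialLinearGroup (Fin n) F) : Matrix (Fin n) (Fin n) F) := rfl
    rw [e1, ← Matrix.mulVec_mulVec, ← Matrix.mulVec_mulVec, ha, Matrix.mulVec_add, Matrix.mulVec_smul, hinv2, hCe c hc]
have hQp : IsPGroup 2 Q := by
  rintro ⟨⟨q, hqC⟩, hq⟩
  rw [Subgroup.mem_subgroupOf] at hq
  obtain ⟨-, hq'⟩ := (hQ₀ q).1 hq
  have hN : ((q : Matrix (Fin n) (Fin n) F) - 1) ^ 3 = 0 := by
    apply Matrix.toLin'.injective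
    apply LinearMap.ext
    intro x
    have hNv : ∀ y, ((q : Matrix (Fin n) (Fin n) F) - 1) *ᵥ y = (q : Matrix (Fin n) (Fin n) F) *ᵥ y - y := by
      intro y
      rw [Matrix.sub_mulVec, Matrix.one_mulVec]
    have h1 : (((q : Matrix (Fin n) (Fin n) F) - 1) *ᵥ x) j = 0 := by
      rw [hNv, Pi.sub_apply, hCr q hqC, sub_self]
    obtain ⟨a, ha⟩ := hq' _ h1
    have h2 : ((q : Matrix (Fin n) (Fin n) F) - 1) *ᵥ (((q : Matrix (Fin n) (Fin n) F) - 1) *ᵥ x) = a • e := by
      rw [hNv _, ha]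
      abel
    have h3 : ((q : Matrix (Fin n) (Fin n) F) - 1) *ᵥ (a • e) = 0 := by
      rw [Matrix.mulVec_smul, hNv, hCe q hqC, sub_self, smul_zero]
    rw [Matrix.toLin'_apply, pow_succ, pow_two, ← Matrix.mulVec_mulVec, ← Matrix.mulVec_mulVec, h2, h3]
    simp
  have hpow := Cfsg.Agent.H10.unipotent_pow_eq_one 2 (q : Matrix (Fin n) (Fin n) F) ⟨3, hN⟩ n (by
    rw [Fintype.card_fin]
    exact Nat.lt_two_pow_self.le)
  refine ⟨n, ?_⟩
  apply Subtype.ext
  apply Subtype.ext
  apply Subtype.ext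
  exact hpow
have hQle : Q ≤ pCore 2 C := Cfsg.Agent.H01.le_pCore hQn hQp
have hCP : Cfsg.Agent.H13.IsCharP 2 C := by
  intro z hz
  apply hQle
  have hz' := Subgroup.mem_centralizer_iff.1 hz
  rw [Subgroup.mem_subgroupOf]
  have hrow : ∀ l, l ≠ i → l ≠ j → ∀ m, ((z : Matrix.SpecialLinearGroup (Fin n) F) : Matrix (Fin n) (Fin n) F) l m = if m = l then 1 else 0 := by
    intro l hli hlj m
    have hdet : (Matrix.transvection i l (1 : F)).det = 1 := Matrix.det_transvection_of_ne i l (Ne.symm hli) 1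
    let T : Matrix.SpecialLinearGroup (Fin n) F := ⟨Matrix.transvection i l 1, hdet⟩
    have hTv : ∀ k m, (T : Matrix (Fin n) (Fin n) F) k m = (if k = m then 1 else 0) + (if k = i ∧ m = l then 1 else 0) := by
      intro k m
      change (Matrix.transvection i l (1 : F)) k m = _
      simp only [Matrix.transvection, Matrix.add_apply, Matrix.one_apply, Matrix.single_apply]
      by_cases h1 : k = i ∧ m = l
      · obtain ⟨rfl, rfl⟩ := h1
        simp
      · have h1' : ¬ (i = k ∧ l = m) := fun h => h1 ⟨h.1.symm, h.2.symm⟩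
        simp [h1, h1']
    have hTC : T ∈ C := by
      rw [hmem]
      refine ⟨?_, ?_, ?_⟩
      · intro k hk
        rw [hTv]
        simp [hk, Ne.symm hli]
      · intro m hm
        rw [hTv]
        simp [Ne.symm hm, Ne.symm hij]
      · rw [hTv, hTv]
        simp [Ne.symm hij, Ne.symm hli]
    have hTQ : T ∈ Q₀ := by
      rw [hQ₀]
      refine ⟨hTC, ?_⟩
      intro x _
      refine ⟨x l, ?_⟩
      funext k
      have e1 : ((T : Matrix (Fin n) (Fin n) F) *ᵥ x) k = x k + (if k = i then x l else 0) := by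
        simp only [Matrix.mulVec, dotProduct, hTv, add_mul, Finset.sum_add_distrib]
        congr 1
        · simp
        · by_cases hk : k = i
          · simp [hk]
          · simp [hk]
      rw [e1]
      simp only [Pi.add_apply, Pi.smul_apply, smul_eq_mul, e, Pi.single_apply]
      by_cases hk : k = i
      · simp [hk]
      · simp [hk]
    have hcomm := hz' ⟨T, hTC⟩ (hQle (by
      rw [Subgroup.mem_subgroupOf]
      exact hTQ))
    have hcomm2 : (T : Matrix (Fin n) (Fin n) F) * ((z : Matrix.SpecialLinearGroup (Fin n) F) : Matrix (Fin n) (Fin n) F) = ((z : Matrix.SpecialLinearGroup (Fin n) F) : Matrix (Fin n) (Fin n) F) * (T : Matrix (Fin n) (Fin n) F) :=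
      congrArg (fun x : C => ((x : Matrix.SpecialLinearGroup (Fin n) F) : Matrix (Fin n) (Fin n) F)) hcomm
    have h1 := congrFun (congrFun hcomm2 i) m
    change (Matrix.transvection i l (1 : F) * _ : Matrix (Fin n) (Fin n) F) i m = (_ * Matrix.transvection i l (1 : F) : Matrix (Fin n) (Fin n) F) i m at h1
    rw [ent_left, ent_right] at h1
    have h2 := add_left_cancel h1
    simp only [if_true] at h2
    rw [h2, hdiag _ z.2]
  rw [hQ₀]
  refine ⟨z.2, ?_⟩
  intro x hx
  refine ⟨(((z : Matrix.SpecialLinearGroup (Fin n) F) : Matrix (Fin n) (Fin n) F) *ᵥ x - x) i, ?_⟩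
  funext k
  simp only [Pi.add_apply, Pi.smul_apply, smul_eq_mul, e, Pi.single_apply, Pi.sub_apply]
  by_cases hk : k = i
  · subst hk
    simp
  · rw [if_neg hk, mul_zero, add_zero]
    by_cases hkj : k = j
    · subst hkj
      exact hCr _ z.2 x
    · simp only [Matrix.mulVec, dotProduct, hrow k hk hkj]
      simp
exact Cfsg.Agent.H13.fstar_eq_pCore_iff.2 hCP

end Cfsg.Agent.S1339
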