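import Cfsg.Statements.S1516
import Cfsg.Agent.Lib.H06.Coher3

set_option autoImplicit false

open Cfsg

namespace Cfsg.Agent.S1516

open Cfsg.Agent.H06 Cfsg.Agent.H21
open scoped ComplexConjugate

theorem real_key (y : ℤ) (d a E : ℝ) (hd : 0 < d) (ha : 0 ≤ a) (hE : 2 * (a * d) * d < E)
    (h : ((y : ℝ) / d) ^ 2 * E ≤ 2 * a * y) : y = 0 := by
  by_contra hne
  have hE0 : 0 < E := by
    have : 0 ≤ 2 * (a * d) * d := by positivity
    linarith
  have hyne : (y : ℝ) ≠ 0 := by exact_mod_cast hne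
  have hpos : 0 < ((y : ℝ) / d) ^ 2 := by
    have : (y : ℝ) / d ≠ 0 := div_ne_zero hyne hd.ne'
    positivity
  rcases lt_or_gt_of_ne hne with hneg | hp
  · have h1 : (y : ℝ) < 0 := by exact_mod_cast hneg
    have h2 : 2 * a * y ≤ 0 := by nlinarith
    have h3 : 0 < ((y : ℝ) / d) ^ 2 * E := by positivity
    linarith
  · have h1 : (1 : ℝ) ≤ y := by exact_mod_cast hp
    have h2 : ((y : ℝ) / d) ^ 2 * E = (y : ℝ) * (y * E / d ^ 2) := by
      field_simp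
    rw [h2] at h
    have h3 : (y : ℝ) * (y * E / d ^ 2) ≤ y * (2 * a) := by linarith
    have h4 : y * E / d ^ 2 ≤ 2 * a := le_of_mul_le_mul_left h3 (by linarith)
    have h5 : y * E ≤ 2 * a * d ^ 2 := by
      rwa [div_le_iff₀ (by positivity)] at h4
    have h6 : E ≤ y * E := by nlinarith
    nlinarith

theorem result {L : Type*} [Group L] [Fintype L] {G : Type*} [Group G] [Fintype G] (S : Set (L → ℂ)) (τ : (L → ℂ) → (G → ℂ)) (R : (L → ℂ) → Finset (G → ℂ)) (hS : Cfsg.IsCoherenceSystem S τ R) (d n : (L → ℂ) → ℕ) (hd : ∀ φ ∈ S, φ 1 = (d φ : ℂ)) (hn : ∀ φ ∈ S, Cfsg.classInner φ φ = (n φ : ℂ)) (S₁ : Finset (L → ℂ)) (hS₁ : ↑S₁ ⊆ S) (hS₁c : ∀ φ ∈ S₁, Cfsg.conjFun φ ∈ S₁) (hcoh : Cfsg.IsCoherent (↑S₁ : Set (L → ℂ)) {1}ᶜ τ) (χ : L → ℂ) (hχ : χ ∈ S) (hχ₁ : χ ∉ S₁) (hχ₂ : Cfsg.conjFun χ ∉ S₁) (χ₁ : L → ℂ) (hχ₁S : χ₁ ∈ S₁) (hdvd : d χ₁ ∣ d χ) (hineq : (2 * d χ * d χ₁ : ℝ) < ∑ φ ∈ S₁, ((d φ : ℝ) ^ 2 /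 (n φ : ℝ))) : Cfsg.IsCoherent (↑S₁ ∪ {χ, Cfsg.conjFun χ} : Set (L → ℂ)) {1}ᶜ τ := by
  classical
  obtain ⟨-, τ₁, hτ₁, hag⟩ := hcoh
  obtain ⟨a', ha'⟩ := hdvd
  have hmS : ∀ φ ∈ S₁, φ ∈ S := fun φ h => hS₁ (Finset.mem_coe.mpr h)
  have hmZ : ∀ φ ∈ S₁, φ ∈ zspan (↑S₁ : Set (L → ℂ)) := fun φ h => mem_zspan (Finset.mem_coe.mpr h)
  have hS₁c' : ∀ φ ∈ (↑S₁ : Set (L → ℂ)), conjFun φ ∈ (↑S₁ : Set (L → ℂ)) := fun φ h =>
    Finset.mem_coe.mpr (hS₁c φ (Finset.mem_coe.mp h))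
  have hχ₁m := hmS χ₁ hχ₁S
  have hχc := hS.conj_mem χ hχ
  have hne := hS.conj_ne χ hχ
  -- degrees and norms
  have hdpos : ∀ φ ∈ S, 0 < d φ := fun φ h => Nat.pos_of_ne_zero fun e => by
    apply system_one_ne_zero hS h
    rw [hd φ h, e]
    simp
  have hnpos : ∀ φ ∈ S, 0 < n φ := fun φ h => Nat.pos_of_ne_zero fun e => by
    apply system_char_ne_zero hS h
    rw [hn φ h, e]
    simp
  have hnne : ∀ φ ∈ S₁, (n φ : ℂ) ≠ 0 := fun φ h => by
    exact_mod_cast (hnpos φ (hmS φ h)).ne'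
  have hd₁ := hdpos χ₁ hχ₁m
  have hd₁c : (d χ₁ : ℂ) ≠ 0 := by exact_mod_cast hd₁.ne'
  set a : ℤ := (a' : ℤ) with ha
  have hχcone : conjFun χ 1 = (d χ : ℂ) := by
    rw [system_conj_one hS hχ, hd χ hχ]
  have hnc : classInner (conjFun χ) (conjFun χ) = n χ := classInner_conj_self χ (n χ) (hn χ hχ)
  have hcχ : classInner χ (conjFun χ) = 0 := hS.orthogonal χ hχ _ hχc hne.symm
  have hcχ' : classInner (conjFun χ) χ = 0 := hS.orthogonal _ hχc χ hχ hne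
  have horth1 : ∀ φ ∈ S₁, classInner χ φ = 0 := fun φ h =>
    hS.orthogonal χ hχ φ (hmS φ h) (fun e => hχ₁ (e ▸ h))
  have horth1' : ∀ φ ∈ S₁, classInner φ χ = 0 := fun φ h =>
    hS.orthogonal φ (hmS φ h) χ hχ (fun e => hχ₁ (e ▸ h))
  have horth2 : ∀ φ ∈ S₁, classInner (conjFun χ) φ = 0 := fun φ h =>
    hS.orthogonal _ hχc φ (hmS φ h) (fun e => hχ₂ (e ▸ h))
  have horth2' : ∀ φ ∈ S₁, classInner φ (conjFun χ) = 0 := fun φ h =>
    hS.orthogonal φ (hmS φ h) _ hχc (fun e => hχ₂ (e ▸ h))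
  have hτon : ∀ φ ∈ S₁, ∀ ψ ∈ S₁, classInner (τ₁ φ) (τ₁ ψ) = classInner φ ψ := fun φ h ψ h' =>
    hτ₁.2.2.1 φ (hmZ φ h) ψ (hmZ ψ h')
  have hτself : ∀ φ ∈ S₁, classInner (τ₁ φ) (τ₁ φ) = n φ := fun φ h => by
    rw [hτon φ h φ h, hn φ (hmS φ h)]
  -- the element `α`
  let α : L → ℂ := χ + (-a) • χ₁
  have hαm : α ∈ zspanOn S {1}ᶜ := by
    refine mem_zspanOn_one (zspan_add_mem (mem_zspan hχ) (zspan_zsmul_mem _ (mem_zspan hχ₁m))) ?_
    simp only [α, Pi.add_apply, zsmul_apply', hd χ hχ, hd χ₁ hχ₁m, ha', ha]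
    push_cast
    ring
  have hiso := hS.isometry
  set X := τ α with hX
  have hXgen : IsGeneralizedCharacter G X := hiso.2.2.2 α hαm
  have hτ₁gen : ∀ φ ∈ S₁, IsGeneralizedCharacter G (τ₁ φ) := fun φ h => hτ₁.2.2.2 φ (hmZ φ h)
  have hXX : classInner X X = (n χ : ℂ) + a * a * n χ₁ := by
    rw [hX, hiso.2.2.1 α hαm α hαm]
    simp only [α, classInner_add_left, classInner_add_right, classInner_zsmul_left, classInner_zsmul_right]
    rw [hn χ hχ, hn χ₁ hχ₁m, horth1 χ₁ hχ₁S, horth1' χ₁ hχ₁S]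
    push_cast
    ring
  -- the relation with `τ₁`
  have hω : ∀ φ ∈ S₁, (d χ₁ : ℤ) • φ + (-(d φ : ℤ)) • χ₁ ∈ zspanOn (↑S₁ : Set (L → ℂ)) {1}ᶜ := by
    intro φ hφ
    refine mem_zspanOn_one (zspan_add_mem (zspan_zsmul_mem _ (hmZ φ hφ)) (zspan_zsmul_mem _ (hmZ χ₁ hχ₁S))) ?_
    simp only [Pi.add_apply, zsmul_apply', hd φ (hmS φ hφ), hd χ₁ hχ₁m]
    push_cast
    ring
  have hτω : ∀ φ ∈ S₁, τ ((d χ₁ : ℤ) • φ + (-(d φ : ℤ)) • χ₁) = (d χ₁ : ℤ) • τ₁ φ + (-(d φ : ℤ)) • τ₁ χ₁ := by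
    intro φ hφ
    rw [← hag _ (hω φ hφ), iso_lin hτ₁ (zspan_closed _) _ _ (hmZ φ hφ) (hmZ χ₁ hχ₁S)]
  have hrel : ∀ φ ∈ S₁, (d χ₁ : ℂ) * classInner X (τ₁ φ) - (d φ : ℂ) * classInner X (τ₁ χ₁) =
      -(a : ℂ) * (d χ₁ : ℂ) * classInner χ₁ φ + (a : ℂ) * (d φ : ℂ) * n χ₁ := by
    intro φ hφ
    have h1 := hiso.2.2.1 α hαm _ (zspanOn_mono hS₁ (hω φ hφ))
    rw [← hX, hτω φ hφ] at h1
    simp only [α, classInner_add_left, classInner_add_right, classInner_zsmul_left, classInner_zsmul_right] at h1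
    rw [horth1 φ hφ, horth1 χ₁ hχ₁S, hn χ₁ hχ₁m] at h1
    push_cast at h1
    linear_combination h1
  -- the element `Y`
  let Y : G → ℂ := X + a • τ₁ χ₁
  have hYgen : IsGeneralizedCharacter G Y := gen_add hXgen (gen_zsmul (hτ₁gen χ₁ hχ₁S) a)
  obtain ⟨y, hy⟩ := gen_inner_int hYgen (hτ₁gen χ₁ hχ₁S)
  have hXχ₁ : classInner X (τ₁ χ₁) = ((y - a * n χ₁ : ℤ) : ℂ) := by
    have h1 : classInner Y (τ₁ χ₁) = classInner X (τ₁ χ₁) + a * n χ₁ := by
      simp only [Y, classInner_add_left, classInner_zsmul_left]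
      rw [hτself χ₁ hχ₁S]
    rw [hy] at h1
    push_cast
    linear_combination -h1
  have hXχ₁' : classInner (τ₁ χ₁) X = ((y - a * n χ₁ : ℤ) : ℂ) := by
    rw [← classInner_comm_conj, hXχ₁, map_intCast]
  have hkey : ∀ φ ∈ S₁, (d χ₁ : ℂ) * classInner Y (τ₁ φ) = (d φ : ℂ) * y := by
    intro φ hφ
    have h1 := hrel φ hφ
    have h2 : classInner Y (τ₁ φ) = classInner X (τ₁ φ) + a * classInner χ₁ φ := by
      simp only [Y, classInner_add_left, classInner_zsmul_left]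
      rw [hτon χ₁ hχ₁S φ hφ]
    rw [h2]
    rw [hXχ₁] at h1
    push_cast at h1
    linear_combination h1
  have hYY : classInner Y Y = (n χ : ℂ) + 2 * a * y := by
    simp only [Y, classInner_add_left, classInner_add_right, classInner_zsmul_left, classInner_zsmul_right]
    rw [hXX, hXχ₁, hXχ₁', hτself χ₁ hχ₁S]
    push_cast
    ring
  -- the `R χ` part
  have hd' : χ - conjFun χ ∈ zspanOn S {1}ᶜ :=
    mem_zspanOn_one (zspan_sub_mem (mem_zspan hχ) (mem_zspan hχc)) (by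
      rw [Pi.sub_apply, system_conj_one hS hχ, sub_self])
  set Δ := τ (χ - conjFun χ) with hΔ
  have hΔsum : Δ = ∑ r ∈ R χ, r := hS.sum_eq χ hχ
  have hsubS : (↑S₁ : Set (L → ℂ)) ⊆ S := hS₁
  have hrorth : ∀ φ ∈ S₁, ∀ r ∈ R χ, classInner (τ₁ φ) r = 0 := fun φ hφ r hr =>
    coh_orth hS hsubS hS₁c' hτ₁ hag (Finset.mem_coe.mpr hφ) hχ
      (fun h => hχ₁ (Finset.mem_coe.mp h)) (fun h => hχ₂ (Finset.mem_coe.mp h)) hr
  have hon := hS.orthonormal χ hχ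
  have hxint : ∀ r ∈ R χ, ∃ k : ℤ, classInner Y r = k := fun r hr =>
    gen_inner_int hYgen (hS.virtual χ hχ r hr)
  choose! x hx using hxint
  have hτ₁Δ : ∀ φ ∈ S₁, classInner (τ₁ φ) Δ = 0 := fun φ hφ => by
    rw [hΔsum, classInner_sum_right]
    exact Finset.sum_eq_zero fun r hr => hrorth φ hφ r hr
  have hΔτ₁ : ∀ φ ∈ S₁, classInner Δ (τ₁ φ) = 0 := fun φ hφ => by
    rw [← classInner_comm_conj, hτ₁Δ φ hφ, map_zero]
  have hYΔ : classInner Y Δ = n χ := by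
    simp only [Y, classInner_add_left, classInner_zsmul_left]
    rw [hτ₁Δ χ₁ hχ₁S, hX, hΔ, hiso.2.2.1 α hαm _ hd']
    simp only [α, classInner_add_left, classInner_zsmul_left, classInner_sub_right']
    rw [hn χ hχ, hcχ, horth1' χ₁ ?_, horth2' χ₁ hχ₁S]
    · simp
    · exact hχ₁S
  have hΔY : classInner Δ Y = n χ := by
    rw [← classInner_comm_conj, hYΔ, Complex.conj_natCast]
  have hΔΔ : classInner Δ Δ = 2 * (n χ : ℂ) := by
    rw [hΔ, hiso.2.2.1 _ hd' _ hd']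
    simp only [classInner_sub_left', classInner_sub_right']
    rw [hn χ hχ, hnc, hcχ, hcχ']
    ring
  have hxsum : ∑ r ∈ R χ, x r = (n χ : ℤ) := by
    have h1 : ∑ r ∈ R χ, classInner Y r = n χ := by
      rw [← classInner_sum_right, ← hΔsum, hYΔ]
    rw [Finset.sum_congr rfl hx] at h1
    exact_mod_cast h1
  -- the auxiliary `W`
  let W : G → ℂ := ∑ φ ∈ S₁, ((d φ : ℂ) / (n φ : ℂ)) • τ₁ φ
  have hWφ : ∀ ψ ∈ S₁, classInner W (τ₁ ψ) = d ψ := by
    intro ψ hψ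
    simp only [W]
    rw [classInner_sum_left, Finset.sum_eq_single ψ]
    · rw [classInner_smul_left, hτself ψ hψ]
      field_simp [hnne ψ hψ]
    · intro b hb hne'
      rw [classInner_smul_left, hτon b hb ψ hψ, hS.orthogonal b (hmS b hb) ψ (hmS ψ hψ) hne', mul_zero]
    · intro h
      exact absurd hψ h
  set E : ℝ := ∑ φ ∈ S₁, ((d φ : ℝ) ^ 2 / (n φ : ℝ)) with hE
  have hconj : ∀ φ : L → ℂ, conj ((d φ : ℂ) / (n φ : ℂ)) = (d φ : ℂ) / (n φ : ℂ) := fun φ => by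
    rw [map_div₀, Complex.conj_natCast, Complex.conj_natCast]
  have hEc : ((E : ℝ) : ℂ) = ∑ φ ∈ S₁, ((d φ : ℂ) ^ 2 / (n φ : ℂ)) := by
    rw [hE]
    push_cast
    rfl
  have hWW : classInner W W = (E : ℂ) := by
    conv_lhs => rw [show W = W from rfl]
    conv_lhs => enter [2]; simp only [W]
    rw [classInner_sum_right, hEc]
    refine Finset.sum_congr rfl fun φ hφ => ?_
    rw [classInner_smul_right, hconj, hWφ φ hφ]
    ring
  set b : ℂ := (y : ℂ) / (d χ₁ : ℂ) with hb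
  have hbconj : conj b = b := by
    rw [hb, map_div₀, map_intCast, Complex.conj_natCast]
  have hYφ : ∀ φ ∈ S₁, classInner Y (τ₁ φ) = (d φ : ℂ) * b := by
    intro φ hφ
    have := hkey φ hφ
    rw [hb]
    field_simp
    linear_combination this
  have hYW : classInner Y W = b * (E : ℂ) := by
    simp only [W]
    rw [classInner_sum_right, hEc, Finset.mul_sum]
    refine Finset.sum_congr rfl fun φ hφ => ?_
    rw [classInner_smul_right, hconj, hYφ φ hφ]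
    ring
  have hEconj : conj (E : ℂ) = (E : ℂ) := Complex.conj_ofReal E
  have hWY : classInner W Y = b * (E : ℂ) := by
    rw [← classInner_comm_conj, hYW, map_mul, hbconj, hEconj]
  have hWr : ∀ r ∈ R χ, classInner W r = 0 := by
    intro r hr
    simp only [W]
    rw [classInner_sum_left]
    refine Finset.sum_eq_zero fun φ hφ => ?_
    rw [classInner_smul_left, hrorth φ hφ r hr, mul_zero]
  let Z : G → ℂ := Y - b • W
  have hZr : ∀ r ∈ R χ, classInner Z r = x r := by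
    intro r hr
    simp only [Z, classInner_sub_left', classInner_smul_left]
    rw [hWr r hr, hx r hr]
    simp
  have hZZ : classInner Z Z = (n χ : ℂ) + 2 * a * y - b * b * (E : ℂ) := by
    simp only [Z, classInner_sub_left', classInner_sub_right', classInner_smul_left, classInner_smul_right]
    rw [hYY, hYW, hWY, hWW, hbconj]
    ring
  -- Bessel's inequality
  have hbes := bessel (R χ) (fun r => r) hon Z
  set rem := Z - ∑ i ∈ R χ, classInner Z i • i with hrem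
  have hremnn := classInner_self_re_nonneg rem
  have hbsum : ∑ i ∈ R χ, classInner Z i * conj (classInner Z i) = ((∑ r ∈ R χ, x r * x r : ℤ) : ℂ) := by
    push_cast
    refine Finset.sum_congr rfl fun r hr => ?_
    rw [hZr r hr, map_intCast]
  have hbbre : b * b = (((y : ℝ) / (d χ₁ : ℝ)) ^ 2 : ℝ) := by
    rw [hb]
    push_cast
    ring
  rw [hbsum, hZZ] at hbes
  have hre := congrArg Complex.re hbes
  have hZZre : (((n χ : ℂ) + 2 * a * y - b * b * (E : ℂ))).re =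
      (n χ : ℝ) + 2 * a * y - ((y : ℝ) / (d χ₁ : ℝ)) ^ 2 * E := by
    rw [hbbre]
    have : (n χ : ℂ) + 2 * a * y - ((((y : ℝ) / (d χ₁ : ℝ)) ^ 2 : ℝ) : ℂ) * (E : ℂ) =
        (((n χ : ℝ) + 2 * a * y - ((y : ℝ) / (d χ₁ : ℝ)) ^ 2 * E : ℝ) : ℂ) := by
      push_cast
      ring
    rw [this, Complex.ofReal_re]
  rw [hZZre, Complex.add_re, Complex.intCast_re] at hre
  have hlow : (n χ : ℤ) ≤ ∑ r ∈ R χ, x r * x r := by
    rw [← hxsum]
    refine Finset.sum_le_sum fun r _ => ?_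
    have := Int.le_self_sq (x r)
    nlinarith
  have hlow' : (n χ : ℝ) ≤ ((∑ r ∈ R χ, x r * x r : ℤ) : ℝ) := by exact_mod_cast hlow
  have hy0 : y = 0 := by
    refine real_key y (d χ₁ : ℝ) (a : ℝ) E (by exact_mod_cast hd₁) (by rw [ha]; exact_mod_cast Nat.zero_le a') ?_ ?_
    · have h1 : (d χ : ℝ) = (d χ₁ : ℝ) * (a : ℝ) := by
        rw [ha', ha]
        push_cast
        ring
      rw [h1] at hineq
      have : 2 * ((d χ₁ : ℝ) * a) * (d χ₁ : ℝ) = 2 * ((a : ℝ) * (d χ₁ : ℝ)) * (d χ₁ : ℝ) := by ring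
      rw [this] at hineq
      exact hineq
    · linarith
  -- conclusions
  have hYφ0 : ∀ φ ∈ S₁, classInner Y (τ₁ φ) = 0 := fun φ hφ => by
    rw [hYφ φ hφ, hb, hy0]
    simp
  have hφY0 : ∀ φ ∈ S₁, classInner (τ₁ φ) Y = 0 := fun φ hφ => by
    rw [← classInner_comm_conj, hYφ0 φ hφ, map_zero]
  have hYY' : classInner Y Y = n χ := by
    rw [hYY, hy0]
    simp
  let Y' : G → ℂ := Y - Δ
  have hY'gen : IsGeneralizedCharacter G Y' := gen_sub hYgen (hiso.2.2.2 _ hd')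
  have hY'φ : ∀ φ ∈ S₁, classInner Y' (τ₁ φ) = 0 := fun φ hφ => by
    simp only [Y', classInner_sub_left']
    rw [hYφ0 φ hφ, hΔτ₁ φ hφ, sub_zero]
  have hφY' : ∀ φ ∈ S₁, classInner (τ₁ φ) Y' = 0 := fun φ hφ => by
    rw [← classInner_comm_conj, hY'φ φ hφ, map_zero]
  have hYY'' : classInner Y Y' = 0 := by
    simp only [Y', classInner_sub_right']
    rw [hYY', hYΔ, sub_self]
  have hY'Y : classInner Y' Y = 0 := by
    rw [← classInner_comm_conj, hYY'', map_zero]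
  have hY'Y' : classInner Y' Y' = n χ := by
    simp only [Y', classInner_sub_left', classInner_sub_right']
    rw [hYY', hYΔ, hΔY, hΔΔ]
    ring
  -- the extension
  let T : Finset (L → ℂ) := S₁ ∪ {χ, conjFun χ}
  have hTe : (↑T : Set (L → ℂ)) = ↑S₁ ∪ {χ, conjFun χ} := by
    simp [T]
  have hTm : ∀ x, x ∈ T ↔ x ∈ S₁ ∨ x = χ ∨ x = conjFun χ := fun x => by
    simp only [T, Finset.mem_union, Finset.mem_insert, Finset.mem_singleton]
  have hTS : ∀ x ∈ T, x ∈ S := by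
    intro x hx
    rcases (hTm x).mp hx with h | h | h
    · exact hmS x h
    · rw [h]
      exact hχ
    · rw [h]
      exact hχc
  let μ : (L → ℂ) → (G → ℂ) := fun f => if f = χ then Y else if f = conjFun χ then Y' else τ₁ f
  have hμχ : μ χ = Y := if_pos rfl
  have hμc : μ (conjFun χ) = Y' := by
    show (if conjFun χ = χ then Y else if conjFun χ = conjFun χ then Y' else τ₁ _) = Y'
    rw [if_neg hne, if_pos rfl]
  have hμφ : ∀ φ ∈ S₁, μ φ = τ₁ φ := fun φ hφ => by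
    show (if φ = χ then Y else if φ = conjFun χ then Y' else τ₁ φ) = τ₁ φ
    rw [if_neg (fun e : φ = χ => hχ₁ (e ▸ hφ)), if_neg (fun e : φ = conjFun χ => hχ₂ (e ▸ hφ))]
  have hTorth : ∀ x ∈ T, ∀ y ∈ T, x ≠ y → classInner x y = 0 := fun x hx y hy h =>
    hS.orthogonal x (hTS x hx) y (hTS y hy) h
  have hTne : ∀ x ∈ T, classInner x x ≠ 0 := fun x hx => system_char_ne_zero hS (hTS x hx)
  have hisoT : IsLinearIsometryOn (zspan (↑T : Set (L → ℂ))) (coherExt T μ) := by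
    refine coherExt_isometry hTorth hTne ?_ ?_
    · intro x hx
      rcases (hTm x).mp hx with h | h | h
      · rw [hμφ x h]
        exact hτ₁gen x h
      · rw [h, hμχ]
        exact hYgen
      · rw [h, hμc]
        exact hY'gen
    · intro u hu v hv
      rcases (hTm u).mp hu with h | h | h <;> rcases (hTm v).mp hv with h' | h' | h'
      · rw [hμφ u h, hμφ v h']
        exact hτon u h v h'
      · rw [h', hμφ u h, hμχ, hφY0 u h, horth1' u h]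
      · rw [h', hμφ u h, hμc, hφY' u h, horth2' u h]
      · rw [h, hμφ v h', hμχ, hYφ0 v h', horth1 v h']
      · rw [h, h', hμχ, hYY', hn χ hχ]
      · rw [h, h', hμχ, hμc, hYY'', hcχ]
      · rw [h, hμφ v h', hμc, hY'φ v h', horth2 v h']
      · rw [h, h', hμχ, hμc, hY'Y, hcχ']
      · rw [h, h', hμc, hY'Y', hnc]
  have hmemT : ∀ x ∈ T, coherExt T μ x = μ x := fun x hx => coherExt_mem hTorth hTne hx
  rw [hTe] at hisoT
  have hsubT : (↑S₁ : Set (L → ℂ)) ⊆ ↑S₁ ∪ {χ, conjFun χ} := Set.subset_union_left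
  have hχT : χ ∈ (↑S₁ ∪ {χ, conjFun χ} : Set (L → ℂ)) := by simp
  have hcT : conjFun χ ∈ (↑S₁ ∪ {χ, conjFun χ} : Set (L → ℂ)) := by simp
  have hT'S : (↑S₁ ∪ {χ, conjFun χ} : Set (L → ℂ)) ⊆ S := by
    intro x hx
    have : x ∈ (↑T : Set (L → ℂ)) := by
      rw [hTe]
      exact hx
    exact hTS x (Finset.mem_coe.mp this)
  refine ⟨⟨χ - conjFun χ, mem_zspanOn_one (zspan_sub_mem (mem_zspan hχT) (mem_zspan hcT)) (by
    rw [Pi.sub_apply, system_conj_one hS hχ, sub_self]), fun h => hne (sub_eq_zero.mp h).symm⟩,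
    coherExt T μ, hisoT, ?_⟩
  intro f hf
  have hQ : ∀ g ∈ zspan (↑S₁ ∪ {χ, conjFun χ} : Set (L → ℂ)), ∃ g₁ ∈ zspan (↑S₁ : Set (L → ℂ)), ∃ m m' : ℤ,
      g = g₁ + m • χ + m' • conjFun χ ∧ coherExt T μ g = τ₁ g₁ + m • Y + m' • Y' := by
    intro g hg
    have hg' : g ∈ Submodule.span ℤ (↑S₁ ∪ {χ, conjFun χ} : Set (L → ℂ)) := hg
    clear hg
    induction hg' using Submodule.span_induction with
    | mem u hu =>
      have hu' : u ∈ T := by
        rw [← Finset.mem_coe, hTe]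
        exact hu
      rcases (hTm u).mp hu' with h | h | h
      · refine ⟨u, hmZ u h, 0, 0, by simp, ?_⟩
        rw [hmemT u hu', hμφ u h]
        simp
      · refine ⟨0, zspan_zero_mem, 1, 0, by simp [h], ?_⟩
        rw [hmemT u hu', h, hμχ, iso_zero hτ₁ zspan_zero_mem]
        simp
      · refine ⟨0, zspan_zero_mem, 0, 1, by simp [h], ?_⟩
        rw [hmemT u hu', h, hμc, iso_zero hτ₁ zspan_zero_mem]
        simp
    | zero =>
      refine ⟨0, zspan_zero_mem, 0, 0, by simp, ?_⟩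
      rw [coherExt_zero, iso_zero hτ₁ zspan_zero_mem]
      simp
    | add a₁ b₁ _ _ ha₁ hb₁ =>
      obtain ⟨g₁, hg₁, k, k', e, e'⟩ := ha₁
      obtain ⟨g₂, hg₂, l, l', e₂, e₂'⟩ := hb₁
      refine ⟨g₁ + g₂, zspan_add_mem hg₁ hg₂, k + l, k' + l', ?_, ?_⟩
      · rw [e, e₂, add_smul, add_smul]
        abel
      · rw [coherExt_add, e', e₂', hτ₁.1 _ hg₁ _ hg₂, add_smul, add_smul]
        abel
    | smul c a₁ _ ha₁ =>
      obtain ⟨g₁, hg₁, k, k', e, e'⟩ := ha₁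
      refine ⟨c • g₁, zspan_zsmul_mem c hg₁, c * k, c * k', ?_, ?_⟩
      · rw [e, smul_add, smul_add, mul_smul, mul_smul]
      · rw [coherExt_zsmul, e', hτ₁.2.1 _ hg₁, smul_add, smul_add, mul_smul, mul_smul]
  obtain ⟨g₁, hg₁, m, m', ef, ef'⟩ := hQ f hf.1
  have hf1 : f 1 = 0 := hf.2 1 (by simp)
  have hval : g₁ 1 + ((m : ℂ) + m') * (d χ : ℂ) = 0 := by
    rw [ef] at hf1
    simp only [Pi.add_apply, zsmul_apply', hd χ hχ, hχcone] at hf1
    linear_combination hf1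
  have hh : g₁ + ((m + m') * a) • χ₁ ∈ zspanOn (↑S₁ : Set (L → ℂ)) {1}ᶜ := by
    refine mem_zspanOn_one (zspan_add_mem hg₁ (zspan_zsmul_mem _ (hmZ χ₁ hχ₁S))) ?_
    simp only [Pi.add_apply, zsmul_apply', hd χ₁ hχ₁m]
    rw [ha', ha] at *
    push_cast at hval ⊢
    linear_combination hval
  let α' : L → ℂ := conjFun χ + (-a) • χ₁
  have hα'm : α' ∈ zspanOn S {1}ᶜ := by
    refine mem_zspanOn_one (zspan_add_mem (mem_zspan hχc) (zspan_zsmul_mem _ (mem_zspan hχ₁m))) ?_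
    simp only [α', Pi.add_apply, zsmul_apply', hχcone, hd χ₁ hχ₁m, ha', ha]
    push_cast
    ring
  have hαα' : α = α' + (χ - conjFun χ) := by
    simp only [α, α']
    abel
  have hτα' : τ α' = X - Δ := by
    have := hiso.1 _ hα'm _ hd'
    rw [← hαα', ← hX, ← hΔ] at this
    rw [this]
    abel
  have hfeq : f = (g₁ + ((m + m') * a) • χ₁) + m • α + m' • α' := by
    rw [ef]
    funext x
    simp only [α, α', Pi.add_apply, zsmul_apply']
    push_cast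
    ring
  have h1 : τ f = τ (g₁ + ((m + m') * a) • χ₁) + m • X + m' • τ α' := by
    rw [hfeq]
    have hm1 := zspanOn_mono hS₁ hh
    have hm2 := zspanOn_closed S _ m α hαm
    have hm3 := zspanOn_closed S _ m' α' hα'm
    rw [hiso.1 _ (zspanOn_add hm1 hm2) _ hm3, hiso.1 _ hm1 _ hm2, hiso.2.1 α hαm m, hiso.2.1 α' hα'm m']
  rw [h1, ef', ← hag _ hh, hτ₁.1 _ hg₁ _ (zspan_zsmul_mem _ (hmZ χ₁ hχ₁S)), hτ₁.2.1 χ₁ (hmZ χ₁ hχ₁S), hτα']
  funext x
  simp only [Y', Y, Pi.add_apply, Pi.sub_apply, zsmul_apply']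
  push_cast
  ring

end Cfsg.Agent.S1516
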