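import Cfsg.Statements.S1893
import Cfsg.Agent.S0109
import Cfsg.Agent.Lib.H26.ActionStable
import Cfsg.Agent.Lib.H14.QdStable
import Cfsg.Agent.Lib.H01.Solv2
import Cfsg.Agent.Lib.H01.Fitting
import Cfsg.Agent.Lib.H01.Coprime
import Mathlib
set_option autoImplicit false
set_option linter.style.haveILetI false
set_option linter.unusedVariables false
set_option linter.unusedSimpArgs false
open Cfsg
open scoped commutatorElement

namespace Cfsg.Agent.S1893

universe u

theorem stab2 {S : Type u} [Group S] [Finite S] [Group.IsSolvable S] (p : ℕ) [Fact p.Prime]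
    (hp2 : p ≠ 2) (hp3 : p ≠ 3) (V : Subgroup S) [V.Normal] (hVp : IsPGroup p V) :
    IsPStableOn p V := by
  have hfree := S0109.not_involves_qd (G := S) hp2 inferInstance (fun h => absurd h hp3)
  exact H26.isPStableOn_of_nstable (H14.stable_of_not_involves hp2 hfree) V hVp

/-- The `p'`-part of the Fitting subgroup. -/
noncomputable def EE (S : Type u) [Group S] (p : ℕ) : Subgroup S :=
  ⨆ q : {q : ℕ // q.Prime ∧ q ≠ p}, Cfsg.pCore q.1 S

theorem EE_normal {S : Type u} [Group S] (p : ℕ) : (EE S p).Normal := by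
  unfold EE
  haveI : ∀ q : {q : ℕ // q.Prime ∧ q ≠ p}, (Cfsg.pCore q.1 S).Normal :=
    fun q => H01.pCore_normal q.1
  exact Subgroup.iSup_normal _

theorem fitting_le_sup {S : Type u} [Group S] [Finite S] (p : ℕ) [Fact p.Prime] :
    Cfsg.fittingSubgroup S ≤ Cfsg.pCore p S ⊔ EE S p := by
  rw [H01.fitting_eq_iSup_pCore]
  refine iSup_le ?_
  rintro ⟨q, hq⟩
  by_cases h : q = p
  · subst h
    exact le_sup_left
  · exact le_trans (le_iSup (fun q : {q : ℕ // q.Prime ∧ q ≠ p} => Cfsg.pCore q.1 S) ⟨q, hq, h⟩)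
      le_sup_right

theorem EE_commute {S : Type u} [Group S] [Finite S] (p : ℕ) [Fact p.Prime] {v e : S}
    (hv : v ∈ Cfsg.pCore p S) (he : e ∈ EE S p) : v * e = e * v := by
  have hle : EE S p ≤ Subgroup.centralizer ({v} : Set S) := by
    refine iSup_le ?_
    rintro ⟨q, hq, hqp⟩
    intro z hz
    rw [Subgroup.mem_centralizer_iff]
    intro h hh
    rw [Set.mem_singleton_iff] at hh
    subst hh
    haveI : Fact q.Prime := ⟨hq⟩
    exact H01.pCore_commute (Ne.symm hqp) _ _ hv hz
  exact (Subgroup.mem_centralizer_iff.mp (hle he)) v rfl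

/-- A `p'`-element of the Fitting subgroup lies in the `p'`-part. -/
theorem mem_EE_of_coprime {S : Type u} [Group S] [Finite S] (p : ℕ) [Fact p.Prime] {w : S}
    (hw : w ∈ Cfsg.fittingSubgroup S) (hc : (orderOf w).Coprime p) : w ∈ EE S p := by
  classical
  have hp : p.Prime := Fact.out
  haveI hEn := EE_normal (S := S) p
  have hw' := fitting_le_sup p hw
  have hA : Cfsg.pCore p S ≤ Subgroup.normalizer (EE S p : Set S) := by
    intro x _
    rw [Subgroup.mem_normalizer_iff]
    intro n
    constructor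
    · exact fun h => hEn.conj_mem n h x
    · intro h
      have := hEn.conj_mem _ h x⁻¹
      simpa [mul_assoc] using this
  rw [sup_comm] at hw'
  obtain ⟨e, he, v, hv, rfl⟩ := H01.exists_mul_of_mem_sup hA hw'
  obtain ⟨m, hm⟩ := (H01.pCore_isPGroup (G := S) p) ⟨v, hv⟩
  have hm' : v ^ p ^ m = 1 := congrArg Subtype.val hm
  have hcomm : Commute e v := (EE_commute p hv he).symm
  have h1 : (e * v) ^ p ^ m = e ^ p ^ m := by
    rw [hcomm.mul_pow, hm', mul_one]
  have h2 : (e * v) ^ p ^ m ∈ EE S p := by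
    rw [h1]
    exact Subgroup.pow_mem _ he _
  have hcop : (p ^ m).Coprime (orderOf (e * v)) := (hc.pow_right m).symm
  have hb := Nat.gcd_eq_gcd_ab (p ^ m) (orderOf (e * v))
  rw [hcop.gcd_eq_one] at hb
  have h3 : e * v = ((e * v) ^ p ^ m) ^ (Nat.gcdA (p ^ m) (orderOf (e * v))) := by
    have h4 : (e * v) ^ ((1 : ℕ) : ℤ) = (e * v) ^ (((p ^ m : ℕ) : ℤ) * Nat.gcdA (p ^ m) (orderOf (e * v)) +
        (orderOf (e * v) : ℤ) * Nat.gcdB (p ^ m) (orderOf (e * v))) := by
      rw [hb]
    rw [zpow_add, zpow_mul, zpow_mul, zpow_natCast, zpow_natCast, zpow_natCast, pow_orderOf_eq_one,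
      one_zpow, mul_one] at h4
    simpa using h4
  rw [h3]
  exact Subgroup.zpow_mem _ h2 _

theorem star {S : Type u} [Group S] [Finite S] [Group.IsSolvable S] (p : ℕ) [Fact p.Prime]
    (hp2 : p ≠ 2) (hp3 : p ≠ 3) (y : S) (k : ℕ) (hy : y ^ p ^ k = 1)
    (hcent : ∀ q : ℕ, q.Prime → q ≠ p → ∀ z ∈ Cfsg.pCore q S, y * z = z * y)
    (hq : ⁅⁅Cfsg.pCore p S, Subgroup.zpowers y⁆, Subgroup.zpowers y⁆ = ⊥) :
    y ∈ Cfsg.pCore p S := by
  classical
  have hp : p.Prime := Fact.out
  haveI hVn : (Cfsg.pCore p S).Normal := H01.pCore_normal p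
  have hVp : IsPGroup p (Cfsg.pCore p S) := H01.pCore_isPGroup p
  have hon := stab2 p hp2 hp3 (Cfsg.pCore p S) hVp
  have hy1 := hon y hq
  haveI hC₁n : (Subgroup.centralizer (Cfsg.pCore p S : Set S)).Normal :=
    Subgroup.normal_centralizer (H := Cfsg.pCore p S)
  let π := QuotientGroup.mk' (Subgroup.centralizer (Cfsg.pCore p S : Set S))
  let L : Subgroup S := (Cfsg.pCore p (S ⧸ Subgroup.centralizer (Cfsg.pCore p S : Set S))).comap π
  haveI hLn : L.Normal := (H01.pCore_normal p).comap π
  let C₂ : Subgroup S := Subgroup.centralizer (EE S p : Set S)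
  haveI hEn := EE_normal (S := S) p
  haveI hC₂n : C₂.Normal := Subgroup.normal_centralizer (H := EE S p)
  let W : Subgroup S := L ⊓ C₂
  haveI hWn : W.Normal := Subgroup.normal_inf_normal _ _
  have hC₂mem : ∀ w, (∀ q : ℕ, q.Prime → q ≠ p → ∀ z ∈ Cfsg.pCore q S, w * z = z * w) → w ∈ C₂ := by
    intro w hw
    rw [Subgroup.mem_centralizer_iff]
    have hle : EE S p ≤ Subgroup.centralizer ({w} : Set S) := by
      refine iSup_le ?_
      rintro ⟨q, hq, hqp⟩
      intro z hz
      rw [Subgroup.mem_centralizer_iff]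
      intro h hh
      rw [Set.mem_singleton_iff] at hh
      subst hh
      exact hw q hq hqp z hz
    intro h hh
    exact ((Subgroup.mem_centralizer_iff.mp (hle hh)) w rfl).symm
  have hyW : y ∈ W := ⟨hy1, hC₂mem y hcent⟩
  -- `p'`-elements of `W` are central in `W`
  have hw1 : ∀ w ∈ W, (orderOf w).Coprime p → ∀ g ∈ W, g * w = w * g := by
    intro w hw hcop g hg
    have h1 : w ∈ Subgroup.centralizer (Cfsg.pCore p S : Set S) := by
      have h2 : π w ∈ Cfsg.pCore p (S ⧸ Subgroup.centralizer (Cfsg.pCore p S : Set S)) := hw.1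
      obtain ⟨m, hm⟩ := (H01.pCore_isPGroup (G := S ⧸ Subgroup.centralizer (Cfsg.pCore p S : Set S)) p)
        ⟨π w, h2⟩
      have hm' : (π w) ^ p ^ m = 1 := congrArg Subtype.val hm
      have hm2 : (π w) ^ orderOf w = 1 := by
        rw [← map_pow, pow_orderOf_eq_one, map_one]
      have h3 := pow_gcd_eq_one.mpr ⟨hm', hm2⟩
      rw [(hcop.pow_right m).symm.gcd_eq_one, pow_one] at h3
      exact (QuotientGroup.eq_one_iff _).mp h3
    have hwF : w ∈ Cfsg.fittingSubgroup S := by
      apply H01.centralizer_fitting_le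
      rw [Subgroup.mem_centralizer_iff]
      have hle : Cfsg.fittingSubgroup S ≤ Subgroup.centralizer ({w} : Set S) := by
        rw [H01.fitting_eq_iSup_pCore]
        refine iSup_le ?_
        rintro ⟨q, hq⟩
        intro z hz
        rw [Subgroup.mem_centralizer_iff]
        intro h hh
        rw [Set.mem_singleton_iff] at hh
        subst hh
        by_cases hqp : q = p
        · subst hqp
          exact ((Subgroup.mem_centralizer_iff.mp h1) z hz).symm
        · have hzE : z ∈ EE S p := (le_iSup (fun q : {q : ℕ // q.Prime ∧ q ≠ p} => Cfsg.pCore q.1 S)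
            ⟨q, hq, hqp⟩) hz
          exact ((Subgroup.mem_centralizer_iff.mp hw.2) z hzE).symm
      intro h hh
      exact ((Subgroup.mem_centralizer_iff.mp (hle hh)) w rfl).symm
    have hwE := mem_EE_of_coprime p hwF hcop
    exact ((Subgroup.mem_centralizer_iff.mp hg.2) w hwE).symm
  -- `W` is nilpotent
  have hWnil : Group.IsNilpotent W := by
    have hq : IsPGroup p (W ⧸ Subgroup.center W) := by
      intro x
      obtain ⟨w, rfl⟩ := QuotientGroup.mk_surjective x
      obtain ⟨a, m, hm, hord⟩ : ∃ a m : ℕ, m.Coprime p ∧ orderOf (w : S) = p ^ a * m := by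
        have hpos : orderOf (w : S) ≠ 0 := (orderOf_pos _).ne'
        refine ⟨(orderOf (w : S)).factorization p, ordCompl[p] (orderOf (w : S)), ?_, ?_⟩
        · exact (Nat.coprime_ordCompl hp hpos).symm
        · exact (Nat.ordProj_mul_ordCompl_eq_self _ p).symm
      refine ⟨a, ?_⟩
      rw [← QuotientGroup.mk_pow, QuotientGroup.eq_one_iff]
      rw [Subgroup.mem_center_iff]
      intro g
      apply Subtype.ext
      have hord2 : orderOf ((w : S) ^ p ^ a) = m := by
        rw [orderOf_pow' _ (pow_ne_zero _ hp.ne_zero), hord]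
        have : Nat.gcd (p ^ a * m) (p ^ a) = p ^ a := Nat.gcd_eq_right (Dvd.intro _ rfl)
        rw [this]
        exact Nat.mul_div_cancel_left _ (pow_pos hp.pos _)
      have := hw1 ((w : S) ^ p ^ a) (W.pow_mem w.2 _) (by rw [hord2]; exact hm) g g.2
      simpa using this
    have hnilq : Group.IsNilpotent (W ⧸ Subgroup.center W) := hq.isNilpotent
    exact Group.of_quotient_center_nilpotent hnilq
  -- conclude
  haveI := hWnil
  let P : Sylow p W := default
  haveI hPn : (P : Subgroup W).Normal := inferInstance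
  haveI : (P : Subgroup W).Characteristic := Sylow.characteristic_of_normal P hPn
  have hPS : ((P : Subgroup W).map W.subtype).Normal := inferInstance
  have hPp : IsPGroup p ((P : Subgroup W).map W.subtype) := P.isPGroup'.map _
  have hle := H01.le_pCore hPS hPp
  have hyP : (⟨y, hyW⟩ : W) ∈ (P : Subgroup W) := by
    have hzp : IsPGroup p (Subgroup.zpowers (⟨y, hyW⟩ : W)) := by
      rw [IsPGroup.iff_card, Nat.card_zpowers]
      have hy' : (⟨y, hyW⟩ : W) ^ p ^ k = 1 := Subtype.ext hy
      obtain ⟨j, _, hj⟩ := (Nat.dvd_prime_pow hp).mp (orderOf_dvd_of_pow_eq_one hy')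
      exact ⟨j, hj⟩
    obtain ⟨Q, hQ⟩ := hzp.exists_le_sylow
    have hQP : Q = P := by
      letI := Sylow.unique_of_normal P hPn
      exact Subsingleton.elim _ _
    rw [← hQP]
    exact hQ (Subgroup.mem_zpowers _)
  exact hle ⟨_, hyP, rfl⟩

theorem claim (π : Set ℕ) (h2 : 2 ∉ π) (h3 : 3 ∉ π) : ∀ (n : ℕ) (S : Type u) [Group S] [Finite S]
    [Group.IsSolvable S], Nat.card S = n →
    ∀ (H P A : Subgroup S), Cfsg.IsPiHall π H → P ≤ H →
    (∀ N : Subgroup S, N ≤ H → (∀ h ∈ H, ∀ x ∈ N, h * x * h⁻¹ ∈ N) → Group.IsNilpotent N → N ≤ P) →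
    A ≤ P → (∀ y ∈ P, ∀ a ∈ A, y * a * y⁻¹ ∈ A) → (∀ y ∈ P, (∀ a ∈ A, y * a = a * y) → y ∈ A) →
    ∀ (x : S) (p k : ℕ), p.Prime → p ∈ π → x ^ p ^ k = 1 → (∀ a ∈ A, x * a = a * x) → x ∈ A := by
  intro n
  induction n using Nat.strong_induction_on with
  | _ n ih =>
  intro S _ _ _ hn H P A hH hPH hPF hAP hN hC x p k hp hpπ hx hxA
  classical
  by_cases hex : ∃ N : Subgroup S, N.Normal ∧ N ≠ ⊥ ∧ ∀ r : ℕ, r.Prime → r ∣ Nat.card N → r ∉ π
  · obtain ⟨N, hNn, hN1, hNr⟩ := hex
    haveI := hNn
    let f : S →* S ⧸ N := QuotientGroup.mk' N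
    have hf : Function.Surjective f := QuotientGroup.mk'_surjective N
    have hdis : ∀ y ∈ H, y ∈ N → y = 1 := by
      intro y hyH hyN
      have hc : Nat.card ↥(N ⊓ H) = 1 := by
        by_contra hne
        obtain ⟨r, hr, hrd⟩ := Nat.exists_prime_and_dvd hne
        exact hNr r hr (hrd.trans (Subgroup.card_dvd_of_le inf_le_left))
          (hH.1 r hr (hrd.trans (Subgroup.card_dvd_of_le inf_le_right)))
      have hb := Subgroup.eq_bot_of_card_eq _ hc
      have : y ∈ N ⊓ H := ⟨hyN, hyH⟩
      rw [hb] at this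
      simpa using this
    have hinj : ∀ y ∈ H, f y = 1 → y = 1 := fun y hy h1 =>
      hdis y hy ((QuotientGroup.eq_one_iff y).mp h1)
    have hlt : Nat.card (S ⧸ N) < n := by
      have h1 := Subgroup.card_eq_card_quotient_mul_card_subgroup N
      have h4 : 1 < Nat.card N := by
        refine lt_of_le_of_ne Nat.card_pos ?_
        intro h
        exact hN1 (Subgroup.eq_bot_of_card_eq _ h.symm)
      have h5 : 0 < Nat.card (S ⧸ N) := Nat.card_pos
      rw [← hn, h1]
      nlinarith
    have hres := ih _ hlt (S ⧸ N) rfl (H.map f) (P.map f) (A.map f)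
      ⟨fun r hr hd => hH.1 r hr (hd.trans (H.card_map_dvd f)),
        fun r hr hπ hd => hH.2 r hr hπ (hd.trans (H.index_map_dvd hf))⟩
      (Subgroup.map_mono hPH)
      (by
        intro M hMH hMn hMnil
        let N₀ : Subgroup S := M.comap f ⊓ H
        let g : N₀ →* M := (f.comp N₀.subtype).codRestrict M (fun z => z.2.1)
        have hg : Function.Bijective g := by
          constructor
          · rw [injective_iff_map_eq_one]
            intro z hz
            have h1 : f (z : S) = 1 := congrArg Subtype.val hz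
            exact Subtype.ext (hinj _ z.2.2 h1)
          · rintro ⟨z, hz⟩
            obtain ⟨h, hh, rfl⟩ := hMH hz
            exact ⟨⟨h, hz, hh⟩, rfl⟩
        let e := MulEquiv.ofBijective g hg
        have hnil₀ : Group.IsNilpotent N₀ :=
          Group.nilpotent_of_surjective e.symm.toMonoidHom e.symm.surjective
        have hle := hPF N₀ inf_le_right (by
          intro h hh z hz
          refine ⟨?_, H.mul_mem (H.mul_mem hh hz.2) (H.inv_mem hh)⟩
          show f _ ∈ M
          rw [map_mul, map_mul, map_inv]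
          exact hMn (f h) ⟨h, hh, rfl⟩ _ hz.1) hnil₀
        intro z hz
        obtain ⟨h, hh, rfl⟩ := hMH hz
        exact ⟨h, hle ⟨hz, hh⟩, rfl⟩)
      (Subgroup.map_mono hAP)
      (by
        rintro _ ⟨y, hy, rfl⟩ _ ⟨a, ha, rfl⟩
        exact ⟨y * a * y⁻¹, hN y hy a ha, by simp⟩)
      (by
        rintro _ ⟨y, hy, rfl⟩ hcomm
        refine ⟨y, hC y hy ?_, rfl⟩
        intro a ha
        have h1 := hcomm (f a) ⟨a, ha, rfl⟩
        have h4 : f (y * a * y⁻¹ * a⁻¹) = 1 := by
          simp only [map_mul, map_inv]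
          rw [h1]
          group
        have hyH := hPH hy
        have haH := hPH (hAP ha)
        have h5 := hinj _ (H.mul_mem (H.mul_mem (H.mul_mem hyH haH) (H.inv_mem hyH)) (H.inv_mem haH)) h4
        have h6 : y * a * y⁻¹ = a := by
          rwa [mul_inv_eq_one] at h5
        rwa [mul_inv_eq_iff_eq_mul] at h6)
      (f x) p k hp hpπ (by rw [← map_pow, hx, map_one])
      (by
        rintro _ ⟨a, ha, rfl⟩
        rw [← map_mul, ← map_mul, hxA a ha])
    obtain ⟨a, ha, hax⟩ := hres
    have hnN : a⁻¹ * x ∈ N := by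
      have : (a : S ⧸ N) = x := hax
      exact QuotientGroup.eq.mp this
    have hcomm : Commute a⁻¹ x := by
      have h1 : Commute a x := (hxA a ha).symm
      exact h1.inv_left
    have hpowa : a ^ Nat.card A = 1 := by
      have := pow_card_eq_one' (x := (⟨a, ha⟩ : A))
      exact congrArg Subtype.val this
    have h1 : (a⁻¹ * x) ^ (Nat.card A * p ^ k) = 1 := by
      rw [hcomm.mul_pow, inv_pow, pow_mul, hpowa, pow_mul', hx]
      simp
    have h4 : (a⁻¹ * x) ^ Nat.card N = 1 := by
      have := pow_card_eq_one' (x := (⟨_, hnN⟩ : N))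
      exact congrArg Subtype.val this
    have h5 : orderOf (a⁻¹ * x) = 1 := by
      by_contra hne
      obtain ⟨r, hr, hrd⟩ := Nat.exists_prime_and_dvd hne
      have h6 := hrd.trans (orderOf_dvd_of_pow_eq_one h1)
      have h7 := hrd.trans (orderOf_dvd_of_pow_eq_one h4)
      apply hNr r hr h7
      rcases (Nat.Prime.dvd_mul hr).mp h6 with h8 | h8
      · exact hH.1 r hr (h8.trans (Subgroup.card_dvd_of_le (hAP.trans hPH)))
      · have h9 := (Nat.prime_dvd_prime_iff_eq hr hp).mp (hr.dvd_of_dvd_pow h8)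
        rw [h9]
        exact hpπ
    rw [orderOf_eq_one_iff, inv_mul_eq_one] at h5
    rwa [← h5]
  · push Not at hex
    haveI : Fact p.Prime := ⟨hp⟩
    have hO : ∀ r : ℕ, r.Prime → r ∉ π → Cfsg.pCore r S = ⊥ := by
      intro r hr hrπ
      by_contra hne
      haveI : Fact r.Prime := ⟨hr⟩
      obtain ⟨r', hr', hd, hπ'⟩ := hex _ (H01.pCore_normal r) hne
      obtain ⟨m, hm⟩ := IsPGroup.iff_card.mp (H01.pCore_isPGroup (G := S) r)
      rw [hm] at hd
      have := (Nat.prime_dvd_prime_iff_eq hr' hr).mp (hr'.dvd_of_dvd_pow hd)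
      rw [this] at hπ'
      exact hrπ hπ'
    have hOP : ∀ r : ℕ, r.Prime → r ∈ π → Cfsg.pCore r S ≤ P := by
      intro r hr hrπ
      haveI : Fact r.Prime := ⟨hr⟩
      let Q : Sylow r H := default
      have hQ1 : IsPGroup r ((Q : Subgroup H).map H.subtype) := Q.isPGroup'.map _
      have hQ2 : ¬ r ∣ ((Q : Subgroup H).map H.subtype).index := by
        rw [Subgroup.index_map_subtype]
        intro hd
        rcases (Nat.Prime.dvd_mul hr).mp hd with h | h
        · exact Q.not_dvd_index h
        · exact hH.2 r hr hrπ h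
      have hle1 := H01.pCore_le_sylow r (hQ1.toSylow hQ2)
      have hle2 : Cfsg.pCore r S ≤ H := by
        intro z hz
        have h1 : z ∈ (hQ1.toSylow hQ2 : Subgroup S) := hle1 hz
        have h4 : z ∈ (Q : Subgroup H).map H.subtype := h1
        obtain ⟨w, _, rfl⟩ := h4
        exact w.2
      refine hPF _ hle2 ?_ (H01.pCore_isPGroup r).isNilpotent
      intro h _ z hz
      exact (H01.pCore_normal r).conj_mem z hz h
    have key : ∀ r : ℕ, r.Prime → r ∈ π → ∀ v ∈ Cfsg.pCore r S, ∀ w : S,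
        (∀ a ∈ A, w * a = a * w) → v⁻¹ * (w * v * w⁻¹) ∈ A := by
      intro r hr hrπ v hv w hw
      haveI : Fact r.Prime := ⟨hr⟩
      have hv' : w * v * w⁻¹ ∈ Cfsg.pCore r S := (H01.pCore_normal r).conj_mem v hv w
      have hcO : v⁻¹ * (w * v * w⁻¹) ∈ Cfsg.pCore r S :=
        Subgroup.mul_mem _ (Subgroup.inv_mem _ hv) hv'
      apply hC _ (hOP r hr hrπ hcO)
      intro a ha
      have hvP := hOP r hr hrπ hv
      have hb := hN v hvP a ha
      have e1 : w⁻¹ * a * w = a := by
        rw [mul_assoc, ← hw a ha]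
        group
      have e2 : w * (v * a * v⁻¹) * w⁻¹ = v * a * v⁻¹ := by
        rw [hw _ hb]
        group
      have e3 : (w * v * w⁻¹) * a * (w * v * w⁻¹)⁻¹ = v * a * v⁻¹ := by
        calc (w * v * w⁻¹) * a * (w * v * w⁻¹)⁻¹ = w * v * (w⁻¹ * a * w) * v⁻¹ * w⁻¹ := by group
          _ = w * (v * a * v⁻¹) * w⁻¹ := by rw [e1]; group
          _ = _ := e2
      calc v⁻¹ * (w * v * w⁻¹) * a
          = v⁻¹ * ((w * v * w⁻¹) * a * (w * v * w⁻¹)⁻¹) * (w * v * w⁻¹) := by group
        _ = v⁻¹ * (v * a * v⁻¹) * (w * v * w⁻¹) := by rw [e3]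
        _ = _ := by group
    have hpne2 : p ≠ 2 := fun h => h2 (h ▸ hpπ)
    have hpne3 : p ≠ 3 := fun h => h3 (h ▸ hpπ)
    have hmem := star p hpne2 hpne3 x k hx
      (by
        intro q hq hqp z hz
        by_cases hqπ : q ∈ π
        · haveI : Fact q.Prime := ⟨hq⟩
          have hcA := key q hq hqπ z hz x hxA
          have hzO : z⁻¹ * (x * z * x⁻¹) ∈ Cfsg.pCore q S :=
            Subgroup.mul_mem _ (Subgroup.inv_mem _ hz) ((H01.pCore_normal q).conj_mem z hz x)
          set c := z⁻¹ * (x * z * x⁻¹) with hc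
          have hxz : x * z * x⁻¹ = z * c := by
            rw [hc]
            group
          have hxc : x * c = c * x := hxA c hcA
          have hit : ∀ n : ℕ, x ^ n * z * (x ^ n)⁻¹ = z * c ^ n := by
            intro n
            induction n with
            | zero => simp
            | succ n ih =>
              have hcomm : Commute x c := hxc
              calc x ^ (n + 1) * z * (x ^ (n + 1))⁻¹ = x * (x ^ n * z * (x ^ n)⁻¹) * x⁻¹ := by
                    rw [pow_succ']
                    group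
                _ = x * (z * c ^ n) * x⁻¹ := by rw [ih]
                _ = (x * z * x⁻¹) * (x * c ^ n * x⁻¹) := by group
                _ = (z * c) * c ^ n := by
                    rw [hxz, (hcomm.pow_right n).eq]
                    group
                _ = z * c ^ (n + 1) := by
                    rw [pow_succ', mul_assoc]
          have h1 := hit (p ^ k)
          rw [hx] at h1
          have h4 : c ^ p ^ k = 1 := by
            simpa using h1.symm
          obtain ⟨m, hm⟩ := (H01.pCore_isPGroup (G := S) q) ⟨c, hzO⟩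
          have hm' : c ^ q ^ m = 1 := congrArg Subtype.val hm
          have h5 := pow_gcd_eq_one.mpr ⟨h4, hm'⟩
          have hcop : (p ^ k).Coprime (q ^ m) :=
            Nat.Coprime.pow _ _ ((Nat.coprime_primes hp hq).mpr (Ne.symm hqp))
          rw [hcop.gcd_eq_one, pow_one] at h5
          rw [h5, mul_one, mul_inv_eq_iff_eq_mul] at hxz
          exact hxz
        · rw [hO q hq hqπ, Subgroup.mem_bot] at hz
          rw [hz]
          simp)
      (by
        have hzA : ∀ w ∈ Subgroup.zpowers x, ∀ a ∈ A, w * a = a * w := by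
          rintro _ ⟨m, rfl⟩ a ha
          have h1 : Commute x a := hxA a ha
          exact (h1.zpow_left m).eq
        have h1 : ⁅Cfsg.pCore p S, Subgroup.zpowers x⁆ ≤ A := by
          rw [Subgroup.commutator_le]
          intro v hv w hw
          have hc := key p hp hpπ v hv w (hzA w hw)
          have hvP := hOP p hp hpπ hv
          have h4 := hN v hvP _ (A.inv_mem hc)
          have h5 : v * (v⁻¹ * (w * v * w⁻¹))⁻¹ * v⁻¹ = ⁅v, w⁆ := by
            rw [commutatorElement_def]
            group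
          rwa [h5] at h4
        rw [eq_bot_iff]
        refine (Subgroup.commutator_mono h1 le_rfl).trans ?_
        rw [Subgroup.commutator_le]
        intro a ha w hw
        rw [Subgroup.mem_bot, commutatorElement_eq_one_iff_mul_comm]
        exact (hzA w hw a ha).symm)
    exact hC x (hOP p hp hpπ hmem) hxA

/-- Let S be a finite solvable group, π a set of primes containing neither 2 nor 3, H a Hall π-subgroup of S, and A a self-centralizing normal subgroup of the Fitting subgroup F(H). Then C_S(A) = A × D for a normal subgroup D of C_S(A) whose order has no prime divisor in π. -/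
theorem result {S : Type*} [Group S] [Finite S] [Group.IsSolvable S]
    (π : Set ℕ) (h2 : 2 ∉ π) (h3 : 3 ∉ π) (H : Subgroup S) (hH : Cfsg.IsPiHall π H)
    (A : Subgroup S) (hA : Cfsg.IsSCN ((Cfsg.fittingSubgroup H).map H.subtype) A) :
    ∃ D : Subgroup S, D ≤ Subgroup.centralizer (A : Set S) ∧
      (∀ c ∈ Subgroup.centralizer (A : Set S), ∀ d ∈ D, c * d * c⁻¹ ∈ D) ∧
      A ⊓ D = ⊥ ∧ A ⊔ D = Subgroup.centralizer (A : Set S) ∧
      ∀ q : ℕ, q.Prime → q ∣ Nat.card D → q ∉ π := by
    classical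
  let P : Subgroup S := (Cfsg.fittingSubgroup H).map H.subtype
  have hAP : A ≤ P := hA.1
  have hPH : P ≤ H := Subgroup.map_subtype_le _
  have hPF : ∀ N : Subgroup S, N ≤ H → (∀ h ∈ H, ∀ x ∈ N, h * x * h⁻¹ ∈ N) →
      Group.IsNilpotent N → N ≤ P := by
    intro N hNH hNn hNnil
    have hN' : (N.subgroupOf H).Normal := ⟨fun n hn g => hNn g g.2 n hn⟩
    have hnil' : Group.IsNilpotent (N.subgroupOf H) :=
      Group.nilpotent_of_surjective (Subgroup.subgroupOfEquivOfLe hNH).symm.toMonoidHom
        (Subgroup.subgroupOfEquivOfLe hNH).symm.surjective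
    have hle := H01.le_fitting hN' hnil'
    intro x hx
    exact ⟨⟨x, hNH hx⟩, hle hx, rfl⟩
  have hNz : ∀ y ∈ P, ∀ a ∈ A, y * a * y⁻¹ ∈ A := fun y hy a ha =>
    (Subgroup.mem_normalizer_iff.mp (hA.2.1 hy) a).mp ha
  have hCz : ∀ y ∈ P, (∀ a ∈ A, y * a = a * y) → y ∈ A := by
    intro y hy h
    rw [← hA.2.2]
    refine Subgroup.mem_inf.mpr ⟨hy, Subgroup.mem_centralizer_iff.mpr ?_⟩
    intro a ha
    exact (h a ha).symm
  have hclaim : ∀ x ∈ Subgroup.centralizer (A : Set S), ∀ p k : ℕ, p.Prime → p ∈ π → x ^ p ^ k = 1 →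
      x ∈ A := by
    intro x hx p k hp hpπ hxk
    refine claim π h2 h3 _ S rfl H P A hH hPH hPF hAP hNz hCz x p k hp hpπ hxk ?_
    intro a ha
    exact ((Subgroup.mem_centralizer_iff.mp hx) a ha).symm
  let C : Subgroup S := Subgroup.centralizer (A : Set S)
  have hAC : A ≤ C := by
    intro a ha
    have : a ∈ P ⊓ Subgroup.centralizer (A : Set S) := by
      rw [hA.2.2]
      exact ha
    exact this.2
  let A' : Subgroup C := A.subgroupOf C
  have hcent : ∀ (c : C), ∀ a ∈ A', c * a = a * c := by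
    intro c a ha
    apply Subtype.ext
    exact ((Subgroup.mem_centralizer_iff.mp c.2) a ha).symm
  haveI hA'n : A'.Normal := ⟨fun n hn g => by
    have : g * n * g⁻¹ = n := by
      rw [hcent g n hn]
      group
    rw [this]
    exact hn⟩
  have hcop : (Nat.card A').Coprime A'.index := by
    apply Nat.coprime_of_dvd
    intro r hr hr1 hr2
    have hcardA : Nat.card A' = Nat.card A :=
      Nat.card_congr (Subgroup.subgroupOfEquivOfLe hAC).toEquiv
    rw [hcardA] at hr1
    have hrπ : r ∈ π := hH.1 r hr (hr1.trans (Subgroup.card_dvd_of_le (hAP.trans hPH)))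
    haveI : Fact r.Prime := ⟨hr⟩
    let Q : Sylow r C := default
    have hQA : (Q : Subgroup C) ≤ A' := by
      intro q hq
      obtain ⟨m, hm⟩ := Q.2 ⟨q, hq⟩
      have hm' : (q : S) ^ r ^ m = 1 := by
        have h1 := congrArg Subtype.val hm
        have h4 : q ^ r ^ m = 1 := h1
        exact congrArg Subtype.val h4
      exact hclaim q q.2 r m hr hrπ hm'
    exact Q.not_dvd_index (hr2.trans (Subgroup.index_dvd_of_le hQA))
  obtain ⟨D₀, hD₀⟩ := Subgroup.exists_right_complement'_of_coprime hcop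
  have hdis := hD₀.disjoint
  have htop := hD₀.sup_eq_top
  have hdec : ∀ c : C, ∃ a ∈ A', ∃ d ∈ D₀, c = a * d := by
    intro c
    have hc : c ∈ A' ⊔ D₀ := by rw [htop]; trivial
    refine H01.exists_mul_of_mem_sup ?_ hc
    intro x _
    rw [Subgroup.mem_normalizer_iff]
    intro n
    constructor
    · exact fun h => hA'n.conj_mem n h x
    · intro h
      have := hA'n.conj_mem _ h x⁻¹
      simpa [mul_assoc] using this
  refine ⟨D₀.map C.subtype, Subgroup.map_subtype_le _, ?_, ?_, ?_, ?_⟩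
  · rintro c hc _ ⟨d, hd, rfl⟩
    obtain ⟨a, ha, d', hd', hdec'⟩ := hdec ⟨c, hc⟩
    refine ⟨d' * d * d'⁻¹, D₀.mul_mem (D₀.mul_mem hd' hd) (D₀.inv_mem hd'), ?_⟩
    have h1 : c = (a : S) * d' := congrArg Subtype.val hdec'
    have h4 : (a : S) * ((d' : S) * d * (d' : S)⁻¹) = ((d' : S) * d * (d' : S)⁻¹) * a := by
      have := hcent (d' * d * d'⁻¹) a ha
      exact (congrArg Subtype.val this).symm
    show (d' : S) * d * (d' : S)⁻¹ = c * d * c⁻¹
    rw [h1]
    calc (d' : S) * d * (d' : S)⁻¹ = ((d' : S) * d * (d' : S)⁻¹) * a * (a : S)⁻¹ := by group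
      _ = (a : S) * ((d' : S) * d * (d' : S)⁻¹) * (a : S)⁻¹ := by rw [h4]
      _ = _ := by group
  · rw [eq_bot_iff]
    rintro x ⟨hxA, d, hd, rfl⟩
    have h1 : d ∈ A' := hxA
    have h4 := Subgroup.disjoint_def.mp hdis h1 hd
    rw [h4]
    simp
  · apply le_antisymm
    · exact sup_le hAC (Subgroup.map_subtype_le _)
    · intro c hc
      obtain ⟨a, ha, d, hd, hdec'⟩ := hdec ⟨c, hc⟩
      have h1 : c = (a : S) * d := congrArg Subtype.val hdec'
      rw [h1]
      exact Subgroup.mul_mem_sup ha ⟨d, hd, rfl⟩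
  · intro q hq hqd hqπ
    haveI : Fact q.Prime := ⟨hq⟩
    obtain ⟨d, hd⟩ := exists_prime_orderOf_dvd_card' (G := ↥(D₀.map C.subtype)) q hqd
    have hdC : (d : S) ∈ C := Subgroup.map_subtype_le _ d.2
    have h1 : (d : S) ^ q ^ 1 = 1 := by
      have h4 : d ^ q = 1 := by
        rw [← hd]
        exact pow_orderOf_eq_one d
      have := congrArg Subtype.val h4
      simpa using this
    have h4 := hclaim _ hdC q 1 hq hqπ h1
    obtain ⟨d₀, hd₀, hd₀e⟩ := d.2
    have h5 : d₀ ∈ A' := by
      show (d₀ : S) ∈ A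
      have : (d₀ : S) = d := hd₀e
      rw [this]
      exact h4
    have h6 := Subgroup.disjoint_def.mp hdis h5 hd₀
    have h7 : d = 1 := by
      apply Subtype.ext
      have : (d₀ : S) = d := hd₀e
      rw [← this, h6]
      rfl
    rw [h7, orderOf_one] at hd
    exact hq.one_lt.ne hd

end Cfsg.Agent.S1893
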