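import Cfsg.Statements.S1896
import Mathlib
import Cfsg.Agent.Lib.H19.SameOrder
import Cfsg.Agent.Lib.H24.AutDihedral
import Cfsg.Agent.Lib.H20.BurnsideBasis

set_option autoImplicit false
open Cfsg

namespace Cfsg.Agent.S1896


set_option linter.unusedSectionVars false
set_option linter.style.haveILetI false
open scoped commutatorElement

section
variable {X : Type*} [Group X] [Finite X]

theorem aut_eq_one (hP : IsPGroup 2 X) (α : MulAut X) (hodd : Odd (orderOf α))
    (h : ∀ x : X, α x * x⁻¹ ∈ frattini X) : α = 1 := by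
  haveI : Fact (Nat.Prime 2) := ⟨Nat.prime_two⟩
  obtain ⟨n, hn⟩ := IsPGroup.iff_card.1 hP
  obtain ⟨r, hr⟩ : ∃ r, (frattini X).index = 2 ^ r := by
    have : (frattini X).index ∣ 2 ^ n := hn ▸ Subgroup.index_dvd_card _
    obtain ⟨r, -, hr⟩ := (Nat.dvd_prime_pow Nat.prime_two).1 this
    exact ⟨r, hr⟩
  have hpow : ∀ k : ℕ, ∀ x : X, (α ^ k) x * x⁻¹ ∈ frattini X := by
    intro k
    induction k with
    | zero => intro x; simp
    | succ k ih =>
      intro x
      rw [pow_succ']
      have : (α * α ^ k) x * x⁻¹ = (α ((α ^ k) x) * ((α ^ k) x)⁻¹) * ((α ^ k) x * x⁻¹) := by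
        rw [MulAut.mul_apply]; group
      rw [this]
      exact mul_mem (h _) (ih x)
  have hA : ∀ β ∈ Subgroup.zpowers α, ∀ x : X, β x * x⁻¹ ∈ frattini X := by
    intro β hβ x
    obtain ⟨k, rfl⟩ := (mem_powers_iff_mem_zpowers).2 hβ
    exact hpow k x
  have hd := H20.card_trivial_aut_dvd hn hr (Subgroup.zpowers α) hA
  rw [Nat.card_zpowers] at hd
  obtain ⟨t, -, ht⟩ := (Nat.dvd_prime_pow Nat.prime_two).1 hd
  rcases t with _ | t
  · rw [pow_zero] at ht
    exact orderOf_eq_one_iff.1 ht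
  · exfalso
    rw [ht] at hodd
    exact (Nat.not_even_iff_odd.2 hodd) ((even_two.pow_of_ne_zero (Nat.succ_ne_zero t)))

theorem no_inv (hP : IsPGroup 2 X) (n m : X) (hgen : ∀ x : X, ∃ i j : ℕ, x = n ^ i * m ^ j)
    (α : MulAut X) (hodd : Odd (orderOf α)) (hne : α ≠ 1)
    (M : Subgroup X) (hMtop : M ≠ ⊤) (hM : ∀ x y, x ∉ M → y ∉ M → x * y ∈ M)
    (hinv : ∀ x ∈ M, α x ∈ M) : False := by
  classical
  haveI : Fact (Nat.Prime 2) := ⟨Nat.prime_two⟩
  -- `M` is a coatom
  have hcoat : IsCoatom M := by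
    refine ⟨hMtop, ?_⟩
    intro K hK
    obtain ⟨k, hkK, hkM⟩ := SetLike.exists_of_lt hK
    rw [eq_top_iff]
    intro x _
    by_cases hx : x ∈ M
    · exact hK.le hx
    · have := hM x k hx hkM
      have h2 : x = (x * k) * k⁻¹ := by group
      rw [h2]
      exact K.mul_mem (hK.le this) (K.inv_mem hkK)
  have hΦ : frattini X ≤ M := frattini_le_coatom hcoat
  let q := QuotientGroup.mk' (frattini X)
  have hq : ∀ x y : X, q x = q y → (x ∈ M ↔ y ∈ M) := by
    intro x y h
    have h1 : x⁻¹ * y ∈ frattini X := QuotientGroup.eq.1 h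
    have h2 : x⁻¹ * y ∈ M := hΦ h1
    constructor
    · intro hx
      have : y = x * (x⁻¹ * y) := by group
      rw [this]; exact M.mul_mem hx h2
    · intro hy
      have : x = y * (x⁻¹ * y)⁻¹ := by group
      rw [this]; exact M.mul_mem hy (M.inv_mem h2)
  have hexp : ∀ v : X ⧸ frattini X, v ^ 2 = 1 := fun v => H20.frattini_quotient_exp hP v
  have hcomm : ∀ a b : X ⧸ frattini X, a * b = b * a := fun a b => H20.frattini_quotient_comm hP a b
  have hpow2 : ∀ (v : X ⧸ frattini X) (i : ℕ), v ^ i = 1 ∨ v ^ i = v := by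
    intro v i
    rcases Nat.even_or_odd' i with ⟨k, rfl | rfl⟩
    · left; rw [pow_mul, hexp, one_pow]
    · right; rw [pow_succ, pow_mul, hexp, one_pow, one_mul]
  have hclass : ∀ x : X, q x = 1 ∨ q x = q n ∨ q x = q m ∨ q x = q (n * m) := by
    intro x
    obtain ⟨i, j, rfl⟩ := hgen x
    rw [map_mul, map_pow, map_pow, map_mul]
    rcases hpow2 (q n) i with h1 | h1 <;> rcases hpow2 (q m) j with h2 | h2 <;> rw [h1, h2] <;> simp
  have h1M : ∀ x, q x = 1 → x ∈ M := by
    intro x hx
    exact (hq x 1 (by rw [hx, map_one])).2 M.one_mem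
  -- at most two classes outside `M`
  obtain ⟨w₁, w₂, hW⟩ : ∃ w₁ w₂ : X ⧸ frattini X, ∀ x, x ∉ M → q x = w₁ ∨ q x = w₂ := by
    by_cases hn : n ∈ M
    · refine ⟨q m, q (n * m), fun x hx => ?_⟩
      rcases hclass x with h | h | h | h
      · exact absurd (h1M x h) hx
      · exact absurd ((hq x n h).2 hn) hx
      · exact Or.inl h
      · exact Or.inr h
    · by_cases hm : m ∈ M
      · refine ⟨q n, q (n * m), fun x hx => ?_⟩
        rcases hclass x with h | h | h | h
        · exact absurd (h1M x h) hx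
        · exact Or.inl h
        · exact absurd ((hq x m h).2 hm) hx
        · exact Or.inr h
      · refine ⟨q n, q m, fun x hx => ?_⟩
        rcases hclass x with h | h | h | h
        · exact absurd (h1M x h) hx
        · exact Or.inl h
        · exact Or.inr h
        · exact absurd ((hq x (n * m) h).2 (hM n m hn hm)) hx
  -- the action on classes
  have hchar : ∀ (β : MulAut X) (x : X), x ∈ frattini X → β x ∈ frattini X := by
    intro β x hx
    have := (Subgroup.characteristic_iff_map_eq.1 (frattini_characteristic (G := X))) β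
    have h2 : β x ∈ (frattini X).map β.toMonoidHom := ⟨x, hx, rfl⟩
    rwa [this] at h2
  have hα : ∀ (β : MulAut X) (x y : X), q x = q y → q (β x) = q (β y) := by
    intro β x y h
    have h1 : x⁻¹ * y ∈ frattini X := QuotientGroup.eq.1 h
    have h2 := hchar β _ h1
    rw [map_mul, map_inv] at h2
    exact QuotientGroup.eq.2 h2
  have hαinv : ∀ (x y : X), q (α x) = q (α y) → q x = q y := by
    intro x y h
    have := hα α⁻¹ _ _ h
    simpa using this
  have hnotM : ∀ x, x ∉ M → α x ∉ M := by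
    intro x hx hαx
    -- orbit argument: `α^k x ∉ M` ... use `α⁻¹` invariance from finite order
    have hk : ∀ k : ℕ, (α ^ k) (α x) ∈ M := by
      intro k
      induction k with
      | zero => simpa using hαx
      | succ k ih =>
        rw [pow_succ', MulAut.mul_apply]
        exact hinv _ ih
    have h0 : orderOf α ≠ 0 := (orderOf_pos α).ne'
    obtain ⟨s, hs⟩ : ∃ s, orderOf α = s + 1 := Nat.exists_eq_succ_of_ne_zero h0
    have h1 := hk s
    have h2 : (α ^ s) (α x) = (α ^ (s + 1)) x := by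
      rw [pow_succ, MulAut.mul_apply]
    rw [h2, ← hs, pow_orderOf_eq_one] at h1
    exact hx (by simpa using h1)
  have hfix : ∀ x, x ∉ M → q (α x) = q x := by
    intro x hx
    by_contra hne'
    have hαx := hnotM x hx
    have hααx := hnotM _ hαx
    have h2 : q (α (α x)) = q x := by
      have hA := hW x hx
      have hB := hW _ hαx
      have hC := hW _ hααx
      have hD : q (α (α x)) ≠ q (α x) := fun h => hne' (hαinv _ _ h)
      rcases hA with hA | hA <;> rcases hB with hB | hB <;> rcases hC with hC | hC <;>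
        first
        | exact hC.trans hA.symm
        | exact absurd (hC.trans hB.symm) hD
        | exact absurd (hB.trans hA.symm) hne'
    have hev : ∀ k : ℕ, q ((α ^ (2 * k)) x) = q x := by
      intro k
      induction k with
      | zero => simp
      | succ k ih =>
        have : (α ^ (2 * (k + 1))) x = α (α ((α ^ (2 * k)) x)) := by
          rw [mul_add, mul_one, add_comm, pow_add, pow_two, mul_assoc, MulAut.mul_apply,
            MulAut.mul_apply]
        rw [this]
        have h3 := hα α _ _ ih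
        have h4 := hα α _ _ h3
        exact h4.trans h2
    obtain ⟨k, hk⟩ := hodd
    have h5 : (α ^ (2 * k + 1)) x = x := by
      rw [← hk, pow_orderOf_eq_one]; rfl
    have h6 : (α ^ (2 * k + 1)) x = α ((α ^ (2 * k)) x) := by
      rw [add_comm, pow_add, pow_one, MulAut.mul_apply]
    have h7 := hα α _ _ (hev k)
    rw [← h6, h5] at h7
    exact hne' h7.symm
  apply hne
  apply aut_eq_one hP α hodd
  intro x
  -- all `x`
  obtain ⟨g, hg⟩ : ∃ g, g ∉ M := by
    by_contra hcon
    push Not at hcon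
    exact hMtop (eq_top_iff.2 fun y _ => hcon y)
  have hfin : ∀ y, q (α y) = q y := by
    intro y
    by_cases hy : y ∈ M
    · have hyg : y * g ∉ M := fun h => hg (by
        have : g = y⁻¹ * (y * g) := by group
        rw [this]; exact M.mul_mem (M.inv_mem hy) h)
      have h1 := hfix _ hyg
      have h2 := hfix _ hg
      rw [map_mul, map_mul, map_mul, h2] at h1
      exact mul_right_cancel h1
    · exact hfix y hy
  have := hfin x
  have h3 : x⁻¹ * α x ∈ frattini X := QuotientGroup.eq.1 this.symm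
  have h4 : α x * x⁻¹ = x * (x⁻¹ * α x) * x⁻¹ := by group
  rw [h4]
  exact (inferInstance : (frattini X).Normal).conj_mem _ h3 x

theorem no_inv2 (hP : IsPGroup 2 X) (n m : X) (hgen : ∀ x : X, ∃ i j : ℕ, x = n ^ i * m ^ j)
    (α : MulAut X) (hodd : Odd (orderOf α)) (hne : α ≠ 1)
    (M : Subgroup X) (hnorm : M.Normal) (hMtop : M ≠ ⊤) (hsq : ∀ g : X, g ^ 2 ∈ M)
    (hone : n ∈ M ∨ m ∈ M ∨ n * m ∈ M)
    (hinv : ∀ x ∈ M, α x ∈ M) : False := by
  classical
  refine no_inv hP n m hgen α hodd hne M hMtop ?_ hinv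
  have hexp : ∀ v : X ⧸ M, v ^ 2 = 1 := by
    intro v
    obtain ⟨g, rfl⟩ := QuotientGroup.mk_surjective v
    rw [← QuotientGroup.mk_pow, QuotientGroup.eq_one_iff]
    exact hsq g
  have hpow2 : ∀ (v : X ⧸ M) (i : ℕ), v ^ i = 1 ∨ v ^ i = v := by
    intro v i
    rcases Nat.even_or_odd' i with ⟨k, rfl | rfl⟩
    · left; rw [pow_mul, hexp, one_pow]
    · right; rw [pow_succ, pow_mul, hexp, one_pow, one_mul]
  let q := QuotientGroup.mk' M
  have hq1 : ∀ x, q x = 1 ↔ x ∈ M := fun x => QuotientGroup.eq_one_iff x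
  obtain ⟨w, hw⟩ : ∃ w : X ⧸ M, ∀ x, x ∉ M → q x = w := by
    rcases hone with h | h | h
    · refine ⟨q m, fun x hx => ?_⟩
      obtain ⟨i, j, rfl⟩ := hgen x
      have hn1 : q n = 1 := (hq1 n).2 h
      by_contra hcon
      apply hx
      rw [← hq1, map_mul, map_pow, map_pow, hn1, one_pow, one_mul]
      rw [map_mul, map_pow, map_pow, hn1, one_pow, one_mul] at hcon
      exact (hpow2 (q m) j).resolve_right hcon
    · refine ⟨q n, fun x hx => ?_⟩
      obtain ⟨i, j, rfl⟩ := hgen x
      have hn1 : q m = 1 := (hq1 m).2 h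
      by_contra hcon
      apply hx
      rw [← hq1, map_mul, map_pow, map_pow, hn1, one_pow, mul_one]
      rw [map_mul, map_pow, map_pow, hn1, one_pow, mul_one] at hcon
      exact (hpow2 (q n) i).resolve_right hcon
    · refine ⟨q n, fun x hx => ?_⟩
      obtain ⟨i, j, rfl⟩ := hgen x
      have h1 : q n * q m = 1 := by rw [← map_mul]; exact (hq1 _).2 h
      have hmn : q m = q n := by
        have h2 : q n * q n = 1 := by
          have := hexp (q n); rwa [sq] at this
        exact mul_left_cancel (h1.trans h2.symm)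
      by_contra hcon
      apply hx
      rw [← hq1, map_mul, map_pow, map_pow, hmn, ← pow_add]
      rw [map_mul, map_pow, map_pow, hmn, ← pow_add] at hcon
      exact (hpow2 (q n) (i + j)).resolve_right hcon
  intro x y hx hy
  rw [← hq1, map_mul, hw x hx, hw y hy, ← sq, hexp]

end

section
variable {Γ : Type*} [Group Γ]

theorem pow_hom (hc : ∀ g h k : Γ, Commute ⁅g, h⁆ k) (hz : ∀ g h : Γ, ⁅g, h⁆ ^ 2 = 1) (a : ℕ) (g h : Γ) :
    (g * h) ^ (2 ^ (a + 2)) = g ^ (2 ^ (a + 2)) * h ^ (2 ^ (a + 2)) := by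
  have hrel : ∀ g h : Γ, h * g = ⁅h, g⁆ * g * h := by
    intro g h
    rw [commutatorElement_def]; group
  have hcen : ∀ g h : Γ, Commute (g ^ 2) h := by
    intro g h
    show g ^ 2 * h = h * g ^ 2
    have h1 : h * g ^ 2 = ⁅h, g⁆ ^ 2 * g ^ 2 * h := by
      calc h * g ^ 2 = (h * g) * g := by rw [sq, mul_assoc]
        _ = (⁅h, g⁆ * g * h) * g := by rw [← hrel]
        _ = ⁅h, g⁆ * g * (h * g) := by simp only [mul_assoc]
        _ = ⁅h, g⁆ * g * (⁅h, g⁆ * g * h) := by rw [← hrel]
        _ = ⁅h, g⁆ * (g * ⁅h, g⁆) * (g * h) := by simp only [mul_assoc]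
        _ = ⁅h, g⁆ * (⁅h, g⁆ * g) * (g * h) := by rw [← (hc h g g).eq]
        _ = ⁅h, g⁆ ^ 2 * g ^ 2 * h := by simp only [sq, mul_assoc]
    rw [h1, hz, one_mul]
  have h2 : (g * h) ^ 2 = ⁅h, g⁆ * g ^ 2 * h ^ 2 := by
    calc (g * h) ^ 2 = g * (h * g) * h := by simp only [sq, mul_assoc]
      _ = g * (⁅h, g⁆ * g * h) * h := by rw [← hrel]
      _ = (g * ⁅h, g⁆) * g * h * h := by simp only [mul_assoc]
      _ = (⁅h, g⁆ * g) * g * h * h := by rw [← (hc h g g).eq]
      _ = ⁅h, g⁆ * g ^ 2 * h ^ 2 := by simp only [sq, mul_assoc]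
  have h4 : (g * h) ^ 4 = (g ^ 2) ^ 2 * (h ^ 2) ^ 2 := by
    have e : (g * h) ^ 4 = ((g * h) ^ 2) ^ 2 := by rw [← pow_mul]
    rw [e, h2]
    have hA : Commute (⁅h, g⁆ * g ^ 2) (h ^ 2) := (hcen h _).symm
    rw [hA.mul_pow]
    have hB : Commute (⁅h, g⁆) (g ^ 2) := hc _ _ _
    rw [hB.mul_pow, hz, one_mul]
  have e2 : (2 : ℕ) ^ (a + 2) = 4 * 2 ^ a := by ring
  rw [e2, pow_mul, h4, pow_mul g, pow_mul h]
  have e3 : g ^ 4 = (g ^ 2) ^ 2 := by rw [← pow_mul]
  have e4 : h ^ 4 = (h ^ 2) ^ 2 := by rw [← pow_mul]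
  rw [e3, e4]
  have hC : Commute ((g ^ 2) ^ 2) ((h ^ 2) ^ 2) := by
    have := hcen g ((h ^ 2) ^ 2)
    exact (this.pow_left 2)
  exact hC.mul_pow _

end

section
variable {X : Type*} [Group X] [Finite X]

theorem core (hP : IsPGroup 2 X) (N : Subgroup X) [hN : N.Normal] (hNc : IsCyclic N)
    (hQ : IsCyclic (X ⧸ N)) (α : MulAut X) (hodd : Odd (orderOf α)) (hne : α ≠ 1) :
    Nonempty (X ≃* QuaternionGroup 2) ∨
      ∃ n : ℕ, Nonempty (X ≃* Multiplicative (ZMod (2 ^ n)) × Multiplicative (ZMod (2 ^ n))) := by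
  classical
  haveI : Fact (Nat.Prime 2) := ⟨Nat.prime_two⟩
  obtain ⟨⟨n, hnN⟩, hngen⟩ := IsCyclic.exists_generator (α := N)
  obtain ⟨mq, hmq⟩ := IsCyclic.exists_generator (α := X ⧸ N)
  obtain ⟨m, rfl⟩ := QuotientGroup.mk_surjective mq
  have hmemN : ∀ x ∈ N, ∃ i : ℕ, x = n ^ i := by
    intro x hx
    have h1 := hngen ⟨x, hx⟩
    obtain ⟨i, hi⟩ := (mem_powers_iff_mem_zpowers).2 h1
    refine ⟨i, ?_⟩
    have := congrArg Subtype.val hi
    simpa using this.symm
  have hgen : ∀ x : X, ∃ i j : ℕ, x = n ^ i * m ^ j := by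
    intro x
    obtain ⟨j, hj⟩ := (mem_powers_iff_mem_zpowers).2 (hmq (x : X ⧸ N))
    replace hj : ((m : X ⧸ N)) ^ j = (x : X ⧸ N) := hj
    rw [← QuotientGroup.mk_pow] at hj
    have h1 : (m ^ j)⁻¹ * x ∈ N := QuotientGroup.eq.1 hj
    have h2 : x * (m ^ j)⁻¹ ∈ N := by
      have := hN.conj_mem _ h1 (m ^ j)
      have e : m ^ j * ((m ^ j)⁻¹ * x) * (m ^ j)⁻¹ = x * (m ^ j)⁻¹ := by group
      rwa [e] at this
    obtain ⟨i, hi⟩ := hmemN _ h2
    refine ⟨i, j, ?_⟩
    rw [← hi]; group
  have hX'N : commutator X ≤ N := by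
    haveI : IsMulCommutative (X ⧸ N) := ⟨⟨fun a b => (IsCyclic.commGroup (α := X ⧸ N)).mul_comm a b⟩⟩
    exact Subgroup.Normal.quotient_commutative_iff_commutator_le.1 this
  let of : X →* Abelianization X := Abelianization.of
  have hof : ∀ g : X, of g = 1 ↔ g ∈ commutator X := by
    intro g
    rw [← Abelianization.ker_of, MonoidHom.mem_ker]
  have hofk : ∀ (g : X) (k : ℕ), (of g) ^ k = 1 ↔ g ^ k ∈ commutator X := by
    intro g k
    rw [← map_pow, hof]
  have hXc : ∀ (β : MulAut X), ∀ x ∈ commutator X, β x ∈ commutator X := by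
    intro β x hx
    have := (Subgroup.characteristic_iff_map_eq.1 (inferInstance : (commutator X).Characteristic)) β
    have h2 : β x ∈ (commutator X).map β.toMonoidHom := ⟨x, hx, rfl⟩
    rwa [this] at h2
  have hcommsub : ∀ x y : X, ⁅x, y⁆ ∈ commutator X := by
    intro x y
    rw [commutator_eq_closure]
    exact Subgroup.subset_closure (commutator_mem_commutatorSet x y)
  have hexa : ∃ a : ℕ, ∀ g : X, (of g) ^ (2 ^ a) = 1 := by
    obtain ⟨k, hk⟩ := IsPGroup.iff_card.1 hP
    refine ⟨k, fun g => ?_⟩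
    rw [← map_pow, ← hk, pow_card_eq_one', map_one]
  rcases hae : Nat.find hexa with _ | b
  · exfalso
    have ha := Nat.find_spec hexa
    rw [hae] at ha
    apply hne
    apply aut_eq_one hP α hodd
    intro x
    have : ∀ g : X, g ∈ commutator X := fun g => (hof g).1 (by simpa using ha g)
    exact H01.commutator_le_frattini_of_isPGroup hP (this _)
  have ha : ∀ g : X, (of g) ^ (2 ^ (b + 1)) = 1 := by
    have := Nat.find_spec hexa
    rwa [hae] at this
  have hb : ¬ ∀ g : X, (of g) ^ (2 ^ b) = 1 := Nat.find_min hexa (by omega)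
  let M : Subgroup X := ((powMonoidHom (2 ^ b) : Abelianization X →* Abelianization X).ker).comap of
  have hMmem : ∀ g, g ∈ M ↔ (of g) ^ (2 ^ b) = 1 := by
    intro g
    show of g ∈ (powMonoidHom (2 ^ b) : Abelianization X →* Abelianization X).ker ↔ _
    rw [MonoidHom.mem_ker]; rfl
  have hMn : M.Normal := Subgroup.Normal.comap (MonoidHom.normal_ker _) of
  have hMtop : M ≠ ⊤ := by
    intro h
    apply hb
    intro g
    exact (hMmem g).1 (h ▸ Subgroup.mem_top g)
  have hMsq : ∀ g : X, g ^ 2 ∈ M := by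
    intro g
    rw [hMmem, map_pow, ← pow_mul, ← pow_succ']
    exact ha g
  have hMinv : ∀ x ∈ M, α x ∈ M := by
    intro x hx
    rw [hMmem, hofk, ← map_pow]
    rw [hMmem, hofk] at hx
    exact hXc α _ hx
  have hone := fun h => no_inv2 hP n m hgen α hodd hne M hMn hMtop hMsq h hMinv
  have hnM : n ∉ M := fun h => hone (Or.inl h)
  have hmM : m ∉ M := fun h => hone (Or.inr (Or.inl h))
  have hnmM : n * m ∉ M := fun h => hone (Or.inr (Or.inr h))
  set c := n ^ (2 ^ (b + 1)) with hc
  have hordn : orderOf (of n) = 2 ^ (b + 1) :=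
    orderOf_eq_prime_pow (fun h => hnM ((hMmem n).2 h)) (ha n)
  have hX' : commutator X = Subgroup.zpowers c := by
    apply le_antisymm
    · intro x hx
      obtain ⟨k, rfl⟩ := hmemN x (hX'N hx)
      have h1 : (of n) ^ k = 1 := (hofk n k).2 hx
      have h2 := orderOf_dvd_of_pow_eq_one h1
      rw [hordn] at h2
      obtain ⟨t, rfl⟩ := h2
      rw [pow_mul]
      exact Subgroup.npow_mem_zpowers _ _
    · rw [Subgroup.zpowers_le]
      exact (hofk n _).1 (ha n)
  clear_value c
  by_cases hc1 : c = 1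
  · -- abelian case
    right
    have hbot : commutator X = ⊥ := by rw [hX', hc1, Subgroup.zpowers_one_eq_bot]
    have hcomm : ∀ x y : X, x * y = y * x := by
      intro x y
      have := hcommsub x y
      rw [hbot, Subgroup.mem_bot] at this
      exact commutatorElement_eq_one_iff_mul_comm.1 this
    have hp1 : ∀ (g : X) (k : ℕ), (of g) ^ k = 1 ↔ g ^ k = 1 := by
      intro g k
      rw [hofk, hbot, Subgroup.mem_bot]
    have hexp : ∀ g : X, g ^ (2 ^ (b + 1)) = 1 := fun g => (hp1 g _).1 (ha g)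
    have hu : n ^ (2 ^ b) ≠ 1 := fun h => hnM ((hMmem n).2 ((hp1 n _).2 h))
    have hv : m ^ (2 ^ b) ≠ 1 := fun h => hmM ((hMmem m).2 ((hp1 m _).2 h))
    have huv : (n * m) ^ (2 ^ b) ≠ 1 := fun h => hnmM ((hMmem _).2 ((hp1 _ _).2 h))
    have hcm : ∀ x y : X, Commute x y := hcomm
    have hu2 : (n ^ (2 ^ b)) ^ 2 = 1 := by
      rw [← pow_mul, ← pow_succ]; exact hexp n
    have hv2 : (m ^ (2 ^ b)) ^ 2 = 1 := by
      rw [← pow_mul, ← pow_succ]; exact hexp m
    have hind : ∀ i j : ℕ, (n ^ i * m ^ j) ^ (2 ^ b) = 1 → Even i ∧ Even j := by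
      intro i j h
      rw [(hcm _ _).mul_pow, ← pow_mul, ← pow_mul, mul_comm i, mul_comm j, pow_mul, pow_mul] at h
      rw [(hcm _ _).mul_pow] at huv
      constructor
      · by_contra hi
        rw [Nat.not_even_iff_odd] at hi
        obtain ⟨i', rfl⟩ := hi
        rw [pow_succ, pow_mul, hu2, one_pow, one_mul] at h
        rcases Nat.even_or_odd' j with ⟨j', rfl | rfl⟩
        · rw [pow_mul, hv2, one_pow, mul_one] at h
          exact hu h
        · rw [pow_succ, pow_mul, hv2, one_pow, one_mul] at h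
          exact huv h
      · by_contra hj
        rw [Nat.not_even_iff_odd] at hj
        obtain ⟨j', rfl⟩ := hj
        rw [pow_succ, pow_mul, hv2, one_pow, one_mul] at h
        rcases Nat.even_or_odd' i with ⟨i', rfl | rfl⟩
        · rw [pow_mul, hu2, one_pow, one_mul] at h
          exact hv h
        · rw [pow_succ, pow_mul, hu2, one_pow, one_mul] at h
          exact huv h
    have hdesc : ∀ t : ℕ, t ≤ b + 1 → ∀ i j : ℕ, (n ^ i * m ^ j) ^ (2 ^ (b + 1 - t)) = 1 →
        2 ^ t ∣ i ∧ 2 ^ t ∣ j := by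
      intro t
      induction t with
      | zero => intro _ i j _; simp
      | succ t ih =>
        intro ht i j h
        have e : b + 1 - t = (b + 1 - (t + 1)) + 1 := by omega
        have h1 : (n ^ i * m ^ j) ^ (2 ^ (b + 1 - t)) = 1 := by
          rw [e, pow_succ, pow_mul, h, one_pow]
        obtain ⟨⟨i', rfl⟩, ⟨j', rfl⟩⟩ := ih (by omega) i j h1
        have e2 : n ^ (2 ^ t * i') * m ^ (2 ^ t * j') = (n ^ i' * m ^ j') ^ (2 ^ t) := by
          rw [(hcm _ _).mul_pow, ← pow_mul, ← pow_mul, mul_comm i', mul_comm j']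
        rw [e2, ← pow_mul, ← pow_add] at h
        have e3 : t + (b + 1 - (t + 1)) = b := by omega
        rw [e3] at h
        obtain ⟨⟨i2, hi2⟩, ⟨j2, hj2⟩⟩ := hind i' j' h
        constructor
        · rw [hi2]; exact ⟨i2, by ring⟩
        · rw [hj2]; exact ⟨j2, by ring⟩
    have hfinal : ∀ i j : ℕ, n ^ i * m ^ j = 1 → 2 ^ (b + 1) ∣ i ∧ 2 ^ (b + 1) ∣ j := by
      intro i j h
      apply hdesc (b + 1) le_rfl
      simp [h]
    haveI : NeZero (2 ^ (b + 1)) := ⟨by positivity⟩
    let φ : Multiplicative (ZMod (2 ^ (b + 1))) × Multiplicative (ZMod (2 ^ (b + 1))) →* X :=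
      MonoidHom.mk' (fun p => n ^ (Multiplicative.toAdd p.1).val * m ^ (Multiplicative.toAdd p.2).val)
        (by
          rintro ⟨a₁, a₂⟩ ⟨b₁, b₂⟩
          simp only [Prod.mk_mul_mk, toAdd_mul]
          rw [ZMod.val_add, ZMod.val_add, ← pow_eq_pow_mod _ (hexp n), ← pow_eq_pow_mod _ (hexp m),
            pow_add n, pow_add m]
          calc _ = n ^ (Multiplicative.toAdd a₁).val * (n ^ (Multiplicative.toAdd b₁).val *
                (m ^ (Multiplicative.toAdd a₂).val)) * m ^ (Multiplicative.toAdd b₂).val := by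
                  simp only [mul_assoc]
            _ = n ^ (Multiplicative.toAdd a₁).val * ((m ^ (Multiplicative.toAdd a₂).val) *
                n ^ (Multiplicative.toAdd b₁).val) * m ^ (Multiplicative.toAdd b₂).val := by
                  rw [hcomm (n ^ (Multiplicative.toAdd b₁).val)]
            _ = _ := by simp only [mul_assoc])
    have hφ : Function.Bijective φ := by
      constructor
      · rw [injective_iff_map_eq_one]
        rintro ⟨p₁, p₂⟩ hp
        have h1 : n ^ (Multiplicative.toAdd p₁).val * m ^ (Multiplicative.toAdd p₂).val = 1 := hp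
        obtain ⟨h2, h3⟩ := hfinal _ _ h1
        have hz : ∀ z : ZMod (2 ^ (b + 1)), 2 ^ (b + 1) ∣ z.val → z = 0 := by
          intro z hz
          have h4 : z.val < 2 ^ (b + 1) := ZMod.val_lt z
          have h5 : z.val = 0 := Nat.eq_zero_of_dvd_of_lt hz h4
          exact (ZMod.val_eq_zero z).1 h5
        have h6 := hz _ h2
        have h7 := hz _ h3
        ext
        · exact h6
        · exact h7
      · intro x
        obtain ⟨i, j, rfl⟩ := hgen x
        refine ⟨(Multiplicative.ofAdd (i : ZMod (2 ^ (b + 1))),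
          Multiplicative.ofAdd (j : ZMod (2 ^ (b + 1)))), ?_⟩
        show n ^ ((i : ZMod (2 ^ (b + 1)))).val * m ^ ((j : ZMod (2 ^ (b + 1)))).val = _
        rw [ZMod.val_natCast, ZMod.val_natCast, ← pow_eq_pow_mod _ (hexp n),
          ← pow_eq_pow_mod _ (hexp m)]
    exact ⟨b + 1, ⟨(MulEquiv.ofBijective φ hφ).symm⟩⟩
  -- non-abelian case
  obtain ⟨sc, hsc⟩ := (IsPGroup.iff_orderOf.1 hP) c
  have hcpow : ∀ x : X, x ∈ commutator X → ∃ t : ℕ, x = c ^ t := by
    intro x hx
    rw [hX'] at hx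
    obtain ⟨t, ht⟩ := (mem_powers_iff_mem_zpowers).2 hx
    exact ⟨t, ht.symm⟩
  have hcX : c ∈ commutator X := by
    rw [hX']; exact Subgroup.mem_zpowers c
  have hconj : ∀ k : X, ∃ r : ℕ, k * c * k⁻¹ = c ^ r := by
    intro k
    exact hcpow _ ((inferInstance : (commutator X).Normal).conj_mem c hcX k)
  have hαc : ∀ β : MulAut X, ∃ r : ℕ, β c = c ^ r := fun β => hcpow _ (hXc β c hcX)
  let Y : Subgroup X := Subgroup.zpowers (c ^ 2)
  have hYn : Y.Normal := by
    refine ⟨fun y hy k => ?_⟩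
    obtain ⟨t, rfl⟩ := hy
    obtain ⟨r, hr⟩ := hconj k
    refine ⟨r * t, ?_⟩
    show (c ^ 2) ^ ((r : ℤ) * t) = k * (c ^ 2) ^ t * k⁻¹
    rw [← conj_zpow, ← conj_pow, hr, zpow_mul]
    congr 1
    rw [zpow_natCast]
    rw [← pow_mul, ← pow_mul, mul_comm]
  have hαY : ∀ y ∈ Y, α y ∈ Y := by
    intro y hy
    obtain ⟨t, rfl⟩ := hy
    obtain ⟨r, hr⟩ := hαc α
    refine ⟨r * t, ?_⟩
    show (c ^ 2) ^ ((r : ℤ) * t) = α ((c ^ 2) ^ t)
    rw [map_zpow, map_pow, hr, zpow_mul]
    congr 1
    rw [zpow_natCast, ← pow_mul, ← pow_mul, mul_comm]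
  have hcY : c ∉ Y := by
    intro h
    obtain ⟨t, ht⟩ := (mem_powers_iff_mem_zpowers).2 h
    replace ht : (c ^ 2) ^ t = c := ht
    rcases t with _ | t
    · simp at ht; exact hc1 ht.symm
    · have h1 : c ^ (2 * t + 1) = 1 := by
        have : c * c ^ (2 * t + 1) = c * 1 := by
          rw [mul_one]
          calc c * c ^ (2 * t + 1) = (c ^ 2) ^ (t + 1) := by
                rw [← pow_succ', ← pow_mul]; congr 1
            _ = c := ht
        exact mul_left_cancel this
      have h2 := orderOf_dvd_of_pow_eq_one h1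
      rw [hsc] at h2
      rcases sc with _ | sc
      · rw [pow_zero] at hsc
        exact hc1 (orderOf_eq_one_iff.1 hsc)
      · have h3 : 2 ∣ 2 * t + 1 := dvd_trans (dvd_pow_self 2 (Nat.succ_ne_zero sc)) h2
        omega
  haveI := hYn
  let q₂ := QuotientGroup.mk' Y
  have hq₂ : ∀ x, q₂ x = 1 ↔ x ∈ Y := fun x => QuotientGroup.eq_one_iff x
  have hqc1 : q₂ c ≠ 1 := fun h => hcY ((hq₂ c).1 h)
  have hqc2 : (q₂ c) ^ 2 = 1 := by
    rw [← map_pow, hq₂]; exact Subgroup.mem_zpowers _
  have hqcen : ∀ γ : X ⧸ Y, Commute (q₂ c) γ := by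
    intro γ
    obtain ⟨k, rfl⟩ := QuotientGroup.mk'_surjective Y γ
    obtain ⟨r, hr⟩ := hconj k
    have h1 : q₂ (k * c * k⁻¹) = q₂ c := by
      rw [hr]
      rcases Nat.even_or_odd' r with ⟨u, rfl | rfl⟩
      · exfalso
        have h2 : k * c * k⁻¹ ∈ Y := by
          rw [hr, pow_mul]; exact Subgroup.npow_mem_zpowers _ _
        apply hcY
        have h3 := hYn.conj_mem _ h2 k⁻¹
        have e : k⁻¹ * (k * c * k⁻¹) * k⁻¹⁻¹ = c := by group
        rwa [e] at h3
      · rw [pow_succ, pow_mul, map_mul, map_pow, map_pow, hqc2, one_pow, one_mul]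
    show q₂ c * q₂ k = q₂ k * q₂ c
    rw [map_mul, map_mul, map_inv] at h1
    calc q₂ c * q₂ k = (q₂ k * q₂ c * (q₂ k)⁻¹) * q₂ k := by rw [h1]
      _ = q₂ k * q₂ c := by group
  have hqpow : ∀ (t : ℕ), (q₂ c) ^ t = 1 ∨ (q₂ c) ^ t = q₂ c := by
    intro t
    rcases Nat.even_or_odd' t with ⟨u, rfl | rfl⟩
    · left; rw [pow_mul, hqc2, one_pow]
    · right; rw [pow_succ, pow_mul, hqc2, one_pow, one_mul]
  have hqX : ∀ x ∈ commutator X, q₂ x = 1 ∨ q₂ x = q₂ c := by
    intro x hx
    obtain ⟨t, rfl⟩ := hcpow x hx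
    rw [map_pow]; exact hqpow t
  have hqcomm : ∀ γ δ : X ⧸ Y, ⁅γ, δ⁆ = 1 ∨ ⁅γ, δ⁆ = q₂ c := by
    intro γ δ
    obtain ⟨g, rfl⟩ := QuotientGroup.mk'_surjective Y γ
    obtain ⟨h, rfl⟩ := QuotientGroup.mk'_surjective Y δ
    rw [← map_commutatorElement]
    exact hqX _ (hcommsub g h)
  have hG1 : ∀ g h k : X ⧸ Y, Commute ⁅g, h⁆ k := by
    intro g h k
    rcases hqcomm g h with e | e
    · rw [e]; exact Commute.one_left _
    · rw [e]; exact hqcen k
  have hG2 : ∀ g h : X ⧸ Y, ⁅g, h⁆ ^ 2 = 1 := by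
    intro g h
    rcases hqcomm g h with e | e
    · rw [e, one_pow]
    · rw [e]; exact hqc2
  have hNq : ∀ g : X, (q₂ g) ^ (2 ^ (b + 1)) = 1 ∨ (q₂ g) ^ (2 ^ (b + 1)) = q₂ c := by
    intro g
    rw [← map_pow]
    exact hqX _ ((hofk g _).1 (ha g))
  have hqn : (q₂ n) ^ (2 ^ (b + 1)) = q₂ c := by rw [← map_pow, hc]
  rcases b with _ | b
  swap
  · -- `a ≥ 2`: contradiction
    exfalso
    have hhom : ∀ g h : X, (q₂ (g * h)) ^ (2 ^ (b + 1 + 1)) =
        (q₂ g) ^ (2 ^ (b + 1 + 1)) * (q₂ h) ^ (2 ^ (b + 1 + 1)) := by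
      intro g h
      rw [map_mul]
      exact pow_hom hG1 hG2 b _ _
    let M₂ : Subgroup X :=
      { carrier := {g | (q₂ g) ^ (2 ^ (b + 1 + 1)) = 1}
        mul_mem' := by
          intro g h hg hh
          show (q₂ (g * h)) ^ (2 ^ (b + 1 + 1)) = 1
          rw [hhom, hg, hh, one_mul]
        one_mem' := by
          show (q₂ 1) ^ (2 ^ (b + 1 + 1)) = 1
          rw [map_one, one_pow]
        inv_mem' := by
          intro g hg
          show (q₂ g⁻¹) ^ (2 ^ (b + 1 + 1)) = 1
          rw [map_inv, inv_pow, hg, inv_one] }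
    have hM₂ : ∀ g, g ∈ M₂ ↔ (q₂ g) ^ (2 ^ (b + 1 + 1)) = 1 := fun g => Iff.rfl
    apply no_inv2 hP n m hgen α hodd hne M₂
    · refine ⟨fun g hg k => ?_⟩
      rw [hM₂] at hg ⊢
      rw [map_mul, map_mul, map_inv, conj_pow, hg]; group
    · intro h
      have : n ∈ M₂ := h ▸ Subgroup.mem_top n
      rw [hM₂, hqn] at this
      exact hqc1 this
    · intro g
      rw [hM₂, map_pow, ← pow_mul, mul_comm, pow_mul]
      rcases hNq g with e | e
      · rw [e, one_pow]
      · rw [e]; exact hqc2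
    · by_cases hmm : (q₂ m) ^ (2 ^ (b + 1 + 1)) = 1
      · exact Or.inr (Or.inl hmm)
      · refine Or.inr (Or.inr ?_)
        rw [hM₂, hhom, hqn, (hNq m).resolve_left hmm, ← sq, hqc2]
    · intro x hx
      rw [hM₂] at hx ⊢
      rw [← map_pow, hq₂] at hx
      rw [← map_pow, hq₂, ← map_pow]
      exact hαY _ hx
  -- `a = 1`
  simp only [zero_add, pow_one] at hc ha
  have hgX : ∀ g : X, g ^ 2 ∈ commutator X := fun g => (hofk g 2).1 (ha g)
  have hnotab : ¬ ∀ x y : X, x * y = y * x := by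
    intro h
    have hbot : commutator X = ⊥ := by
      rw [commutator_eq_closure, Subgroup.closure_eq_bot_iff]
      rintro _ ⟨x, y, rfl⟩
      exact commutatorElement_eq_one_iff_mul_comm.2 (h x y)
    rw [hbot, Subgroup.mem_bot] at hcX
    exact hc1 hcX
  have hNtop : N ≠ ⊤ := by
    intro h
    apply hnotab
    intro x y
    obtain ⟨i, rfl⟩ := hmemN x (h ▸ Subgroup.mem_top x)
    obtain ⟨j, rfl⟩ := hmemN y (h ▸ Subgroup.mem_top y)
    rw [← pow_add, ← pow_add, add_comm]
  have hβN : α n ∉ N := by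
    intro hα
    apply no_inv2 hP n m hgen α hodd hne N hN hNtop (fun g => hX'N (hgX g)) (Or.inl hnN)
    intro x hx
    obtain ⟨i, rfl⟩ := hmemN x hx
    rw [map_pow]
    exact N.pow_mem hα i
  have hcen : ∀ x : X, ∀ y ∈ commutator X, y * x = x * y := by
    have hCtop : Subgroup.centralizer ((commutator X : Subgroup X) : Set X) = ⊤ := by
      by_contra hne2
      apply no_inv2 hP n m hgen α hodd hne _ Subgroup.normal_centralizer hne2
      · intro g
        rw [Subgroup.mem_centralizer_iff]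
        intro y hy
        obtain ⟨j, rfl⟩ := hmemN y (hX'N hy)
        obtain ⟨i, hi⟩ := hmemN _ (hX'N (hgX g))
        rw [hi, ← pow_add, ← pow_add, add_comm]
      · left
        rw [Subgroup.mem_centralizer_iff]
        intro y hy
        obtain ⟨j, rfl⟩ := hmemN y (hX'N hy)
        rw [← pow_succ, ← pow_succ']
      · intro x hx
        rw [Subgroup.mem_centralizer_iff] at hx ⊢
        intro y hy
        have h1 := hx _ (hXc α⁻¹ y hy)
        have h2 := congrArg α h1
        rw [map_mul, map_mul] at h2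
        simpa using h2
    intro x y hy
    have : x ∈ Subgroup.centralizer ((commutator X : Subgroup X) : Set X) := hCtop ▸ Subgroup.mem_top x
    exact (Subgroup.mem_centralizer_iff.1 this) y hy
  have hcc : ∀ x : X, c * x = x * c := fun x => hcen x c hcX
  -- the commutator of the generators
  let z := ⁅m, n⁆
  have hzX : z ∈ commutator X := hcommsub m n
  have hzc : ∀ x : X, z * x = x * z := fun x => hcen x z hzX
  have hz2 : z ^ 2 = 1 := by
    have h1 : m * n * m⁻¹ = z * n := by
      show m * n * m⁻¹ = ⁅m, n⁆ * n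
      rw [commutatorElement_def]; group
    have h2 : m * (n ^ 2) * m⁻¹ = z ^ 2 * n ^ 2 := by
      rw [← conj_pow, h1]
      have : Commute z n := hzc n
      rw [this.mul_pow]
    have h3 : m * (n ^ 2) * m⁻¹ = n ^ 2 := by
      rw [← hc, ← hcc m]
      simp
    have := h2.symm.trans h3
    exact mul_eq_right.1 this
  have hX'z : commutator X ≤ Subgroup.zpowers z := by
    have hZn : (Subgroup.zpowers z).Normal := by
      refine ⟨fun y hy k => ?_⟩
      have hyX : y ∈ commutator X := by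
        obtain ⟨t, rfl⟩ := hy
        exact Subgroup.zpow_mem _ hzX t
      have : k * y * k⁻¹ = y := by
        rw [← hcen k y hyX]; group
      rwa [this]
    haveI := hZn
    let q₀ := QuotientGroup.mk' (Subgroup.zpowers z)
    have hmn : Commute (q₀ m) (q₀ n) := by
      have h1 : q₀ z = 1 := (QuotientGroup.eq_one_iff z).2 (Subgroup.mem_zpowers z)
      have h2 : ⁅q₀ m, q₀ n⁆ = 1 := by
        rw [← map_commutatorElement]; exact h1
      exact commutatorElement_eq_one_iff_mul_comm.1 h2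
    rw [commutator_eq_closure, Subgroup.closure_le]
    rintro _ ⟨x, y, rfl⟩
    obtain ⟨i, j, rfl⟩ := hgen x
    obtain ⟨k, l, rfl⟩ := hgen y
    show _ ∈ Subgroup.zpowers z
    rw [← QuotientGroup.eq_one_iff]
    show q₀ ⁅_, _⁆ = 1
    rw [map_commutatorElement, commutatorElement_eq_one_iff_mul_comm]
    simp only [map_mul, map_pow]
    have hA : Commute ((q₀ n) ^ i * (q₀ m) ^ j) ((q₀ n) ^ k * (q₀ m) ^ l) := by
      apply Commute.mul_left
      · apply Commute.mul_right
        · exact (Commute.refl _).pow_pow _ _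
        · exact (hmn.symm).pow_pow _ _
      · apply Commute.mul_right
        · exact hmn.pow_pow _ _
        · exact (Commute.refl _).pow_pow _ _
    exact hA
  have hc2 : c ^ 2 = 1 := by
    obtain ⟨t, ht⟩ := (mem_powers_iff_mem_zpowers).2 (hX'z hcX)
    replace ht : z ^ t = c := ht
    rw [← ht, ← pow_mul, mul_comm, pow_mul, hz2, one_pow]
  have hX2 : ∀ y ∈ commutator X, y = 1 ∨ y = c := by
    intro y hy
    obtain ⟨t, rfl⟩ := hcpow y hy
    rcases Nat.even_or_odd' t with ⟨u, rfl | rfl⟩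
    · left; rw [pow_mul, hc2, one_pow]
    · right; rw [pow_succ, pow_mul, hc2, one_pow, one_mul]
  have hord : orderOf n = 4 := by
    have h1 : ¬ n ^ 2 ^ 1 = 1 := by
      rw [pow_one, ← hc]; exact hc1
    have h2 : n ^ 2 ^ (1 + 1) = 1 := by
      have : n ^ 2 ^ (1 + 1) = (n ^ 2) ^ 2 := by rw [← pow_mul]; norm_num
      rw [this, ← hc, hc2]
    have := orderOf_eq_prime_pow h1 h2
    simpa using this
  have hNeq : N = Subgroup.zpowers n := by
    apply le_antisymm
    · intro x hx
      obtain ⟨i, rfl⟩ := hmemN x hx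
      exact Subgroup.npow_mem_zpowers _ _
    · rw [Subgroup.zpowers_le]; exact hnN
  have hidx : N.index = 2 := by
    have h1 : Monoid.exponent (X ⧸ N) ∣ 2 := by
      apply Monoid.exponent_dvd_of_forall_pow_eq_one
      intro v
      obtain ⟨g, rfl⟩ := QuotientGroup.mk_surjective v
      rw [← QuotientGroup.mk_pow, QuotientGroup.eq_one_iff]
      exact hX'N (hgX g)
    rw [IsCyclic.exponent_eq_card] at h1
    have h2 : N.index ∣ 2 := h1
    rcases (Nat.dvd_prime Nat.prime_two).1 h2 with h | h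
    · exact absurd (Subgroup.index_eq_one.1 h) hNtop
    · exact h
  have hcard : Nat.card X = 8 := by
    have h1 := N.card_mul_index
    rw [hNeq, Nat.card_zpowers, hord] at h1
    rw [← h1, ← hNeq, hidx]
  have hβ2 : (α n) ^ 2 = n ^ 2 := by
    rw [← hc, ← map_pow, ← hc]
    rcases hX2 _ (hXc α c hcX) with h | h
    · exfalso
      apply hc1
      have := congrArg α.symm h
      simpa using this
    · exact h
  have hrel : α n * n * (α n)⁻¹ = n⁻¹ := by
    rcases hX2 _ (hcommsub (α n) n) with h | h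
    · exfalso
      have hcb : Commute (α n) n := commutatorElement_eq_one_iff_mul_comm.1 h
      apply hnotab
      have hx : ∀ x : X, ∃ i e : ℕ, x = n ^ i * (α n) ^ e := by
        intro x
        by_cases hxN : x ∈ N
        · obtain ⟨i, rfl⟩ := hmemN x hxN
          exact ⟨i, 0, by simp⟩
        · have h1 : x * (α n)⁻¹ ∈ N := by
            rw [Subgroup.mul_mem_iff_of_index_two hidx]
            constructor
            · intro h2; exact absurd h2 hxN
            · intro h2; exact absurd (N.inv_mem_iff.1 h2) hβN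
          obtain ⟨i, hi⟩ := hmemN _ h1
          refine ⟨i, 1, ?_⟩
          rw [← hi]; group
      intro x y
      obtain ⟨i, e, rfl⟩ := hx x
      obtain ⟨k, f, rfl⟩ := hx y
      have hA : Commute (n ^ i * (α n) ^ e) (n ^ k * (α n) ^ f) := by
        apply Commute.mul_left
        · apply Commute.mul_right
          · exact (Commute.refl _).pow_pow _ _
          · exact (hcb.symm).pow_pow _ _
        · apply Commute.mul_right
          · exact hcb.pow_pow _ _
          · exact (Commute.refl _).pow_pow _ _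
      exact hA
    · have h4 : n ^ 4 = 1 := by rw [← hord]; exact pow_orderOf_eq_one n
      rw [commutatorElement_def] at h
      have h5 : α n * n * (α n)⁻¹ = c * n := by rw [← h]; group
      rw [h5, hc]
      apply eq_inv_of_mul_eq_one_left
      rw [← h4, mul_assoc, ← sq, ← pow_add]
  left
  exact H19.quaternion_iso hcard hord hβ2 hrel (by rw [← hNeq]; exact hβN)

end


/-- A finite metacyclic 2-group whose automorphism group is not a 2-group is isomorphic to the quaternion group of order 8 or to a homocyclic abelian group Z_{2^n} × Z_{2^n}. -/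
theorem result {X : Type*} [Group X] [Finite X] (hX : IsPGroup 2 X)
    (hm : Cfsg.IsMetacyclic X) (hA : ¬ IsPGroup 2 (MulAut X)) :
    Nonempty (X ≃* QuaternionGroup 2) ∨
      ∃ n : ℕ, Nonempty (X ≃* Multiplicative (ZMod (2 ^ n)) × Multiplicative (ZMod (2 ^ n))) := by
  classical
obtain ⟨N, hNn, hNc, hQc⟩ := hm
haveI := hNn
have hex : ∃ α : MulAut X, Odd (orderOf α) ∧ α ≠ 1 := by
  by_contra hcon
  push Not at hcon
  exact hA (H24.isPGroup_two_of_odd_trivial (fun a ha => hcon a ha))
obtain ⟨α, hodd, hne⟩ := hex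
exact core hX N hNc hQc α hodd hne

end Cfsg.Agent.S1896
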