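import Cfsg.Statements.S1902
import Cfsg.Agent.Lib.H26.HHCore
import Cfsg.Agent.Lib.H26.FrobAct
import Cfsg.Agent.Lib.H13.CoprimeGen
import Cfsg.Agent.Lib.H19.ZCoprime
import Cfsg.Agent.Lib.H01.Coprime
import Cfsg.Agent.Lib.H01.Coprime3
import Cfsg.Agent.Lib.H01.Coprime4
import Cfsg.Agent.Lib.H01.Basic
import Cfsg.Agent.Lib.H03.PSolv
import Cfsg.Agent.Lib.H06.FittingHall
import Cfsg.Agent.Lib.H08.PCoreL
import Mathlib

set_option autoImplicit false
set_option linter.style.haveILetI false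
set_option linter.unusedVariables false
set_option linter.unusedSectionVars false
set_option linter.unusedSimpArgs false
open Cfsg

namespace Cfsg.Agent.S1902

section FrobFixed

variable {Γ V : Type*} [Group Γ] [CommGroup V] [Finite V] (ρ : Γ →* MulAut V)

open Cfsg.Agent.H26.FrobAct

/-- If all norms over the complement `C` are fixed by the kernel `Z`, then `Z` acts trivially. -/
theorem frob_norm_fixed (Z C : Subgroup Γ) [Fintype Z] [Fintype C] [Finite Z]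
    (hnor : ∀ r ∈ C, ∀ z ∈ Z, r * z * r⁻¹ ∈ Z)
    (hfrob : ∀ r ∈ C, r ≠ 1 → ∀ z ∈ Z, z * r = r * z → z = 1)
    (hcop : (Nat.card Z).Coprime (Nat.card V))
    (hT : ∀ x, ∀ z ∈ Z, ρ z (T ρ C x) = T ρ C x) :
    ∀ z ∈ Z, ∀ x, ρ z x = x := by
  classical
  have hconj : ∀ r ∈ C, ∀ x, T ρ Z (ρ r x) = ρ r (T ρ Z x) := by
    intro r hr x
    unfold T
    rw [map_prod]
    let ι : Z → Z := fun z => ⟨r * z * r⁻¹, hnor r hr z z.2⟩
    have hι : Function.Injective ι := by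
      intro a b hab
      have : r * (a : Γ) * r⁻¹ = r * b * r⁻¹ := congrArg Subtype.val hab
      apply Subtype.ext
      simpa using this
    have hb := (Finite.injective_iff_bijective).mp hι
    refine Eq.trans ?_ (hb.prod_comp (fun z : Z => ρ (z : Γ) (ρ r x))).symm |>.trans ?_ |>.symm |>.symm
    · rfl
    · refine Finset.prod_congr rfl (fun z _ => ?_)
      have : ((ι z : Z) : Γ) = r * z * r⁻¹ := rfl
      rw [this]
      simp [map_mul, MulAut.mul_apply]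
  have key : ∀ x, T ρ Z x = x ^ Nat.card Z := by
    intro x
    have hid := norm_identity ρ Z C hnor hfrob x
    have h1 : ∏ z : Z, ρ (z : Γ) (T ρ C (ρ (z : Γ)⁻¹ x)) = T ρ C (T ρ Z x) := by
      rw [Finset.prod_congr rfl (fun (z : Z) _ => hT (ρ (z : Γ)⁻¹ x) z z.2)]
      have h2 : T ρ Z x = ∏ z : Z, ρ (z : Γ)⁻¹ x := by
        unfold T
        refine (Fintype.prod_equiv (Equiv.inv Z) _ _ (fun z => ?_))
        simp
      rw [h2]
      exact (map_prod (TH ρ C) (fun z : Z => ρ (z : Γ)⁻¹ x) Finset.univ).symm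
    have h2 : T ρ C (T ρ Z x) = T ρ Z x * ∏ r ∈ (Finset.univ.erase (1 : C)), T ρ Z (ρ (r : Γ) x) := by
      change ∏ r : C, ρ (r : Γ) (T ρ Z x) = _
      rw [← Finset.mul_prod_erase Finset.univ (fun r : C => ρ (r : Γ) (T ρ Z x)) (Finset.mem_univ (1 : C))]
      congr 1
      · simp
      · refine Finset.prod_congr rfl (fun r _ => ?_)
        exact (hconj r r.2 x).symm
    rw [h1, h2] at hid
    exact mul_right_cancel hid
  intro z hz x
  have hf : ρ z (T ρ Z x) = T ρ Z x := rho_T ρ Z hz x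
  rw [key, map_pow] at hf
  exact (powCoprime hcop.symm).injective hf

end FrobFixed

section Baer

open scoped commutatorElement

variable {M : Type*} [Group M]

lemma comm_mul_left (hc : ∀ x y u : M, ⁅x, y⁆ * u = u * ⁅x, y⁆) (x y z : M) :
    ⁅x * y, z⁆ = ⁅x, z⁆ * ⁅y, z⁆ := by
  have h1 : ⁅x * y, z⁆ = x * ⁅y, z⁆ * z * x⁻¹ * z⁻¹ := by
    simp only [commutatorElement_def]
    group
  rw [h1, ← hc y z x]
  calc ⁅y, z⁆ * x * z * x⁻¹ * z⁻¹ = ⁅y, z⁆ * ⁅x, z⁆ := by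
        simp only [commutatorElement_def]
        group
    _ = ⁅x, z⁆ * ⁅y, z⁆ := hc y z _

lemma comm_mul_right (hc : ∀ x y u : M, ⁅x, y⁆ * u = u * ⁅x, y⁆) (x y z : M) :
    ⁅z, x * y⁆ = ⁅z, x⁆ * ⁅z, y⁆ := by
  rw [← commutatorElement_inv, comm_mul_left hc, mul_inv_rev, commutatorElement_inv,
    commutatorElement_inv]
  exact hc z y _

/-- The Baer sum. -/
def oplus (h : ℕ) (x y : M) : M := x * y * ⁅y, x⁆ ^ h

lemma central_pow (hc : ∀ x y u : M, ⁅x, y⁆ * u = u * ⁅x, y⁆) (h : ℕ) (x y u : M) :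
    ⁅x, y⁆ ^ h * u = u * ⁅x, y⁆ ^ h := by
  have : Commute (⁅x, y⁆) u := hc x y u
  exact (this.pow_left h).eq

lemma oplus_assoc (hc : ∀ x y u : M, ⁅x, y⁆ * u = u * ⁅x, y⁆) (h : ℕ) (x y z : M) :
    oplus h (oplus h x y) z = oplus h x (oplus h y z) := by
  unfold oplus
  have e1 : ⁅z, x * y * ⁅y, x⁆ ^ h⁆ = ⁅z, x⁆ * ⁅z, y⁆ := by
    rw [comm_mul_right hc, comm_mul_right hc]
    have : ⁅z, ⁅y, x⁆ ^ h⁆ = 1 := by
      rw [commutatorElement_eq_one_iff_mul_comm]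
      exact (central_pow hc h y x z).symm
    rw [this, mul_one]
  have e2 : ⁅y * z * ⁅z, y⁆ ^ h, x⁆ = ⁅y, x⁆ * ⁅z, x⁆ := by
    rw [comm_mul_left hc, comm_mul_left hc]
    have : ⁅⁅z, y⁆ ^ h, x⁆ = 1 := by
      rw [commutatorElement_eq_one_iff_mul_comm]
      exact central_pow hc h z y x
    rw [this, mul_one]
  rw [e1, e2]
  have c1 : Commute ⁅z, x⁆ ⁅z, y⁆ := hc z x _
  have c2 : Commute ⁅y, x⁆ ⁅z, x⁆ := hc y x _
  rw [c1.mul_pow, c2.mul_pow]
  set a := ⁅y, x⁆ ^ h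
  set b := ⁅z, x⁆ ^ h
  set c := ⁅z, y⁆ ^ h
  have ha : ∀ u, a * u = u * a := central_pow hc h y x
  have hb : ∀ u, b * u = u * b := central_pow hc h z x
  have hc' : ∀ u, c * u = u * c := central_pow hc h z y
  calc x * y * a * z * (b * c) = x * y * (a * z) * (b * c) := by group
    _ = x * y * z * a * (b * c) := by rw [ha]; group
    _ = x * y * z * (a * b * c) := by group
    _ = x * y * z * (c * (a * b)) := by rw [hc' (a * b)]
    _ = x * (y * z * c) * (a * b) := by group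

lemma oplus_comm (hc : ∀ x y u : M, ⁅x, y⁆ * u = u * ⁅x, y⁆) {h : ℕ}
    (hh : ∀ c : M, c ^ (2 * h) = c) (x y : M) :
    oplus h x y = oplus h y x := by
  unfold oplus
  set c := ⁅y, x⁆ with hcdef
  have h1 : ⁅x, y⁆ = c⁻¹ := by rw [hcdef, commutatorElement_inv]
  have h2 : y * x = c * (x * y) := by
    rw [hcdef, commutatorElement_def]
    group
  have h3 : c ^ h * c ^ h = c := by
    rw [← pow_add, ← two_mul]
    exact hh c
  have hcc : ∀ u, c ^ h * u = u * c ^ h := central_pow hc h y x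
  rw [h1, h2, inv_pow]
  have h4 : c = c ^ h * c ^ h := h3.symm
  have hcc' : ∀ u, c * u = u * c := hc y x
  calc x * y * c ^ h = x * y * (c * (c ^ h)⁻¹) := by
        congr 1
        nth_rewrite 2 [h4]
        group
    _ = c * (x * y) * (c ^ h)⁻¹ := by rw [hcc' (x * y)]; group

/-- Type synonym carrying the Baer sum. -/
def Baer (M : Type*) := M

lemma oplus_one_left (h : ℕ) (x : M) : oplus h 1 x = x := by
  unfold oplus
  simp

lemma oplus_one_right (h : ℕ) (x : M) : oplus h x 1 = x := by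
  unfold oplus
  simp

lemma oplus_inv (h : ℕ) (x : M) : oplus h x⁻¹ x = 1 := by
  unfold oplus
  have : ⁅x, x⁻¹⁆ = 1 := by
    rw [commutatorElement_eq_one_iff_mul_comm]
    group
  rw [this]
  simp

lemma oplus_map (f : M ≃* M) (h : ℕ) (x y : M) : f (oplus h x y) = oplus h (f x) (f y) := by
  unfold oplus
  rw [map_mul, map_mul, map_pow, map_commutatorElement]

/-- The commutative group structure. -/
@[reducible] def baerGroup (hc : ∀ x y u : M, ⁅x, y⁆ * u = u * ⁅x, y⁆) {h : ℕ}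
    (hh : ∀ c : M, c ^ (2 * h) = c) : CommGroup (Baer M) :=
  { mul := fun x y => (oplus h (x : M) (y : M) : M)
    one := (1 : M)
    inv := fun x => ((x : M)⁻¹ : M)
    mul_assoc := fun x y z => oplus_assoc hc h x y z
    one_mul := fun x => @oplus_one_left M _ h x
    mul_one := fun x => @oplus_one_right M _ h x
    inv_mul_cancel := fun x => @oplus_inv M _ h x
    mul_comm := fun x y => oplus_comm hc hh x y }

variable {Γ : Type*} [Group Γ]

/-- Automorphisms carry over. -/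
@[reducible] def baerAct (hc : ∀ x y u : M, ⁅x, y⁆ * u = u * ⁅x, y⁆) {h : ℕ}
    (hh : ∀ c : M, c ^ (2 * h) = c) (ρ₀ : Γ →* MulAut M) :
    letI := baerGroup hc hh
    Γ →* MulAut (Baer M) :=
  letI := baerGroup hc hh
  { toFun := fun g =>
      { toFun := fun x => (ρ₀ g (x : M) : M)
        invFun := fun x => ((ρ₀ g).symm (x : M) : M)
        left_inv := fun x => (ρ₀ g).symm_apply_apply (x : M)
        right_inv := fun x => (ρ₀ g).apply_symm_apply (x : M)
        map_mul' := fun x y => oplus_map (ρ₀ g) h (x : M) (y : M) }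
    map_one' := by
      refine MulEquiv.ext fun x => ?_
      change ρ₀ 1 (x : M) = (x : M)
      rw [map_one]
      rfl
    map_mul' := fun g g' => by
      refine MulEquiv.ext fun x => ?_
      change ρ₀ (g * g') (x : M) = ρ₀ g (ρ₀ g' (x : M))
      rw [map_mul]
      rfl }

open Cfsg.Agent.H26.FrobAct

/-- Key Baer-group lemma. -/
theorem baer_frob [Finite M] {p : ℕ} (hodd : Odd p) (he : ∀ x : M, x ^ p = 1)
    (hc : ∀ x y u : M, ⁅x, y⁆ * u = u * ⁅x, y⁆) (ρ₀ : Γ →* MulAut M) (Z C : Subgroup Γ)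
    [Finite Z] [Finite C]
    (hnor : ∀ r ∈ C, ∀ z ∈ Z, r * z * r⁻¹ ∈ Z)
    (hfrob : ∀ r ∈ C, r ≠ 1 → ∀ z ∈ Z, z * r = r * z → z = 1)
    (hcop : (Nat.card Z).Coprime (Nat.card M))
    (hfix : ∀ t : M, (∀ r ∈ C, ρ₀ r t = t) → ∀ z ∈ Z, ρ₀ z t = t) :
    ∀ z ∈ Z, ∀ x : M, ρ₀ z x = x := by
  classical
  obtain ⟨k, hk⟩ := hodd
  have hh : ∀ c : M, c ^ (2 * (k + 1)) = c := by
    intro c
    have : 2 * (k + 1) = p + 1 := by omega
    rw [this, pow_succ, he, one_mul]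
  letI := baerGroup hc hh
  let ρ := baerAct hc hh ρ₀
  haveI : Finite (Baer M) := inferInstanceAs (Finite M)
  haveI := Fintype.ofFinite Z
  haveI := Fintype.ofFinite C
  have hρ : ∀ g (x : M), (ρ g (x : Baer M) : Baer M) = (ρ₀ g x : M) := fun g x => rfl
  have hcard : Nat.card (Baer M) = Nat.card M := rfl
  have := frob_norm_fixed ρ Z C hnor hfrob (by rw [hcard]; exact hcop) (by
    intro x z hz
    exact hfix (T (V := Baer M) ρ C x) (fun r hr => rho_T ρ C hr x) z hz)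
  intro z hz x
  exact this z hz x

end Baer

section Minimal

open scoped commutatorElement

variable {Γ : Type*} [Group Γ]

lemma closure_conj_mem {X : Set Γ} {g : Γ} (h : ∀ x ∈ X, g * x * g⁻¹ ∈ Subgroup.closure X) {w : Γ}
    (hw : w ∈ Subgroup.closure X) : g * w * g⁻¹ ∈ Subgroup.closure X := by
  induction hw using Subgroup.closure_induction with
  | mem x hx => exact h x hx
  | one => simp
  | mul x y _ _ hx hy =>
    have : g * (x * y) * g⁻¹ = (g * x * g⁻¹) * (g * y * g⁻¹) := by group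
    rw [this]
    exact Subgroup.mul_mem _ hx hy
  | inv x _ hx =>
    have : g * x⁻¹ * g⁻¹ = (g * x * g⁻¹)⁻¹ := by group
    rw [this]
    exact Subgroup.inv_mem _ hx

lemma pow_step {x y c : Γ} (hc : y * x = c * (x * y)) (hcx : c * x = x * c) (hcy : c * y = y * c) (n : ℕ) :
    y ^ n * x = c ^ n * x * y ^ n := by
  induction n with
  | zero => simp
  | succ n ih =>
    have h1 : Commute c y := hcy
    have h2 : Commute (c ^ n) y := h1.pow_left n
    calc y ^ (n + 1) * x = y * (y ^ n * x) := by rw [pow_succ']; group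
      _ = y * (c ^ n * x * y ^ n) := by rw [ih]
      _ = (y * c ^ n) * x * y ^ n := by group
      _ = c ^ n * (y * x) * y ^ n := by rw [← h2.eq]; group
      _ = c ^ n * (c * (x * y)) * y ^ n := by rw [hc]
      _ = c ^ (n + 1) * x * y ^ (n + 1) := by rw [pow_succ, pow_succ']; group

lemma mul_pow_class2 {x y c : Γ} (hc : y * x = c * (x * y)) (hcx : c * x = x * c) (hcy : c * y = y * c) (n : ℕ) :
    (x * y) ^ n = x ^ n * y ^ n * c ^ (n.choose 2) := by
  induction n with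
  | zero => simp
  | succ n ih =>
    have h1 : Commute c y := hcy
    have h1x : Commute c x := hcx
    have hch : (n + 1).choose 2 = n + n.choose 2 := by
      rw [Nat.choose_succ_succ' n 1, Nat.choose_one_right]
    have hs := pow_step hc hcx hcy n
    have a1 : Commute (c ^ n.choose 2) x := h1x.pow_left _
    have a2 : Commute (c ^ n.choose 2) y := h1.pow_left _
    have a3 : Commute (c ^ n) x := h1x.pow_left _
    have a4 : Commute (c ^ n) (y ^ n) := (h1.pow_left _).pow_right _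
    have a5 : Commute (c ^ n) y := h1.pow_left _
    calc (x * y) ^ (n + 1) = x ^ n * y ^ n * c ^ (n.choose 2) * (x * y) := by rw [pow_succ, ih]
      _ = x ^ n * (y ^ n * (c ^ (n.choose 2) * x)) * y := by group
      _ = x ^ n * (y ^ n * x) * c ^ (n.choose 2) * y := by rw [a1.eq]; group
      _ = x ^ n * (c ^ n * x * y ^ n) * c ^ (n.choose 2) * y := by rw [hs]
      _ = x ^ n * (x * c ^ n) * y ^ n * (c ^ (n.choose 2) * y) := by rw [a3.eq]; group
      _ = x ^ n * x * (c ^ n * y ^ n) * (y * c ^ (n.choose 2)) := by rw [a2.eq]; group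
      _ = x ^ n * x * (y ^ n * c ^ n) * (y * c ^ (n.choose 2)) := by rw [a4.eq]
      _ = x ^ n * x * y ^ n * (c ^ n * y) * c ^ (n.choose 2) := by group
      _ = x ^ n * x * y ^ n * (y * c ^ n) * c ^ (n.choose 2) := by rw [a5.eq]
      _ = x ^ (n + 1) * y ^ (n + 1) * c ^ ((n + 1).choose 2) := by
        rw [hch, pow_add c, pow_succ x, pow_succ y]
        group

lemma pow_hom {p : ℕ} (hpp : p.Prime) (hp : p ≠ 2) {x y c : Γ} (hc : y * x = c * (x * y))
    (hcx : c * x = x * c) (hcy : c * y = y * c) (hyp : y ^ p * x = x * y ^ p) :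
    (x * y) ^ p = x ^ p * y ^ p := by
  have hs := pow_step hc hcx hcy p
  have hcp : c ^ p = 1 := by
    have h1 : c ^ p * x * y ^ p = x * y ^ p := by rw [← hs, hyp]
    have h2 : c ^ p * (x * y ^ p) = x * y ^ p := by rw [← mul_assoc]; exact h1
    exact mul_eq_right.mp h2
  rw [mul_pow_class2 hc hcx hcy p]
  have hd : p ∣ p.choose 2 := hpp.dvd_choose_self (by norm_num) (by
    have := hpp.two_le
    omega)
  obtain ⟨k, hk⟩ := hd
  rw [hk, pow_mul, hcp, one_pow, mul_one]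

variable [Finite Γ]

/-- The minimal `L`-invariant subgroup moved by `Y`. -/
theorem exists_R {p : ℕ} [hpf : Fact p.Prime] (hp : p ≠ 2) (L : Set Γ) (Y S : Subgroup Γ)
    (hYL : ∀ y ∈ Y, y ∈ L) (hLY : ∀ g ∈ L, ∀ y ∈ Y, g * y * g⁻¹ ∈ Y)
    (hYc : (Nat.card Y).Coprime p) (hS : IsPGroup p S) (hLS : ∀ g ∈ L, ∀ s ∈ S, g * s * g⁻¹ ∈ S)
    (hmoved : ∃ s ∈ S, ∃ y ∈ Y, y * s * y⁻¹ ≠ s) :
    ∃ R : Subgroup Γ, R ≤ S ∧ (∀ g ∈ L, ∀ r ∈ R, g * r * g⁻¹ ∈ R) ∧
      (∃ s ∈ R, ∃ y ∈ Y, y * s * y⁻¹ ≠ s) ∧ ⁅R, Y⁆ = R ∧ (∀ x ∈ R, x ^ p = 1) ∧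
      (∀ x ∈ R, ∀ y ∈ R, ∀ u ∈ R, ⁅x, y⁆ * u = u * ⁅x, y⁆) := by
  classical
  have hpp : p.Prime := hpf.out
  let T : Set (Subgroup Γ) := {R | R ≤ S ∧ (∀ g ∈ L, ∀ r ∈ R, g * r * g⁻¹ ∈ R) ∧
    ∃ s ∈ R, ∃ y ∈ Y, y * s * y⁻¹ ≠ s}
  obtain ⟨R, hR, hmin⟩ := (wellFounded_lt (α := Subgroup Γ)).has_min T ⟨S, le_rfl, hLS, hmoved⟩
  obtain ⟨hRS, hLR, hRmoved⟩ := hR
  have hRp : IsPGroup p R := hS.to_le hRS
  have hYR : Y ≤ Subgroup.normalizer (R : Set Γ) := by
    intro y hy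
    rw [Subgroup.mem_normalizer_iff]
    intro h
    constructor
    · intro hh
      exact hLR y (hYL y hy) h hh
    · intro hh
      have := hLR y⁻¹ (hYL _ (Y.inv_mem hy)) _ hh
      have e : y⁻¹ * (y * h * y⁻¹) * y⁻¹⁻¹ = h := by group
      rwa [e] at this
  have hcop : (Nat.card Y).Coprime (Nat.card R) := by
    obtain ⟨n, hn⟩ := IsPGroup.iff_card.mp hRp
    rw [hn]
    exact Nat.Coprime.pow_right _ hYc
  have hsolv : Group.IsSolvable Y ∨ Group.IsSolvable R := by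
    right
    haveI : Group.IsNilpotent R := hRp.isNilpotent
    infer_instance
  have hR₁le : ⁅R, Y⁆ ≤ R := by
    rw [Subgroup.commutator_le]
    intro r hr y hy
    have : ⁅r, y⁆ = r * (y * r⁻¹ * y⁻¹) := by
      rw [commutatorElement_def]
      group
    rw [this]
    exact R.mul_mem hr (hLR y (hYL y hy) _ (R.inv_mem hr))
  have hR₁L : ∀ g ∈ L, ∀ r ∈ ⁅R, Y⁆, g * r * g⁻¹ ∈ ⁅R, Y⁆ := by
    intro g hg w hw
    rw [Subgroup.commutator_def] at hw ⊢
    refine closure_conj_mem ?_ hw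
    rintro _ ⟨r, hr, y, hy, rfl⟩
    apply Subgroup.subset_closure
    refine ⟨g * r * g⁻¹, hLR g hg r hr, g * y * g⁻¹, hLY g hg y hy, ?_⟩
    simp only [commutatorElement_def]
    group
  have hR₁moved : ∃ s ∈ ⁅R, Y⁆, ∃ y ∈ Y, y * s * y⁻¹ ≠ s := by
    by_contra hcon
    push Not at hcon
    have h1 : ⁅⁅R, Y⁆, Y⁆ = ⊥ := by
      rw [eq_bot_iff, Subgroup.commutator_le]
      intro w hw y hy
      rw [Subgroup.mem_bot, commutatorElement_eq_one_iff_mul_comm]
      have := hcon w hw y hy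
      calc w * y = y * (y⁻¹ * w * y) := by group
        _ = y * w := by
          congr 1
          have h2 := hcon w hw y⁻¹ (Y.inv_mem hy)
          calc y⁻¹ * w * y = y⁻¹ * w * y⁻¹⁻¹ := by group
            _ = w := h2
    have h2 := Cfsg.Agent.H01.commutator_commutator_eq (A := Y) (K := R) hYR hcop hsolv
    rw [h1] at h2
    obtain ⟨s, hs, y, hy, hsy⟩ := hRmoved
    apply hsy
    have h3 : ⁅s, y⁆ = 1 := by
      have := Subgroup.commutator_mem_commutator hs hy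
      rw [← h2] at this
      exact Subgroup.mem_bot.mp this
    rw [commutatorElement_eq_one_iff_mul_comm] at h3
    rw [← h3]
    group
  have hR₁eq : ⁅R, Y⁆ = R := by
    by_contra hne
    exact hmin _ ⟨hR₁le.trans hRS, hR₁L, hR₁moved⟩ (lt_of_le_of_ne hR₁le hne)
  -- the Frattini-type subgroup
  let Dset : Set Γ := {w | (∃ x ∈ R, w = x ^ p) ∨ (∃ x ∈ R, ∃ y ∈ R, w = ⁅x, y⁆)}
  let D : Subgroup Γ := Subgroup.closure Dset
  have hDle : D ≤ R := by
    refine (Subgroup.closure_le _).mpr ?_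
    rintro _ (⟨x, hx, rfl⟩ | ⟨x, hx, y, hy, rfl⟩)
    · exact R.pow_mem hx p
    · have : ⁅x, y⁆ = x * y * x⁻¹ * y⁻¹ := commutatorElement_def x y
      rw [this]
      exact R.mul_mem (R.mul_mem (R.mul_mem hx hy) (R.inv_mem hx)) (R.inv_mem hy)
  have hDconj : ∀ g : Γ, (∀ r ∈ R, g * r * g⁻¹ ∈ R) → ∀ w ∈ D, g * w * g⁻¹ ∈ D := by
    intro g hg w hw
    refine closure_conj_mem ?_ hw
    rintro _ (⟨x, hx, rfl⟩ | ⟨x, hx, y, hy, rfl⟩)
    · apply Subgroup.subset_closure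
      left
      exact ⟨g * x * g⁻¹, hg x hx, (conj_pow).symm⟩
    · apply Subgroup.subset_closure
      right
      refine ⟨g * x * g⁻¹, hg x hx, g * y * g⁻¹, hg y hy, ?_⟩
      simp only [commutatorElement_def]
      group
  have hDne : D ≠ R := by
    intro heq
    have hF : D ≤ (frattini ↥R).map R.subtype := by
      refine (Subgroup.closure_le _).mpr ?_
      rintro _ (⟨x, hx, rfl⟩ | ⟨x, hx, y, hy, rfl⟩)
      · exact ⟨_, Cfsg.Agent.H01.pow_mem_frattini_of_isPGroup hRp (⟨x, hx⟩ : ↥R), by simp⟩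
      · refine ⟨⁅(⟨x, hx⟩ : ↥R), (⟨y, hy⟩ : ↥R)⁆, ?_, by simp⟩
        exact Cfsg.Agent.H01.commutator_le_frattini_of_isPGroup hRp
          (Subgroup.commutator_mem_commutator (Subgroup.mem_top _) (Subgroup.mem_top _))
    have htop : frattini ↥R = ⊤ := by
      rw [eq_top_iff]
      rintro ⟨x, hx⟩ _
      have h2 : x ∈ (frattini ↥R).map R.subtype := hF (heq ▸ hx)
      obtain ⟨y, hy, hye⟩ := h2
      have : y = ⟨x, hx⟩ := Subtype.ext hye
      rwa [← this]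
    have hbot : (⊥ : Subgroup ↥R) = ⊤ := frattini_nongenerating (K := ⊥) (by rw [htop]; simp)
    obtain ⟨s, hs, y, hy, hs1⟩ := hRmoved
    apply hs1
    have h3 : (⟨s, hs⟩ : ↥R) ∈ (⊥ : Subgroup ↥R) := by rw [hbot]; trivial
    have h4 : s = 1 := congrArg Subtype.val (Subgroup.mem_bot.mp h3)
    rw [h4]
    simp
  have hDfix : ∀ w ∈ D, ∀ y ∈ Y, y * w * y⁻¹ = w := by
    by_contra hcon
    push Not at hcon
    obtain ⟨w, hw, y, hy, hw1⟩ := hcon
    exact hmin D ⟨hDle.trans hRS, fun g hg => hDconj g (hLR g hg), w, hw, y, hy, hw1⟩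
      (lt_of_le_of_ne hDle hDne)
  have hcomm : ∀ w ∈ D, ∀ r ∈ R, w * r = r * w := by
    intro w hw r hr
    have hrgen : r ∈ ⁅R, Y⁆ := by rw [hR₁eq]; exact hr
    rw [Subgroup.commutator_def] at hrgen
    induction hrgen using Subgroup.closure_induction with
    | mem x hx =>
      obtain ⟨y, hy, a, ha, rfl⟩ := hx
      set y₁ := a * y * a⁻¹ with hy₁
      have hb : ⁅y, a⁆ = y * y₁⁻¹ := by
        rw [commutatorElement_def, hy₁]
        group
      have hu : y⁻¹ ∈ R := R.inv_mem hy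
      have he : w * y⁻¹ * w⁻¹ * y ∈ D := by
        have h1 := hDconj y⁻¹ (fun s hs => R.mul_mem (R.mul_mem hu hs) (R.inv_mem hu)) w⁻¹ (D.inv_mem hw)
        have e : w * y⁻¹ * w⁻¹ * y = w * (y⁻¹ * w⁻¹ * y⁻¹⁻¹) := by group
        rw [e]
        exact D.mul_mem hw h1
      have hef := hDfix _ he a ha
      have hwf := hDfix w hw a ha
      have h2 : a * (w * y⁻¹ * w⁻¹ * y) * a⁻¹ = w * y₁⁻¹ * w⁻¹ * y₁ := by
        calc a * (w * y⁻¹ * w⁻¹ * y) * a⁻¹
            = (a * w * a⁻¹) * (a * y * a⁻¹)⁻¹ * (a * w * a⁻¹)⁻¹ * (a * y * a⁻¹) := by group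
          _ = w * y₁⁻¹ * w⁻¹ * y₁ := by rw [hwf]
      rw [h2] at hef
      rw [hb]
      have h3 : y₁⁻¹ * w⁻¹ * y₁ = y⁻¹ * w⁻¹ * y := by
        have := mul_left_cancel (a := w) (b := y₁⁻¹ * w⁻¹ * y₁) (c := y⁻¹ * w⁻¹ * y) (by
          calc w * (y₁⁻¹ * w⁻¹ * y₁) = w * y₁⁻¹ * w⁻¹ * y₁ := by group
            _ = w * y⁻¹ * w⁻¹ * y := hef
            _ = w * (y⁻¹ * w⁻¹ * y) := by group)
        exact this
      have h4 : (y * y₁⁻¹) * w⁻¹ = w⁻¹ * (y * y₁⁻¹) := by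
        have h5 : y₁⁻¹ * w⁻¹ = y⁻¹ * w⁻¹ * y * y₁⁻¹ := by
          rw [← h3]
          group
        calc (y * y₁⁻¹) * w⁻¹ = y * (y₁⁻¹ * w⁻¹) := by group
          _ = y * (y⁻¹ * w⁻¹ * y * y₁⁻¹) := by rw [h5]
          _ = w⁻¹ * (y * y₁⁻¹) := by group
      calc w * (y * y₁⁻¹) = w * ((y * y₁⁻¹) * w⁻¹) * w := by group
        _ = w * (w⁻¹ * (y * y₁⁻¹)) * w := by rw [h4]
        _ = (y * y₁⁻¹) * w := by group
    | one => simp
    | mul x y hx' hy' hx hy =>
      have hxR : x ∈ R := by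
        have : x ∈ ⁅R, Y⁆ := by rw [Subgroup.commutator_def]; exact hx'
        rwa [hR₁eq] at this
      have hyR : y ∈ R := by
        have : y ∈ ⁅R, Y⁆ := by rw [Subgroup.commutator_def]; exact hy'
        rwa [hR₁eq] at this
      rw [← mul_assoc, hx hxR, mul_assoc, hy hyR, mul_assoc]
    | inv x hx' hx =>
      have hxR : x ∈ R := by
        have : x ∈ ⁅R, Y⁆ := by rw [Subgroup.commutator_def]; exact hx'
        rwa [hR₁eq] at this
      have := hx hxR
      calc w * x⁻¹ = x⁻¹ * (x * w) * x⁻¹ := by group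
        _ = x⁻¹ * (w * x) * x⁻¹ := by rw [this]
        _ = x⁻¹ * w := by group
  have hcomm1 : ∀ x ∈ R, ∀ y ∈ R, ∀ u ∈ R, ⁅x, y⁆ * u = u * ⁅x, y⁆ := fun x hx y hy u hu =>
    hcomm _ (Subgroup.subset_closure (Or.inr ⟨x, hx, y, hy, rfl⟩)) u hu
  have hcomm2 : ∀ x ∈ R, ∀ u ∈ R, x ^ p * u = u * x ^ p := fun x hx u hu =>
    hcomm _ (Subgroup.subset_closure (Or.inl ⟨x, hx, rfl⟩)) u hu
  have hpow : ∀ x ∈ R, ∀ y ∈ R, (x * y) ^ p = x ^ p * y ^ p := by
    intro x hx y hy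
    refine pow_hom hpp hp (c := ⁅y, x⁆) ?_ (hcomm1 y hy x hx x hx) (hcomm1 y hy x hx y hy)
      (hcomm2 y hy x hx)
    rw [commutatorElement_def]
    group
  have hexp : ∀ r ∈ R, r ^ p = 1 := by
    intro r hr
    have hrgen : r ∈ ⁅R, Y⁆ := by rw [hR₁eq]; exact hr
    rw [Subgroup.commutator_def] at hrgen
    induction hrgen using Subgroup.closure_induction with
    | mem x hx =>
      obtain ⟨y, hy, a, ha, rfl⟩ := hx
      have h1 : ⁅y, a⁆ = y * (a * y⁻¹ * a⁻¹) := by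
        rw [commutatorElement_def]
        group
      have haR := hLR a (hYL a ha) _ (R.inv_mem hy)
      rw [h1, hpow y hy _ haR, conj_pow, inv_pow]
      have h2 := hDfix _ (Subgroup.subset_closure (Or.inl ⟨y, hy, rfl⟩)) a ha
      have h3 : a * (y ^ p)⁻¹ * a⁻¹ = (a * y ^ p * a⁻¹)⁻¹ := by group
      rw [h3, h2]
      simp
    | one => simp
    | mul x y hx' hy' hx hy =>
      have hxR : x ∈ R := by
        have : x ∈ ⁅R, Y⁆ := by rw [Subgroup.commutator_def]; exact hx'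
        rwa [hR₁eq] at this
      have hyR : y ∈ R := by
        have : y ∈ ⁅R, Y⁆ := by rw [Subgroup.commutator_def]; exact hy'
        rwa [hR₁eq] at this
      rw [hpow x hxR y hyR, hx hxR, hy hyR, one_mul]
    | inv x hx' hx =>
      have hxR : x ∈ R := by
        have : x ∈ ⁅R, Y⁆ := by rw [Subgroup.commutator_def]; exact hx'
        rwa [hR₁eq] at this
      rw [inv_pow, hx hxR, inv_one]
  exact ⟨R, hRS, hLR, hRmoved, hR₁eq, hexp, hcomm1⟩

end Minimal

section Core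

open scoped commutatorElement

variable {Γ : Type*} [Group Γ] [Finite Γ] {p : ℕ} [hpf : Fact p.Prime]

lemma eq_one_of_mem_both {U Q : Subgroup Γ} (hU : (Nat.card U).Coprime p) (hQ : IsPGroup p Q) {w : Γ}
    (hwU : w ∈ U) (hwQ : w ∈ Q) : w = 1 := by
  obtain ⟨n, hn⟩ := hQ ⟨w, hwQ⟩
  have h1 : w ^ p ^ n = 1 := congrArg Subtype.val hn
  have h2 : orderOf w ∣ Nat.card U := by
    have := orderOf_dvd_natCard (⟨w, hwU⟩ : U)
    rwa [Subgroup.orderOf_mk] at this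
  have h3 : orderOf w = 1 := Nat.eq_one_of_dvd_coprimes (Nat.Coprime.pow_right n hU) h2
    (orderOf_dvd_of_pow_eq_one h1)
  exact orderOf_eq_one_iff.mp h3

lemma commute_of_mem {Q₀ U : Subgroup Γ} (hn : Q₀.Normal) (hQ₀ : IsPGroup p Q₀)
    (hU : (Nat.card U).Coprime p) {β : Γ} (hβ : β ∈ Q₀) (hUβ : ∀ u ∈ U, β * u * β⁻¹ ∈ U) :
    ∀ u ∈ U, β * u = u * β := by
  intro u hu
  have h1 : β * u * β⁻¹ * u⁻¹ ∈ U := U.mul_mem (hUβ u hu) (U.inv_mem hu)
  have h2 : β * u * β⁻¹ * u⁻¹ ∈ Q₀ := by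
    have e : β * u * β⁻¹ * u⁻¹ = β * (u * β⁻¹ * u⁻¹) := by group
    rw [e]
    exact Q₀.mul_mem hβ (hn.conj_mem _ (Q₀.inv_mem hβ) u)
  have h3 := eq_one_of_mem_both hU hQ₀ h1 h2
  calc β * u = (β * u * β⁻¹ * u⁻¹) * (u * β) := by group
    _ = u * β := by rw [h3, one_mul]

omit [Finite Γ] in
lemma zpowers_isPGroup {x : Γ} (hx : x ^ p = 1) : IsPGroup p (Subgroup.zpowers x) := by
  intro g
  obtain ⟨g, k, rfl⟩ := g
  refine ⟨1, ?_⟩
  apply Subtype.ext
  simp only [Subgroup.coe_pow, Subgroup.coe_one, pow_one]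
  rw [← zpow_natCast, ← zpow_mul, mul_comm, zpow_mul, zpow_natCast, hx, one_zpow]

/-- Existence of the element with non-trivial centralizer. -/
lemma exists_fixed_line (hpp : p.Prime) {b₀ b₁ : Γ} (hc : Commute b₁ b₀) (hb₀p : b₀ ^ p = 1) (hb₁p : b₁ ^ p = 1)
    (U : Subgroup Γ) (hU : (Nat.card U).Coprime p) (hb₀ : ∀ u ∈ U, b₀ * u * b₀⁻¹ ∈ U)
    (hb₁ : ∀ u ∈ U, b₁ * u * b₁⁻¹ ∈ U) (hne : U ≠ ⊥) :
    U ⊓ Subgroup.centralizer {b₀} ≠ ⊥ ∨ ∃ i < p, U ⊓ Subgroup.centralizer {b₁ * b₀ ^ i} ≠ ⊥ := by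
  have hnorm : ∀ x : Γ, (∀ u ∈ U, x * u * x⁻¹ ∈ U) → x ∈ Subgroup.normalizer (U : Set Γ) := by
    intro x hx
    have hmap : ∀ y : Γ, (∀ u ∈ U, y * u * y⁻¹ ∈ U) → U.map (MulAut.conj y).toMonoidHom = U := by
      intro y hy
      apply Subgroup.eq_of_le_of_card_ge
      · rintro _ ⟨u, hu, rfl⟩
        exact hy u hu
      · rw [Subgroup.card_map_of_injective (MulAut.conj y).injective]
    rw [Subgroup.mem_normalizer_iff]
    intro h
    constructor
    · exact hx h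
    · intro hh
      have h3 : x * h * x⁻¹ ∈ U.map (MulAut.conj x).toMonoidHom := by
        rw [hmap x hx]
        exact hh
      obtain ⟨u, hu, hue⟩ := h3
      have h4 : u = h := by
        have h2 : x * u * x⁻¹ = x * h * x⁻¹ := hue
        simpa using h2
      rwa [← h4]
  have h := Cfsg.Agent.H13.fixGen_eq (p := p) hU hc hb₁p hb₀p (hnorm _ hb₁) (hnorm _ hb₀)
  by_contra hcon
  push Not at hcon
  obtain ⟨h1, h2⟩ := hcon
  apply hne
  rw [← h]
  unfold Cfsg.Agent.H13.fixGen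
  rw [iSup_eq_bot]
  rintro ⟨x, hx⟩
  rcases hx with rfl | ⟨i, hi, rfl⟩
  · exact h1
  · exact h2 i hi


/-- A `p`-group acting on a nontrivial `p`-group has a nontrivial fixed point. -/
lemma exists_fixed_p {B R : Subgroup Γ} (hB : IsPGroup p B) (hR : IsPGroup p R)
    (hBR : ∀ β ∈ B, ∀ r ∈ R, β * r * β⁻¹ ∈ R) (hne : R ≠ ⊥) :
    ∃ t ∈ R, t ≠ 1 ∧ ∀ β ∈ B, β * t = t * β := by
  classical
  letI : MulAction B R :=
    { smul := fun g r => ⟨(g : Γ) * r * (g : Γ)⁻¹, hBR g g.2 r r.2⟩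
      one_smul := fun r => Subtype.ext (by
        change ((1 : B) : Γ) * r * ((1 : B) : Γ)⁻¹ = r
        simp)
      mul_smul := fun g h r => Subtype.ext (by
        change ((g * h : B) : Γ) * r * ((g * h : B) : Γ)⁻¹ = (g : Γ) * ((h : Γ) * r * (h : Γ)⁻¹) * (g : Γ)⁻¹
        simp only [Subgroup.coe_mul]
        group) }
  have hsm : ∀ (g : B) (r : R), ((g • r : R) : Γ) = (g : Γ) * r * (g : Γ)⁻¹ := fun g r => rfl
  have hdvd : p ∣ Nat.card R := by
    obtain ⟨n, hn⟩ := IsPGroup.iff_card.mp hR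
    rw [hn]
    rcases n with _ | n
    · exfalso
      rw [pow_zero] at hn
      exact hne ((Subgroup.card_eq_one).mp hn)
    · exact dvd_pow_self _ (Nat.succ_ne_zero n)
  have h1 : (1 : R) ∈ MulAction.fixedPoints B R := by
    intro g
    apply Subtype.ext
    rw [hsm]
    simp
  obtain ⟨t, ht, hne1⟩ := IsPGroup.exists_fixed_point_of_prime_dvd_card_of_fixed_point hB R hdvd h1
  refine ⟨t, t.2, fun h => hne1 (Subtype.ext h.symm), ?_⟩
  intro β hβ
  have := ht ⟨β, hβ⟩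
  have h2 : β * t * β⁻¹ = t := congrArg Subtype.val this
  calc β * t = (β * t * β⁻¹) * β := by group
    _ = t * β := by rw [h2]

/-- The common part: the minimal subgroup in `C_{O_p}(b)`. -/
lemma exists_R_in (hp : p ≠ 2) (hΓ : IsPSolvable p Γ) (hO : pPrimeCore p Γ = ⊥)
    (B : Subgroup Γ) (hBc : ∀ x ∈ B, ∀ y ∈ B, x * y = y * x) (hBe : ∀ x ∈ B, x ^ p = 1)
    (U : Subgroup Γ) (hU : (Nat.card U).Coprime p) (hUB : ∀ β ∈ B, ∀ u ∈ U, β * u * β⁻¹ ∈ U)
    {b : Γ} (hb : b ∈ B) (hY : U ⊓ Subgroup.centralizer {b} ≠ ⊥) :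
    ∃ R : Subgroup Γ, R ≤ pCore p Γ ∧ R ≤ Subgroup.centralizer {b} ∧
      (∀ g ∈ U ⊓ Subgroup.centralizer {b}, ∀ r ∈ R, g * r * g⁻¹ ∈ R) ∧
      (∀ g ∈ B, ∀ r ∈ R, g * r * g⁻¹ ∈ R) ∧
      (∃ s ∈ R, ∃ y ∈ U ⊓ Subgroup.centralizer {b}, y * s * y⁻¹ ≠ s) ∧
      ⁅R, U ⊓ Subgroup.centralizer {b}⁆ = R ∧ (∀ x ∈ R, x ^ p = 1) ∧
      (∀ x ∈ R, ∀ y ∈ R, ∀ u ∈ R, ⁅x, y⁆ * u = u * ⁅x, y⁆) := by
  classical
  have hpp : p.Prime := hpf.out
  set Y := U ⊓ Subgroup.centralizer {b} with hYdef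
  set Q₀ := pCore p Γ with hQ₀
  have hn : Q₀.Normal := Cfsg.Agent.H01.pCore_normal p
  have hQp : IsPGroup p Q₀ := Cfsg.Agent.H01.pCore_isPGroup p
  have mem_c : ∀ {x : Γ}, x ∈ Subgroup.centralizer {b} ↔ x * b = b * x := by
    intro x
    rw [Subgroup.mem_centralizer_singleton_iff]
  have conj_c : ∀ g x : Γ, g * b = b * g → x * b = b * x → (g * x * g⁻¹) * b = b * (g * x * g⁻¹) := by
    intro g x hg hx
    have hg' : g⁻¹ * b = b * g⁻¹ := by
      have : Commute g b := hg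
      exact this.inv_left.eq
    calc g * x * g⁻¹ * b = g * x * (g⁻¹ * b) := by group
      _ = g * (x * b) * g⁻¹ := by rw [hg']; group
      _ = (g * b) * x * g⁻¹ := by rw [hx]; group
      _ = b * (g * x * g⁻¹) := by rw [hg]; group
  have hYc : (Nat.card Y).Coprime p :=
    Nat.Coprime.coprime_dvd_left (Subgroup.card_dvd_of_le inf_le_left) hU
  -- moved
  have hmoved : ∃ s ∈ Q₀ ⊓ Subgroup.centralizer {b}, ∃ y ∈ Y, y * s * y⁻¹ ≠ s := by
    by_contra hcon
    push Not at hcon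
    have h1 := Cfsg.Agent.H01.thompson_PxQ p (Subgroup.zpowers b) Y Q₀ (zpowers_isPGroup (hBe b hb)) hYc hQp
      (by
        rw [Subgroup.zpowers_le, Subgroup.mem_centralizer_iff]
        intro y hy
        exact (mem_c.mp hy.2))
      (by
        rw [Subgroup.normalizer_eq_top_iff.mpr hn]
        exact le_top)
      (by
        rw [Subgroup.normalizer_eq_top_iff.mpr hn]
        exact le_top)
      (by
        rintro s ⟨hs, hsc⟩
        rw [Subgroup.mem_centralizer_iff]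
        intro y hy
        have hsc' : s ∈ Subgroup.centralizer (Subgroup.zpowers b : Set Γ) := hsc
        have hsb : s ∈ Subgroup.centralizer {b} :=
          mem_c.mpr ((Subgroup.mem_centralizer_iff.mp hsc') b (Subgroup.mem_zpowers b)).symm
        have := hcon s ⟨hs, hsb⟩ y hy
        calc y * s = (y * s * y⁻¹) * y := by group
          _ = s * y := by rw [this])
    have h2 : Y ≤ Q₀ := by
      intro y hy
      apply Cfsg.Agent.H03.centralizer_pCore_le_of_isPSolvable hΓ hO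
      rw [Subgroup.mem_centralizer_iff]
      intro s hs
      exact (Subgroup.le_centralizer_iff.mp h1 hs y hy).symm
    apply hY
    rw [eq_bot_iff]
    intro y hy
    rw [Subgroup.mem_bot]
    exact eq_one_of_mem_both hYc hQp hy (h2 hy)
  obtain ⟨R, hRS, hRL, hRmoved, hRcomm, hRexp, hRcen⟩ := exists_R (p := p) hp ((Y : Set Γ) ∪ (B : Set Γ)) Y
    (Q₀ ⊓ Subgroup.centralizer {b}) (fun y hy => Or.inl hy)
    (by
      rintro g (hg | hg) y hy
      · exact Y.mul_mem (Y.mul_mem hg hy) (Y.inv_mem hg)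
      · exact ⟨hUB g hg y hy.1, mem_c.mpr (conj_c g y (hBc g hg b hb) (mem_c.mp hy.2))⟩)
    hYc (hQp.to_le inf_le_left)
    (by
      rintro g (hg | hg) s hs
      · exact ⟨hn.conj_mem s hs.1 g, mem_c.mpr (conj_c g s (mem_c.mp hg.2) (mem_c.mp hs.2))⟩
      · exact ⟨hn.conj_mem s hs.1 g, mem_c.mpr (conj_c g s (hBc g hg b hb) (mem_c.mp hs.2))⟩)
    hmoved
  exact ⟨R, hRS.trans inf_le_left, hRS.trans inf_le_right, fun g hg r hr => hRL g (Or.inl hg) r hr,
    fun g hg r hr => hRL g (Or.inr hg) r hr, hRmoved, hRcomm, hRexp, hRcen⟩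


/-- The case `C_U(b₀) ≠ 1`. -/
lemma case_A (hp : p ≠ 2) (hΓ : IsPSolvable p Γ) (hO : pPrimeCore p Γ = ⊥)
    (B : Subgroup Γ) (hBc : ∀ x ∈ B, ∀ y ∈ B, x * y = y * x) (hBe : ∀ x ∈ B, x ^ p = 1)
    (b₀ : Γ) (hb₀ : b₀ ∈ B)
    (H1 : ∀ T : Subgroup Γ, T ≤ Subgroup.centralizer {b₀} → (∀ x ∈ T, x ^ p = 1) → ∀ x ∈ T, ∀ y ∈ T, x * y = y * x)
    (H2 : ∀ t : Γ, t ^ p = 1 → (∀ β ∈ B, β * t = t * β) → t ∈ B)
    (U : Subgroup Γ) (hU : (Nat.card U).Coprime p) (hUB : ∀ β ∈ B, ∀ u ∈ U, β * u * β⁻¹ ∈ U)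
    (hY : U ⊓ Subgroup.centralizer {b₀} ≠ ⊥) : False := by
  classical
  obtain ⟨R, hRQ, hRc, hYR, hBR, ⟨s, hs, y, hy, hsy⟩, hRcomm, hRexp, hRcen⟩ :=
    exists_R_in hp hΓ hO B hBc hBe U hU hUB hb₀ hY
  set Y := U ⊓ Subgroup.centralizer {b₀} with hYdef
  have hQp : IsPGroup p (pCore p Γ) := Cfsg.Agent.H01.pCore_isPGroup p
  have hab := H1 R hRc hRexp
  have hRp : IsPGroup p R := hQp.to_le hRQ
  have hBp : IsPGroup p B := fun g => ⟨1, Subtype.ext (by simpa using hBe g g.2)⟩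
  have hne : R ≠ ⊥ := by
    intro h
    rw [h, Subgroup.mem_bot] at hs
    apply hsy
    rw [hs]
    simp
  obtain ⟨t, ht, ht1, htB⟩ := exists_fixed_p hBp hRp hBR hne
  have htmem : t ∈ B := H2 t (hRexp t ht) htB
  have htU := commute_of_mem (Cfsg.Agent.H01.pCore_normal p) hQp hU (hRQ ht) (hUB t htmem)
  have hYN : Y ≤ Subgroup.normalizer (R : Set Γ) := by
    intro g hg
    rw [Subgroup.mem_normalizer_iff]
    intro h
    constructor
    · exact hYR g hg h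
    · intro hh
      have := hYR g⁻¹ (Y.inv_mem hg) _ hh
      have e : g⁻¹ * (g * h * g⁻¹) * g⁻¹⁻¹ = h := by group
      rwa [e] at this
  have hcop : (Nat.card Y).Coprime (Nat.card R) := by
    obtain ⟨n, hn⟩ := IsPGroup.iff_card.mp hRp
    rw [hn]
    exact Nat.Coprime.pow_right _ (Nat.Coprime.coprime_dvd_left (Subgroup.card_dvd_of_le inf_le_left) hU)
  have hbot := Cfsg.Agent.H19.inf_centralizer_eq_bot_of_abelian hab hYN hcop hRcomm
  have hmem : t ∈ R ⊓ Subgroup.centralizer (Y : Set Γ) := by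
    refine ⟨ht, Subgroup.mem_centralizer_iff.mpr ?_⟩
    intro g hg
    exact (htU g hg.1).symm
  rw [hbot, Subgroup.mem_bot] at hmem
  exact ht1 hmem

/-- The case `C_U(b₀) = 1`, `C_U(b) ≠ 1` for `b ∉ ⟨b₀⟩`. -/
lemma case_B (hp : p ≠ 2) (hΓ : IsPSolvable p Γ) (hO : pPrimeCore p Γ = ⊥)
    (B : Subgroup Γ) (hBc : ∀ x ∈ B, ∀ y ∈ B, x * y = y * x) (hBe : ∀ x ∈ B, x ^ p = 1)
    (b₀ : Γ) (hb₀ : b₀ ∈ B) (hb₀1 : b₀ ≠ 1)
    (b : Γ) (hb : b ∈ B)
    (hgen : ∀ t : Γ, b * t = t * b → b₀ * t = t * b₀ → ∀ β ∈ B, β * t = t * β)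
    (H2 : ∀ t : Γ, t ^ p = 1 → (∀ β ∈ B, β * t = t * β) → t ∈ B)
    (U : Subgroup Γ) (hU : (Nat.card U).Coprime p) (hUB : ∀ β ∈ B, ∀ u ∈ U, β * u * β⁻¹ ∈ U)
    (hY₀ : U ⊓ Subgroup.centralizer {b₀} = ⊥)
    (hY : U ⊓ Subgroup.centralizer {b} ≠ ⊥) : False := by
  classical
  have hpp : p.Prime := hpf.out
  obtain ⟨R, hRQ, hRc, hYR, hBR, ⟨s, hs, y, hy, hsy⟩, hRcomm, hRexp, hRcen⟩ :=
    exists_R_in hp hΓ hO B hBc hBe U hU hUB hb hY
  set Y := U ⊓ Subgroup.centralizer {b} with hYdef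
  have hQp : IsPGroup p (pCore p Γ) := Cfsg.Agent.H01.pCore_isPGroup p
  have hRp : IsPGroup p R := hQp.to_le hRQ
  let N : Subgroup Γ := Subgroup.normalizer (R : Set Γ)
  have mem_N : ∀ g : Γ, (∀ r ∈ R, g * r * g⁻¹ ∈ R) → (∀ r ∈ R, g⁻¹ * r * g⁻¹⁻¹ ∈ R) → g ∈ N := by
    intro g h1 h2
    change g ∈ Subgroup.normalizer (R : Set Γ)
    rw [Subgroup.mem_normalizer_iff]
    intro h
    constructor
    · exact h1 h
    · intro hh
      have := h2 _ hh
      have e : g⁻¹ * (g * h * g⁻¹) * g⁻¹⁻¹ = h := by group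
      rwa [e] at this
  have hYN : Y ≤ N := fun g hg => mem_N g (hYR g hg) (hYR g⁻¹ (Y.inv_mem hg))
  have hBN : B ≤ N := fun g hg => mem_N g (hBR g hg) (hBR g⁻¹ (B.inv_mem hg))
  have hzb : Subgroup.zpowers b₀ ≤ B := by
    rw [Subgroup.zpowers_le]
    exact hb₀
  let ρ₀ : N →* MulAut R := R.normalizerMonoidHom
  have hρ : ∀ (g : N) (z : R), ((ρ₀ g z : R) : Γ) = (g : Γ) * z * (g : Γ)⁻¹ := fun g z => rfl
  let Z : Subgroup N := Y.subgroupOf N
  let C : Subgroup N := (Subgroup.zpowers b₀).subgroupOf N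
  have hcardZ : Nat.card Z = Nat.card Y := Nat.card_congr (Subgroup.subgroupOfEquivOfLe hYN).toEquiv
  have hcop : (Nat.card Z).Coprime (Nat.card R) := by
    rw [hcardZ]
    obtain ⟨n, hn⟩ := IsPGroup.iff_card.mp hRp
    rw [hn]
    exact Nat.Coprime.pow_right _ (Nat.Coprime.coprime_dvd_left (Subgroup.card_dvd_of_le inf_le_left) hU)
  have hkey := baer_frob (M := R) (Γ := N) (hpp.odd_of_ne_two hp)
    (fun x => Subtype.ext (hRexp x x.2))
    (fun x y u => Subtype.ext (hRcen x x.2 y y.2 u u.2)) ρ₀ Z C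
    (by
      intro r hr z hz
      have h1 : (r : Γ) ∈ B := hzb hr
      have h2 : (z : Γ) ∈ Y := hz
      change ((r : Γ) * z * (r : Γ)⁻¹) ∈ Y
      refine ⟨hUB _ h1 _ h2.1, Subgroup.mem_centralizer_singleton_iff.mpr ?_⟩
      have h3 : (z : Γ) * b = b * z := Subgroup.mem_centralizer_singleton_iff.mp h2.2
      have h4 : Commute (r : Γ) b := hBc _ h1 b hb
      have h5 : Commute (r : Γ)⁻¹ b := h4.inv_left
      calc (r : Γ) * z * (r : Γ)⁻¹ * b = (r : Γ) * z * ((r : Γ)⁻¹ * b) := by group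
        _ = (r : Γ) * (z * b) * (r : Γ)⁻¹ := by rw [h5.eq]; group
        _ = ((r : Γ) * b) * z * (r : Γ)⁻¹ := by rw [h3]; group
        _ = b * ((r : Γ) * z * (r : Γ)⁻¹) := by rw [h4.eq]; group)
    (by
      intro r hr hr1 z hz hzr
      have h1 : (r : Γ) ∈ Subgroup.zpowers b₀ := hr
      have h2 : (z : Γ) ∈ Y := hz
      have hr1' : (r : Γ) ≠ 1 := fun h => hr1 (Subtype.ext h)
      have h3 : b₀ ∈ Subgroup.zpowers (r : Γ) := by
        simpa using Cfsg.Agent.H26.HHCore.mem_zpowers_of_ne_one (p := p) (m := 0)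
          (by simpa using hBe b₀ hb₀) (by simpa using hb₀1) h1 hr1'
      have h4 : (z : Γ) * r = r * z := congrArg Subtype.val hzr
      have h5 : (z : Γ) ∈ Subgroup.centralizer (Subgroup.zpowers (r : Γ) : Set Γ) := by
        refine Subgroup.mem_centralizer_iff.mpr ?_
        rintro _ ⟨k, rfl⟩
        have : Commute (z : Γ) r := h4
        exact ((this.zpow_right k).eq).symm
      have h6 : (z : Γ) * b₀ = b₀ * z := ((Subgroup.mem_centralizer_iff.mp h5) b₀ h3).symm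
      have h7 : (z : Γ) ∈ U ⊓ Subgroup.centralizer {b₀} :=
        ⟨h2.1, Subgroup.mem_centralizer_singleton_iff.mpr h6⟩
      rw [hY₀, Subgroup.mem_bot] at h7
      exact Subtype.ext h7)
    hcop
    (by
      intro t ht z hz
      have h0 : b₀ ∈ Subgroup.zpowers b₀ := Subgroup.mem_zpowers b₀
      have h1 : ((ρ₀ ⟨b₀, hBN hb₀⟩ t : R) : Γ) = t := congrArg Subtype.val (ht ⟨b₀, hBN hb₀⟩ h0)
      rw [hρ] at h1
      have h2 : b₀ * (t : Γ) = t * b₀ := by
        calc b₀ * (t : Γ) = (b₀ * t * b₀⁻¹) * b₀ := by group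
          _ = t * b₀ := by rw [h1]
      have h3 : b * (t : Γ) = t * b := (Subgroup.mem_centralizer_singleton_iff.mp (hRc t.2)).symm
      have htB : (t : Γ) ∈ B := H2 t (hRexp t t.2) (hgen t h3 h2)
      have htU := commute_of_mem (Cfsg.Agent.H01.pCore_normal p) hQp hU (hRQ t.2) (hUB t htB)
      have hz' : (z : Γ) ∈ Y := hz
      apply Subtype.ext
      rw [hρ]
      have := htU z hz'.1
      calc (z : Γ) * t * (z : Γ)⁻¹ = ((t : Γ) * z) * (z : Γ)⁻¹ := by rw [this]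
        _ = t := by group)
  have h := hkey ⟨y, hYN hy⟩ hy ⟨s, hs⟩
  have h2 : ((ρ₀ ⟨y, hYN hy⟩ ⟨s, hs⟩ : R) : Γ) = s := congrArg Subtype.val h
  rw [hρ] at h2
  exact hsy h2

/-- The main theorem in a group with `O_{p'} = 1`. -/
theorem core_main (hp : p ≠ 2) (hΓ : IsPSolvable p Γ) (hO : pPrimeCore p Γ = ⊥)
    (B : Subgroup Γ) (hBc : ∀ x ∈ B, ∀ y ∈ B, x * y = y * x) (hBe : ∀ x ∈ B, x ^ p = 1)
    (b₀ : Γ) (hb₀ : b₀ ∈ B) (hb₀1 : b₀ ≠ 1)
    (hgen : ∀ b ∈ B, b ∉ Subgroup.zpowers b₀ → ∀ t : Γ, b * t = t * b → b₀ * t = t * b₀ →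
      ∀ β ∈ B, β * t = t * β)
    (hex : ∃ b ∈ B, b ∉ Subgroup.zpowers b₀)
    (H1 : ∀ T : Subgroup Γ, T ≤ Subgroup.centralizer {b₀} → (∀ x ∈ T, x ^ p = 1) → ∀ x ∈ T, ∀ y ∈ T, x * y = y * x)
    (H2 : ∀ t : Γ, t ^ p = 1 → (∀ β ∈ B, β * t = t * β) → t ∈ B)
    (U : Subgroup Γ) (hU : (Nat.card U).Coprime p) (hUB : ∀ β ∈ B, ∀ u ∈ U, β * u * β⁻¹ ∈ U) :
    U = ⊥ := by
  classical
  have hpp : p.Prime := hpf.out
  by_contra hne
  by_cases hY₀ : U ⊓ Subgroup.centralizer {b₀} = ⊥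
  · obtain ⟨b₁, hb₁, hb₁z⟩ := hex
    rcases exists_fixed_line hpp (hBc b₁ hb₁ b₀ hb₀) (hBe b₀ hb₀) (hBe b₁ hb₁) U hU (hUB b₀ hb₀) (hUB b₁ hb₁) hne with
      h | ⟨i, hi, h⟩
    · exact h hY₀
    · have hx : b₁ * b₀ ^ i ∈ B := B.mul_mem hb₁ (B.pow_mem hb₀ i)
      refine case_B hp hΓ hO B hBc hBe b₀ hb₀ hb₀1 (b₁ * b₀ ^ i) hx ?_ H2 U hU hUB hY₀ h
      apply hgen _ hx
      intro hmem
      apply hb₁z
      have h2 : b₁ = (b₁ * b₀ ^ i) * (b₀ ^ i)⁻¹ := by group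
      rw [h2]
      exact Subgroup.mul_mem _ hmem (Subgroup.inv_mem _ (Subgroup.pow_mem _ (Subgroup.mem_zpowers b₀) i))
  · exact case_A hp hΓ hO B hBc hBe b₀ hb₀ H1 H2 U hU hUB hY₀

end Core

section Lift

open scoped commutatorElement

variable {G : Type*} [Group G] [Finite G] {p : ℕ} [hpf : Fact p.Prime]

/-- Fixed point on a coset. -/
lemma exists_lift_commute (O : Subgroup G) [O.Normal] (hO : (Nat.card O).Coprime p) {b₀ : G}
    (hb₀ : b₀ ^ p = 1) (x : G)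
    (hx : (QuotientGroup.mk' O x) * QuotientGroup.mk' O b₀ = QuotientGroup.mk' O b₀ * QuotientGroup.mk' O x) :
    ∃ y : G, QuotientGroup.mk' O y = QuotientGroup.mk' O x ∧ y * b₀ = b₀ * y := by
  classical
  have hpp : p.Prime := hpf.out
  set π := QuotientGroup.mk' O with hπ
  have hcomm : ∀ a ∈ Subgroup.zpowers b₀, π a * π x = π x * π a := by
    rintro _ ⟨k, rfl⟩
    have h1 : Commute (π b₀) (π x) := hx.symm
    have h2 : Commute (π b₀ ^ k) (π x) := h1.zpow_left k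
    have h3 : π (b₀ ^ k) = π b₀ ^ k := map_zpow π b₀ k
    change π (b₀ ^ k) * π x = π x * π (b₀ ^ k)
    rw [h3]
    exact h2.eq
  let X : Type _ := {y : G // π y = π x}
  have hconj : ∀ (a : Subgroup.zpowers b₀) (y : X), π ((a : G) * y.1 * (a : G)⁻¹) = π x := by
    intro a y
    rw [map_mul, map_mul, map_inv, y.2, hcomm a a.2]
    group
  letI : MulAction (Subgroup.zpowers b₀) X :=
    { smul := fun a y => ⟨(a : G) * y.1 * (a : G)⁻¹, hconj a y⟩
      one_smul := fun y => Subtype.ext (by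
        change ((1 : Subgroup.zpowers b₀) : G) * y.1 * ((1 : Subgroup.zpowers b₀) : G)⁻¹ = y.1
        simp)
      mul_smul := fun g h r => Subtype.ext (by
        change ((g * h : Subgroup.zpowers b₀) : G) * r.1 * ((g * h : Subgroup.zpowers b₀) : G)⁻¹
          = (g : G) * ((h : G) * r.1 * (h : G)⁻¹) * (g : G)⁻¹
        simp only [Subgroup.coe_mul]
        group) }
  have hcard : Nat.card X = Nat.card O := by
    refine Nat.card_congr ⟨fun y => ⟨x⁻¹ * y.1, ?_⟩, fun o => ⟨x * o.1, ?_⟩, fun y => ?_, fun o => ?_⟩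
    · have : ((x : G) : G ⧸ O) = ((y.1 : G) : G ⧸ O) := y.2.symm
      exact QuotientGroup.eq.mp this
    · have : π o.1 = 1 := by
        rw [hπ]
        exact (QuotientGroup.eq_one_iff o.1).mpr o.2
      rw [map_mul, this, mul_one]
    · apply Subtype.ext
      simp
    · apply Subtype.ext
      simp
  have hnd : ¬ p ∣ Nat.card X := by
    rw [hcard]
    intro hd
    have := Nat.Coprime.eq_one_of_dvd hO.symm hd
    exact hpp.one_lt.ne' this
  obtain ⟨y, hy⟩ := (zpowers_isPGroup hb₀).nonempty_fixed_point_of_prime_not_dvd_card X hnd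
  refine ⟨y.1, y.2, ?_⟩
  have h1 : b₀ * y.1 * b₀⁻¹ = y.1 := congrArg Subtype.val (hy ⟨b₀, Subgroup.mem_zpowers b₀⟩)
  calc y.1 * b₀ = (b₀ * y.1 * b₀⁻¹) * b₀ := by rw [h1]
    _ = b₀ * y.1 := by group

/-- Lifting a `p`-subgroup centralized by the image of `b₀`. -/
lemma exists_lift_pgroup (O : Subgroup G) [O.Normal] (hO : (Nat.card O).Coprime p) {b₀ : G}
    (hb₀ : b₀ ^ p = 1) (Tb : Subgroup (G ⧸ O)) (hT : IsPGroup p Tb)
    (hTc : ∀ t ∈ Tb, t * QuotientGroup.mk' O b₀ = QuotientGroup.mk' O b₀ * t)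
    (B₀ : Subgroup G) (hB₀ : IsPGroup p B₀) (hB₀c : B₀ ≤ Subgroup.centralizer {b₀})
    (hB₀T : ∀ x ∈ B₀, QuotientGroup.mk' O x ∈ Tb) :
    ∃ T₀ : Subgroup G, B₀ ≤ T₀ ∧ T₀ ≤ Subgroup.centralizer {b₀} ∧ IsPGroup p T₀ ∧
      T₀.map (QuotientGroup.mk' O) = Tb := by
  classical
  set π := QuotientGroup.mk' O with hπ
  let H₀ : Subgroup G := Subgroup.centralizer {b₀} ⊓ Tb.comap π
  have hB₀H : B₀ ≤ H₀ := fun x hx => ⟨hB₀c hx, hB₀T x hx⟩
  have hB₀' : IsPGroup p (B₀.subgroupOf H₀) :=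
    hB₀.comap_of_injective H₀.subtype H₀.subtype_injective
  obtain ⟨S, hS⟩ := hB₀'.exists_le_sylow
  let π₀ : H₀ →* Tb := (π.comp H₀.subtype).codRestrict Tb (fun x => x.2.2)
  have hπ₀ : ∀ x : H₀, ((π₀ x : Tb) : G ⧸ O) = π x := fun x => rfl
  have hsurj : Function.Surjective π₀ := by
    rintro ⟨t, ht⟩
    obtain ⟨x, rfl⟩ := QuotientGroup.mk'_surjective O t
    obtain ⟨y, hy, hyc⟩ := exists_lift_commute O hO hb₀ x (hTc _ ht)
    have hyH : y ∈ H₀ := by
      refine ⟨Subgroup.mem_centralizer_singleton_iff.mpr hyc, ?_⟩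
      change π y ∈ Tb
      rw [hy]
      exact ht
    exact ⟨⟨y, hyH⟩, Subtype.ext hy⟩
  let S' : Sylow p Tb := S.mapSurjective hsurj
  have hS' : (S' : Subgroup Tb) = (S : Subgroup H₀).map π₀ := Sylow.coe_mapSurjective hsurj S
  have htop : (⊤ : Subgroup Tb) = (S' : Subgroup Tb) := S'.is_maximal' (hT.to_subgroup ⊤) le_top
  refine ⟨(S : Subgroup H₀).map H₀.subtype, ?_, ?_, S.isPGroup'.map _, ?_⟩
  · intro x hx
    exact ⟨⟨x, hB₀H hx⟩, hS hx, rfl⟩
  · rintro _ ⟨s, hs, rfl⟩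
    exact s.2.1
  · apply le_antisymm
    · rintro _ ⟨_, ⟨s, hs, rfl⟩, rfl⟩
      exact s.2.2
    · intro t ht
      have h1 : (⟨t, ht⟩ : Tb) ∈ (S' : Subgroup Tb) := by
        rw [← htop]
        trivial
      rw [hS'] at h1
      obtain ⟨s, hs, hse⟩ := h1
      have h2 : π s = t := congrArg Subtype.val hse
      exact ⟨s, ⟨s, hs, rfl⟩, h2⟩

/-- Conjugating a `p`-subgroup of the centralizer into the Sylow subgroup. -/
lemma exists_conj_into {b₀ : G} (P : Sylow p ↥(Subgroup.centralizer ({b₀} : Set G)))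
    (T₀ : Subgroup G) (hT : T₀ ≤ Subgroup.centralizer {b₀}) (hTp : IsPGroup p T₀) :
    ∃ c : G, ∀ x ∈ T₀, c * x * c⁻¹ ∈ ((P : Subgroup ↥(Subgroup.centralizer ({b₀} : Set G))).map
      (Subgroup.centralizer ({b₀} : Set G)).subtype : Subgroup G) := by
  classical
  have hT' : IsPGroup p (T₀.subgroupOf (Subgroup.centralizer ({b₀} : Set G))) :=
    hTp.comap_of_injective (Subgroup.centralizer ({b₀} : Set G)).subtype (Subgroup.centralizer ({b₀} : Set G)).subtype_injective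
  obtain ⟨S, hS⟩ := hT'.exists_le_sylow
  obtain ⟨c, hc⟩ := MulAction.exists_smul_eq (Subgroup.centralizer ({b₀} : Set G)) S P
  refine ⟨c, fun x hx => ?_⟩
  have h1 : (⟨x, hT hx⟩ : (Subgroup.centralizer ({b₀} : Set G))) ∈ (S : Subgroup (Subgroup.centralizer ({b₀} : Set G))) := hS hx
  have h2 : (c : (Subgroup.centralizer ({b₀} : Set G))) * ⟨x, hT hx⟩ * (c : (Subgroup.centralizer ({b₀} : Set G)))⁻¹ ∈ (P : Subgroup (Subgroup.centralizer ({b₀} : Set G))) := by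
    rw [← hc, Sylow.coe_subgroup_smul]
    exact ⟨_, h1, rfl⟩
  exact ⟨_, h2, by simp⟩

omit [Finite G] in
/-- A closure of commuting elements of exponent `p`. -/
lemma closure_comm_exp {X : Set G} (hc : ∀ x ∈ X, ∀ y ∈ X, x * y = y * x) (he : ∀ x ∈ X, x ^ p = 1) :
    (∀ w ∈ Subgroup.closure X, ∀ w' ∈ Subgroup.closure X, w * w' = w' * w) ∧
      ∀ w ∈ Subgroup.closure X, w ^ p = 1 := by
  have h1 : ∀ w ∈ Subgroup.closure X, ∀ x ∈ X, w * x = x * w := by
    intro w hw x hx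
    induction hw using Subgroup.closure_induction with
    | mem y hy => exact hc y hy x hx
    | one => simp
    | mul a b _ _ ha hb =>
      have c1 : Commute a x := ha
      have c2 : Commute b x := hb
      exact (c1.mul_left c2).eq
    | inv a _ ha =>
      have c1 : Commute a x := ha
      exact c1.inv_left.eq
  have h2 : ∀ w ∈ Subgroup.closure X, ∀ w' ∈ Subgroup.closure X, w * w' = w' * w := by
    intro w hw w' hw'
    induction hw' using Subgroup.closure_induction with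
    | mem y hy => exact h1 w hw y hy
    | one => simp
    | mul a b _ _ ha hb =>
      have c1 : Commute w a := ha
      have c2 : Commute w b := hb
      exact (c1.mul_right c2).eq
    | inv a _ ha =>
      have c1 : Commute w a := ha
      exact c1.inv_right.eq
  refine ⟨h2, ?_⟩
  intro w hw
  induction hw using Subgroup.closure_induction with
  | mem y hy => exact he y hy
  | one => simp
  | mul a b ha' hb' ha hb =>
    have c1 : Commute a b := h2 a ha' b hb'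
    rw [c1.mul_pow, ha, hb, one_mul]
  | inv a _ ha => rw [inv_pow, ha, inv_one]

end Lift

theorem result {G : Type*} [Group G] [Finite G] {p : ℕ} [Fact p.Prime] (hp : p ≠ 2)
    (hG : Cfsg.IsPSolvable p G) (B : Subgroup G) (hB : Cfsg.IsElementaryAbelian p B) (hBc : Nat.card B = p ^ 2)
    (b₀ : G) (hb₀ : b₀ ∈ B) (hb₁ : b₀ ≠ 1) (P : Sylow p ↥(Subgroup.centralizer ({b₀} : Set G)))
    (hBP : B = Subgroup.closure {x : G | x ∈ ((P : Subgroup ↥(Subgroup.centralizer ({b₀} : Set G))).map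
      (Subgroup.centralizer ({b₀} : Set G)).subtype : Subgroup G) ∧ orderOf x = p})
    (Q : Subgroup G) (hQ : ¬ p ∣ Nat.card Q) (hinv : ∀ b ∈ B, ∀ x ∈ Q, b * x * b⁻¹ ∈ Q) :
    Q ≤ Cfsg.pPrimeCore p G := by
  classical
  have hpp : p.Prime := Fact.out
  set O := Cfsg.pPrimeCore p G with hOdef
  haveI hOn : O.Normal := Cfsg.Agent.H03.pPrimeCore_normal'
  have hOc : (Nat.card O).Coprime p := Cfsg.Agent.H06.coprime_card_pPrimeCore p
  set π := QuotientGroup.mk' O with hπ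
  have hker : π.ker = O := QuotientGroup.ker_mk' O
  have hπ1 : ∀ x, π x = 1 ↔ x ∈ O := fun x => QuotientGroup.eq_one_iff x
  have hsurj : Function.Surjective π := QuotientGroup.mk'_surjective O
  obtain ⟨hBcomm, hBe⟩ := hB
  have hBc' : ∀ x ∈ B, ∀ y ∈ B, x * y = y * x := by
    intro x hx y hy
    have := mul_comm' (⟨x, hx⟩ : B) ⟨y, hy⟩
    exact congrArg Subtype.val this
  have hBp : IsPGroup p B := fun g => ⟨1, Subtype.ext (by simpa using hBe g g.2)⟩
  have hb₀p : b₀ ^ p = 1 := hBe b₀ hb₀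
  -- `B` meets `O` trivially
  have hBO : ∀ x ∈ B, x ∈ O → x = 1 := fun x hx hxO => eq_one_of_mem_both hOc hBp hxO hx
  have hΩ : ∀ x ∈ ((P : Subgroup ↥(Subgroup.centralizer ({b₀} : Set G))).map
      (Subgroup.centralizer ({b₀} : Set G)).subtype : Subgroup G), x ^ p = 1 → x ∈ B := by
    intro x hx hxp
    by_cases hx1 : x = 1
    · rw [hx1]
      exact B.one_mem
    · rw [hBP]
      exact Subgroup.subset_closure ⟨hx, orderOf_eq_prime hxp hx1⟩
  have hcz : Nat.card (Subgroup.zpowers b₀) = p := by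
    rw [Nat.card_zpowers]
    exact orderOf_eq_prime hb₀p hb₁
  have hzB : Subgroup.zpowers b₀ ≤ B := by
    rw [Subgroup.zpowers_le]
    exact hb₀
  -- `B = ⟨b, b₀⟩`
  have hgen0 : ∀ b ∈ B, b ∉ Subgroup.zpowers b₀ → B ≤ Subgroup.closure {b, b₀} := by
    intro b hb hbz
    set K := Subgroup.closure ({b, b₀} : Set G) with hK
    have hKB : K ≤ B := by
      rw [hK, Subgroup.closure_le]
      rintro x (rfl | hx)
      · exact hb
      · rw [Set.mem_singleton_iff.mp hx]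
        exact hb₀
    have hzK : Subgroup.zpowers b₀ ≤ K := by
      rw [Subgroup.zpowers_le]
      exact Subgroup.subset_closure (Or.inr rfl)
    have hbK : b ∈ K := Subgroup.subset_closure (Or.inl rfl)
    have hd1 : Nat.card K ∣ p ^ 2 := by
      rw [← hBc]
      exact Subgroup.card_dvd_of_le hKB
    have hd2 : p ∣ Nat.card K := by
      rw [← hcz]
      exact Subgroup.card_dvd_of_le hzK
    obtain ⟨k, hk2, hk⟩ := (Nat.dvd_prime_pow hpp).mp hd1
    have hk3 : k = 2 := by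
      by_contra hk3
      have hk1 : k ≤ 1 := by omega
      have hcK : Nat.card K ≤ p := by
        rw [hk]
        calc p ^ k ≤ p ^ 1 := Nat.pow_le_pow_right hpp.pos hk1
          _ = p := pow_one p
      have : Subgroup.zpowers b₀ = K := Subgroup.eq_of_le_of_card_ge hzK (by rw [hcz]; exact hcK)
      rw [← this] at hbK
      exact hbz hbK
    have : K = B := Subgroup.eq_of_le_of_card_ge hKB (by rw [hBc, hk, hk3])
    rw [this]
  have hex0 : ∃ b ∈ B, b ∉ Subgroup.zpowers b₀ := by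
    by_contra hcon
    push Not at hcon
    have h1 : B ≤ Subgroup.zpowers b₀ := hcon
    have h2 := Nat.card_le_card_of_injective _ (Subgroup.inclusion_injective h1)
    rw [hBc, hcz] at h2
    have := hpp.two_le
    nlinarith
  -- mapping non-membership
  have hmapz : ∀ b ∈ B, b ∉ Subgroup.zpowers b₀ → π b ∉ Subgroup.zpowers (π b₀) := by
    rintro b hb hbz ⟨k, hk⟩
    apply hbz
    have h1 : π (b₀ ^ k) = π b := by
      rw [map_zpow]
      exact hk
    have h2 : (b₀ ^ k)⁻¹ * b ∈ O := by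
      rw [← hπ1, map_mul, map_inv, h1]
      simp
    have h3 := hBO _ (B.mul_mem (B.inv_mem (B.zpow_mem hb₀ k)) hb) h2
    have h4 : b = b₀ ^ k := by
      have := eq_of_inv_mul_eq_one h3
      exact this.symm
    rw [h4]
    exact ⟨k, rfl⟩
  -- exponent of lifts
  have hexpT : ∀ (T₀ : Subgroup G), IsPGroup p T₀ → (∀ x ∈ T₀, π x ^ p = 1) → ∀ x ∈ T₀, x ^ p = 1 := by
    intro T₀ hT₀ h x hx
    have h1 : x ^ p ∈ O := by
      rw [← hπ1, map_pow]
      exact h x hx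
    exact eq_one_of_mem_both hOc hT₀ h1 (T₀.pow_mem hx p)
  have hU : Nat.card (Q.map π) ∣ Nat.card Q := Subgroup.card_map_dvd _ _
  have hmain : Q.map π = ⊥ := by
    refine core_main (Γ := G ⧸ O) hp (Cfsg.Agent.H03.isPSolvable_of_surjective hsurj hG)
      (Cfsg.Agent.H08.pPrimeCore_quotient_eq_bot p) (B.map π) ?_ ?_ (π b₀) ⟨b₀, hb₀, rfl⟩ ?_ ?_ ?_ ?_ ?_ (Q.map π) ?_ ?_
    · rintro _ ⟨x, hx, rfl⟩ _ ⟨y, hy, rfl⟩
      rw [← map_mul, ← map_mul, hBc' x hx y hy]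
    · rintro _ ⟨x, hx, rfl⟩
      rw [← map_pow, hBe x hx, map_one]
    · intro h
      exact hb₁ (hBO _ hb₀ ((hπ1 _).mp h))
    · rintro _ ⟨b, hb, rfl⟩ hbz t h1 h2 _ ⟨β, hβ, rfl⟩
      have hbz' : b ∉ Subgroup.zpowers b₀ := by
        intro h
        obtain ⟨k, hk⟩ := h
        apply hbz
        refine ⟨k, ?_⟩
        rw [← hk, map_zpow]
      have h3 : Subgroup.closure ({b, b₀} : Set G) ≤
          (Subgroup.centralizer ({t} : Set (G ⧸ O))).comap π := by
        rw [Subgroup.closure_le]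
        rintro x (rfl | hx)
        · exact Subgroup.mem_centralizer_singleton_iff.mpr h1
        · rw [Set.mem_singleton_iff.mp hx]
          exact Subgroup.mem_centralizer_singleton_iff.mpr h2
      exact Subgroup.mem_centralizer_singleton_iff.mp (h3 (hgen0 b hb hbz' hβ))
    · obtain ⟨b, hb, hbz⟩ := hex0
      exact ⟨π b, ⟨b, hb, rfl⟩, hmapz b hb hbz⟩
    · -- H1
      intro T hTc hTe x hx y hy
      have hTp : IsPGroup p T := fun g => ⟨1, Subtype.ext (by simpa using hTe g g.2)⟩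
      obtain ⟨T₀, -, hT₀c, hT₀p, hT₀m⟩ := exists_lift_pgroup O hOc hb₀p T hTp
        (fun t ht => Subgroup.mem_centralizer_singleton_iff.mp (hTc ht)) ⊥ IsPGroup.of_bot
        bot_le (by
          intro x hx
          rw [Subgroup.mem_bot.mp hx, map_one]
          exact T.one_mem)
      have hT₀e := hexpT T₀ hT₀p (fun x hx => hTe _ (by rw [← hT₀m]; exact ⟨x, hx, rfl⟩))
      obtain ⟨c, hc⟩ := exists_conj_into P T₀ hT₀c hT₀p
      rw [← hT₀m] at hx hy
      obtain ⟨x, hx, rfl⟩ := hx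
      obtain ⟨y, hy, rfl⟩ := hy
      have hxB : c * x * c⁻¹ ∈ B := hΩ _ (hc x hx) (by
        rw [conj_pow, hT₀e x hx]
        simp)
      have hyB : c * y * c⁻¹ ∈ B := hΩ _ (hc y hy) (by
        rw [conj_pow, hT₀e y hy]
        simp)
      have h1 := hBc' _ hxB _ hyB
      have h2 : x * y = y * x := by
        have e1 : c * x * c⁻¹ * (c * y * c⁻¹) = c * (x * y) * c⁻¹ := by group
        have e2 : c * y * c⁻¹ * (c * x * c⁻¹) = c * (y * x) * c⁻¹ := by group
        rw [e1, e2] at h1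
        simpa using h1
      rw [← map_mul, ← map_mul, h2]
    · -- H2
      intro t htp htc
      let X : Set (G ⧸ O) := (B.map π : Set (G ⧸ O)) ∪ {t}
      have hXc : ∀ x ∈ X, ∀ y ∈ X, x * y = y * x := by
        rintro x (⟨a, ha, rfl⟩ | hx) y (⟨a', ha', rfl⟩ | hy)
        · rw [← map_mul, ← map_mul, hBc' a ha a' ha']
        · rw [Set.mem_singleton_iff.mp hy]
          exact (htc _ ⟨a, ha, rfl⟩)
        · rw [Set.mem_singleton_iff.mp hx]
          exact (htc _ ⟨a', ha', rfl⟩).symm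
        · rw [Set.mem_singleton_iff.mp hx, Set.mem_singleton_iff.mp hy]
      have hXe : ∀ x ∈ X, x ^ p = 1 := by
        rintro x (⟨a, ha, rfl⟩ | hx)
        · rw [← map_pow, hBe a ha, map_one]
        · rw [Set.mem_singleton_iff.mp hx]
          exact htp
      obtain ⟨hTab, hTe⟩ := closure_comm_exp hXc hXe
      set Tb := Subgroup.closure X with hTb
      have hb₀X : π b₀ ∈ Tb := Subgroup.subset_closure (Or.inl ⟨b₀, hb₀, rfl⟩)
      have hTp : IsPGroup p Tb := fun g => ⟨1, Subtype.ext (by simpa using hTe g g.2)⟩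
      obtain ⟨T₀, hBT, hT₀c, hT₀p, hT₀m⟩ := exists_lift_pgroup O hOc hb₀p Tb hTp
        (fun x hx => hTab x hx _ hb₀X) B hBp
        (fun x hx => Subgroup.mem_centralizer_singleton_iff.mpr (hBc' x hx b₀ hb₀))
        (fun x hx => Subgroup.subset_closure (Or.inl ⟨x, hx, rfl⟩))
      have hT₀e := hexpT T₀ hT₀p (fun x hx => hTe _ (by rw [← hT₀m]; exact ⟨x, hx, rfl⟩))
      obtain ⟨c, hc⟩ := exists_conj_into P T₀ hT₀c hT₀p
      have hmemB : ∀ x ∈ T₀, c * x * c⁻¹ ∈ B := fun x hx => hΩ _ (hc x hx) (by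
        rw [conj_pow, hT₀e x hx]
        simp)
      have hcard : Nat.card T₀ ≤ Nat.card B := by
        refine Nat.card_le_card_of_injective (fun x : T₀ => (⟨c * x * c⁻¹, hmemB x x.2⟩ : B)) ?_
        intro x y hxy
        have h1 : c * (x : G) * c⁻¹ = c * y * c⁻¹ := congrArg Subtype.val hxy
        apply Subtype.ext
        simpa using h1
      have hT₀B : B = T₀ := Subgroup.eq_of_le_of_card_ge hBT hcard
      have htT : t ∈ Tb := Subgroup.subset_closure (Or.inr rfl)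
      rw [← hT₀m, ← hT₀B] at htT
      exact htT
    · exact Nat.Coprime.coprime_dvd_left hU ((Nat.Prime.coprime_iff_not_dvd hpp).mpr hQ).symm
    · rintro _ ⟨β, hβ, rfl⟩ _ ⟨u, hu, rfl⟩
      exact ⟨β * u * β⁻¹, hinv β hβ u hu, by simp⟩
  rw [Subgroup.map_eq_bot_iff] at hmain
  rwa [hker] at hmain

end Cfsg.Agent.S1902
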