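import Cfsg.Statements.S1922
import Mathlib
import Cfsg.Agent.Lib.H08.Basic
import Cfsg.Agent.Lib.H13.Basic
-- import your own Cfsg.Agent.* helpers here

set_option autoImplicit false
open Cfsg

namespace Cfsg.Agent.S1922

set_option linter.style.haveILetI false

open Subgroup

theorem odd_card_of_involutive {α : Type*} [Finite α] (f : α → α) (hf : Function.Involutive f) (a : α)
    (hfix : ∀ b, f b = b ↔ b = a) : Odd (Nat.card α) := by
  classical
  letI := Fintype.ofFinite α
  haveI : Fact (Nat.Prime 2) := ⟨Nat.prime_two⟩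
  let F : Function.End α := f
  have hF : F ^ 2 ^ 1 = 1 := by
    funext x
    show f (f x) = x
    exact hf x
  have h1 := Equiv.Perm.card_fixedPoints_modEq hF
  have h2 : Fintype.card (Function.fixedPoints F) = 1 := by
    rw [Fintype.card_eq_one_iff]
    refine ⟨⟨a, (hfix a).2 rfl⟩, ?_⟩
    rintro ⟨b, hb⟩
    exact Subtype.ext ((hfix b).1 hb)
  rw [Nat.card_eq_fintype_card]
  rw [h2] at h1
  exact Nat.odd_iff.2 h1

section
variable {G : Type*} [Group G]

theorem refl_mem_aux {x y : G} (hx : x * x = 1) (hy : y * y = 1) (k : ℕ) :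
    x * (x * y) ^ k * x = ((x * y) ^ k)⁻¹ := by
  have hxi : x⁻¹ = x := inv_eq_of_mul_eq_one_left hx
  have hyi : y⁻¹ = y := inv_eq_of_mul_eq_one_left hy
  have h1 : x * (x * y) * x = (x * y)⁻¹ := by
    calc x * (x * y) * x = (x * x) * y * x := by group
      _ = y * x := by rw [hx]; group
      _ = y⁻¹ * x⁻¹ := by rw [hxi, hyi]
      _ = _ := by group
  have : x * (x * y) ^ k * x = (x * (x * y) * x) ^ k := by
    have := conj_pow (a := x) (b := x * y) (i := k)
    rw [hxi] at this
    exact this.symm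
  rw [this, h1, inv_pow]

/-- Reflections in a dihedral group generated by two conjugate involutions are conjugate. -/
theorem refl_mem {z x y : G} (hx : IsConj z x) (hy : IsConj z y) (hxx : x * x = 1) (hyy : y * y = 1) (k : ℕ) :
    IsConj z (x * (x * y) ^ k) := by
  have hxi : x⁻¹ = x := inv_eq_of_mul_eq_one_left hxx
  set v := x * y with hv
  have hrel : ∀ j : ℕ, x * v ^ j = (v ^ j)⁻¹ * x := by
    intro j
    have h := refl_mem_aux hxx hyy j
    rw [← hv] at h
    rw [← h]
    calc x * v ^ j = x * v ^ j * (x * x) := by rw [hxx, mul_one]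
      _ = _ := by group
  have hyv : y = x * v := by
    rw [hv, ← mul_assoc, hxx, one_mul]
  rcases Nat.even_or_odd' k with ⟨j, rfl | rfl⟩
  · have e : x * v ^ (2 * j) = (v ^ j)⁻¹ * x * ((v ^ j)⁻¹)⁻¹ := by
      rw [two_mul, pow_add, ← mul_assoc, hrel, inv_inv]
    rw [e]
    exact hx.trans (isConj_iff.2 ⟨_, rfl⟩)
  · have e : x * v ^ (2 * j + 1) = (v ^ j)⁻¹ * y * ((v ^ j)⁻¹)⁻¹ := by
      have hcomm : v ^ j * v = v * v ^ j := (pow_succ v j).symm.trans (pow_succ' v j)
      rw [inv_inv, hyv, two_mul, pow_add, pow_add, pow_one]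
      calc x * (v ^ j * v ^ j * v) = (x * v ^ j) * (v ^ j * v) := by group
        _ = (x * v ^ j) * (v * v ^ j) := by rw [hcomm]
        _ = ((v ^ j)⁻¹ * x) * (v * v ^ j) := by rw [hrel]
        _ = _ := by group
    rw [e]
    exact hy.trans (isConj_iff.2 ⟨_, rfl⟩)

/-- The midpoint of two involutions with product of odd order. -/
theorem midpoint {x y : G} (hxx : x * x = 1) (hyy : y * y = 1) {m : ℕ} (hm : (x * y) ^ (2 * m + 1) = 1) :
    (x * (x * y) ^ (m + 1)) * x * (x * (x * y) ^ (m + 1))⁻¹ = y := by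
  have hxi : x⁻¹ = x := inv_eq_of_mul_eq_one_left hxx
  set v := x * y with hv
  have hrel : ∀ j : ℕ, x * v ^ j * x = (v ^ j)⁻¹ := fun j => refl_mem_aux hxx hyy j
  have e1 : (x * v ^ (m + 1)) * x * (x * v ^ (m + 1))⁻¹ = (x * v ^ (m + 1) * x) * (v ^ (m + 1))⁻¹ * x⁻¹ := by group
  rw [e1, hrel, hxi]
  have e2 : (v ^ (m + 1))⁻¹ * (v ^ (m + 1))⁻¹ = (v ^ (2 * m + 1) * v)⁻¹ := by
    rw [← mul_inv_rev, ← pow_add, ← pow_succ]
    congr 2
    ring
  rw [e2, hm, one_mul, hv]
  calc (x * y)⁻¹ * x = y⁻¹ * (x⁻¹ * x) := by group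
    _ = y := by rw [inv_mul_cancel, mul_one]; exact inv_eq_of_mul_eq_one_left hyy

theorem involution_of_conj {z x : G} (hz : z * z = 1) (h : IsConj z x) : x * x = 1 := by
  obtain ⟨a, rfl⟩ := isConj_iff.1 h
  calc a * z * a⁻¹ * (a * z * a⁻¹) = a * (z * z) * a⁻¹ := by group
    _ = 1 := by rw [hz]; group

/-- Abstract form of the set-up: fixed points. -/
structure Setup (z : G) (H : Subgroup G) : Prop where
  hzz : z * z = 1
  h0 : ∀ g : G, g⁻¹ * z * g ∈ H ↔ g ∈ H
  hyp : ∀ t : G, IsConj z t → t ≠ z → t * z = z * t → ∀ g : G, g⁻¹ * (z * t) * g ∈ H ↔ g ∈ H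

variable {z : G} {H : Subgroup G}

theorem Setup.hpt (S : Setup z H) (a g : G) : g⁻¹ * (a * z * a⁻¹) * g ∈ H ↔ a⁻¹ * g ∈ H := by
  rw [← S.h0 (a⁻¹ * g)]
  constructor <;> intro h <;> convert h using 1 <;> group

theorem Setup.hcomm (S : Setup z H) {x y : G} (hx : IsConj z x) (hy : IsConj z y) (hne : x ≠ y) (hc : x * y = y * x) (g : G) :
    g⁻¹ * (x * y) * g ∈ H ↔ g⁻¹ * x * g ∈ H := by
  obtain ⟨a, rfl⟩ := isConj_iff.1 hx
  have ht : IsConj z (a⁻¹ * y * a) := hy.trans (isConj_iff.2 ⟨a⁻¹, by group⟩)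
  have hne' : a⁻¹ * y * a ≠ z := by
    intro h
    apply hne
    rw [← h]
    group
  have hc' : (a⁻¹ * y * a) * z = z * (a⁻¹ * y * a) := by
    have : a⁻¹ * (y * (a * z * a⁻¹)) * a = a⁻¹ * ((a * z * a⁻¹) * y) * a := by rw [hc]
    calc (a⁻¹ * y * a) * z = a⁻¹ * (y * (a * z * a⁻¹)) * a := by group
      _ = a⁻¹ * ((a * z * a⁻¹) * y) * a := this
      _ = _ := by group
  have h1 := S.hyp _ ht hne' hc' (a⁻¹ * g)
  rw [S.hpt, ← h1]
  have e : (a⁻¹ * g)⁻¹ * (z * (a⁻¹ * y * a)) * (a⁻¹ * g) = g⁻¹ * (a * z * a⁻¹ * y) * g := by group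
  rw [e]

theorem Setup.hsame (S : Setup z H) {x y : G} (hx : IsConj z x) (hy : IsConj z y) (hne : x ≠ y) (hc : x * y = y * x) (g : G) :
    g⁻¹ * x * g ∈ H ↔ g⁻¹ * y * g ∈ H := by
  rw [← S.hcomm hx hy hne hc g, hc, S.hcomm hy hx hne.symm hc.symm g]

theorem Setup.hodd [Finite G] (S : Setup z H) {x y g : G} (hx : IsConj z x) (hy : IsConj z y)
    (h1 : g⁻¹ * x * g ∈ H) (h2 : g⁻¹ * y * g ∉ H) : Odd (orderOf (x * y)) := by
  have hxx := involution_of_conj S.hzz hx
  have hyy := involution_of_conj S.hzz hy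
  by_contra hn
  rw [Nat.not_odd_iff_even] at hn
  obtain ⟨m, hm⟩ := hn
  have hpos : 0 < orderOf (x * y) := orderOf_pos _
  have hmpos : 0 < m := by omega
  set v := x * y with hv
  set w := v ^ m with hw
  have hw1 : w ≠ 1 := pow_ne_one_of_lt_orderOf (by omega) (by omega)
  have hww : w * w = 1 := by
    rw [hw, ← pow_add, ← hm, pow_orderOf_eq_one]
  have hwi : w⁻¹ = w := inv_eq_of_mul_eq_one_left hww
  have hxi : x⁻¹ = x := inv_eq_of_mul_eq_one_left hxx
  have hyi : y⁻¹ = y := inv_eq_of_mul_eq_one_left hyy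
  have hxw : x * w * x = w := by
    have := refl_mem_aux hxx hyy m
    rw [← hv, ← hw, hwi] at this
    exact this
  have hcw : x * w = w * x := by
    calc x * w = x * w * (x * x) := by rw [hxx, mul_one]
      _ = (x * w * x) * x := by group
      _ = _ := by rw [hxw]
  have hyx : y * x = v⁻¹ := by
    rw [hv, mul_inv_rev, hxi, hyi]
  have hwyx : (y * x) ^ m = w := by
    rw [hyx, inv_pow, ← hw, hwi]
  have hyw : y * w * y = w := by
    have := refl_mem_aux hyy hxx m
    rw [hwyx, hwi] at this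
    exact this
  have hcwy : y * w = w * y := by
    calc y * w = y * w * (y * y) := by rw [hyy, mul_one]
      _ = (y * w * y) * y := by group
      _ = _ := by rw [hyw]
  have hxwX : IsConj z (x * w) := refl_mem hx hy hxx hyy m
  have hywX : IsConj z (y * w) := by
    have := refl_mem hy hx hyy hxx m
    rw [hwyx] at this
    exact this
  have hne1 : x ≠ x * w := fun h => hw1 (by simpa using h)
  have hne2 : y ≠ y * w := fun h => hw1 (by simpa using h)
  have hc1 : x * (x * w) = (x * w) * x := by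
    rw [mul_assoc x w x, ← hcw]
  have hc2 : y * (y * w) = (y * w) * y := by
    rw [mul_assoc y w y, ← hcwy]
  have e1 := S.hcomm hx hxwX hne1 hc1 g
  have e2 := S.hcomm hy hywX hne2 hc2 g
  rw [show x * (x * w) = w by rw [← mul_assoc, hxx, one_mul]] at e1
  rw [show y * (y * w) = w by rw [← mul_assoc, hyy, one_mul]] at e2
  exact h2 (e2.1 (e1.2 h1))

/-- the counting argument: `z` is 2-central. -/
theorem Setup.two_central [Finite G] (S : Setup z H) (hH : H ≠ ⊤) :
    ∃ P : Sylow 2 G, z ∈ (Subgroup.center ↥(P : Subgroup G)).map (P : Subgroup G).subtype := by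
  classical
  haveI : Fact (Nat.Prime 2) := ⟨Nat.prime_two⟩
  have hzz := S.hzz
  have hzH : z ∈ H := by
    have := (S.h0 1).2 H.one_mem
    simpa using this
  obtain ⟨g₀, hg₀⟩ : ∃ g, g ∉ H := by
    by_contra hc
    push_neg at hc
    exact hH (eq_top_iff.2 fun g _ => hc g)
  set z₂ := g₀ * z * g₀⁻¹ with hz₂
  have hz₂X : IsConj z z₂ := isConj_iff.2 ⟨g₀, rfl⟩
  have hfixz₂ : ∀ g, g⁻¹ * z₂ * g ∈ H ↔ g₀⁻¹ * g ∈ H := fun g => S.hpt g₀ g
  have hz₂H : z₂ ∉ H := by
    intro h
    have := (hfixz₂ 1).1 (by simpa using h)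
    apply hg₀
    have h' := H.inv_mem this
    simpa using h'
  -- the two sets
  let D := {x : G // IsConj z x ∧ x ∈ H}
  let R := {r : G // IsConj z r ∧ g₀⁻¹ * r ∈ H}
  have hRg : ∀ r : G, IsConj z r → g₀⁻¹ * r ∈ H → r * g₀ ∈ H := by
    intro r hr h
    have hrr := involution_of_conj hzz hr
    have hri : r⁻¹ = r := inv_eq_of_mul_eq_one_left hrr
    have := H.inv_mem h
    rwa [mul_inv_rev, inv_inv, hri] at this
  -- the midpoint
  have hmid : ∀ x : G, IsConj z x → x ∈ H → ∃ r : G, IsConj z r ∧ g₀⁻¹ * r ∈ H ∧ r * x * r⁻¹ = z₂ ∧ r * z₂ * r⁻¹ = x ∧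
      ∀ y : G, y * x = x * y → y * z₂ = z₂ * y → y * r = r * y := by
    intro x hx hxH
    have hxx := involution_of_conj hzz hx
    have hzz₂ := involution_of_conj hzz hz₂X
    have hod := S.hodd (g := 1) hx hz₂X (by simpa using hxH) (by simpa using hz₂H)
    obtain ⟨m, hm⟩ := hod
    have hp : (x * z₂) ^ (2 * m + 1) = 1 := by rw [← hm, pow_orderOf_eq_one]
    have hrX := refl_mem hx hz₂X hxx hzz₂ (m + 1)
    have hrr := involution_of_conj hzz hrX
    have hri := inv_eq_of_mul_eq_one_left hrr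
    have hmm := midpoint hxx hzz₂ hp
    set r := x * (x * z₂) ^ (m + 1) with hr
    have hmm2 : r * z₂ * r⁻¹ = x := by
      rw [← hmm, hri]
      calc r * (r * x * r) * r = (r * r) * x * (r * r) := by group
        _ = x := by rw [hrr]; group
    refine ⟨r, hrX, ?_, hmm, hmm2, ?_⟩
    · rw [← hfixz₂]
      have : r⁻¹ * z₂ * r = x := by
        rw [hri]
        rw [hri] at hmm2
        exact hmm2
      rw [this]
      exact hxH
    · intro y h1 h2
      have h3 : Commute y (x * z₂) := Commute.mul_right h1 h2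
      have h4 : Commute y x := h1
      exact (h4.mul_right (h3.pow_right _))
  -- bijection
  have hcardD : Nat.card R = Nat.card D := by
    apply Nat.card_eq_of_bijective (fun r : R => (⟨r.1 * z₂ * r.1⁻¹, hz₂X.trans (isConj_iff.2 ⟨r.1, rfl⟩), by
      have h1 := hRg r.1 r.2.1 r.2.2
      have : r.1 * z₂ * r.1⁻¹ = (r.1 * g₀) * z * (r.1 * g₀)⁻¹ := by
        rw [hz₂]; group
      rw [this]
      exact H.mul_mem (H.mul_mem h1 hzH) (H.inv_mem h1)⟩ : D))
    constructor
    · -- injective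
      have key : ∀ (r r₀ : G) (x : G), IsConj z x → x ∈ H → IsConj z r → g₀⁻¹ * r ∈ H → r * z₂ * r⁻¹ = x →
          IsConj z r₀ → g₀⁻¹ * r₀ ∈ H → r₀ * x * r₀⁻¹ = z₂ → r₀ * z₂ * r₀⁻¹ = x →
          (∀ y : G, y * x = x * y → y * z₂ = z₂ * y → y * r₀ = r₀ * y) → r = r₀ := by
        intro r r₀ x hx hxH hr hrR hrx hr₀ hr₀R h1 h2 hwd
        have hrr := involution_of_conj hzz hr
        have hri := inv_eq_of_mul_eq_one_left hrr
        have hr₀r₀ := involution_of_conj hzz hr₀
        have hr₀i := inv_eq_of_mul_eq_one_left hr₀r₀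
        rw [hri] at hrx
        rw [hr₀i] at h1 h2
        have hrx' : r * x * r = z₂ := by
          rw [← hrx]
          calc r * (r * z₂ * r) * r = (r * r) * z₂ * (r * r) := by group
            _ = z₂ := by rw [hrr]; group
        have hyx : (r * r₀) * x = x * (r * r₀) := by
          calc (r * r₀) * x = r * (r₀ * x * r₀) * r₀ := by
                have : r * (r₀ * x * r₀) * r₀ = r * r₀ * x * (r₀ * r₀) := by group
                rw [this, hr₀r₀, mul_one]
            _ = r * z₂ * r₀ := by rw [h1]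
            _ = (r * z₂ * r) * (r * r₀) := by
                rw [mul_assoc (r * z₂) r, ← mul_assoc r r, hrr, one_mul]
            _ = _ := by rw [hrx]
        have hyz : (r * r₀) * z₂ = z₂ * (r * r₀) := by
          calc (r * r₀) * z₂ = r * (r₀ * z₂ * r₀) * r₀ := by
                have : r * (r₀ * z₂ * r₀) * r₀ = r * r₀ * z₂ * (r₀ * r₀) := by group
                rw [this, hr₀r₀, mul_one]
            _ = r * x * r₀ := by rw [h2]
            _ = (r * x * r) * (r * r₀) := by
                rw [mul_assoc (r * x) r, ← mul_assoc r r, hrr, one_mul]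
            _ = _ := by rw [hrx']
        have hyr := hwd _ hyx hyz
        -- `r₀` inverts `y`
        have hsq : r * r₀ = r₀ * r := by
          have : r * r₀ * r₀ = r₀ * (r * r₀) := hyr
          rw [mul_assoc, hr₀r₀, mul_one] at this
          -- r = r₀ r r₀
          calc r * r₀ = (r₀ * (r * r₀)) * r₀ := by rw [← this]
            _ = r₀ * r * (r₀ * r₀) := by group
            _ = _ := by rw [hr₀r₀, mul_one]
        by_contra hne
        have h3 := S.hcomm hr hr₀ hne hsq 1
        simp only [inv_one, one_mul, mul_one] at h3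
        obtain ⟨a, rfl⟩ := isConj_iff.1 hx
        have ha : a⁻¹ ∈ H := by
          have := (S.hpt a 1).1 (by simpa using hxH)
          simpa using this
        have hyH : r * r₀ ∈ H := by
          have h4 := (S.hpt a (r * r₀)).1 (by
            have : (r * r₀)⁻¹ * (a * z * a⁻¹) * (r * r₀) = a * z * a⁻¹ := by
              calc (r * r₀)⁻¹ * (a * z * a⁻¹) * (r * r₀) = (r * r₀)⁻¹ * ((a * z * a⁻¹) * (r * r₀)) := by group
                _ = (r * r₀)⁻¹ * ((r * r₀) * (a * z * a⁻¹)) := by rw [hyx]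
                _ = _ := by group
            rw [this]
            exact hxH)
          have h5 := H.mul_mem (H.inv_mem ha) h4
          simpa using h5
        have hrH := h3.1 hyH
        apply hg₀
        have := H.mul_mem hrR (H.inv_mem hrH)
        simpa using this
      rintro ⟨r, hr, hrR⟩ ⟨r', hr', hrR'⟩ h
      have hv : r * z₂ * r⁻¹ = r' * z₂ * r'⁻¹ := congrArg Subtype.val h
      have hxX : IsConj z (r * z₂ * r⁻¹) := hz₂X.trans (isConj_iff.2 ⟨r, rfl⟩)
      have hxH : r * z₂ * r⁻¹ ∈ H := by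
        have h1 := hRg r hr hrR
        have : r * z₂ * r⁻¹ = (r * g₀) * z * (r * g₀)⁻¹ := by
          rw [hz₂]; group
        rw [this]
        exact H.mul_mem (H.mul_mem h1 hzH) (H.inv_mem h1)
      obtain ⟨r₀, hr₀, hr₀R, h1, h2, h3⟩ := hmid _ hxX hxH
      have e1 := key r r₀ _ hxX hxH hr hrR rfl hr₀ hr₀R h1 h2 h3
      have e2 := key r' r₀ _ hxX hxH hr' hrR' hv.symm hr₀ hr₀R h1 h2 h3
      exact Subtype.ext (e1.trans e2.symm)
    · -- surjective
      rintro ⟨x, hx, hxH⟩
      obtain ⟨r, hr, hrR, h1, h2, -⟩ := hmid x hx hxH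
      exact ⟨⟨r, hr, hrR⟩, Subtype.ext h2⟩
  -- `R` is odd
  obtain ⟨r₁, hr₁, hr₁R, -, -, -⟩ := hmid z (IsConj.refl z) hzH
  have hr₁r₁ := involution_of_conj hzz hr₁
  have hr₁i : r₁⁻¹ = r₁ := inv_eq_of_mul_eq_one_left hr₁r₁
  have hRodd : Odd (Nat.card R) := by
    refine odd_card_of_involutive (fun r : R => (⟨r₁ * r.1 * r₁, r.2.1.trans (isConj_iff.2 ⟨r₁, by rw [hr₁i]⟩), by
      have h1 := hRg r.1 r.2.1 r.2.2
      have : g₀⁻¹ * (r₁ * r.1 * r₁) = (g₀⁻¹ * r₁) * (r.1 * g₀) * (g₀⁻¹ * r₁) := by group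
      rw [this]
      exact H.mul_mem (H.mul_mem hr₁R h1) hr₁R⟩ : R)) ?_ ⟨r₁, hr₁, hr₁R⟩ ?_
    · rintro ⟨r, hr, hrR⟩
      apply Subtype.ext
      show r₁ * (r₁ * r * r₁) * r₁ = r
      calc r₁ * (r₁ * r * r₁) * r₁ = (r₁ * r₁) * r * (r₁ * r₁) := by group
        _ = r := by rw [hr₁r₁]; group
    · rintro ⟨r, hr, hrR⟩
      constructor
      · intro h
        have h' : r₁ * r * r₁ = r := congrArg Subtype.val h
        by_contra hne
        have hne' : r₁ ≠ r := fun e => hne (Subtype.ext e.symm)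
        have hc : r₁ * r = r * r₁ := by
          calc r₁ * r = (r₁ * r * r₁) * r₁ := by rw [mul_assoc (r₁ * r), hr₁r₁, mul_one]
            _ = _ := by rw [h']
        have h3 := S.hcomm hr₁ hr hne' hc 1
        simp only [inv_one, one_mul, mul_one] at h3
        have h4 : r₁ * r ∈ H := by
          have h1 := hRg r₁ hr₁ hr₁R
          have : r₁ * r = (r₁ * g₀) * (g₀⁻¹ * r) := by group
          rw [this]
          exact H.mul_mem h1 hrR
        have h5 := h3.1 h4
        apply hg₀
        have := H.mul_mem hr₁R (H.inv_mem h5)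
        simpa using this
      · intro h
        apply Subtype.ext
        have : r = r₁ := congrArg Subtype.val h
        subst this
        show r * r * r = r
        rw [hr₁r₁, one_mul]
  have hDodd : Odd (Nat.card D) := hcardD ▸ hRodd
  -- the index is odd
  have hindex : Odd (Nat.card (G ⧸ H)) := by
    refine odd_card_of_involutive (fun c : G ⧸ H => z • c) ?_ (QuotientGroup.mk 1) ?_
    · intro c
      show z • z • c = c
      rw [smul_smul, hzz, one_smul]
    · intro c
      induction c using QuotientGroup.induction_on with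
      | H g =>
        constructor
        · intro h
          have h1 : (QuotientGroup.mk (z * g) : G ⧸ H) = QuotientGroup.mk g := h
          rw [QuotientGroup.eq] at h1
          have h2 : g⁻¹ * z * g ∈ H := by
            have := H.inv_mem h1
            convert this using 1
            have hzi : z⁻¹ = z := inv_eq_of_mul_eq_one_left hzz
            simp only [mul_inv_rev, inv_inv, hzi]
            group
          have h3 := (S.h0 g).1 h2
          rw [QuotientGroup.eq]
          simpa using H.inv_mem h3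
        · intro h
          rw [QuotientGroup.eq] at h
          have h3 : g ∈ H := by simpa using h
          show (QuotientGroup.mk (z * g) : G ⧸ H) = QuotientGroup.mk g
          rw [QuotientGroup.eq]
          have : (z * g)⁻¹ * g = g⁻¹ * z⁻¹ * g := by group
          rw [this]
          have hzi : z⁻¹ = z := inv_eq_of_mul_eq_one_left hzz
          rw [hzi]
          exact (S.h0 g).2 h3
  -- a Sylow subgroup inside `H`
  obtain ⟨P₁⟩ : Nonempty (Sylow 2 G) := inferInstance
  have hndvd : ¬ 2 ∣ Nat.card (G ⧸ H) := fun hd => by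
    rw [← even_iff_two_dvd] at hd
    exact (Nat.not_even_iff_odd.2 hindex) hd
  obtain ⟨c, hc⟩ := P₁.isPGroup'.nonempty_fixed_point_of_prime_not_dvd_card (G ⧸ H) hndvd
  obtain ⟨g, rfl⟩ := QuotientGroup.mk_surjective c
  have hfixg : ∀ u ∈ (P₁ : Subgroup G), g⁻¹ * u * g ∈ H := by
    intro u hu
    have h1 : (QuotientGroup.mk (u * g) : G ⧸ H) = QuotientGroup.mk g := hc ⟨u, hu⟩
    rw [QuotientGroup.eq] at h1
    have := H.inv_mem h1
    convert this using 1
    group
  set P : Sylow 2 G := g⁻¹ • P₁ with hP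
  have hPH : ∀ u ∈ (P : Subgroup G), u ∈ H := by
    intro u hu
    have h1 := (H08.mem_sylow_smul_iff P₁ g⁻¹ u).1 hu
    have h2 := hfixg _ h1
    have : g⁻¹ * ((g⁻¹)⁻¹ * u * g⁻¹) * g = u := by group
    rwa [this] at h2
  -- P acts on D
  letI act : MulAction (P : Subgroup G) D :=
    { smul := fun p x => ⟨(p : G) * x.1 * (p : G)⁻¹, x.2.1.trans (isConj_iff.2 ⟨p, rfl⟩),
        H.mul_mem (H.mul_mem (hPH _ p.2) x.2.2) (H.inv_mem (hPH _ p.2))⟩
      one_smul := fun x => Subtype.ext (by
        show ((1 : (P : Subgroup G)) : G) * x.1 * ((1 : (P : Subgroup G)) : G)⁻¹ = x.1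
        simp)
      mul_smul := fun p q x => Subtype.ext (by
        show ((p * q : (P : Subgroup G)) : G) * x.1 * ((p * q : (P : Subgroup G)) : G)⁻¹ =
          (p : G) * ((q : G) * x.1 * (q : G)⁻¹) * (p : G)⁻¹
        simp only [Subgroup.coe_mul]
        group) }
  have hndvd' : ¬ 2 ∣ Nat.card D := fun hd => by
    rw [← even_iff_two_dvd] at hd
    exact (Nat.not_even_iff_odd.2 hDodd) hd
  obtain ⟨x₀, hx₀⟩ := P.isPGroup'.nonempty_fixed_point_of_prime_not_dvd_card D hndvd'
  have hcomm₀ : ∀ u ∈ (P : Subgroup G), u * x₀.1 * u⁻¹ = x₀.1 := by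
    intro u hu
    have := hx₀ ⟨u, hu⟩
    exact congrArg Subtype.val this
  -- `x₀` lies in `P`
  have hx₀P : x₀.1 ∈ (P : Subgroup G) := by
    have hx₀x₀ := involution_of_conj hzz x₀.2.1
    have hpg : IsPGroup 2 (Subgroup.zpowers x₀.1) := by
      rintro ⟨y, k, rfl⟩
      refine ⟨1, ?_⟩
      apply Subtype.ext
      show (x₀.1 ^ k) ^ 2 ^ 1 = 1
      rw [← zpow_natCast, ← zpow_mul, mul_comm, zpow_mul]
      simp [pow_two, hx₀x₀]
    have hcz : ∀ u ∈ (P : Subgroup G), x₀.1 * u = u * x₀.1 := by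
      intro u hu
      have := hcomm₀ u hu
      calc x₀.1 * u = (u * x₀.1 * u⁻¹) * u := by rw [this]
        _ = _ := by group
    have hnorm : x₀.1 ∈ Subgroup.normalizer ((P : Subgroup G) : Set G) := by
      rw [Subgroup.mem_normalizer_iff]
      intro u
      constructor
      · intro hu
        rw [hcz u hu]
        simpa using hu
      · intro hu
        have h1 := hcz _ hu
        have h2 : x₀.1 * u * x₀.1⁻¹ = u := by
          have h3 : x₀.1 * (x₀.1 * u * x₀.1⁻¹) = x₀.1 * u := by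
            rw [h1]; group
          exact mul_left_cancel h3
        rwa [h2] at hu
    have := IsPGroup.inf_normalizer_sylow hpg P
    have h2 : x₀.1 ∈ Subgroup.zpowers x₀.1 ⊓ Subgroup.normalizer ((P : Subgroup G) : Set G) := ⟨Subgroup.mem_zpowers _, hnorm⟩
    have h3 : x₀.1 ∈ Subgroup.zpowers x₀.1 ⊓ (P : Subgroup G) := this.le h2
    exact h3.2
  obtain ⟨a, ha⟩ := isConj_iff.1 x₀.2.1
  have hz' : z ∈ (a⁻¹ • P : Sylow 2 G) := by
    rw [H08.mem_sylow_smul_iff, inv_inv, ha]
    exact hx₀P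
  refine ⟨a⁻¹ • P, ⟨z, hz'⟩, ?_, rfl⟩
  show (⟨z, hz'⟩ : ((a⁻¹ • P : Sylow 2 G) : Subgroup G)) ∈ Subgroup.center _
  rw [Subgroup.mem_center_iff]
  rintro ⟨w, hw⟩
  apply Subtype.ext
  show w * z = z * w
  have hw' := (H08.mem_sylow_smul_iff P a⁻¹ w).1 hw
  rw [inv_inv] at hw'
  have h3 := hcomm₀ _ hw'
  rw [← ha] at h3
  have h4 : a * w * a⁻¹ * (a * z * a⁻¹) = (a * z * a⁻¹) * (a * w * a⁻¹) := by
    calc a * w * a⁻¹ * (a * z * a⁻¹) = (a * w * a⁻¹ * (a * z * a⁻¹) * (a * w * a⁻¹)⁻¹) * (a * w * a⁻¹) := by group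
      _ = _ := by rw [h3]
  have h5 : a * (w * z) * a⁻¹ = a * (z * w) * a⁻¹ := by
    calc a * (w * z) * a⁻¹ = a * w * a⁻¹ * (a * z * a⁻¹) := by group
      _ = (a * z * a⁻¹) * (a * w * a⁻¹) := h4
      _ = _ := by group
  exact mul_left_cancel (mul_right_cancel h5)
end


/-- Let z be an involution of a finite group G and H a proper subgroup such that z lies in gHg⁻¹ exactly when g ∈ H. Then the following are equivalent: (1) for every conjugate t ≠ z of z commuting with z, the product zt lies in gHg⁻¹ exactly when g ∈ H; (2) z lies in the centre of some Sylow 2-subgroup of G, and for every conjugate t ≠ z of z commuting with z, the centralizer of zt is contained in H. -/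
theorem result {G : Type*} [Group G] [Finite G] (z : G) (hz : orderOf z = 2) (H : Subgroup G) (hH : H ≠ ⊤)
    (h0 : ∀ g : G, z ∈ H.map (MulAut.conj g).toMonoidHom ↔ g ∈ H) :
    (∀ t : G, IsConj z t → t ≠ z → t * z = z * t → ∀ g : G, z * t ∈ H.map (MulAut.conj g).toMonoidHom ↔ g ∈ H) ↔
      ((∃ P : Sylow 2 G, z ∈ (Subgroup.center ↥(P : Subgroup G)).map (P : Subgroup G).subtype) ∧
        ∀ t : G, IsConj z t → t ≠ z → t * z = z * t → Subgroup.centralizer ({z * t} : Set G) ≤ H) := by
  have hzz : z * z = 1 := by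
    have := pow_orderOf_eq_one z
    rwa [hz, pow_two] at this
  have hzi : z⁻¹ = z := inv_eq_of_mul_eq_one_left hzz
  have h0' : ∀ g : G, g⁻¹ * z * g ∈ H ↔ g ∈ H := by
    intro g
    rw [← h0 g, H13.mem_map_conj]
  have hmem : ∀ (g x : G), x ∈ H.map (MulAut.conj g).toMonoidHom ↔ g⁻¹ * x * g ∈ H := fun g x => H13.mem_map_conj
  have hzH : z ∈ H := by
    have := (h0' 1).2 H.one_mem
    simpa using this
  constructor
  · intro hyp
    have S : Setup z H := ⟨hzz, h0', fun t ht hne hc g => by rw [← hmem, hyp t ht hne hc g]⟩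
    refine ⟨S.two_central hH, ?_⟩
    intro t ht hne hc c hcc
    rw [Subgroup.mem_centralizer_iff] at hcc
    have h1 := hcc (z * t) rfl
    have h2 : c⁻¹ * (z * t) * c = z * t := by
      rw [mul_assoc, h1]; group
    have h3 := (S.hyp t ht hne hc 1).2 H.one_mem
    simp only [inv_one, one_mul, mul_one] at h3
    rw [← S.hyp t ht hne hc c, h2]
    exact h3
  · rintro ⟨⟨P, hP⟩, h2⟩ t ht hne hc g
    haveI : Fact (Nat.Prime 2) := ⟨Nat.prime_two⟩
    rw [hmem]
    have hcen : ∀ u ∈ (P : Subgroup G), u * z = z * u := by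
      obtain ⟨⟨w, hw⟩, hwc, hwz⟩ := hP
      have hwz' : w = z := hwz
      intro u hu
      rw [← hwz']
      have h3 : (⟨w, hw⟩ : (P : Subgroup G)) ∈ Subgroup.center _ := hwc
      rw [Subgroup.mem_center_iff] at h3
      exact congrArg Subtype.val (h3 ⟨u, hu⟩)
    -- P ≤ C(z) ≤ H
    have hPH : (P : Subgroup G) ≤ H := by
      intro u hu
      rw [← h0' u, mul_assoc, ← hcen u hu]
      simpa using hzH
    have htt := involution_of_conj hzz ht
    have hztzt : (z * t) * (z * t) = 1 := by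
      calc (z * t) * (z * t) = z * (t * z) * t := by group
        _ = z * (z * t) * t := by rw [hc]
        _ = (z * z) * (t * t) := by group
        _ = 1 := by rw [hzz, htt, one_mul]
    have hztH : z * t ∈ H := by
      have h3 := h2 t ht hne hc
      apply h3
      rw [Subgroup.mem_centralizer_iff]
      rintro _ rfl
      rfl
    constructor
    · intro hu
      set u := g⁻¹ * (z * t) * g with hudef
      have huu : u * u = 1 := by
        rw [hudef]
        calc g⁻¹ * (z * t) * g * (g⁻¹ * (z * t) * g) = g⁻¹ * ((z * t) * (z * t)) * g := by group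
          _ = 1 := by rw [hztzt]; group
      have hpg : IsPGroup 2 (Subgroup.zpowers u) := by
        rintro ⟨y, k, rfl⟩
        refine ⟨1, ?_⟩
        apply Subtype.ext
        show (u ^ k) ^ 2 ^ 1 = 1
        rw [← zpow_natCast, ← zpow_mul, mul_comm, zpow_mul]
        simp [pow_two, huu]
      have hle : Subgroup.zpowers u ≤ H := by
        rw [Subgroup.zpowers_le]
        exact hu
      obtain ⟨h, hh, hconj⟩ := H08.exists_conj_into_sylow_of_le H P hPH _ hpg hle
      have h3 := hconj u (Subgroup.mem_zpowers u)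
      have h6 : (h * u * h⁻¹) * z = z * (h * u * h⁻¹) := hcen _ h3
      -- now `k = h g⁻¹`
      set k := h * g⁻¹ with hk
      have hk1 : h * u * h⁻¹ = k * (z * t) * k⁻¹ := by
        rw [hudef, hk]; group
      rw [hk1] at h6
      have h7 : k⁻¹ * z * k ∈ Subgroup.centralizer ({z * t} : Set G) := by
        rw [Subgroup.mem_centralizer_iff]
        rintro _ rfl
        have h8 : k⁻¹ * (k * (z * t) * k⁻¹ * z) * k = k⁻¹ * (z * (k * (z * t) * k⁻¹)) * k := by rw [h6]
        calc z * t * (k⁻¹ * z * k) = k⁻¹ * (k * (z * t) * k⁻¹ * z) * k := by group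
          _ = k⁻¹ * (z * (k * (z * t) * k⁻¹)) * k := h8
          _ = _ := by group
      have h8 := h2 t ht hne hc h7
      have h9 := (h0' k).1 h8
      have : g = k⁻¹ * h := by rw [hk]; group
      rw [this]
      exact H.mul_mem (H.inv_mem h9) hh
    · intro hg
      exact H.mul_mem (H.mul_mem (H.inv_mem hg) hztH) hg

end Cfsg.Agent.S1922
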