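import Cfsg.Statements.S1905
import Cfsg.Agent.S1922
import Cfsg.Agent.Lib.H08.Basic
import Cfsg.Agent.Lib.H13.Basic
-- import your own Cfsg.Agent.* helpers here

set_option autoImplicit false
open Cfsg

namespace Cfsg.Agent.S1905

set_option linter.style.haveILetI false

open Subgroup

section
variable {S : Type*} [Group S]

/-- `x` is an involution. -/
abbrev IsInv (x : S) : Prop := x * x = 1 ∧ x ≠ 1

theorem isInv_of_order {x : S} (h : orderOf x = 2) : IsInv x := by
  constructor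
  · have := pow_orderOf_eq_one x
    rwa [h, pow_two] at this
  · rintro rfl
    simp at h

theorem order_of_isInv {x : S} (h : IsInv x) : orderOf x = 2 := by
  haveI : Fact (Nat.Prime 2) := ⟨Nat.prime_two⟩
  exact orderOf_eq_prime (by rw [pow_two]; exact h.1) h.2

theorem IsInv.inv_eq {x : S} (h : IsInv x) : x⁻¹ = x := inv_eq_of_mul_eq_one_left h.1

theorem IsInv.conj {x : S} (h : IsInv x) (g : S) : IsInv (g * x * g⁻¹) := by
  constructor
  · calc g * x * g⁻¹ * (g * x * g⁻¹) = g * (x * x) * g⁻¹ := by group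
      _ = 1 := by rw [h.1]; group
  · intro e
    apply h.2
    have : g⁻¹ * (g * x * g⁻¹) * g = g⁻¹ * 1 * g := by rw [e]
    simpa [mul_assoc] using this

/-- even order product gives an involution commuting with both. -/
theorem exists_comm_inv [Finite S] {x y : S} (hx : x * x = 1) (hy : y * y = 1) (hn : ¬ Odd (orderOf (x * y))) :
    ∃ w : S, IsInv w ∧ w * x = x * w ∧ w * y = y * w := by
  rw [Nat.not_odd_iff_even] at hn
  obtain ⟨m, hm⟩ := hn
  have hpos : 0 < orderOf (x * y) := orderOf_pos _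
  have hmpos : 0 < m := by omega
  set v := x * y with hv
  set w := v ^ m with hw
  have hw1 : w ≠ 1 := pow_ne_one_of_lt_orderOf (by omega) (by omega)
  have hww : w * w = 1 := by
    rw [hw, ← pow_add, ← hm, pow_orderOf_eq_one]
  have hwi : w⁻¹ = w := inv_eq_of_mul_eq_one_left hww
  have hxi : x⁻¹ = x := inv_eq_of_mul_eq_one_left hx
  have hyi : y⁻¹ = y := inv_eq_of_mul_eq_one_left hy
  have hxw : x * w * x = w := by
    have := S1922.refl_mem_aux hx hy m
    rw [← hv, ← hw, hwi] at this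
    exact this
  have hcw : w * x = x * w := by
    calc w * x = (x * w * x) * x := by rw [hxw]
      _ = x * w * (x * x) := by group
      _ = _ := by rw [hx, mul_one]
  have hyx : y * x = v⁻¹ := by
    rw [hv, mul_inv_rev, hxi, hyi]
  have hwyx : (y * x) ^ m = w := by
    rw [hyx, inv_pow, ← hw, hwi]
  have hyw : y * w * y = w := by
    have := S1922.refl_mem_aux hy hx m
    rw [hwyx, hwi] at this
    exact this
  have hcwy : w * y = y * w := by
    calc w * y = (y * w * y) * y := by rw [hyw]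
      _ = y * w * (y * y) := by group
      _ = _ := by rw [hy, mul_one]
  exact ⟨w, ⟨hww, hw1⟩, hcw, hcwy⟩

/-- midpoint data. -/
theorem exists_midpoint {x y : S} (hx : x * x = 1) (hy : y * y = 1) (hodd : Odd (orderOf (x * y))) :
    ∃ r : S, r * r = 1 ∧ r * x * r⁻¹ = y ∧ r * y * r⁻¹ = x ∧ ∀ c : S, c * x = x * c → c * y = y * c → c * r = r * c := by
  obtain ⟨m, hm⟩ := hodd
  have hp : (x * y) ^ (2 * m + 1) = 1 := by rw [← hm, pow_orderOf_eq_one]
  have hmm := S1922.midpoint hx hy hp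
  set r := x * (x * y) ^ (m + 1) with hr
  have hrr : r * r = 1 := by
    have h1 := S1922.refl_mem_aux hx hy (m + 1)
    rw [hr]
    calc x * (x * y) ^ (m + 1) * (x * (x * y) ^ (m + 1)) = (x * (x * y) ^ (m + 1) * x) * (x * y) ^ (m + 1) := by group
      _ = _ := by rw [h1]; group
  have hri := inv_eq_of_mul_eq_one_left hrr
  refine ⟨r, hrr, hmm, ?_, ?_⟩
  · rw [← hmm, hri]
    calc r * (r * x * r) * r = (r * r) * x * (r * r) := by group
      _ = x := by rw [hrr]; group
  · intro c h1 h2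
    have h3 : Commute c (x * y) := Commute.mul_right h1 h2
    have h4 : Commute c x := h1
    exact (h4.mul_right (h3.pow_right _))

/-- the number of conjugates under a subgroup -/
theorem orbit_card [Finite S] (A : Subgroup S) (x : S) :
    Nat.card A = Nat.card {y : S // ∃ a ∈ A, y = a * x * a⁻¹} * Nat.card ↥(A ⊓ Subgroup.centralizer ({x} : Set S)) := by
  classical
  letI act : MulAction A S :=
    { smul := fun a y => (a : S) * y * (a : S)⁻¹
      one_smul := fun y => by
        show ((1 : A) : S) * y * ((1 : A) : S)⁻¹ = y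
        simp
      mul_smul := fun a b y => by
        show ((a * b : A) : S) * y * ((a * b : A) : S)⁻¹ = (a : S) * ((b : S) * y * (b : S)⁻¹) * (a : S)⁻¹
        simp only [Subgroup.coe_mul]
        group }
  letI : Fintype A := Fintype.ofFinite _
  letI : Fintype (MulAction.orbit A x) := Fintype.ofFinite _
  letI : Fintype (MulAction.stabilizer A x) := Fintype.ofFinite _
  have h := MulAction.card_orbit_mul_card_stabilizer_eq_card_group A x
  simp only [← Nat.card_eq_fintype_card] at h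
  rw [← h]
  congr 1
  · apply Nat.card_congr
    apply Equiv.subtypeEquivRight
    intro y
    constructor
    · rintro ⟨a, rfl⟩
      exact ⟨a, a.2, rfl⟩
    · rintro ⟨a, ha, rfl⟩
      exact ⟨⟨a, ha⟩, rfl⟩
  · apply Nat.card_eq_of_bijective (fun a : MulAction.stabilizer A x => (⟨a.1.1, a.1.2, by
      have h1 : (a.1 : S) * x * (a.1 : S)⁻¹ = x := a.2
      show (a.1 : S) ∈ Subgroup.centralizer ({x} : Set S)
      rw [Subgroup.mem_centralizer_iff]
      intro y hy
      rw [Set.mem_singleton_iff] at hy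
      rw [hy]
      calc x * (a.1 : S) = ((a.1 : S) * x * (a.1 : S)⁻¹) * (a.1 : S) := by rw [h1]
        _ = _ := by group⟩ : ↥(A ⊓ Subgroup.centralizer ({x} : Set S))))
    constructor
    · intro a b hab
      apply Subtype.ext
      apply Subtype.ext
      exact congrArg (fun z : ↥(A ⊓ Subgroup.centralizer ({x} : Set S)) => z.1) hab
    · rintro ⟨a, ha, hc⟩
      refine ⟨⟨⟨a, ha⟩, ?_⟩, rfl⟩
      have hc' : a ∈ Subgroup.centralizer ({x} : Set S) := hc
      rw [Subgroup.mem_centralizer_iff] at hc'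
      have h1 := hc' x rfl
      show a * x * a⁻¹ = x
      rw [← h1]
      group

variable (M : Subgroup S)

/-- Counting core: transitivity of `M ∩ M^s`. -/
theorem card_R_eq [Finite S] (hC : ∀ i ∈ M, IsInv i → ∀ c, c * i = i * c → c ∈ M)
    (hSE : ∀ i ∈ M, IsInv i → ∀ g, g⁻¹ * i * g ∈ M → g ∈ M) {I : S} (hIM : I ∈ M) (hI : IsInv I)
    {k : S} (hk : k ∉ M) :
    Nat.card {r : S // IsInv r ∧ k⁻¹ * r ∈ M} = Nat.card {x : S // IsInv x ∧ x ∈ M} := by
  classical
  set j := k * I * k⁻¹ with hj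
  have hjI : IsInv j := hI.conj k
  have hjM : j ∉ M := by
    intro h
    apply hk
    apply hSE j h hjI
    have : k⁻¹ * j * k = I := by rw [hj]; group
    rw [this]
    exact hIM
  have hRg : ∀ r : S, IsInv r → k⁻¹ * r ∈ M → r * k ∈ M := by
    intro r hr h
    have := M.inv_mem h
    rwa [mul_inv_rev, inv_inv, hr.inv_eq] at this
  have hjfix : ∀ g : S, g⁻¹ * j * g ∈ M → k⁻¹ * g ∈ M := by
    intro g hg
    apply hSE I hIM hI
    convert hg using 1
    rw [hj]; group
  have hmid : ∀ x : S, IsInv x → x ∈ M → ∃ r : S, r * r = 1 ∧ k⁻¹ * r ∈ M ∧ r * x * r⁻¹ = j ∧ r * j * r⁻¹ = x ∧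
      ∀ y : S, y * x = x * y → y * j = j * y → y * r = r * y := by
    intro x hx hxM
    have hodd : Odd (orderOf (x * j)) := by
      by_contra hn
      obtain ⟨w, hw, h1, h2⟩ := exists_comm_inv hx.1 hjI.1 hn
      have hwM := hC x hxM hx w h1
      exact hjM (hC w hwM hw j h2.symm)
    obtain ⟨r, hrr, h1, h2, h3⟩ := exists_midpoint hx.1 hjI.1 hodd
    refine ⟨r, hrr, ?_, h1, h2, h3⟩
    apply hjfix
    have hri := inv_eq_of_mul_eq_one_left hrr
    rw [hri] at h2 ⊢
    rw [h2]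
    exact hxM
  apply Nat.card_eq_of_bijective (fun r : {r : S // IsInv r ∧ k⁻¹ * r ∈ M} => (⟨r.1 * j * r.1⁻¹, hjI.conj _, by
      have h1 := hRg r.1 r.2.1 r.2.2
      have : r.1 * j * r.1⁻¹ = (r.1 * k) * I * (r.1 * k)⁻¹ := by
        rw [hj]; group
      rw [this]
      exact M.mul_mem (M.mul_mem h1 hIM) (M.inv_mem h1)⟩ : {x : S // IsInv x ∧ x ∈ M}))
  constructor
  · -- injective
    have key : ∀ (r r₀ x : S), IsInv x → x ∈ M → IsInv r → k⁻¹ * r ∈ M → r * j * r⁻¹ = x →
        r₀ * r₀ = 1 → k⁻¹ * r₀ ∈ M → r₀ * x * r₀⁻¹ = j → r₀ * j * r₀⁻¹ = x →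
        (∀ y : S, y * x = x * y → y * j = j * y → y * r₀ = r₀ * y) → r = r₀ := by
      intro r r₀ x hx hxM hr hrR hrx hr₀r₀ hr₀R h1 h2 hwd
      have hrr := hr.1
      have hri := hr.inv_eq
      have hr₀i := inv_eq_of_mul_eq_one_left hr₀r₀
      rw [hri] at hrx
      rw [hr₀i] at h1 h2
      have hrx' : r * x * r = j := by
        rw [← hrx]
        calc r * (r * j * r) * r = (r * r) * j * (r * r) := by group
          _ = j := by rw [hrr]; group
      have hyx : (r * r₀) * x = x * (r * r₀) := by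
        calc (r * r₀) * x = r * (r₀ * x * r₀) * r₀ := by
              have : r * (r₀ * x * r₀) * r₀ = r * r₀ * x * (r₀ * r₀) := by group
              rw [this, hr₀r₀, mul_one]
          _ = r * j * r₀ := by rw [h1]
          _ = (r * j * r) * (r * r₀) := by
              rw [mul_assoc (r * j) r, ← mul_assoc r r, hrr, one_mul]
          _ = _ := by rw [hrx]
      have hyz : (r * r₀) * j = j * (r * r₀) := by
        calc (r * r₀) * j = r * (r₀ * j * r₀) * r₀ := by
              have : r * (r₀ * j * r₀) * r₀ = r * r₀ * j * (r₀ * r₀) := by group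
              rw [this, hr₀r₀, mul_one]
          _ = r * x * r₀ := by rw [h2]
          _ = (r * x * r) * (r * r₀) := by
              rw [mul_assoc (r * x) r, ← mul_assoc r r, hrr, one_mul]
          _ = _ := by rw [hrx']
      have hyr := hwd _ hyx hyz
      have hsq : (r * r₀) * (r * r₀) = 1 := by
        have h5 : r * r₀ * r₀ = r₀ * (r * r₀) := hyr
        rw [mul_assoc, hr₀r₀, mul_one] at h5
        have h6 : r₀ * r = r * r₀ := by
          calc r₀ * r = r₀ * (r₀ * (r * r₀)) := by rw [← h5]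
            _ = (r₀ * r₀) * (r * r₀) := by group
            _ = r * r₀ := by rw [hr₀r₀, one_mul]
        calc (r * r₀) * (r * r₀) = r * (r₀ * r) * r₀ := by group
          _ = r * (r * r₀) * r₀ := by rw [h6]
          _ = (r * r) * (r₀ * r₀) := by group
          _ = 1 := by rw [hrr, hr₀r₀, one_mul]
      by_contra hne
      have hy1 : r * r₀ ≠ 1 := by
        intro h
        apply hne
        have := mul_eq_one_iff_eq_inv.1 h
        rw [this, hr₀i]
      have hyM := hC x hxM hx _ hyx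
      have hr₀M := hC (r * r₀) hyM ⟨hsq, hy1⟩ r₀ hyr.symm
      apply hk
      have := M.mul_mem hr₀R (M.inv_mem hr₀M)
      simpa using M.inv_mem this
    rintro ⟨r, hr, hrR⟩ ⟨r', hr', hrR'⟩ h
    have hv : r * j * r⁻¹ = r' * j * r'⁻¹ := congrArg Subtype.val h
    have hxX : IsInv (r * j * r⁻¹) := hjI.conj _
    have hxM : r * j * r⁻¹ ∈ M := by
      have h1 := hRg r hr hrR
      have : r * j * r⁻¹ = (r * k) * I * (r * k)⁻¹ := by
        rw [hj]; group
      rw [this]
      exact M.mul_mem (M.mul_mem h1 hIM) (M.inv_mem h1)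
    obtain ⟨r₀, hr₀, hr₀R, h1, h2, h3⟩ := hmid _ hxX hxM
    have e1 := key r r₀ _ hxX hxM hr hrR rfl hr₀ hr₀R h1 h2 h3
    have e2 := key r' r₀ _ hxX hxM hr' hrR' hv.symm hr₀ hr₀R h1 h2 h3
    exact Subtype.ext (e1.trans e2.symm)
  · rintro ⟨x, hx, hxM⟩
    obtain ⟨r, hr, hrR, h1, h2, -⟩ := hmid x hx hxM
    refine ⟨⟨r, ⟨hr, ?_⟩, hrR⟩, Subtype.ext h2⟩
    rintro rfl
    apply hk
    simpa using M.inv_mem hrR

/-- Counting core. -/
theorem bender_count [Finite S] (hC : ∀ i ∈ M, IsInv i → ∀ c, c * i = i * c → c ∈ M)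
    (hSE : ∀ i ∈ M, IsInv i → ∀ g, g⁻¹ * i * g ∈ M → g ∈ M) {I : S} (hIM : I ∈ M) (hI : IsInv I)
    {t : S} (ht : t ∉ M) :
    ∃ M₀ : Subgroup S, M₀ ≤ M ∧ Odd (Nat.card M₀) ∧ ∀ x ∈ M, IsInv x → ∃ a ∈ M₀, x = a * I * a⁻¹ := by
  classical
  let f : S → ℕ := fun s => Nat.card ↥(M ⊓ M.map (MulAut.conj s).toMonoidHom)
  obtain ⟨⟨s, hs⟩, hmax⟩ : ∃ s : {s // s ∉ M}, ∀ s' : {s // s ∉ M}, f s' ≤ f s := by
    haveI : Nonempty {s // s ∉ M} := ⟨⟨t, ht⟩⟩
    exact Finite.exists_max (fun s' : {s // s ∉ M} => f s')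
  have hnoinv : ∀ k : S, k ∉ M → ∀ x ∈ M ⊓ M.map (MulAut.conj k).toMonoidHom, ¬ IsInv x := by
    intro k hk x hx hxI
    exact hk (hSE x hx.1 hxI k (H13.mem_map_conj.1 hx.2))
  have hodd : ∀ k : S, k ∉ M → Odd (Nat.card ↥(M ⊓ M.map (MulAut.conj k).toMonoidHom)) := by
    intro k hk
    rw [← Nat.not_even_iff_odd, even_iff_two_dvd]
    intro hd
    haveI : Fact (Nat.Prime 2) := ⟨Nat.prime_two⟩
    letI : Fintype ↥(M ⊓ M.map (MulAut.conj k).toMonoidHom) := Fintype.ofFinite _
    rw [Nat.card_eq_fintype_card] at hd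
    obtain ⟨x, hx⟩ := exists_prime_orderOf_dvd_card 2 hd
    have hx' : orderOf (x : S) = 2 := by rw [Subgroup.orderOf_coe]; exact hx
    exact hnoinv k hk x x.2 (isInv_of_order hx')
  refine ⟨M ⊓ M.map (MulAut.conj s).toMonoidHom, inf_le_left, hodd s hs, ?_⟩
  -- the involution `k`
  obtain ⟨k, hk⟩ : ∃ k, k = s⁻¹ * I * s := ⟨_, rfl⟩
  have hkI : IsInv k := by
    have := hI.conj s⁻¹
    rwa [inv_inv, ← hk] at this
  have hkM : k ∉ M := fun h => hs (hSE I hIM hI s (hk ▸ h))
  have hfk := hmax ⟨k, hkM⟩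
  -- orbit of `k` is `R(k)`
  have h1 := orbit_card (M ⊓ M.map (MulAut.conj k).toMonoidHom) k
  have h2 : Nat.card {y : S // ∃ a ∈ M ⊓ M.map (MulAut.conj k).toMonoidHom, y = a * k * a⁻¹} =
      Nat.card {r : S // IsInv r ∧ k⁻¹ * r ∈ M} := by
    apply Nat.card_congr
    apply Equiv.subtypeEquivRight
    intro y
    constructor
    · rintro ⟨a, ha, rfl⟩
      refine ⟨hkI.conj a, ?_⟩
      have h3 := H13.mem_map_conj.1 ha.2
      have : k⁻¹ * (a * k * a⁻¹) = (k⁻¹ * a * k) * a⁻¹ := by group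
      rw [this]
      exact M.mul_mem h3 (M.inv_mem ha.1)
    · rintro ⟨hr, hrR⟩
      -- `v = k r`
      have hki := hkI.inv_eq
      have hri := hr.inv_eq
      rw [hki] at hrR
      set v := k * y with hv
      have hvU : v ∈ M ⊓ M.map (MulAut.conj k).toMonoidHom := by
        refine ⟨hrR, H13.mem_map_conj.2 ?_⟩
        have : k⁻¹ * v * k = y * k := by
          rw [hv, hki, ← mul_assoc, hkI.1, one_mul]
        rw [this]
        have := M.inv_mem hrR
        rwa [hv, mul_inv_rev, hri, hki] at this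
      have hvodd : Odd (orderOf v) := by
        by_contra hn
        rw [Nat.not_odd_iff_even] at hn
        obtain ⟨m, hm⟩ := hn
        have hpos : 0 < orderOf v := orderOf_pos _
        have hw1 : v ^ m ≠ 1 := pow_ne_one_of_lt_orderOf (by omega) (by omega)
        have hww : v ^ m * v ^ m = 1 := by
          rw [← pow_add, ← hm, pow_orderOf_eq_one]
        exact hnoinv k hkM _ (Subgroup.pow_mem _ hvU m) ⟨hww, hw1⟩
      obtain ⟨m, hm⟩ := hvodd
      have hp : v ^ (2 * m + 1) = 1 := by rw [← hm, pow_orderOf_eq_one]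
      refine ⟨v ^ m, Subgroup.pow_mem _ hvU m, ?_⟩
      have h4 := S1922.refl_mem_aux hkI.1 hr.1 m
      rw [← hv] at h4
      have h5 : k * (v ^ m)⁻¹ = v ^ m * k := by
        rw [← h4]
        calc k * (k * v ^ m * k) = (k * k) * v ^ m * k := by group
          _ = _ := by rw [hkI.1, one_mul]
      have hvi : v ^ (2 * m) = v⁻¹ := by
        rw [eq_inv_iff_mul_eq_one, ← pow_succ]; exact hp
      calc y = v⁻¹ * k := by
            rw [hv, mul_inv_rev, hri, hki, mul_assoc, hkI.1, mul_one]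
        _ = v ^ (2 * m) * k := by rw [hvi]
        _ = v ^ m * (v ^ m * k) := by rw [two_mul, pow_add, mul_assoc]
        _ = v ^ m * (k * (v ^ m)⁻¹) := by rw [h5]
        _ = _ := by group
  -- the centralizers
  have hIk : I = s * k * s⁻¹ := by rw [hk]; group
  have h3 : Nat.card ↥(M ⊓ M.map (MulAut.conj k).toMonoidHom ⊓ Subgroup.centralizer ({k} : Set S)) =
      Nat.card ↥(M ⊓ M.map (MulAut.conj s).toMonoidHom ⊓ Subgroup.centralizer ({I} : Set S)) := by
    have hfwd : ∀ u : S, u ∈ M ⊓ M.map (MulAut.conj k).toMonoidHom ⊓ Subgroup.centralizer ({k} : Set S) →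
        s * u * s⁻¹ ∈ M ⊓ M.map (MulAut.conj s).toMonoidHom ⊓ Subgroup.centralizer ({I} : Set S) := by
      rintro u ⟨⟨hu1, hu2⟩, hu3⟩
      have hu3' : u ∈ Subgroup.centralizer ({k} : Set S) := hu3
      rw [Subgroup.mem_centralizer_iff] at hu3'
      have hc := hu3' k rfl
      have hc' : (s * u * s⁻¹) * I = I * (s * u * s⁻¹) := by
        rw [hIk]
        calc s * u * s⁻¹ * (s * k * s⁻¹) = s * (u * k) * s⁻¹ := by group
          _ = s * (k * u) * s⁻¹ := by rw [hc]
          _ = _ := by group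
      refine ⟨⟨hC I hIM hI _ hc', H13.mem_map_conj.2 ?_⟩, ?_⟩
      · have : s⁻¹ * (s * u * s⁻¹) * s = u := by group
        rw [this]; exact hu1
      · show s * u * s⁻¹ ∈ Subgroup.centralizer ({I} : Set S)
        rw [Subgroup.mem_centralizer_iff]
        rintro _ rfl
        exact hc'.symm
    apply Nat.card_eq_of_bijective (fun u : ↥(M ⊓ M.map (MulAut.conj k).toMonoidHom ⊓ Subgroup.centralizer ({k} : Set S)) =>
      (⟨s * u.1 * s⁻¹, hfwd _ u.2⟩ : ↥(M ⊓ M.map (MulAut.conj s).toMonoidHom ⊓ Subgroup.centralizer ({I} : Set S))))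
    constructor
    · intro a b hab
      have : s * a.1 * s⁻¹ = s * b.1 * s⁻¹ := congrArg Subtype.val hab
      exact Subtype.ext (mul_left_cancel (mul_right_cancel this))
    · rintro ⟨c, ⟨hc1, hc2⟩, hc3⟩
      have hc2' := H13.mem_map_conj.1 hc2
      have hc3' : c ∈ Subgroup.centralizer ({I} : Set S) := hc3
      rw [Subgroup.mem_centralizer_iff] at hc3'
      have hc := hc3' I rfl
      have hck : (s⁻¹ * c * s) * k = k * (s⁻¹ * c * s) := by
        rw [hk]
        calc s⁻¹ * c * s * (s⁻¹ * I * s) = s⁻¹ * (c * I) * s := by group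
          _ = s⁻¹ * (I * c) * s := by rw [hc]
          _ = _ := by group
      refine ⟨⟨s⁻¹ * c * s, ⟨hc2', H13.mem_map_conj.2 ?_⟩, ?_⟩, ?_⟩
      · have : k⁻¹ * (s⁻¹ * c * s) * k = s⁻¹ * c * s := by
          rw [mul_assoc, hck]; group
        rw [this]; exact hc2'
      · show s⁻¹ * c * s ∈ Subgroup.centralizer ({k} : Set S)
        rw [Subgroup.mem_centralizer_iff]
        rintro _ rfl
        exact hck.symm
      · apply Subtype.ext
        show s * (s⁻¹ * c * s) * s⁻¹ = c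
        group
  have h4 := orbit_card (M ⊓ M.map (MulAut.conj s).toMonoidHom) I
  have h5 := card_R_eq M hC hSE hIM hI hkM
  have hcpos : 0 < Nat.card ↥(M ⊓ M.map (MulAut.conj s).toMonoidHom ⊓ Subgroup.centralizer ({I} : Set S)) := Nat.card_pos
  have hle : Nat.card {x : S // IsInv x ∧ x ∈ M} ≤ Nat.card {y : S // ∃ a ∈ M ⊓ M.map (MulAut.conj s).toMonoidHom, y = a * I * a⁻¹} := by
    have h6 : f k ≤ f s := hfk
    have h7 : f k = Nat.card ↥(M ⊓ M.map (MulAut.conj k).toMonoidHom) := rfl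
    have h8 : f s = Nat.card ↥(M ⊓ M.map (MulAut.conj s).toMonoidHom) := rfl
    rw [h7, h8, h1, h4, h3, h2, h5] at h6
    exact Nat.le_of_mul_le_mul_right h6 hcpos
  have hinj : Function.Injective (fun y : {y : S // ∃ a ∈ M ⊓ M.map (MulAut.conj s).toMonoidHom, y = a * I * a⁻¹} =>
      (⟨y.1, by
        obtain ⟨a, ha, e⟩ := y.2
        rw [e]
        exact ⟨hI.conj a, M.mul_mem (M.mul_mem ha.1 hIM) (M.inv_mem ha.1)⟩⟩ : {x : S // IsInv x ∧ x ∈ M})) := by
    intro a b hab
    exact Subtype.ext (congrArg (fun z : {x : S // IsInv x ∧ x ∈ M} => z.1) hab)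
  have hbij := hinj.bijective_of_nat_card_le hle
  intro x hxM hxI
  obtain ⟨y, hy⟩ := hbij.2 ⟨x, hxI, hxM⟩
  obtain ⟨a, ha, e⟩ := y.2
  refine ⟨a, ha, ?_⟩
  rw [← e]
  exact (congrArg Subtype.val hy).symm

theorem mem_normalizer_of_conj_le [Finite S] (A : Subgroup S) (n : S) (h : ∀ x ∈ A, n * x * n⁻¹ ∈ A) :
    n ∈ Subgroup.normalizer (A : Set S) := by
  rw [Subgroup.mem_normalizer_iff]
  intro x
  refine ⟨h x, fun hx => ?_⟩
  let φ : A → A := fun a => ⟨n * a.1 * n⁻¹, h _ a.2⟩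
  have hφ : Function.Injective φ := by
    intro a b hab
    have : n * a.1 * n⁻¹ = n * b.1 * n⁻¹ := congrArg Subtype.val hab
    exact Subtype.ext (mul_left_cancel (mul_right_cancel this))
  obtain ⟨a, ha⟩ := (Finite.injective_iff_surjective.1 hφ) ⟨_, hx⟩
  have : n * a.1 * n⁻¹ = n * x * n⁻¹ := congrArg Subtype.val ha
  have h2 : a.1 = x := mul_left_cancel (mul_right_cancel this)
  rw [← h2]
  exact a.2

/-- Strong embedding -/
theorem strongly_embedded [Finite S] (hC : ∀ i ∈ M, IsInv i → ∀ c, c * i = i * c → c ∈ M)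
    (X : Sylow 2 M) (I : M) (hI : I ∈ (Subgroup.center ↥(X : Subgroup ↥M)).map (X : Subgroup ↥M).subtype)
    (hI2 : orderOf I = 2)
    (hN : Subgroup.normalizer (((X : Subgroup M).map M.subtype : Subgroup S) : Set S) ≤ M)
    (i : S) (hi : i ∈ M) (hiI : IsInv i) (g : S) (hg : g⁻¹ * i * g ∈ M) : g ∈ M := by
  classical
  haveI : Fact (Nat.Prime 2) := ⟨Nat.prime_two⟩
  obtain ⟨Iv, hIc, hIv⟩ := hI
  set Xh : Subgroup S := (X : Subgroup M).map M.subtype with hXh
  have hXp : IsPGroup 2 Xh := X.isPGroup'.map M.subtype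
  have hcent : ∀ x ∈ Xh, x * (I : S) = (I : S) * x := by
    rintro _ ⟨x, hx, rfl⟩
    have h1 := (Subgroup.mem_center_iff.1 hIc) ⟨x, hx⟩
    have h2 := congrArg (fun z : (X : Subgroup M) => ((z : M) : S)) h1
    rw [← hIv]
    exact h2
  have hII : IsInv (I : S) := isInv_of_order (by rw [Subgroup.orderOf_coe]; exact hI2)
  have hpi : IsPGroup 2 (Subgroup.zpowers i) := by
    rintro ⟨y, k, rfl⟩
    refine ⟨1, ?_⟩
    apply Subtype.ext
    show (i ^ k) ^ 2 ^ 1 = 1
    rw [← zpow_natCast, ← zpow_mul, mul_comm, zpow_mul]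
    simp [pow_two, hiI.1]
  have hle : Subgroup.zpowers i ≤ M := by
    rw [Subgroup.zpowers_le]; exact hi
  obtain ⟨c, hc, h1⟩ := H08.exists_conj_into_sylow_subtype M X _ hpi hle
  obtain ⟨h2, h3⟩ := h1 i (Subgroup.mem_zpowers i)
  have hi'X : c * i * c⁻¹ ∈ Xh := ⟨⟨_, h2⟩, h3, rfl⟩
  set g' := c * g with hg'
  have hi₁ : g'⁻¹ * (c * i * c⁻¹) * g' = g⁻¹ * i * g := by rw [hg']; group
  have hi₁I : IsInv (g⁻¹ * i * g) := by
    have := hiI.conj g⁻¹
    rwa [inv_inv] at this
  have hj₁ : g'⁻¹ * (I : S) * g' ∈ M := by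
    apply hC _ hg hi₁I
    have hc1 := hcent _ hi'X
    rw [← hi₁]
    calc g'⁻¹ * (I : S) * g' * (g'⁻¹ * (c * i * c⁻¹) * g') = g'⁻¹ * ((I : S) * (c * i * c⁻¹)) * g' := by group
      _ = g'⁻¹ * ((c * i * c⁻¹) * (I : S)) * g' := by rw [hc1]
      _ = _ := by group
  have hj₁I : IsInv (g'⁻¹ * (I : S) * g') := by
    have := hII.conj g'⁻¹
    rwa [inv_inv] at this
  have hQM : ∀ x ∈ Xh, g'⁻¹ * x * g' ∈ M := by
    intro x hx
    apply hC _ hj₁ hj₁I
    have hc1 := hcent _ hx
    calc g'⁻¹ * x * g' * (g'⁻¹ * (I : S) * g') = g'⁻¹ * (x * (I : S)) * g' := by group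
      _ = g'⁻¹ * ((I : S) * x) * g' := by rw [hc1]
      _ = _ := by group
  set Q : Subgroup S := Xh.map (MulAut.conj g'⁻¹).toMonoidHom with hQ
  have hQp : IsPGroup 2 Q := hXp.map _
  have hQle : Q ≤ M := by
    rintro _ ⟨x, hx, rfl⟩
    have := hQM x hx
    simpa [MulAut.conj_apply] using this
  obtain ⟨c', hc', h4⟩ := H08.exists_conj_into_sylow_subtype M X Q hQp hQle
  set n := c' * g'⁻¹ with hn
  have hnn : ∀ x ∈ Xh, n * x * n⁻¹ ∈ Xh := by
    intro x hx
    have hy : g'⁻¹ * x * g' ∈ Q := by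
      refine ⟨x, hx, ?_⟩
      simp [MulAut.conj_apply]
    obtain ⟨h5, h6⟩ := h4 _ hy
    have : c' * (g'⁻¹ * x * g') * c'⁻¹ ∈ Xh := ⟨⟨_, h5⟩, h6, rfl⟩
    convert this using 1
    rw [hn]; group
  have hnN := hN (mem_normalizer_of_conj_le Xh n hnn)
  have hg'M : g' ∈ M := by
    have h7 : g'⁻¹ = c'⁻¹ * n := by rw [hn]; group
    have h8 := M.mul_mem (M.inv_mem hc') hnN
    rw [← h7] at h8
    simpa using M.inv_mem h8
  have : g = c⁻¹ * g' := by rw [hg']; group
  rw [this]
  exact M.mul_mem (M.inv_mem hc) hg'M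
end


/-- Let M be a subgroup of even order of a finite group S such that M contains the centralizer in S of each of its involutions and the normal core of M in S has odd order. Then all involutions of S are conjugate. If moreover N_S(X) ≤ M for a Sylow 2-subgroup X of M and I is an involution in the centre of X, then all involutions of M are conjugate in M and M = M₀ C_M(I) for some subgroup M₀ of M of odd order. -/
theorem result {S : Type*} [Group S] [Finite S] (M : Subgroup S) (hM : Even (Nat.card M))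
    (hC : ∀ i ∈ M, orderOf i = 2 → Subgroup.centralizer ({i} : Set S) ≤ M) (hcore : Odd (Nat.card M.normalCore)) :
    (∀ x y : S, orderOf x = 2 → orderOf y = 2 → IsConj x y) ∧
      ∀ (X : Sylow 2 M) (I : M), I ∈ (Subgroup.center ↥(X : Subgroup ↥M)).map (X : Subgroup ↥M).subtype → orderOf I = 2 →
        Subgroup.normalizer (((X : Subgroup M).map M.subtype : Subgroup S) : Set S) ≤ M →
        (∀ x y : M, orderOf x = 2 → orderOf y = 2 → IsConj x y) ∧
          ∃ M₀ : Subgroup M, Odd (Nat.card M₀) ∧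
            ∀ m : M, ∃ a ∈ M₀, ∃ c ∈ Subgroup.centralizer ({I} : Set M), m = a * c := by
  classical
  haveI : Fact (Nat.Prime 2) := ⟨Nat.prime_two⟩
  have hC' : ∀ i ∈ M, IsInv i → ∀ c, c * i = i * c → c ∈ M := by
    intro i hi hiI c hc
    apply hC i hi (order_of_isInv hiI)
    rw [Subgroup.mem_centralizer_iff]
    intro y hy
    rw [Set.mem_singleton_iff] at hy
    rw [hy]
    exact hc.symm
  -- an involution in `M`
  obtain ⟨I₀, hI₀M, hI₀⟩ : ∃ i ∈ M, IsInv i := by
    letI : Fintype M := Fintype.ofFinite _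
    have hd : 2 ∣ Fintype.card M := by
      rw [← Nat.card_eq_fintype_card]
      exact even_iff_two_dvd.1 hM
    obtain ⟨x, hx⟩ := exists_prime_orderOf_dvd_card 2 hd
    have hx' : orderOf (x : S) = 2 := by rw [Subgroup.orderOf_coe]; exact hx
    exact ⟨x, x.2, isInv_of_order hx'⟩
  -- an involution outside `M`
  obtain ⟨t, htM, ht⟩ : ∃ t, t ∉ M ∧ IsInv t := by
    by_contra hno
    push Not at hno
    have hcoreI : I₀ ∈ M.normalCore := by
      intro g
      by_contra hg
      exact hno _ hg (hI₀.conj g)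
    have h1 : orderOf (⟨I₀, hcoreI⟩ : M.normalCore) = 2 := by
      have : orderOf ((⟨I₀, hcoreI⟩ : M.normalCore) : S) = 2 := order_of_isInv hI₀
      rwa [Subgroup.orderOf_coe] at this
    have h2 := orderOf_dvd_natCard (⟨I₀, hcoreI⟩ : M.normalCore)
    rw [h1] at h2
    exact (Nat.not_even_iff_odd.2 hcore) (even_iff_two_dvd.2 h2)
  -- `in/out` conjugacy
  have hio : ∀ i ∈ M, IsInv i → ∀ x, x ∉ M → IsInv x → IsConj i x := by
    intro i hi hiI x hx hxI
    have hodd : Odd (orderOf (i * x)) := by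
      by_contra hn
      obtain ⟨w, hw, h1, h2⟩ := exists_comm_inv hiI.1 hxI.1 hn
      have hwM := hC' i hi hiI w h1
      exact hx (hC' w hwM hw x h2.symm)
    obtain ⟨r, -, h1, -, -⟩ := exists_midpoint hiI.1 hxI.1 hodd
    exact isConj_iff.2 ⟨r, h1⟩
  have hall : ∀ x y : S, IsInv x → IsInv y → IsConj x y := by
    intro x y hx hy
    by_cases hxM : x ∈ M <;> by_cases hyM : y ∈ M
    · exact (hio x hxM hx t htM ht).trans (hio y hyM hy t htM ht).symm
    · exact hio x hxM hx y hyM hy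
    · exact (hio y hyM hy x hxM hx).symm
    · exact (hio I₀ hI₀M hI₀ x hxM hx).symm.trans (hio I₀ hI₀M hI₀ y hyM hy)
  refine ⟨fun x y hx hy => hall x y (isInv_of_order hx) (isInv_of_order hy), ?_⟩
  intro X I hI hI2 hN
  have hIM : (I : S) ∈ M := I.2
  have hII : IsInv (I : S) := isInv_of_order (by rw [Subgroup.orderOf_coe]; exact hI2)
  have hSE := strongly_embedded M hC' X I hI hI2 hN
  obtain ⟨M₀, hM₀, hodd, htr⟩ := bender_count M hC' hSE hIM hII htM
  have htr' : ∀ m : M, ∃ a ∈ M₀.subgroupOf M, ∃ c ∈ Subgroup.centralizer ({I} : Set M), m = a * c := by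
    intro m
    obtain ⟨a, ha, e⟩ := htr _ (M.mul_mem (M.mul_mem m.2 hIM) (M.inv_mem m.2)) (hII.conj (m : S))
    refine ⟨⟨a, hM₀ ha⟩, ha, ⟨a, hM₀ ha⟩⁻¹ * m, ?_, by group⟩
    rw [Subgroup.mem_centralizer_iff]
    intro y hy
    rw [Set.mem_singleton_iff] at hy
    rw [hy]
    apply Subtype.ext
    show (I : S) * (a⁻¹ * (m : S)) = a⁻¹ * (m : S) * (I : S)
    calc (I : S) * (a⁻¹ * (m : S)) = a⁻¹ * (a * (I : S) * a⁻¹) * (m : S) := by group
      _ = a⁻¹ * ((m : S) * (I : S) * (m : S)⁻¹) * (m : S) := by rw [← e]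
      _ = _ := by group
  refine ⟨?_, M₀.subgroupOf M, ?_, htr'⟩
  · intro x y hx hy
    -- both are conjugate to `I` in `M`
    have key : ∀ x : M, orderOf x = 2 → IsConj x I := by
      intro x hx
      have hxI : IsInv (x : S) := isInv_of_order (by rw [Subgroup.orderOf_coe]; exact hx)
      obtain ⟨a, ha, e⟩ := htr x x.2 hxI
      refine (isConj_iff.2 ⟨⟨a, hM₀ ha⟩, ?_⟩).symm
      apply Subtype.ext
      exact e.symm
    exact (key x hx).trans (key y hy).symm
  · have : Nat.card (M₀.subgroupOf M) = Nat.card M₀ := Nat.card_congr (Subgroup.subgroupOfEquivOfLe hM₀).toEquiv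
    rw [this]
    exact hodd

end Cfsg.Agent.S1905
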