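import Cfsg.Statements.S1921
import Mathlib
import Cfsg.Agent.Lib.H05.Comp
import Cfsg.Agent.Lib.H05.Comp3
import Cfsg.Agent.Lib.H07.FStar
import Cfsg.Agent.Lib.H01.Coprime
-- import your own Cfsg.Agent.* helpers here

set_option autoImplicit false
open Cfsg

namespace Cfsg.Agent.S1921



/-- Let a be an involution of a finite group H and L a component of H with a L a⁻¹ ≠ L; put M = ⟨L, aLa⁻¹⟩ and let J be the subgroup generated by the elements x · a x a⁻¹ with x ∈ L (the diagonal). Then every element of M outside J·Z(M) generates M together with J. -/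
theorem result {H : Type*} [Group H] [Finite H] (a : H) (ha : orderOf a = 2) (L : Subgroup H) (hL : Cfsg.IsComponent L)
    (hLa : L.map (MulAut.conj a).toMonoidHom ≠ L) (x : H) (hxM : x ∈ L ⊔ L.map (MulAut.conj a).toMonoidHom)
    (hxJ : x ∉ Subgroup.closure {y : H | ∃ l ∈ L, y = l * (a * l * a⁻¹)} ⊔
      ((L ⊔ L.map (MulAut.conj a).toMonoidHom) ⊓ Subgroup.centralizer ((L ⊔ L.map (MulAut.conj a).toMonoidHom : Subgroup H) : Set H))) :
    Subgroup.closure {y : H | ∃ l ∈ L, y = l * (a * l * a⁻¹)} ⊔ Subgroup.zpowers x = L ⊔ L.map (MulAut.conj a).toMonoidHom := by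
  classical
  set σ := (MulAut.conj a).toMonoidHom with hσ
  set La := L.map σ with hLa'
  have hLaC : IsComponent La := Cfsg.Agent.H07.isComponent_map_equiv _ hL
  have hcomm : ∀ l ∈ L, ∀ m ∈ La, l * m = m * l := by
    rcases Cfsg.Agent.H05.comp_eq_or_comm hL hLaC with h | h
    · exact absurd h.symm hLa
    · exact Cfsg.Agent.H05.comm_bot_iff.1 h
  have hconj : ∀ l ∈ L, a * l * a⁻¹ ∈ La := fun l hl => ⟨l, hl, rfl⟩
  set J := Subgroup.closure {y : H | ∃ l ∈ L, y = l * (a * l * a⁻¹)} with hJ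
  set M := L ⊔ La with hM
  have hJmem : ∀ l ∈ L, l * (a * l * a⁻¹) ∈ J := fun l hl => Subgroup.subset_closure ⟨l, hl, rfl⟩
  have hJM : J ≤ M := by
    rw [hJ, Subgroup.closure_le]
    rintro _ ⟨l, hl, rfl⟩
    exact M.mul_mem (Subgroup.mem_sup_left hl) (Subgroup.mem_sup_right (hconj l hl))
  set Y := J ⊔ Subgroup.zpowers x with hY
  have hYM : Y ≤ M := sup_le hJM ((Subgroup.zpowers_le).2 hxM)
  have hJY : J ≤ Y := le_sup_left
  have hxY : x ∈ Y := Subgroup.mem_sup_right (Subgroup.mem_zpowers x)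
  have hLaN : La ≤ Subgroup.normalizer (L : Set H) := fun m hm =>
    Cfsg.Agent.H05.mem_normalizer_of_comm fun b hb => (hcomm b hb m hm).symm
  obtain ⟨l₁, hl₁, m, hm, hxe⟩ := Cfsg.Agent.H01.exists_mul_of_mem_sup hLaN hxM
  obtain ⟨l₂, hl₂, hme⟩ := hm
  have hme' : m = a * l₂ * a⁻¹ := hme.symm
  set y := l₁ * l₂⁻¹ with hy
  have hyL : y ∈ L := L.mul_mem hl₁ (L.inv_mem hl₂)
  have hyx : x = y * (l₂ * (a * l₂ * a⁻¹)) := by
    rw [hxe, hme', hy]; group
  have hyY : y ∈ Y := by
    have : y = x * (l₂ * (a * l₂ * a⁻¹))⁻¹ := by rw [hyx]; group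
    rw [this]
    exact Y.mul_mem hxY (Y.inv_mem (hJY (hJmem l₂ hl₂)))
  let T : Subgroup L := Y.subgroupOf L
  haveI hTn : T.Normal := by
    constructor
    intro t ht l
    rw [Subgroup.mem_subgroupOf] at ht ⊢
    have h1 := hcomm t t.2 _ (hconj l l.2)
    have h2 : ((l * t * l⁻¹ : L) : H) = (l * (a * l * a⁻¹)) * t * (l * (a * l * a⁻¹))⁻¹ := by
      simp only [Subgroup.coe_mul, Subgroup.coe_inv]
      calc (l : H) * t * (l : H)⁻¹ = l * (t * (a * l * a⁻¹)) * (a * l * a⁻¹)⁻¹ * (l : H)⁻¹ := by group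
        _ = l * ((a * l * a⁻¹) * t) * (a * l * a⁻¹)⁻¹ * (l : H)⁻¹ := by rw [h1]
        _ = _ := by group
    rw [h2]
    have h3 := hJY (hJmem l l.2)
    exact Y.mul_mem (Y.mul_mem h3 ht) (Y.inv_mem h3)
  rcases Cfsg.Agent.H05.qs_normal hL.2 T with hT | hT
  · have hLY : L ≤ Y := by
      intro l hl
      have : (⟨l, hl⟩ : L) ∈ T := by rw [hT]; trivial
      exact Subgroup.mem_subgroupOf.1 this
    have hLaY : La ≤ Y := by
      rintro _ ⟨l, hl, rfl⟩
      have h1 : σ l = l⁻¹ * (l * (a * l * a⁻¹)) := by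
        show a * l * a⁻¹ = _
        group
      rw [h1]
      exact Y.mul_mem (Y.inv_mem (hLY hl)) (hJY (hJmem l hl))
    exact le_antisymm hYM (sup_le hLY hLaY)
  · exfalso
    apply hxJ
    have hyT : (⟨y, hyL⟩ : L) ∈ T := by
      rw [Subgroup.mem_subgroupOf]; exact hyY
    have hyc := hT hyT
    rw [Subgroup.mem_center_iff] at hyc
    have hyZ : y ∈ M ⊓ Subgroup.centralizer (M : Set H) := by
      refine ⟨Subgroup.mem_sup_left hyL, ?_⟩
      show y ∈ Subgroup.centralizer (M : Set H)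
      have hM' : M ≤ Subgroup.centralizer ({y} : Set H) := by
        apply sup_le
        · intro l hl
          rw [Subgroup.mem_centralizer_singleton_iff]
          have := hyc ⟨l, hl⟩
          exact congrArg Subtype.val this
        · intro m' hm'
          rw [Subgroup.mem_centralizer_singleton_iff]
          exact (hcomm y hyL m' hm').symm
      rw [Subgroup.mem_centralizer_iff]
      intro w hw
      have := hM' hw
      rw [Subgroup.mem_centralizer_singleton_iff] at this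
      exact this
    have hcz : y * (l₂ * (a * l₂ * a⁻¹)) = (l₂ * (a * l₂ * a⁻¹)) * y :=
      (Subgroup.mem_centralizer_iff.1 hyZ.2 _ (hJM (hJmem l₂ hl₂))).symm
    rw [hyx, hcz]
    exact Subgroup.mul_mem _ (Subgroup.mem_sup_left (hJmem l₂ hl₂)) (Subgroup.mem_sup_right hyZ)

end Cfsg.Agent.S1921
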