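import Cfsg.Statements.S2060
import Cfsg.Agent.Lib.H13.M11OutData

set_option autoImplicit false
set_option maxRecDepth 100000
open Cfsg

namespace Cfsg.Agent.S2060

open Cfsg.Agent.H27.Golay Cfsg.Agent.H13.MOut Cfsg.Agent.H13.MOut.M11D Equiv

abbrev HH : Subgroup (Perm GolayPt) := HD [0]

theorem mem_HH {x : ℕ} (h : isD [0] x = true) : P x ∈ HH := by
  obtain ⟨h1, h2, h3, _⟩ := isD_spec (l := [0]) (by simp) h
  exact ⟨h2, h3⟩

theorem haH : P ca ∈ HH := mem_HH (by decide +kernel)
theorem hbH : P cb ∈ HH := mem_HH (by decide +kernel)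
theorem hmH : P cmu ∈ HH := mem_HH (by decide +kernel)
theorem ca_ok : isM24 ca = true := by decide +kernel
theorem cb_ok : isM24 cb = true := by decide +kernel
theorem cmu_ok : isM24 cmu = true := by decide +kernel
theorem ck_ok : isM24 ck = true := by decide +kernel

/-- The levels of the chain. -/
def LL : List (ℕ × ℕ × List ℕ) :=
  [(1, 340830, U2), (2, 340828, U3), (3, 340824, U4), (4, 340816, U5)]

theorem chainOK : ChainOK HH [0] LL := by
  refine ⟨hlevel_HD (by simp) (by simp) (by norm_num) (by simp) (by decide +kernel) (by decide +kernel)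
      (by decide +kernel) (by decide +kernel),
    hlevel_HD (by simp) (by simp) (by norm_num) (by simp) (by decide +kernel) (by decide +kernel)
      (by decide +kernel) (by decide +kernel),
    hlevel_HD (by simp) (by simp) (by norm_num) (by simp) (by decide +kernel) (by decide +kernel)
      (by decide +kernel) (by decide +kernel),
    hlevel_HD (by simp) (by simp) (by norm_num) (by simp) (by decide +kernel) (by decide +kernel)
      (by decide +kernel) (by decide +kernel),
    ?_⟩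
  exact chainEnd_HD ck_ok (by decide +kernel) (by decide +kernel) (by decide +kernel) (by decide +kernel)
    (by decide +kernel) (by decide +kernel) [0]

theorem hl : ∀ g ∈ HH, FixL [0] g := fun _ hg => hg.2.2

theorem gen_top : Subgroup.closure {(⟨P ca, haH⟩ : HH), (⟨P cb, hbH⟩ : HH)} = ⊤ :=
  closure_top_of_chain haH hbH (isM24_permOK ca_ok) (isM24_permOK cb_ok)
    chainOK hl st (hcheck_of (by decide +kernel))

theorem hnorm : ∀ k, 0 < k → k < 11 → ∃ j, (k * 3 ^ j) % 11 = 1 ∨ (k * 3 ^ j) % 11 = 11 - 1 := by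
  have h : ∀ k < 11, 0 < k → ∃ j < 11, (k * 3 ^ j) % 11 = 1 ∨ (k * 3 ^ j) % 11 = 11 - 1 := by decide
  intro k h0 h1
  obtain ⟨j, _, hj⟩ := h k h1 h0
  exact ⟨j, hj⟩

instance : Fact (Nat.Prime 11) := ⟨by norm_num⟩
instance : Fact (Nat.Prime 2) := ⟨by norm_num⟩

theorem order_cb : orderOf (P cb) = 11 :=
  orderOf_P (isM24_permOK cb_ok) (by decide +kernel) (by decide +kernel)

/-- The exceptions, for `b`. -/
def excP : List ℕ := (List.range 11).map (fun j => conjC (pcPow cb j) ca)

theorem hchk : chainAll (LL.map fun x => x.2.2) (testC R cb excP [])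
    984818244535754528103549039458486304 = true := by
  decide +kernel

/-- The value of a conjugate by a power of `b`. -/
theorem P_conjC_pow {c : ℕ} (hc : permOK c = true) (j : ℕ) :
    P (conjC (pcPow cb j) c) = (P cb) ^ j * P c * ((P cb) ^ j)⁻¹ := by
  obtain ⟨h1, h2⟩ := pcPow_spec (isM24_permOK cb_ok) j
  unfold conjC
  rw [P_pcomp h1 (permOK_pcomp hc (permOK_pinv h1)), P_pcomp hc (permOK_pinv h1), P_pinv h1, h2, mul_assoc]

theorem all_inner (φ : MulAut HH) : φ ∈ Cfsg.Inn HH := by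
  have hcbok := isM24_permOK cb_ok
  obtain ⟨g, h | h⟩ := final_chain (H := HH) (q := 11) (cb := cb) (ca := ca) cmu 3 R excP []
    (not_sq_dvd_of_le (HD_le [0]) (by norm_num)) hcbok hbH hmH haH (isM24_permOK ca_ok) order_cb
    (conj_eq_pow_of_code (isM24_permOK cmu_ok) hcbok (by decide +kernel)) hnorm
    chainOK hl (by decide +kernel) hchk φ
  · obtain ⟨h1, c, hc, h2⟩ := h
    obtain ⟨j, _, rfl⟩ := List.mem_map.1 hc
    let b : HH := ⟨P cb, hbH⟩
    refine mem_inn_of_agree gen_top φ ((b ^ j)⁻¹ * g) ?_ ?_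
    · apply Subtype.ext
      have e1 : (b ^ j)⁻¹ * g * φ ⟨P ca, haH⟩ * ((b ^ j)⁻¹ * g)⁻¹ =
          (b ^ j)⁻¹ * (g * φ ⟨P ca, haH⟩ * g⁻¹) * b ^ j := by group
      rw [e1]
      show ((b ^ j : HH) : Perm GolayPt)⁻¹ * ((g * φ ⟨P ca, haH⟩ * g⁻¹ : HH) : Perm GolayPt) * ((b ^ j : HH) : Perm GolayPt) = P ca
      rw [h2, P_conjC_pow (isM24_permOK ca_ok)]
      have e2 : ((b ^ j : HH) : Perm GolayPt) = (P cb) ^ j := rfl
      rw [e2]
      group
    · have e1 : (b ^ j)⁻¹ * g * φ ⟨P cb, hbH⟩ * ((b ^ j)⁻¹ * g)⁻¹ =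
          (b ^ j)⁻¹ * (g * φ ⟨P cb, hbH⟩ * g⁻¹) * b ^ j := by group
      rw [e1, h1]
      show (b ^ j)⁻¹ * b * b ^ j = b
      group
  · obtain ⟨_, c, hc, _⟩ := h
    cases hc

/-- The outer automorphism group of the Mathieu group M₁₁ is trivial. -/
theorem result : Nat.card (Cfsg.Out ↥Cfsg.Spor.M11) = 1 := by
  rw [← HD_zero]
  exact out_card_one all_inner

end Cfsg.Agent.S2060
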