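import Cfsg.Statements.S2061
import Cfsg.Agent.Lib.H13.M12OutData

set_option autoImplicit false
set_option maxRecDepth 100000
open Cfsg

namespace Cfsg.Agent.S2061

open Cfsg.Agent.H27.Golay Cfsg.Agent.H13.MOut Cfsg.Agent.H13.MOut.M12D Equiv

abbrev HH : Subgroup (Perm GolayPt) := HD []

theorem mem_HH {x : ℕ} (h : isD [] x = true) : P x ∈ HH := by
  obtain ⟨h1, h2, h3, _⟩ := isD_spec (l := []) (by simp) h
  exact ⟨h2, h3⟩

theorem haH : P ca ∈ HH := mem_HH (by decide +kernel)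
theorem ha1H : P ca1 ∈ HH := mem_HH (by decide +kernel)
theorem hbH : P cb ∈ HH := mem_HH (by decide +kernel)
theorem hmH : P cmu ∈ HH := mem_HH (by decide +kernel)
theorem hdH : P cd ∈ HH := mem_HH (by decide +kernel)
theorem ca_ok : isM24 ca = true := by decide +kernel
theorem ca1_ok : isM24 ca1 = true := by decide +kernel
theorem cb_ok : isM24 cb = true := by decide +kernel
theorem cmu_ok : isM24 cmu = true := by decide +kernel
theorem ct_ok : isM24 ct = true := by decide +kernel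
theorem cd_ok : isM24 cd = true := by decide +kernel
theorem ck_ok : isM24 ck = true := by decide +kernel

/-- The levels of the chain. -/
def LL : List (ℕ × ℕ × List ℕ) :=
  [(0, 340831, U1), (1, 340830, U2), (2, 340828, U3), (3, 340824, U4), (4, 340816, U5)]

theorem chainOK : ChainOK HH [] LL := by
  refine ⟨hlevel_HD (by simp) (by simp) (by norm_num) (by simp) (by decide +kernel) (by decide +kernel)
      (by decide +kernel) (by decide +kernel),
    hlevel_HD (by simp) (by simp) (by norm_num) (by simp) (by decide +kernel) (by decide +kernel)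
      (by decide +kernel) (by decide +kernel),
    hlevel_HD (by simp) (by simp) (by norm_num) (by simp) (by decide +kernel) (by decide +kernel)
      (by decide +kernel) (by decide +kernel),
    hlevel_HD (by simp) (by simp) (by norm_num) (by simp) (by decide +kernel) (by decide +kernel)
      (by decide +kernel) (by decide +kernel),
    hlevel_HD (by simp) (by simp) (by norm_num) (by simp) (by decide +kernel) (by decide +kernel)
      (by decide +kernel) (by decide +kernel),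
    ?_⟩
  exact chainEnd_HD ck_ok (by decide +kernel) (by decide +kernel) (by decide +kernel) (by decide +kernel)
    (by decide +kernel) (by decide +kernel) []

theorem gen_top : Subgroup.closure {(⟨P ca, haH⟩ : HH), (⟨P cb, hbH⟩ : HH)} = ⊤ :=
  closure_top_of_chain haH hbH (isM24_permOK ca_ok) (isM24_permOK cb_ok)
    chainOK (fun _ _ i hi => by cases hi) st (hcheck_of (by decide +kernel))

theorem hnorm : ∀ k, 0 < k → k < 11 → ∃ j, (k * 3 ^ j) % 11 = 1 ∨ (k * 3 ^ j) % 11 = 11 - 1 := by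
  have h : ∀ k < 11, 0 < k → ∃ j < 11, (k * 3 ^ j) % 11 = 1 ∨ (k * 3 ^ j) % 11 = 11 - 1 := by decide
  intro k h0 h1
  obtain ⟨j, _, hj⟩ := h k h1 h0
  exact ⟨j, hj⟩

instance : Fact (Nat.Prime 11) := ⟨by norm_num⟩
instance : Fact (Nat.Prime 2) := ⟨by norm_num⟩

theorem order_cb : orderOf (P cb) = 11 :=
  orderOf_P (isM24_permOK cb_ok) (by decide +kernel) (by decide +kernel)

/-- The exceptions, for `b`. -/
def excP : List ℕ := (List.range 11).map (fun j => conjC (pcPow cb j) ca)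

/-- The exceptions, for `b⁻¹`. -/
def excM : List ℕ := (List.range 11).map (fun j => conjC (pcPow cb j) ca1)

theorem hchk : chainAll (LL.map fun x => x.2.2) (testC R cb excP excM)
    984818244535754528103549039458486304 = true := by
  decide +kernel

noncomputable abbrev tt : Perm GolayPt := P ct

theorem tok : permOK ct = true := isM24_permOK ct_ok

/-- `ct` exchanges the dodecad and its complement. -/
theorem swap_check : allBelow (fun i => Bool.rec (Dm.testBit (pa ct i)) (!(Dm.testBit (pa ct i)))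
    (Dm.testBit i)) 24 = true := by decide +kernel

theorem t_swap (q : GolayPt) : tt q ∈ fs Dm ↔ q ∉ fs Dm := by
  rw [mem_fs, mem_fs, idx_P tok]
  have h := allBelow_spec swap_check _ (idx_lt q)
  cases h4 : Dm.testBit (idx q) <;> rw [h4] at h <;> simp_all

theorem ti_swap (q : GolayPt) : tt⁻¹ q ∈ fs Dm ↔ q ∉ fs Dm := by
  have h := t_swap (tt⁻¹ q)
  have h0 : tt (tt⁻¹ q) = q := by simp
  rw [h0] at h
  constructor
  · intro h1 h2
    exact (h.1 h2) h1
  · intro h1
    by_contra h2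
    exact h1 (h.2 h2)

theorem conj_mem (x : Perm GolayPt) (hx : x ∈ HH) : tt * x * tt⁻¹ ∈ HH := by
  have hM := M24.mul_mem (M24.mul_mem (P_mem_M24 ct_ok) hx.2.1) (M24.inv_mem (P_mem_M24 ct_ok))
  refine ⟨mem_M12_iff.2 ⟨hM, fun q => ?_⟩, ⟨hM, fun i hi => by cases hi⟩⟩
  have h1 := (mem_M12_iff.1 hx.1).2
  rw [Equiv.Perm.mul_apply, Equiv.Perm.mul_apply, t_swap, h1, ti_swap, not_not]

theorem conj_mem' (x : Perm GolayPt) (hx : x ∈ HH) : tt⁻¹ * x * tt ∈ HH := by
  have hM := M24.mul_mem (M24.mul_mem (M24.inv_mem (P_mem_M24 ct_ok)) hx.2.1) (P_mem_M24 ct_ok)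
  refine ⟨mem_M12_iff.2 ⟨hM, fun q => ?_⟩, ⟨hM, fun i hi => by cases hi⟩⟩
  have h1 := (mem_M12_iff.1 hx.1).2
  rw [Equiv.Perm.mul_apply, Equiv.Perm.mul_apply, ti_swap, h1, t_swap, not_not]

/-- The outer automorphism. -/
noncomputable def psi : MulAut HH := conjAutOf HH tt conj_mem conj_mem'

theorem psi_apply (x : HH) : ((psi x : HH) : Perm GolayPt) = tt * x * tt⁻¹ := rfl

/-- The fixed points of `cd` lie in the dodecad. -/
theorem fix_cd : allBelow (fun i => Bool.rec true (Dm.testBit i) (Nat.beq (pa cd i) i)) 24 = true := by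
  decide +kernel

theorem not_inner : psi ∉ Cfsg.Inn HH := by
  rintro ⟨g, hg⟩
  have hcom : ∀ x : HH, (g⁻¹.1 * tt) * x.1 = x.1 * (g⁻¹.1 * tt) := by
    intro x
    have h1 : ((MulAut.conj g) x : HH) = psi x := by rw [hg]
    have h2 : g.1 * x.1 * g.1⁻¹ = tt * x.1 * tt⁻¹ := congrArg Subtype.val h1
    have h3 : x.1 = g.1⁻¹ * (g.1 * x.1 * g.1⁻¹) * g.1 := by group
    show g.1⁻¹ * tt * x.1 = x.1 * (g.1⁻¹ * tt)
    conv_rhs => rw [h3, h2]
    group
  set z : Perm GolayPt := g⁻¹.1 * tt with hz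
  have hdok := isM24_permOK cd_ok
  have hcomd : ∀ p, z (P cd p) = P cd (z p) := by
    intro p
    exact congrArg (fun f : Perm GolayPt => f p) (hcom ⟨P cd, hdH⟩)
  have hpp : pp < 24 := by decide +kernel
  have h1 : P cd (z (pt pp)) = z (pt pp) := by
    rw [← hcomd, P_pt hdok hpp, (by decide +kernel : pa cd pp = pp)]
  have h2 := allBelow_spec fix_cd _ (idx_lt (z (pt pp)))
  have h3 : pa cd (idx (z (pt pp))) = idx (z (pt pp)) := by
    rw [← idx_P hdok, h1]
  rw [h3, Nat.beq_refl] at h2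
  have h4 : z (pt pp) ∈ fs Dm := mem_fs.2 h2
  have h5 : z (pt pp) = g⁻¹.1 (tt (pt pp)) := rfl
  rw [h5, (mem_M12_iff.1 (g⁻¹).2.1).2, t_swap, mem_fs, idx_pt' hpp] at h4
  exact h4 (by decide +kernel)

theorem P_ca1 : P ca1 = tt * P ca * tt⁻¹ := by
  rw [← P_pinv tok, ← P_pcomp tok (isM24_permOK ca_ok), ← P_pcomp (permOK_pcomp tok (isM24_permOK ca_ok)) (permOK_pinv tok)]
  exact P_eq_of_sameCode (isM24_permOK ca1_ok)
    (permOK_pcomp (permOK_pcomp tok (isM24_permOK ca_ok)) (permOK_pinv tok)) (by decide +kernel)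

theorem P_cbi : tt * P cb * tt⁻¹ = (P cb)⁻¹ := by
  have hcb := isM24_permOK cb_ok
  rw [← P_pinv tok, ← P_pcomp tok hcb, ← P_pcomp (permOK_pcomp tok hcb) (permOK_pinv tok), ← P_pinv hcb]
  exact P_eq_of_sameCode (permOK_pcomp (permOK_pcomp tok hcb) (permOK_pinv tok))
    (permOK_pinv hcb) (by decide +kernel)

/-- The value of a conjugate by a power of `b`. -/
theorem P_conjC_pow {c : ℕ} (hc : permOK c = true) (j : ℕ) :
    P (conjC (pcPow cb j) c) = (P cb) ^ j * P c * ((P cb) ^ j)⁻¹ := by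
  obtain ⟨h1, h2⟩ := pcPow_spec (isM24_permOK cb_ok) j
  unfold conjC
  rw [P_pcomp h1 (permOK_pcomp hc (permOK_pinv h1)), P_pcomp hc (permOK_pinv h1), P_pinv h1, h2, mul_assoc]

theorem all_cases (φ : MulAut HH) : φ ∈ Cfsg.Inn HH ∨ φ * psi⁻¹ ∈ Cfsg.Inn HH := by
  have hcbok := isM24_permOK cb_ok
  obtain ⟨g, h | h⟩ := final_chain (H := HH) (q := 11) (cb := cb) (ca := ca) cmu 3 R excP excM
    (not_sq_dvd_of_le (HD_le []) (by norm_num)) hcbok hbH hmH haH (isM24_permOK ca_ok) order_cb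
    (conj_eq_pow_of_code (isM24_permOK cmu_ok) hcbok (by decide +kernel)) hnorm
    chainOK (fun _ _ i hi => by cases hi) (by decide +kernel) hchk φ
  · left
    obtain ⟨h1, c, hc, h2⟩ := h
    obtain ⟨j, _, rfl⟩ := List.mem_map.1 hc
    let b : HH := ⟨P cb, hbH⟩
    refine mem_inn_of_agree gen_top φ ((b ^ j)⁻¹ * g) ?_ ?_
    · apply Subtype.ext
      have e1 : (b ^ j)⁻¹ * g * φ ⟨P ca, haH⟩ * ((b ^ j)⁻¹ * g)⁻¹ =
          (b ^ j)⁻¹ * (g * φ ⟨P ca, haH⟩ * g⁻¹) * b ^ j := by group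
      rw [e1]
      show ((b ^ j : HH) : Perm GolayPt)⁻¹ * ((g * φ ⟨P ca, haH⟩ * g⁻¹ : HH) : Perm GolayPt) * ((b ^ j : HH) : Perm GolayPt) = P ca
      rw [h2, P_conjC_pow (isM24_permOK ca_ok)]
      have e2 : ((b ^ j : HH) : Perm GolayPt) = (P cb) ^ j := rfl
      rw [e2]
      group
    · have e1 : (b ^ j)⁻¹ * g * φ ⟨P cb, hbH⟩ * ((b ^ j)⁻¹ * g)⁻¹ =
          (b ^ j)⁻¹ * (g * φ ⟨P cb, hbH⟩ * g⁻¹) * b ^ j := by group
      rw [e1, h1]
      show (b ^ j)⁻¹ * b * b ^ j = b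
      group
  · right
    obtain ⟨h1, c, hc, h2⟩ := h
    obtain ⟨j, _, rfl⟩ := List.mem_map.1 hc
    let b : HH := ⟨P cb, hbH⟩
    let g' : HH := (b ^ j)⁻¹ * g
    have key : (MulAut.conj g') * φ = psi := by
      apply aut_eq_of_agree gen_top
      · apply Subtype.ext
        show ((g' * φ ⟨P ca, haH⟩ * g'⁻¹ : HH) : Perm GolayPt) = _
        have e1 : g' * φ ⟨P ca, haH⟩ * g'⁻¹ = (b ^ j)⁻¹ * (g * φ ⟨P ca, haH⟩ * g⁻¹) * b ^ j := by
          show (b ^ j)⁻¹ * g * φ ⟨P ca, haH⟩ * ((b ^ j)⁻¹ * g)⁻¹ = _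
          group
        rw [e1, psi_apply, ← P_ca1]
        show ((b ^ j : HH) : Perm GolayPt)⁻¹ * ((g * φ ⟨P ca, haH⟩ * g⁻¹ : HH) : Perm GolayPt) * ((b ^ j : HH) : Perm GolayPt) = P ca1
        rw [h2, P_conjC_pow (isM24_permOK ca1_ok)]
        have e2 : ((b ^ j : HH) : Perm GolayPt) = (P cb) ^ j := rfl
        rw [e2]
        group
      · rw [show ((MulAut.conj g') * φ) ⟨P cb, hbH⟩ = g' * φ ⟨P cb, hbH⟩ * g'⁻¹ from rfl]
        have e1 : g' * φ ⟨P cb, hbH⟩ * g'⁻¹ = (b ^ j)⁻¹ * (g * φ ⟨P cb, hbH⟩ * g⁻¹) * b ^ j := by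
          show (b ^ j)⁻¹ * g * φ ⟨P cb, hbH⟩ * ((b ^ j)⁻¹ * g)⁻¹ = _
          group
        rw [e1, h1]
        apply Subtype.ext
        rw [psi_apply, P_cbi]
        show ((b ^ j)⁻¹ * b⁻¹ * b ^ j : HH).1 = _
        have : (b ^ j)⁻¹ * b⁻¹ * b ^ j = b⁻¹ := by group
        rw [this]
        rfl
    refine ⟨g'⁻¹, ?_⟩
    rw [← key, map_inv]
    group

/-- The outer automorphism group of the Mathieu group M₁₂ has order 2. -/
theorem result : Nat.card (Cfsg.Out ↥Cfsg.Spor.M12) = 2 := by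
  rw [← HD_nil]
  exact out_card_two psi not_inner all_cases

end Cfsg.Agent.S2061
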