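import Cfsg.Statements.S2062
import Cfsg.Agent.Lib.H13.M22OutData

set_option autoImplicit false
set_option maxRecDepth 100000
open Cfsg

namespace Cfsg.Agent.S2062

open Cfsg.Agent.H27.Golay Cfsg.Agent.H13.MOut Cfsg.Agent.H13.MOut.M22D Equiv

abbrev HH : Subgroup (Perm GolayPt) := fixG [0, 23]

theorem hle : HH ≤ M24 := fun _ h => h.1

theorem haH : P ca ∈ HH := P_mem_fixG (by simp) (by decide +kernel)
theorem ha1H : P ca1 ∈ HH := P_mem_fixG (by simp) (by decide +kernel)
theorem hbH : P cb ∈ HH := P_mem_fixG (by simp) (by decide +kernel)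
theorem hmH : P cmu ∈ HH := P_mem_fixG (by simp) (by decide +kernel)
theorem hdH : P cd ∈ HH := P_mem_fixG (by simp) (by decide +kernel)
theorem ca_ok : isM24 ca = true := by decide +kernel
theorem ca1_ok : isM24 ca1 = true := by decide +kernel
theorem cb_ok : isM24 cb = true := by decide +kernel
theorem cmu_ok : isM24 cmu = true := by decide +kernel
theorem ct_ok : isM24 ct = true := by decide +kernel
theorem cd_ok : isM24 cd = true := by decide +kernel

/-- The levels of the chain. -/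
def LL : List (ℕ × ℕ × List ℕ) :=
  [(1, 8388606, U3), (2, 8388604, U4), (3, 8388600, U5), (5, 147488, U6), (4, 8241104, U7)]

theorem chainOK : ChainOK HH [0, 23] LL := by
  refine ⟨hlevel_of_level (by simp) (level_replace level3 (by decide +kernel) (by decide +kernel)),
    hlevel_of_level (by simp) (level_replace level4 (by decide +kernel) (by decide +kernel)),
    hlevel_of_level (by simp) (level_replace level5 (by decide +kernel) (by decide +kernel)),
    hlevel_of_level (by simp) (level_replace level6 (by decide +kernel) (by decide +kernel)),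
    hlevel_of_level (by simp) (level_replace level7 (by decide +kernel) (by decide +kernel)),
    ?_⟩
  exact chain_end [0, 23]

theorem gen_top : Subgroup.closure {(⟨P ca, haH⟩ : HH), (⟨P cb, hbH⟩ : HH)} = ⊤ :=
  closure_top_of_chain haH hbH (isM24_permOK ca_ok) (isM24_permOK cb_ok)
    chainOK (fun _ hg => hg.2) st (hcheck_of (by decide +kernel))

theorem hnorm : ∀ k, 0 < k → k < 11 → ∃ j, (k * 3 ^ j) % 11 = 1 ∨ (k * 3 ^ j) % 11 = 11 - 1 := by
  have h : ∀ k < 11, 0 < k → ∃ j < 11, (k * 3 ^ j) % 11 = 1 ∨ (k * 3 ^ j) % 11 = 11 - 1 := by decide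
  intro k h0 h1
  obtain ⟨j, _, hj⟩ := h k h1 h0
  exact ⟨j, hj⟩

instance : Fact (Nat.Prime 11) := ⟨by norm_num⟩
instance : Fact (Nat.Prime 2) := ⟨by norm_num⟩

theorem order_cb : orderOf (P cb) = 11 :=
  orderOf_P (isM24_permOK cb_ok) (by decide +kernel) (by decide +kernel)

theorem order_ca : orderOf (P ca) = 2 :=
  orderOf_P (isM24_permOK ca_ok) (by decide +kernel) (by decide +kernel)

theorem hS : ∀ x ∈ HH, ∀ i, i < 24 → (lm [0, 23]).testBit i = true → x (pt i) = pt i := by
  intro x hx i _ hi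
  exact hx.2 i ((testBit_lm _ _).1 hi)

noncomputable abbrev tt : Perm GolayPt := P ct

theorem tok : permOK ct = true := isM24_permOK ct_ok

theorem t0 : tt (pt 0) = pt 23 := by
  rw [P_pt tok (by norm_num), (by decide +kernel : pa ct 0 = 23)]

theorem t23 : tt (pt 23) = pt 0 := by
  rw [P_pt tok (by norm_num), (by decide +kernel : pa ct 23 = 0)]

theorem ti0 : tt⁻¹ (pt 0) = pt 23 := by
  rw [Equiv.Perm.inv_eq_iff_eq]; exact t23.symm

theorem ti23 : tt⁻¹ (pt 23) = pt 0 := by
  rw [Equiv.Perm.inv_eq_iff_eq]; exact t0.symm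

theorem fix_x {x : Perm GolayPt} (hx : x ∈ HH) : x (pt 0) = pt 0 ∧ x (pt 23) = pt 23 :=
  ⟨hx.2 0 (by simp), hx.2 23 (by simp)⟩

theorem conj_mem (x : Perm GolayPt) (hx : x ∈ HH) : tt * x * tt⁻¹ ∈ HH := by
  refine ⟨M24.mul_mem (M24.mul_mem (P_mem_M24 ct_ok) hx.1) (M24.inv_mem (P_mem_M24 ct_ok)), ?_⟩
  intro i hi
  simp only [List.mem_cons, List.not_mem_nil, or_false] at hi
  rcases hi with rfl | rfl
  · simp only [Equiv.Perm.mul_apply, ti0, (fix_x hx).2, t23]
  · simp only [Equiv.Perm.mul_apply, ti23, (fix_x hx).1, t0]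

theorem conj_mem' (x : Perm GolayPt) (hx : x ∈ HH) : tt⁻¹ * x * tt ∈ HH := by
  refine ⟨M24.mul_mem (M24.mul_mem (M24.inv_mem (P_mem_M24 ct_ok)) hx.1) (P_mem_M24 ct_ok), ?_⟩
  intro i hi
  simp only [List.mem_cons, List.not_mem_nil, or_false] at hi
  rcases hi with rfl | rfl
  · simp only [Equiv.Perm.mul_apply, t0, (fix_x hx).2, ti23]
  · simp only [Equiv.Perm.mul_apply, t23, (fix_x hx).1, ti0]

/-- The outer automorphism. -/
noncomputable def psi : MulAut HH := conjAutOf HH tt conj_mem conj_mem'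

theorem psi_apply (x : HH) : ((psi x : HH) : Perm GolayPt) = tt * x * tt⁻¹ := rfl

/-- The points of the list. -/
def lM : List ℕ := exps.map (fun i => pa (pcPow cb i) pp)

theorem QQ_octad : fs QQ ∈ octads :=
  mem_octads_fs (by decide +kernel) (by decide +kernel) (by decide +kernel)

/-- The fixed points of `cd`. -/
theorem fix_cd : allBelow (fun i => Bool.rec true (Nat.beq i 0 || Nat.beq i 23 || Nat.beq i pp)
    (Nat.beq (pa cd i) i)) 24 = true := by decide +kernel

theorem not_inner : psi ∉ Cfsg.Inn HH := by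
  rintro ⟨g, hg⟩
  have hcom : ∀ x : HH, (g⁻¹.1 * tt) * x.1 = x.1 * (g⁻¹.1 * tt) := by
    intro x
    have h1 : ((MulAut.conj g) x : HH) = psi x := by rw [hg]
    have h2 : g.1 * x.1 * g.1⁻¹ = tt * x.1 * tt⁻¹ := congrArg Subtype.val h1
    have h3 : x.1 = g.1⁻¹ * (g.1 * x.1 * g.1⁻¹) * g.1 := by group
    show g.1⁻¹ * tt * x.1 = x.1 * (g.1⁻¹ * tt)
    conv_rhs => rw [h3, h2]
    group
  set z : Perm GolayPt := g⁻¹.1 * tt with hz
  have hzM : z ∈ M24 := M24.mul_mem (g⁻¹).2.1 (P_mem_M24 ct_ok)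
  have hz0 : z (pt 0) = pt 23 := by
    rw [hz, Equiv.Perm.mul_apply, t0]
    exact (fix_x (g⁻¹).2).2
  have hz23 : z (pt 23) = pt 0 := by
    rw [hz, Equiv.Perm.mul_apply, t23]
    exact (fix_x (g⁻¹).2).1
  have hdok := isM24_permOK cd_ok
  have hcomd : ∀ p, z (P cd p) = P cd (z p) := by
    intro p
    exact congrArg (fun f : Perm GolayPt => f p) (hcom ⟨P cd, hdH⟩)
  have hpp : pp < 24 := by decide +kernel
  have hzp : z (pt pp) = pt pp := by
    have h1 : P cd (z (pt pp)) = z (pt pp) := by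
      rw [← hcomd, P_pt hdok hpp, (by decide +kernel : pa cd pp = pp)]
    have h2 := allBelow_spec fix_cd _ (idx_lt (z (pt pp)))
    have h3 : pa cd (idx (z (pt pp))) = idx (z (pt pp)) := by
      rw [← idx_P hdok, h1]
    rw [h3, Nat.beq_refl] at h2
    simp only [Bool.or_eq_true] at h2
    rcases h2 with (h2 | h2) | h2
    · exfalso
      have h4 := Nat.eq_of_beq_eq_true h2
      have h5 : z (pt pp) = pt 0 := by rw [← pt_idx (z (pt pp)), h4]
      rw [← hz23] at h5
      have h6 := congrArg idx (z.injective h5)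
      rw [idx_pt' hpp, idx_pt' (by norm_num)] at h6
      revert h6
      decide +kernel
    · exfalso
      have h4 := Nat.eq_of_beq_eq_true h2
      have h5 : z (pt pp) = pt 23 := by rw [← pt_idx (z (pt pp)), h4]
      rw [← hz0] at h5
      have h6 := congrArg idx (z.injective h5)
      rw [idx_pt' hpp, idx_pt' (by norm_num)] at h6
      revert h6
      decide +kernel
    · have h4 := Nat.eq_of_beq_eq_true h2
      rw [← pt_idx (z (pt pp)), h4]
  have hcb := isM24_permOK cb_ok
  have hzb : ∀ p, z (P cb p) = P cb (z p) := by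
    intro p
    exact congrArg (fun f : Perm GolayPt => f p) (hcom ⟨P cb, hbH⟩)
  have hzbn : ∀ (n : ℕ) (p : GolayPt), z (((P cb) ^ n) p) = ((P cb) ^ n) (z p) := by
    intro n
    induction n with
    | zero => intro p; rfl
    | succ n ih =>
      intro p
      rw [pow_succ']
      show z (P cb ((P cb ^ n) p)) = P cb ((P cb ^ n) (z p))
      rw [hzb, ih]
  have hfixl : z ∈ fixG lM := by
    refine ⟨hzM, ?_⟩
    intro i hi
    obtain ⟨e, _, rfl⟩ := List.mem_map.1 hi
    have h1 := pcPow_spec hcb e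
    rw [← P_pt h1.1 hpp, h1.2, hzbn, hzp]
  have h1 := fix_octad QQ_octad (by decide +kernel) (by decide +kernel) hfixl
  have h2 := @apply_mem_of_smul_eq z _ h1 (pt 0)
  rw [hz0, mem_fs, mem_fs, idx_pt' (by norm_num), idx_pt' (by norm_num)] at h2
  have h3 : QQ.testBit 0 = true := by decide +kernel
  have h4 : QQ.testBit 23 = false := by decide +kernel
  rw [h3, h4] at h2
  simp at h2

theorem P_ca1 : P ca1 = tt * P ca * tt⁻¹ := by
  rw [← P_pinv tok, ← P_pcomp tok (isM24_permOK ca_ok), ← P_pcomp (permOK_pcomp tok (isM24_permOK ca_ok)) (permOK_pinv tok)]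
  exact P_eq_of_sameCode (isM24_permOK ca1_ok)
    (permOK_pcomp (permOK_pcomp tok (isM24_permOK ca_ok)) (permOK_pinv tok)) (by decide +kernel)

theorem P_cbi : tt * P cb * tt⁻¹ = (P cb)⁻¹ := by
  have hcb := isM24_permOK cb_ok
  rw [← P_pinv tok, ← P_pcomp tok hcb, ← P_pcomp (permOK_pcomp tok hcb) (permOK_pinv tok), ← P_pinv hcb]
  exact P_eq_of_sameCode (permOK_pcomp (permOK_pcomp tok hcb) (permOK_pinv tok))
    (permOK_pinv hcb) (by decide +kernel)

theorem all_cases (φ : MulAut HH) : φ ∈ Cfsg.Inn HH ∨ φ * psi⁻¹ ∈ Cfsg.Inn HH := by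
  have hfp : ∀ g : HH, ∃ p, ((g * φ ⟨P ca, haH⟩ * g⁻¹ : HH) : Perm GolayPt) p = p := fun g =>
    ⟨pt 23, (g * φ ⟨P ca, haH⟩ * g⁻¹ : HH).2.2 23 (by simp)⟩
  obtain ⟨g, h | h⟩ := final_oct (H := HH) (q := 11) (cb := cb) (ca := ca) hle cmu 3 (lm [0, 23]) ts R [ca] [ca1]
    (not_sq_dvd_of_le hle (by norm_num)) cb_ok hbH hmH haH (isM24_permOK ca_ok) order_cb
    (conj_eq_pow_of_code (isM24_permOK cmu_ok) (isM24_permOK cb_ok) (by decide +kernel)) hnorm
    (by decide +kernel) (by decide +kernel) hS order_ca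
    (by decide +kernel) (by decide +kernel) φ hfp
  · left
    obtain ⟨h1, c, hc, h2⟩ := h
    have hc' : c = ca := by simpa using hc
    subst hc'
    exact mem_inn_of_agree gen_top φ g (Subtype.ext h2) h1
  · right
    obtain ⟨h1, c, hc, h2⟩ := h
    have hc' : c = ca1 := by simpa using hc
    subst hc'
    have key : (MulAut.conj g) * φ = psi := by
      apply aut_eq_of_agree gen_top
      · apply Subtype.ext
        rw [psi_apply, ← P_ca1, ← h2]
        rfl
      · rw [show ((MulAut.conj g) * φ) ⟨P cb, hbH⟩ = g * φ ⟨P cb, hbH⟩ * g⁻¹ from rfl, h1]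
        apply Subtype.ext
        rw [psi_apply, P_cbi]
        rfl
    refine ⟨g⁻¹, ?_⟩
    rw [← key, map_inv]
    group

/-- The outer automorphism group of the Mathieu group M₂₂ has order 2. -/
theorem result : Nat.card (Cfsg.Out ↥Cfsg.Spor.M22) = 2 := by
  rw [M22_eq]
  exact out_card_two psi not_inner all_cases

end Cfsg.Agent.S2062
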