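import Cfsg.Statements.S2063
import Cfsg.Agent.Lib.H13.M23OutData

set_option autoImplicit false
set_option maxRecDepth 100000
open Cfsg

namespace Cfsg.Agent.S2063

open Cfsg.Agent.H27.Golay Cfsg.Agent.H13.MOut Cfsg.Agent.H13.MOut.M23D Equiv

abbrev HH : Subgroup (Perm GolayPt) := fixG [23]

theorem haH : P ca ∈ HH := P_mem_fixG (by simp) (by decide +kernel)
theorem hbH : P cb ∈ HH := P_mem_fixG (by simp) (by decide +kernel)
theorem hmH : P cmu ∈ HH := P_mem_fixG (by simp) (by decide +kernel)
theorem ca_ok : isM24 ca = true := by decide +kernel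
theorem cb_ok : isM24 cb = true := by decide +kernel
theorem cmu_ok : isM24 cmu = true := by decide +kernel

/-- The levels of the chain. -/
def LL : List (ℕ × ℕ × List ℕ) :=
  [(0, 8388607, U2), (1, 8388606, U3), (2, 8388604, U4), (3, 8388600, U5),
    (5, 147488, U6), (4, 8241104, U7)]

theorem chainOK : ChainOK HH [23] LL := by
  refine ⟨hlevel_of_level (by simp) (level_replace level2 (by decide +kernel) (by decide +kernel)),
    hlevel_of_level (by simp) (level_replace level3 (by decide +kernel) (by decide +kernel)),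
    hlevel_of_level (by simp) (level_replace level4 (by decide +kernel) (by decide +kernel)),
    hlevel_of_level (by simp) (level_replace level5 (by decide +kernel) (by decide +kernel)),
    hlevel_of_level (by simp) (level_replace level6 (by decide +kernel) (by decide +kernel)),
    hlevel_of_level (by simp) (level_replace level7 (by decide +kernel) (by decide +kernel)),
    ?_⟩
  exact chain_end [23]

theorem gen_top : Subgroup.closure {(⟨P ca, haH⟩ : HH), (⟨P cb, hbH⟩ : HH)} = ⊤ :=
  closure_top_of_chain haH hbH (isM24_permOK ca_ok) (isM24_permOK cb_ok)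
    chainOK (fun _ hg => hg.2) st (hcheck_of (by decide +kernel))

theorem hnorm : ∀ k, 0 < k → k < 23 → ∃ j, (k * 2 ^ j) % 23 = 1 ∨ (k * 2 ^ j) % 23 = 23 - 1 := by
  have h : ∀ k < 23, 0 < k → ∃ j < 23, (k * 2 ^ j) % 23 = 1 ∨ (k * 2 ^ j) % 23 = 23 - 1 := by decide
  intro k h0 h1
  obtain ⟨j, _, hj⟩ := h k h1 h0
  exact ⟨j, hj⟩

instance : Fact (Nat.Prime 23) := ⟨by norm_num⟩
instance : Fact (Nat.Prime 2) := ⟨by norm_num⟩

theorem order_cb : orderOf (P cb) = 23 :=
  orderOf_P (isM24_permOK cb_ok) (by decide +kernel) (by decide +kernel)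

theorem order_ca : orderOf (P ca) = 2 :=
  orderOf_P (isM24_permOK ca_ok) (by decide +kernel) (by decide +kernel)

theorem hS : ∀ x ∈ HH, ∀ i, i < 24 → (lm [23]).testBit i = true → x (pt i) = pt i := by
  intro x hx i _ hi
  exact hx.2 i ((testBit_lm _ _).1 hi)

theorem hle : HH ≤ M24 := fun _ h => h.1

theorem all_inner (φ : MulAut HH) : φ ∈ Cfsg.Inn HH := by
  have hfp : ∀ g : HH, ∃ p, ((g * φ ⟨P ca, haH⟩ * g⁻¹ : HH) : Perm GolayPt) p = p := fun g =>
    ⟨pt 23, (g * φ ⟨P ca, haH⟩ * g⁻¹ : HH).2.2 23 (by simp)⟩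
  obtain ⟨g, h | h⟩ := final_oct (H := HH) (q := 23) (cb := cb) (ca := ca) hle cmu 2 (lm [23]) ts R [ca] []
    (not_sq_dvd_of_le hle (by norm_num)) cb_ok hbH hmH haH (isM24_permOK ca_ok) order_cb
    (conj_eq_pow_of_code (isM24_permOK cmu_ok) (isM24_permOK cb_ok) (by decide +kernel)) hnorm
    (by decide +kernel) (by decide +kernel) hS order_ca
    (by decide +kernel) (by decide +kernel) φ hfp
  · obtain ⟨h1, c, hc, h2⟩ := h
    have hc' : c = ca := by simpa using hc
    subst hc'
    exact mem_inn_of_agree gen_top φ g (Subtype.ext h2) h1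
  · obtain ⟨_, c, hc, _⟩ := h
    cases hc

/-- The outer automorphism group of the Mathieu group M₂₃ is trivial. -/
theorem result : Nat.card (Cfsg.Out ↥Cfsg.Spor.M23) = 1 := by
  rw [M23_eq]
  exact out_card_one all_inner

end Cfsg.Agent.S2063
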