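import Cfsg.Statements.S2064
import Cfsg.Agent.Lib.H13.M24OutData

set_option autoImplicit false
set_option maxRecDepth 100000
open Cfsg

namespace Cfsg.Agent.S2064

open Cfsg.Agent.H27.Golay Cfsg.Agent.H13.MOut Cfsg.Agent.H13.MOut.M24D Equiv

theorem ca_ok : isM24 ca = true := by decide +kernel
theorem cb_ok : isM24 cb = true := by decide +kernel
theorem cmu_ok : isM24 cmu = true := by decide +kernel
theorem cy_ok : isM24 cy = true := by decide +kernel

/-- The levels of the chain. -/
def LL : List (ℕ × ℕ × List ℕ) :=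
  [(23, 16777215, U1), (0, 8388607, U2), (1, 8388606, U3), (2, 8388604, U4), (3, 8388600, U5),
    (5, 147488, U6), (4, 8241104, U7)]

theorem chainOK : ChainOK (fixG []) [] LL := by
  refine ⟨hlevel_of_level (by simp) (level_replace level1 (by decide +kernel) (by decide +kernel)),
    hlevel_of_level (by simp) (level_replace level2 (by decide +kernel) (by decide +kernel)),
    hlevel_of_level (by simp) (level_replace level3 (by decide +kernel) (by decide +kernel)),
    hlevel_of_level (by simp) (level_replace level4 (by decide +kernel) (by decide +kernel)),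
    hlevel_of_level (by simp) (level_replace level5 (by decide +kernel) (by decide +kernel)),
    hlevel_of_level (by simp) (level_replace level6 (by decide +kernel) (by decide +kernel)),
    hlevel_of_level (by simp) (level_replace level7 (by decide +kernel) (by decide +kernel)),
    ?_⟩
  exact chain_end []

theorem chainOK' : ChainOK M24 [] LL := by
  have h := chainOK
  rwa [fixG_nil_eq] at h

theorem gen_top : Subgroup.closure {(⟨P ca, P_mem_M24 ca_ok⟩ : M24), (⟨P cb, P_mem_M24 cb_ok⟩ : M24)} = ⊤ :=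
  closure_top_of_chain (P_mem_M24 ca_ok) (P_mem_M24 cb_ok) (isM24_permOK ca_ok) (isM24_permOK cb_ok)
    chainOK' (fun _ _ i hi => by cases hi) st (hcheck_of (by decide +kernel))

theorem card23 : ¬ 23 ^ 2 ∣ Nat.card M24 := by
  rw [card_M24]; norm_num

theorem hnorm : ∀ k, 0 < k → k < 23 → ∃ j, (k * 2 ^ j) % 23 = 1 ∨ (k * 2 ^ j) % 23 = 23 - 1 := by
  have h : ∀ k < 23, 0 < k → ∃ j < 23, (k * 2 ^ j) % 23 = 1 ∨ (k * 2 ^ j) % 23 = 23 - 1 := by decide
  intro k h0 h1
  obtain ⟨j, _, hj⟩ := h k h1 h0
  exact ⟨j, hj⟩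

instance : Fact (Nat.Prime 23) := ⟨by norm_num⟩
instance : Fact (Nat.Prime 2) := ⟨by norm_num⟩
instance : Fact (Nat.Prime 7) := ⟨by norm_num⟩

theorem order_cb : orderOf (P cb) = 23 :=
  orderOf_P (isM24_permOK cb_ok) (by decide +kernel) (by decide +kernel)

theorem order_ca : orderOf (P ca) = 2 :=
  orderOf_P (isM24_permOK ca_ok) (by decide +kernel) (by decide +kernel)

theorem order_cy : orderOf (P cy) = 7 :=
  orderOf_P (isM24_permOK cy_ok) (by decide +kernel) (by decide +kernel)

theorem comm_ay : P ca * P cy = P cy * P ca := by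
  rw [← P_pcomp (isM24_permOK ca_ok) (isM24_permOK cy_ok), ← P_pcomp (isM24_permOK cy_ok) (isM24_permOK ca_ok)]
  exact P_eq_of_sameCode (permOK_pcomp (isM24_permOK ca_ok) (isM24_permOK cy_ok))
    (permOK_pcomp (isM24_permOK cy_ok) (isM24_permOK ca_ok)) (by decide +kernel)

theorem all_inner (φ : MulAut M24) : φ ∈ Cfsg.Inn M24 := by
  have haH := P_mem_M24 ca_ok
  have hbH := P_mem_M24 cb_ok
  have hyH := P_mem_M24 cy_ok
  have hfp := hfp_of_seven (H := M24) le_rfl ⟨P ca, haH⟩ ⟨P cy, hyH⟩
    (by rw [← order_ca]; exact Subgroup.orderOf_mk _ _)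
    (by rw [← order_cy]; exact Subgroup.orderOf_mk _ _)
    (Subtype.ext comm_ay) φ
  obtain ⟨g, h | h⟩ := final_oct (H := M24) (q := 23) (cb := cb) (ca := ca) le_rfl cmu 2 0 ts R [ca] []
    card23 cb_ok hbH (P_mem_M24 cmu_ok) haH (isM24_permOK ca_ok) order_cb
    (conj_eq_pow_of_code (isM24_permOK cmu_ok) (isM24_permOK cb_ok) (by decide +kernel)) hnorm
    (by decide +kernel) (by decide +kernel) (fun _ _ i _ h => by simp at h) order_ca
    (by decide +kernel) (by decide +kernel) φ hfp
  · obtain ⟨h1, c, hc, h2⟩ := h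
    have hc' : c = ca := by simpa using hc
    subst hc'
    exact mem_inn_of_agree gen_top φ g (Subtype.ext h2) h1
  · obtain ⟨_, c, hc, _⟩ := h
    cases hc

/-- The outer automorphism group of the Mathieu group M₂₄ is trivial. -/
theorem result : Nat.card (Cfsg.Out ↥Cfsg.M24) = 1 := out_card_one all_inner

end Cfsg.Agent.S2064
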