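import Mathlib
import Cfsg.Statements.S2247
import Cfsg.Agent.Lib.H10.SzGen

set_option autoImplicit false

open Cfsg

namespace Cfsg.Agent.S2247

theorem result {F : Type*} [Field F] [Fintype F] {m : ℕ} (hm : 1 ≤ m) (hF : Fintype.card F = 2 ^ (2 * m + 1)) (P : Sylow 2 ↥(Cfsg.Sz F m)) :
    IsCoatom (Subgroup.normalizer ((P : Subgroup ↥(Cfsg.Sz F m)) : Set ↥(Cfsg.Sz F m))) ∧
    ∀ M : Subgroup ↥(Cfsg.Sz F m), IsCoatom M → (P : Subgroup ↥(Cfsg.Sz F m)) ≤ M → M = Subgroup.normalizer ((P : Subgroup ↥(Cfsg.Sz F m)) : Set ↥(Cfsg.Sz F m)) := by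
  haveI := H10.sz_charP hF
  exact H10.sylow_unique_max hm hF P

end Cfsg.Agent.S2247
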