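import Cfsg.Statements.S2271
import Mathlib

set_option autoImplicit false
set_option linter.style.haveILetI false
set_option linter.unusedVariables false
open Cfsg

namespace Cfsg.Agent.S2271

/-- The regular table of the Klein group on `Fin 4`. -/
abbrev kk : Fin 4 → Fin 4 → Fin 4 := ![![0, 1, 2, 3], ![1, 0, 3, 2], ![2, 3, 0, 1], ![3, 2, 1, 0]]

/-- The Klein group as permutations. -/
def kP : Fin 4 → Equiv.Perm (Fin 4) :=
  ![1, Equiv.swap 0 1 * Equiv.swap 2 3, Equiv.swap 0 2 * Equiv.swap 1 3, Equiv.swap 0 3 * Equiv.swap 1 2]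

theorem kP_apply : ∀ k i, kP k i = kk k i := by decide

/-- The 3-cycle `(1 2 3)`. -/
def cc : Equiv.Perm (Fin 4) := Equiv.swap 1 2 * Equiv.swap 2 3

theorem cc0 : cc 0 = 0 := by decide
theorem cc1 : cc 1 = 2 := by decide
theorem cc2 : cc 2 = 3 := by decide
theorem cc3 : cc 3 = 1 := by decide

theorem sign_aux : ∀ k, Equiv.Perm.sign (kP k) = 1 := by decide
theorem sign_aux1 : ∀ k, Equiv.Perm.sign (cc * kP k) = 1 := by decide
theorem sign_aux2 : ∀ k, Equiv.Perm.sign (cc * cc * kP k) = 1 := by decide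

theorem kP_bij (π : Equiv.Perm (Fin 4)) (i : Fin 4) :
    Function.Bijective (fun k => π (kP k i)) := by
  have : Function.Bijective (fun k => kP k i) := by
    revert i; decide
  exact π.bijective.comp this

theorem sum_kP (π : Equiv.Perm (Fin 4)) (i : Fin 4) (g : Fin 4 → ℤ) :
    ∑ k, g (π (kP k i)) = ∑ r, g r :=
  (kP_bij π i).sum_comp g

/-- Sum over the first matching. -/
def M0 (A : Fin 4 → Fin 4 → ℤ) : ℤ := A 0 1 + A 1 0 + A 2 3 + A 3 2
/-- Sum over the second matching. -/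
def M1 (A : Fin 4 → Fin 4 → ℤ) : ℤ := A 0 2 + A 2 0 + A 1 3 + A 3 1
/-- Sum over the third matching. -/
def M2 (A : Fin 4 → Fin 4 → ℤ) : ℤ := A 0 3 + A 3 0 + A 1 2 + A 2 1
/-- Diagonal sum. -/
def Dg (A : Fin 4 → Fin 4 → ℤ) : ℤ := A 0 0 + A 1 1 + A 2 2 + A 3 3

theorem klein_sum (A B : Fin 4 → Fin 4 → ℤ) :
    ∑ k, ∑ i, ∑ j, A i j * B (kP k i) (kP k j) =
      Dg A * Dg B + M0 A * M0 B + M1 A * M1 B + M2 A * M2 B := by
  simp only [kP_apply, Fin.sum_univ_four, M0, M1, M2, Dg]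
  simp
  ring

section
variable {α : Type*} [Fintype α] [DecidableEq α]

set_option linter.unusedSectionVars false

/-- Complement of the image of `f`. -/
def Oc (f : Fin 4 ↪ α) : Finset α := Finset.univ \ (Finset.univ.map f)

theorem sum_split (f : Fin 4 ↪ α) (φ : α → ℤ) :
    ∑ p, φ p = ∑ i, φ (f i) + ∑ p ∈ Oc f, φ p := by
  have := Finset.sum_sdiff (f := φ) (Finset.subset_univ (Finset.univ.map f))
  rw [Finset.sum_map] at this
  rw [← this, Oc]
  simp only [add_comm]

theorem e_image (f : Fin 4 ↪ α) (τ : Equiv.Perm (Fin 4)) (i : Fin 4) :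
    τ.viaFintypeEmbedding f (f i) = f (τ i) :=
  Equiv.Perm.viaFintypeEmbedding_apply_image τ f i

theorem e_out (f : Fin 4 ↪ α) (τ : Equiv.Perm (Fin 4)) {p : α} (hp : p ∈ Oc f) :
    τ.viaFintypeEmbedding f p = p := by
  apply Equiv.Perm.viaFintypeEmbedding_apply_notMem_range
  simp only [Oc, Finset.mem_sdiff, Finset.mem_univ, Finset.mem_map, true_and, not_exists] at hp
  rintro ⟨i, rfl⟩
  exact hp i rfl

/-- The agreement sum. -/
noncomputable def FF (f : Fin 4 ↪ α) (U V : α → α → ℤ) (τ : Equiv.Perm (Fin 4)) : ℤ :=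
  ∑ p, ∑ q, U p q * V (τ.viaFintypeEmbedding f p) (τ.viaFintypeEmbedding f q)

theorem FF_split (f : Fin 4 ↪ α) (U V : α → α → ℤ) (τ : Equiv.Perm (Fin 4)) :
    FF f U V τ = ∑ i, ∑ j, U (f i) (f j) * V (f (τ i)) (f (τ j))
      + ∑ i, ∑ q ∈ Oc f, U (f i) q * V (f (τ i)) q
      + ∑ p ∈ Oc f, ∑ j, U p (f j) * V p (f (τ j))
      + ∑ p ∈ Oc f, ∑ q ∈ Oc f, U p q * V p q := by
  unfold FF
  rw [sum_split f]
  have h1 : ∀ i, ∑ q, U (f i) q * V (τ.viaFintypeEmbedding f (f i)) (τ.viaFintypeEmbedding f q)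
      = ∑ j, U (f i) (f j) * V (f (τ i)) (f (τ j)) + ∑ q ∈ Oc f, U (f i) q * V (f (τ i)) q := by
    intro i
    rw [sum_split f]
    congr 1
    · refine Finset.sum_congr rfl fun j _ => ?_
      rw [e_image, e_image]
    · refine Finset.sum_congr rfl fun q hq => ?_
      rw [e_image, e_out f τ hq]
  have h2 : ∀ p ∈ Oc f, ∑ q, U p q * V (τ.viaFintypeEmbedding f p) (τ.viaFintypeEmbedding f q)
      = ∑ j, U p (f j) * V p (f (τ j)) + ∑ q ∈ Oc f, U p q * V p q := by
    intro p hp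
    rw [sum_split f]
    congr 1
    · refine Finset.sum_congr rfl fun j _ => ?_
      rw [e_out f τ hp, e_image]
    · refine Finset.sum_congr rfl fun q hq => ?_
      rw [e_out f τ hp, e_out f τ hq]
  rw [Finset.sum_congr rfl fun i _ => h1 i, Finset.sum_congr rfl h2, Finset.sum_add_distrib,
    Finset.sum_add_distrib]
  ring

/-- The restricted matrices. -/
def Re (f : Fin 4 ↪ α) (U : α → α → ℤ) : Fin 4 → Fin 4 → ℤ := fun i j => U (f i) (f j)

theorem avg (f : Fin 4 ↪ α) (U V : α → α → ℤ) (π : Equiv.Perm (Fin 4)) :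
    ∑ k, FF f U V (π * kP k) =
      (Dg (Re f U) * Dg (fun i j => Re f V (π i) (π j))
        + M0 (Re f U) * M0 (fun i j => Re f V (π i) (π j))
        + M1 (Re f U) * M1 (fun i j => Re f V (π i) (π j))
        + M2 (Re f U) * M2 (fun i j => Re f V (π i) (π j)))
      + ∑ i, ∑ q ∈ Oc f, U (f i) q * ∑ r, V (f r) q
      + ∑ p ∈ Oc f, ∑ j, U p (f j) * ∑ r, V p (f r)
      + 4 * ∑ p ∈ Oc f, ∑ q ∈ Oc f, U p q * V p q := by
  simp only [FF_split, Equiv.Perm.mul_apply]
  rw [Finset.sum_add_distrib, Finset.sum_add_distrib, Finset.sum_add_distrib]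
  congr 1
  · congr 1
    · congr 1
      · exact klein_sum (Re f U) (fun i j => Re f V (π i) (π j))
      · rw [Finset.sum_comm]
        refine Finset.sum_congr rfl fun i _ => ?_
        rw [Finset.sum_comm]
        refine Finset.sum_congr rfl fun q _ => ?_
        rw [← Finset.mul_sum]
        congr 1
        exact sum_kP π i (fun r => V (f r) q)
    · rw [Finset.sum_comm]
      refine Finset.sum_congr rfl fun p _ => ?_
      rw [Finset.sum_comm]
      refine Finset.sum_congr rfl fun j _ => ?_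
      rw [← Finset.mul_sum]
      congr 1
      exact sum_kP π j (fun r => V p (f r))
  · simp

theorem M_one (A : Fin 4 → Fin 4 → ℤ) :
    M0 (fun i j => A (cc i) (cc j)) = M1 A ∧ M1 (fun i j => A (cc i) (cc j)) = M2 A ∧
      M2 (fun i j => A (cc i) (cc j)) = M0 A ∧ Dg (fun i j => A (cc i) (cc j)) = Dg A := by
  simp only [M0, M1, M2, Dg, cc0, cc1, cc2, cc3]
  refine ⟨?_, ?_, ?_, ?_⟩ <;> first | trivial | ring

theorem alg_key (a0 a1 a2 v0 v1 v2 : ℤ)
    (h1 : a0 * v0 + a1 * v1 + a2 * v2 = a0 * v1 + a1 * v2 + a2 * v0)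
    (h2 : a0 * v1 + a1 * v2 + a2 * v0 = a0 * v2 + a1 * v0 + a2 * v1)
    (ha : ¬ (a0 = a1 ∧ a1 = a2)) (hv : ¬ (v0 = v1 ∧ v1 = v2)) : False := by
  set s := a0 - a2 with hs
  set t := a1 - a2 with ht
  have hst : s ^ 2 - s * t + t ^ 2 ≠ 0 := by
    intro h0
    have h3 : (2 * s - t) ^ 2 + 3 * t ^ 2 = 0 := by nlinarith
    have h4 : t = 0 := by nlinarith [sq_nonneg (2 * s - t), sq_nonneg t]
    have h5 : s = 0 := by
      rw [h4] at h0
      simpa using h0
    exact ha ⟨by omega, by omega⟩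
  have e1 : s * (v0 - v1) + t * (v1 - v2) = 0 := by rw [hs, ht]; linear_combination h1
  have e2 : -t * (v0 - v1) + (s - t) * (v1 - v2) = 0 := by rw [hs, ht]; linear_combination h2
  have q0 : (s ^ 2 - s * t + t ^ 2) * (v1 - v2) = 0 := by linear_combination s * e2 + t * e1
  have p0 : (s ^ 2 - s * t + t ^ 2) * (v0 - v1) = 0 := by linear_combination (s - t) * e1 - t * e2
  have q1 := (mul_eq_zero.mp q0).resolve_left hst
  have p1 := (mul_eq_zero.mp p0).resolve_left hst
  exact hv ⟨by omega, by omega⟩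

/-- The indicator matrix of a permutation. -/
def ind (w : Equiv.Perm α) : α → α → ℤ := fun p q => if w p = q then 1 else 0

theorem exists_out (S : Finset α) (h : S.card < Fintype.card α) : ∃ z, z ∉ S := by
  by_contra hc
  push Not at hc
  have : S = Finset.univ := Finset.eq_univ_iff_forall.mpr hc
  rw [this, Finset.card_univ] at h
  exact lt_irrefl _ h

theorem exists_nonconst (w : Equiv.Perm α) (hw : w ≠ 1) (hα : 5 ≤ Fintype.card α) :
    ∃ f : Fin 4 ↪ α, M0 (Re f (ind w)) ≠ M1 (Re f (ind w)) := by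
  classical
  obtain ⟨x, hx⟩ : ∃ x, w x ≠ x := by
    by_contra hc
    push Not at hc
    exact hw (Equiv.ext hc)
  set y := w x with hy
  obtain ⟨z, hz⟩ := exists_out ({x, y, w⁻¹ x} : Finset α)
    (lt_of_le_of_lt (Finset.card_le_three) (by omega))
  obtain ⟨u, hu⟩ := exists_out ({x, y, w y, z} : Finset α)
    (lt_of_le_of_lt (Finset.card_le_four) (by omega))
  simp only [Finset.mem_insert, Finset.mem_singleton, not_or] at hz hu
  obtain ⟨hz1, hz2, hz3⟩ := hz
  obtain ⟨hu1, hu2, hu3, hu4⟩ := hu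
  have hinj : Function.Injective ![x, y, z, u] := by
    intro i j hij
    fin_cases i <;> fin_cases j <;> simp_all [eq_comm]
  refine ⟨⟨![x, y, z, u], hinj⟩, ?_⟩
  have i0 : ∀ a b, 0 ≤ ind w a b := by
    intro a b; unfold ind; split_ifs <;> omega
  have i1 : ind w x y = 1 := by simp [ind, hy]
  have e1 : ¬ w x = z := fun h => hz2 (by rw [hy, h])
  have e2 : ¬ w z = x := fun h => hz3 (by rw [← h]; simp)
  have e3 : ¬ w y = u := fun h => hu3 h.symm
  have e4 : ¬ w u = y := fun h => hu1 (w.injective h)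
  have h10 : M1 (Re ⟨![x, y, z, u], hinj⟩ (ind w)) = ind w x z + ind w z x + ind w y u + ind w u y :=
    rfl
  have h11 : M0 (Re ⟨![x, y, z, u], hinj⟩ (ind w)) = ind w x y + ind w y x + ind w z u + ind w u z :=
    rfl
  rw [h10, h11, i1]
  have z1 : ind w x z = 0 := by simp [ind, e1]
  have z2 : ind w z x = 0 := by simp [ind, e2]
  have z3 : ind w y u = 0 := by simp [ind, e3]
  have z4 : ind w u y = 0 := by simp [ind, e4]
  rw [z1, z2, z3, z4]
  have := i0 y x
  have := i0 z u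
  have := i0 u z
  omega

/-- The main combinatorial core: constancy on Klein-`c` translates is impossible. -/
theorem core (f : Fin 4 ↪ α) (U V : α → α → ℤ)
    (hU : ¬ (M0 (Re f U) = M1 (Re f U) ∧ M1 (Re f U) = M2 (Re f U)))
    (hV : ¬ (M0 (Re f V) = M1 (Re f V) ∧ M1 (Re f V) = M2 (Re f V)))
    (hc : ∀ τ : Equiv.Perm (Fin 4), Equiv.Perm.sign τ = 1 → FF f U V τ = FF f U V 1) : False := by
  have s0 : ∑ k, FF f U V (1 * kP k) = 4 * FF f U V 1 := by
    rw [Finset.sum_congr rfl fun k _ => hc _ (by simpa using sign_aux k)]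
    simp
  have s1 : ∑ k, FF f U V (cc * kP k) = 4 * FF f U V 1 := by
    rw [Finset.sum_congr rfl fun k _ => hc _ (sign_aux1 k)]
    simp
  have s2 : ∑ k, FF f U V (cc * cc * kP k) = 4 * FF f U V 1 := by
    rw [Finset.sum_congr rfl fun k _ => hc _ (sign_aux2 k)]
    simp
  rw [avg] at s0 s1 s2
  obtain ⟨a1, a2, a3, a4⟩ := M_one (Re f V)
  obtain ⟨b1, b2, b3, b4⟩ := M_one (fun i j => Re f V (cc i) (cc j))
  simp only [Equiv.Perm.mul_apply, Equiv.Perm.one_apply] at s0 s1 s2
  rw [a1, a2, a3, a4] at s1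
  rw [b1, b2, b3, b4, a1, a2, a3, a4] at s2
  apply alg_key (M0 (Re f U)) (M1 (Re f U)) (M2 (Re f U)) (M0 (Re f V)) (M1 (Re f V)) (M2 (Re f V))
    _ _ hU hV
  · have e0 : Dg (fun i j => Re f V i j) = Dg (Re f V) := rfl
    have e1 : M0 (fun i j => Re f V i j) = M0 (Re f V) := rfl
    have e2 : M1 (fun i j => Re f V i j) = M1 (Re f V) := rfl
    have e3 : M2 (fun i j => Re f V i j) = M2 (Re f V) := rfl
    rw [e0, e1, e2, e3] at s0
    linarith
  · have e0 : Dg (fun i j => Re f V i j) = Dg (Re f V) := rfl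
    linarith

/-- Equal fixed counts in terms of the agreement sum. -/
theorem card_fixed_eq (a v h : Equiv.Perm α) :
    ((Nat.card (Function.fixedPoints ⇑(a * (h⁻¹ * v * h))) : ℕ) : ℤ) =
      ∑ p, ∑ q, ind a⁻¹ p q * ind v (h p) (h q) := by
  classical
  have h1 : ∀ p, ∑ q, ind a⁻¹ p q * ind v (h p) (h q) =
      if (a * (h⁻¹ * v * h)) p = p then 1 else 0 := by
    intro p
    rw [Finset.sum_eq_single (a⁻¹ p)]
    · simp only [ind, if_true, one_mul]
      have : v (h p) = h (a⁻¹ p) ↔ (a * (h⁻¹ * v * h)) p = p := by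
        simp only [Equiv.Perm.mul_apply]
        constructor
        · intro e
          rw [e]
          simp
        · intro e
          have e' : h⁻¹ (v (h p)) = a⁻¹ p := by
            rw [Equiv.Perm.eq_inv_iff_eq]; exact e
          rw [← e']; simp
      simp only [this]
    · intro q _ hq
      have hq' : ¬ a⁻¹ p = q := fun h => hq h.symm
      simp only [ind, if_neg hq', zero_mul]
    · simp
  rw [Finset.sum_congr rfl fun p _ => h1 p]
  have e : (Nat.card (Function.fixedPoints ⇑(a * (h⁻¹ * v * h)))) =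
      (Finset.univ.filter fun p => (a * (h⁻¹ * v * h)) p = p).card := by
    rw [Nat.card_eq_fintype_card]
    rw [Fintype.card_of_subtype (Finset.univ.filter fun p => (a * (h⁻¹ * v * h)) p = p)]
    intro x
    simp only [Finset.mem_filter, Finset.mem_univ, true_and]
    exact Iff.rfl
  rw [e, Finset.card_filter, Nat.cast_sum]
  refine Finset.sum_congr rfl fun p _ => ?_
  split_ifs <;> simp

theorem Re_conj (f g : Fin 4 ↪ α) (h b : Equiv.Perm α) (hfg : ∀ i, h (g i) = f i) :
    Re f (ind (h * b * h⁻¹)) = Re g (ind b) := by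
  funext i j
  simp only [Re, ind, Equiv.Perm.mul_apply, ← hfg]
  simp

/-- The embedding `g` twisted by the swap of its first two values. -/
def twist (g : Fin 4 ↪ α) : Fin 4 ↪ α := (Equiv.swap (0 : Fin 4) 1).toEmbedding.trans g

theorem twist_M (g : Fin 4 ↪ α) (A : α → α → ℤ) :
    M0 (Re (twist g) A) = M0 (Re g A) ∧ M1 (Re (twist g) A) = M2 (Re g A) ∧
      M2 (Re (twist g) A) = M1 (Re g A) := by
  have t0 : twist g 0 = g 1 := by simp [twist]
  have t1 : twist g 1 = g 0 := by simp [twist]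
  have t2 : twist g 2 = g 2 := by
    simp only [twist, Function.Embedding.trans_apply, Equiv.coe_toEmbedding]
    rw [Equiv.swap_apply_of_ne_of_ne] <;> decide
  have t3 : twist g 3 = g 3 := by
    simp only [twist, Function.Embedding.trans_apply, Equiv.coe_toEmbedding]
    rw [Equiv.swap_apply_of_ne_of_ne] <;> decide
  simp only [M0, M1, M2, Re, t0, t1, t2, t3]
  refine ⟨?_, ?_, ?_⟩ <;> ring

theorem exists_even (f g : Fin 4 ↪ α) :
    ∃ (h : Equiv.Perm α) (g' : Fin 4 ↪ α), h ∈ alternatingGroup α ∧ (∀ i, h (g' i) = f i) ∧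
      (g' = g ∨ g' = twist g) := by
  classical
  obtain ⟨h, hh⟩ : ∃ h : Equiv.Perm α, ∀ i, h (g i) = f i := by
    have := Equiv.Perm.isMultiplyPretransitive α 4
    obtain ⟨h, hh⟩ := MulAction.exists_smul_eq (Equiv.Perm α) g f
    refine ⟨h, fun i => ?_⟩
    have := congrArg (fun e : Fin 4 ↪ α => e i) hh
    simpa using this
  rcases Int.units_eq_one_or (Equiv.Perm.sign h) with hs | hs
  · exact ⟨h, g, by simpa [Equiv.Perm.mem_alternatingGroup] using hs, hh, Or.inl rfl⟩
  · refine ⟨h * Equiv.swap (g 0) (g 1), twist g, ?_, ?_, Or.inr rfl⟩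
    · rw [Equiv.Perm.mem_alternatingGroup, map_mul, hs,
        Equiv.Perm.sign_swap (g.injective.ne (by decide))]
      decide
    · intro i
      have hne : (0 : Fin 4) ≠ 1 := by decide
      by_cases h0 : i = 0
      · subst h0
        simp [twist, hh]
      by_cases h1 : i = 1
      · subst h1
        simp [twist, hh]
      simp only [twist, Function.Embedding.trans_apply, Equiv.coe_toEmbedding,
        Equiv.Perm.mul_apply]
      rw [Equiv.swap_apply_of_ne_of_ne h0 h1, Equiv.swap_apply_of_ne_of_ne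
        (g.injective.ne h0) (g.injective.ne h1), hh]

end

/-- Let n ≥ 5 and let a, b be non-identity permutations in the symmetric group S_n. Then the number of fixed points is not constant on the set of products a′b′ with a′ conjugate to a and b′ conjugate to b under the alternating group: there are even permutations g₁, h₁, g₂, h₂ such that (g₁ a g₁⁻¹)(h₁ b h₁⁻¹) and (g₂ a g₂⁻¹)(h₂ b h₂⁻¹) have different numbers of fixed points. -/
theorem result (n : ℕ) (hn : 5 ≤ n) (a b : Equiv.Perm (Fin n)) (ha : a ≠ 1) (hb : b ≠ 1) :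
    ∃ g₁ h₁ g₂ h₂ : Equiv.Perm (Fin n), g₁ ∈ alternatingGroup (Fin n) ∧ h₁ ∈ alternatingGroup (Fin n) ∧ g₂ ∈ alternatingGroup (Fin n) ∧ h₂ ∈ alternatingGroup (Fin n) ∧
      Nat.card (Function.fixedPoints ⇑(g₁ * a * g₁⁻¹ * (h₁ * b * h₁⁻¹))) ≠
        Nat.card (Function.fixedPoints ⇑(g₂ * a * g₂⁻¹ * (h₂ * b * h₂⁻¹))) := by
  classical
  have hc : 5 ≤ Fintype.card (Fin n) := by simpa using hn
  have hainv : a⁻¹ ≠ 1 := by simpa using ha
  obtain ⟨f, hf⟩ := exists_nonconst a⁻¹ hainv hc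
  obtain ⟨g, hg⟩ := exists_nonconst b hb hc
  obtain ⟨h, g', hh, hfg, hg'⟩ := exists_even f g
  set v : Equiv.Perm (Fin n) := h * b * h⁻¹ with hv
  have hV : ¬ (M0 (Re f (ind v)) = M1 (Re f (ind v)) ∧ M1 (Re f (ind v)) = M2 (Re f (ind v))) := by
    rw [hv, Re_conj f g' h b hfg]
    rcases hg' with rfl | rfl
    · exact fun h => hg h.1
    · obtain ⟨t0, t1, t2⟩ := twist_M g (ind b)
      rw [t0, t1, t2]
      intro h
      exact hg (h.1.trans h.2)
  by_contra hcon
  push Not at hcon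
  apply core f (ind a⁻¹) (ind v) (fun h => hf h.1) hV
  intro τ hτ
  -- even conjugates
  set e : Equiv.Perm (Fin n) := τ.viaFintypeEmbedding f with he
  set e1 : Equiv.Perm (Fin n) := (1 : Equiv.Perm (Fin 4)).viaFintypeEmbedding f with he1
  have hes : e ∈ alternatingGroup (Fin n) := by
    rw [Equiv.Perm.mem_alternatingGroup, he, Equiv.Perm.viaFintypeEmbedding_sign, hτ]
  have hes1 : e1 ∈ alternatingGroup (Fin n) := by
    rw [Equiv.Perm.mem_alternatingGroup, he1, Equiv.Perm.viaFintypeEmbedding_sign]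
    simp
  have key := hcon 1 (e⁻¹ * h) 1 (e1⁻¹ * h) (one_mem _)
    (mul_mem (inv_mem hes) hh) (one_mem _) (mul_mem (inv_mem hes1) hh)
  have c1 : (1 : Equiv.Perm (Fin n)) * a * 1⁻¹ * (e⁻¹ * h * b * (e⁻¹ * h)⁻¹) = a * (e⁻¹ * v * e) := by
    rw [hv]; group
  have c2 : (1 : Equiv.Perm (Fin n)) * a * 1⁻¹ * (e1⁻¹ * h * b * (e1⁻¹ * h)⁻¹) = a * (e1⁻¹ * v * e1) := by
    rw [hv]; group
  rw [c1, c2] at key
  have k1 := card_fixed_eq a v e
  have k2 := card_fixed_eq a v e1
  rw [key] at k1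
  unfold FF
  rw [← he, ← he1, ← k1, k2]

end Cfsg.Agent.S2271
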