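import Cfsg.Statements.S2470
import Cfsg.Agent.Lib.H11.PrimeGr3

set_option autoImplicit false
open Cfsg

namespace Cfsg.Agent.S2470

/-- Adjacency of an odd prime and the characteristic in the prime graph of PSL(n,q): let F be a finite field of characteristic p with q elements, n ≥ 2 with PSL(n,F) simple, and let r ≠ p be an odd prime dividing the order of PSL(n,F), with k the multiplicative order of q modulo r. Then PSL(n,F) has NO element of order r·p if and only if either k > n − 2, or n = 3, r = 3 and 3 divides q − 1 exactly once. -/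
theorem result {F : Type*} [Field F] [Fintype F] (p : ℕ) [Fact p.Prime] [CharP F p] (n : ℕ) (hn : 2 ≤ n) (hsmall : n = 2 → 4 ≤ Fintype.card F)
    (r : ℕ) (hr : r.Prime) (hr2 : r ≠ 2) (hrp : r ≠ p) (hrG : r ∣ Nat.card (Matrix.ProjectiveSpecialLinearGroup (Fin n) F))
    (k : ℕ) (hk : k = orderOf ((Fintype.card F : ℕ) : ZMod r)) :
    (r * p ∉ Set.range (orderOf : Matrix.ProjectiveSpecialLinearGroup (Fin n) F → ℕ)) ↔
      (n - 2 < k ∨ (n = 3 ∧ r = 3 ∧ 3 ∣ Fintype.card F - 1 ∧ ¬ 9 ∣ Fintype.card F - 1)) := by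
  classical
  subst hk
  haveI : Fact r.Prime := ⟨hr⟩
  have h := Cfsg.Agent.H11.PrimeGr.adjacent_char_iff (F := F) p (n := n) hn hr hrp
  rw [h]
  constructor
  · intro h1
    by_contra h2
    push Not at h2
    apply h1
    refine ⟨by omega, ?_⟩
    rintro ⟨h3, h4, h5, h6⟩
    exact h6 (h2.2 h3 h4 h5)
  · rintro (h1 | h1) ⟨h2, h3⟩
    · omega
    · exact h3 h1

end Cfsg.Agent.S2470
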