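import Cfsg.Statements.S2477
import Cfsg.Agent.Lib.H11.CycT

set_option autoImplicit false
open Cfsg

namespace Cfsg.Agent.S2477

open Equiv Perm Cfsg.Agent.H11

/-- Enumerate all multisets of parts `≥ 2` of total at most `n`, checking the lcm when the running
parity is even. -/
def chk (S : List ℕ) : ℕ → ℕ → ℕ → ℕ → Bool
  | 0, _, L, s => (s % 2 != 0) || S.contains L
  | f + 1, n, L, s => ((s % 2 != 0) || S.contains L) &&
      (List.range (n + 1)).all (fun a => (a < 2 : Bool) || chk S f (n - a) (Nat.lcm L a) (s + a + 1))

lemma chk_head (S : List ℕ) (f n L s : ℕ) (h : chk S f n L s = true) (hs : Even s) : L ∈ S := by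
  have hs' : s % 2 = 0 := Nat.even_iff.1 hs
  cases f with
  | zero =>
    simp only [chk, Bool.or_eq_true, bne_iff_ne, ne_eq, List.contains_iff_mem] at h
    rcases h with h | h
    · exact absurd hs' h
    · exact h
  | succ f =>
    simp only [chk, Bool.and_eq_true, Bool.or_eq_true, bne_iff_ne, ne_eq,
      List.contains_iff_mem] at h
    rcases h.1 with h | h
    · exact absurd hs' h
    · exact h

lemma chk_spec (S : List ℕ) (m : Multiset ℕ) : ∀ (f n L s : ℕ), (∀ a ∈ m, 2 ≤ a) → m.sum ≤ n →
    Multiset.card m ≤ f → chk S f n L s = true → Even (s + m.sum + Multiset.card m) →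
    Nat.lcm L m.lcm ∈ S := by
  induction m using Multiset.induction_on with
  | empty =>
    intro f n L s _ _ _ h he
    simp only [Multiset.sum_zero, Multiset.card_zero, add_zero] at he
    have : Nat.lcm L (Multiset.lcm 0) = L := by simp
    rw [this]
    exact chk_head S f n L s h he
  | cons a t ih =>
    intro f n L s h2 hsum hcard h he
    rw [Multiset.card_cons] at hcard he
    rw [Multiset.sum_cons] at hsum he
    cases f with
    | zero => omega
    | succ f =>
      simp only [chk, Bool.and_eq_true, List.all_eq_true, Bool.or_eq_true, decide_eq_true_eq] at h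
      have ha2 := h2 a (Multiset.mem_cons_self a t)
      have hmem : a ∈ List.range (n + 1) := List.mem_range.2 (by omega)
      have := (h.2 a hmem).resolve_left (by omega)
      have h3 := ih f (n - a) (Nat.lcm L a) (s + a + 1)
        (fun b hb => h2 b (Multiset.mem_cons_of_mem hb)) (by omega) (by omega) this
        (by convert he using 1; ring)
      rw [Multiset.lcm_cons]
      change Nat.lcm L (Nat.lcm a t.lcm) ∈ S
      rw [← Nat.lcm_assoc]
      exact h3

def spec : List ℕ := [1, 2, 3, 4, 5, 6, 7, 8, 9, 10, 12, 15, 21]

lemma chk_all : chk spec 5 10 1 0 = true := by decide +kernel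

lemma achieve (m : Multiset ℕ) (hs : m.sum ≤ 10) (h2 : ∀ a ∈ m, 2 ≤ a)
    (he : Even (m.sum + Multiset.card m)) :
    m.lcm ∈ Set.range (orderOf : alternatingGroup (Fin 10) → ℕ) := by
  obtain ⟨g, hg⟩ := (exists_with_cycleType_iff (Fin 10) (m := m)).2 ⟨by simpa using hs, h2⟩
  refine ⟨⟨g, mem_alternating_of_cycleType g (by rw [hg]; exact he)⟩, ?_⟩
  rw [orderOf_alternating]
  change orderOf g = m.lcm
  rw [← lcm_cycleType, hg]

/-- The set of element orders of the alternating group of degree 10 is {1, 2, 3, 4, 5, 6, 7, 8, 9, 10, 12, 15, 21}. -/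
theorem result : Set.range (orderOf : alternatingGroup (Fin 10) → ℕ) = {1, 2, 3, 4, 5, 6, 7, 8, 9, 10, 12, 15, 21} := by
  ext x
  constructor
  · rintro ⟨⟨g, hg⟩, rfl⟩
    have h1 : orderOf (⟨g, hg⟩ : alternatingGroup (Fin 10)) = orderOf g :=
      orderOf_alternating _
    rw [h1, ← lcm_cycleType]
    have hsum : g.cycleType.sum ≤ 10 := by simpa using sum_cycleType_le g
    have h2 : ∀ a ∈ g.cycleType, 2 ≤ a := fun a ha => two_le_of_mem_cycleType ha
    have hcard : 2 * Multiset.card g.cycleType ≤ g.cycleType.sum := by
      have := Multiset.card_nsmul_le_sum h2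
      simpa [mul_comm] using this
    have he : Even (0 + g.cycleType.sum + Multiset.card g.cycleType) := by
      have := (Equiv.Perm.mem_alternatingGroup).1 hg
      rw [sign_of_cycleType] at this
      rw [zero_add]
      exact (neg_one_pow_eq_one_iff_even (by decide)).1 this
    have := chk_spec spec g.cycleType 5 10 1 0 h2 hsum (by omega) chk_all he
    rw [Nat.lcm_one_left] at this
    simpa [spec] using this
  · intro hx
    simp only [Set.mem_insert_iff, Set.mem_singleton_iff] at hx
    have key : ∀ (m : Multiset ℕ), m.sum ≤ 10 → (∀ a ∈ m, 2 ≤ a) → Even (m.sum + Multiset.card m) →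
        m.lcm = x → x ∈ Set.range (orderOf : alternatingGroup (Fin 10) → ℕ) := by
      intro m h1 h2 h3 h4
      rw [← h4]; exact achieve m h1 h2 h3
    rcases hx with rfl | rfl | rfl | rfl | rfl | rfl | rfl | rfl | rfl | rfl | rfl | rfl | rfl
    · exact key ({} : Multiset ℕ) (by decide) (by decide) (by decide) (by decide)
    · exact key ({2, 2} : Multiset ℕ) (by decide) (by decide) (by decide) (by decide)
    · exact key ({3} : Multiset ℕ) (by decide) (by decide) (by decide) (by decide)
    · exact key ({4, 2} : Multiset ℕ) (by decide) (by decide) (by decide) (by decide)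
    · exact key ({5} : Multiset ℕ) (by decide) (by decide) (by decide) (by decide)
    · exact key ({3, 2, 2} : Multiset ℕ) (by decide) (by decide) (by decide) (by decide)
    · exact key ({7} : Multiset ℕ) (by decide) (by decide) (by decide) (by decide)
    · exact key ({8, 2} : Multiset ℕ) (by decide) (by decide) (by decide) (by decide)
    · exact key ({9} : Multiset ℕ) (by decide) (by decide) (by decide) (by decide)
    · exact key ({5, 2, 2} : Multiset ℕ) (by decide) (by decide) (by decide) (by decide)
    · exact key ({4, 3, 2} : Multiset ℕ) (by decide) (by decide) (by decide) (by decide)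
    · exact key ({5, 3} : Multiset ℕ) (by decide) (by decide) (by decide) (by decide)
    · exact key ({7, 3} : Multiset ℕ) (by decide) (by decide) (by decide) (by decide)

end Cfsg.Agent.S2477
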