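import Cfsg.Statements.S2803
import Cfsg.Agent.Lib.H12.PReduced2
-- import your own Cfsg.Agent.* helpers here

set_option autoImplicit false
open Cfsg

namespace Cfsg.Agent.S2803

open scoped commutatorElement

/-- If a subgroup `Q ≤ N` satisfies `N·C = L`, with `N` normalizing `Q` and `C` normal, then `Q ⊔ C` is normal. -/
theorem sup_normal_aux {L : Type*} [Group L] [Finite L] (N Q C : Subgroup L) [hC : C.Normal]
    (hdec : ∀ g : L, ∃ n ∈ N, ∃ c ∈ C, g = n * c) (hN : N ≤ Subgroup.normalizer (Q : Set L)) :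
    (Q ⊔ C).Normal := by
  rw [← Subgroup.normalizer_eq_top_iff, eq_top_iff]
  intro g _
  obtain ⟨n, hn, c, hc, rfl⟩ := hdec g
  refine mul_mem ?_ ?_
  · apply Cfsg.Agent.H13.mem_normalizer_of_map_conj_le
    rw [Subgroup.map_sup, Cfsg.Agent.H13.map_conj_eq_of_mem_normalizer (hN hn),
      Cfsg.Agent.H13.map_conj_eq_of_normal (N := C)]
  · apply Cfsg.Agent.H13.mem_normalizer_of_map_conj_le
    rw [Subgroup.map_sup, Cfsg.Agent.H13.map_conj_eq_of_normal (N := C)]
    apply sup_le _ le_sup_right
    rintro _ ⟨q, hq, rfl⟩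
    have h1 : (MulAut.conj c).toMonoidHom q = (c * (q * c⁻¹ * q⁻¹)) * q := by
      simp
      group
    rw [h1, sup_comm]
    exact mul_mem ((le_sup_right : C ≤ Q ⊔ C).trans (le_of_eq (sup_comm _ _))
      (mul_mem hc (hC.conj_mem _ (inv_mem hc) _))) ((le_sup_right : Q ≤ C ⊔ Q) hq)

/-- `p`-elementwise mod `C`. -/
theorem sup_elementwise {L : Type*} [Group L] [Finite L] {p : ℕ} (Q C : Subgroup L) [hC : C.Normal]
    (hQ : ∀ x ∈ Q, ∃ k : ℕ, x ^ (p ^ k) ∈ C) : ∀ x ∈ Q ⊔ C, ∃ k : ℕ, x ^ (p ^ k) ∈ C := by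
  intro x hx
  rw [← SetLike.mem_coe, Subgroup.mul_normal, Set.mem_mul] at hx
  obtain ⟨q, hq, c, hc, rfl⟩ := hx
  obtain ⟨k, hk⟩ := hQ q hq
  refine ⟨k, ?_⟩
  rw [← QuotientGroup.eq_one_iff] at hk ⊢
  rw [QuotientGroup.mk_pow, QuotientGroup.mk_mul, (QuotientGroup.eq_one_iff c).2 hc, mul_one,
    ← QuotientGroup.mk_pow]
  exact hk

/-- A key step: `p`-elementwise modulo a `C(Y)`, for `Y` `p`-reduced. -/
theorem le_centralizer_of_normalized {L : Type*} [Group L] [Finite L] {p : ℕ} [Fact p.Prime]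
    {Y : Subgroup L} (hY : Cfsg.IsPReducedNormal p Y) (N Q : Subgroup L)
    (hdec : ∀ g : L, ∃ n ∈ N, ∃ c ∈ Subgroup.centralizer (Y : Set L), g = n * c)
    (hN : N ≤ Subgroup.normalizer (Q : Set L))
    (hQ : ∀ x ∈ Q, ∃ k : ℕ, x ^ (p ^ k) ∈ Subgroup.centralizer (Y : Set L)) :
    Q ≤ Subgroup.centralizer (Y : Set L) := by
  have : (Subgroup.centralizer (Y : Set L)).Normal := by
    have := hY.1
    infer_instance
  have h1 := Cfsg.Agent.H12.pReduced_elim hY (sup_normal_aux N Q _ hdec hN) (sup_elementwise _ _ hQ)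
  exact le_sup_left.trans h1


/-- Let L be a finite group and p a prime with C_L(O_p(L)) ≤ O_p(L), T a Sylow p-subgroup, and Y the largest p-reduced normal subgroup of L. Put T_L = C_T(Y) and L_T = N_L(T_L). Then L = L_T · C_L(Y) (elementwise), T_L = O_p(L_T), and Y = Ω₁(Z(T_L)). -/
theorem result {L : Type*} [Group L] [Finite L] {p : ℕ} [Fact p.Prime] (hchar : Subgroup.centralizer (Cfsg.pCore p L : Set L) ≤ Cfsg.pCore p L) (T : Sylow p L) (Y : Subgroup L) (hY : (Cfsg.IsPReducedNormal p Y ∧ ∀ V : Subgroup L, Cfsg.IsPReducedNormal p V → V ≤ Y)) (TL : Subgroup L) (hTL : TL = (T : Subgroup L) ⊓ Subgroup.centralizer (Y : Set L)) : (∀ g : L, ∃ a ∈ Subgroup.normalizer (TL : Set L), ∃ c ∈ Subgroup.centralizer (Y : Set L), g = a * c) ∧ (Cfsg.pCore p ↥(Subgroup.normalizer (TL : Set L))).map (Subgroup.normalizer (TL : Set L)).subtype = TL ∧ Y = Cfsg.omegaOne p (TL ⊓ Subgroup.centralizer (TL : Set L)) := by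
  obtain ⟨hYr, hYl⟩ := hY
  have hYn : Y.Normal := hYr.1
  set C := Subgroup.centralizer (Y : Set L) with hC
  have hCn : C.Normal := inferInstance
  set N := Subgroup.normalizer (TL : Set L) with hN
  have hF := Cfsg.Agent.H18.frattini_inf T C
  rw [← hTL] at hF
  have hdec : ∀ g : L, ∃ a ∈ N, ∃ c ∈ C, g = a * c := by
    intro g
    have hg : g ∈ N ⊔ C := by rw [hN, hF]; trivial
    rw [← SetLike.mem_coe, Subgroup.mul_normal, Set.mem_mul] at hg
    obtain ⟨n, hn, c, hc, rfl⟩ := hg
    exact ⟨n, hn, c, hc, rfl⟩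
  have hTN : (T : Subgroup L) ≤ N := by
    intro t ht
    apply Cfsg.Agent.H13.mem_normalizer_of_map_conj_le
    rw [hTL, Subgroup.map_inf _ _ _ (MulAut.conj t).injective, Cfsg.Agent.H13.map_conj_eq_of_normal (N := C),
      Cfsg.Agent.H13.map_conj_eq_of_mem_normalizer (Subgroup.le_normalizer ht)]
  have hTLp : IsPGroup p ↥TL := T.2.to_le (by rw [hTL]; exact inf_le_left)
  have hTLN : TL ≤ N := Subgroup.le_normalizer
  have hTLT : TL ≤ (T : Subgroup L) := by rw [hTL]; exact inf_le_left
  have hTLC : TL ≤ C := by rw [hTL]; exact inf_le_right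
  have hYT : Y ≤ (T : Subgroup L) := (Cfsg.Agent.H12.pReduced_le_pCore hYr).trans (Cfsg.Agent.H13.pCore_le_sylow T)
  have hYC : Y ≤ C := by
    intro y hy
    rw [hC, Subgroup.mem_centralizer_iff]
    intro z hz
    exact Cfsg.Agent.H12.isElementaryAbelian_comm hYr.2.1 z hz y hy
  have hYTL : Y ≤ TL := by rw [hTL]; exact le_inf hYT hYC
  refine ⟨hdec, ?_, ?_⟩
  · -- O_p(N) = TL
    apply le_antisymm
    · set Q := (Cfsg.pCore p ↥N).map N.subtype with hQ
      have hQp : IsPGroup p ↥Q := IsPGroup.map Cfsg.Agent.H13.isPGroup_pCore _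
      have hQT : Q ≤ (T : Subgroup L) := by
        have h1 : Cfsg.pCore p ↥N ≤ (Sylow.subtype T hTN : Subgroup ↥N) := Cfsg.Agent.H13.pCore_le_sylow _
        rintro _ ⟨x, hx, rfl⟩
        exact h1 hx
      have hNQ : N ≤ Subgroup.normalizer (Q : Set L) := Cfsg.Agent.H13.pCoreOf_normalized N
      have hQC : Q ≤ C := by
        apply le_centralizer_of_normalized hYr N Q hdec hNQ
        intro x hx
        obtain ⟨k, hk⟩ := hQp ⟨x, hx⟩
        refine ⟨k, ?_⟩
        have : x ^ (p ^ k) = 1 := by simpa using congrArg Subtype.val hk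
        rw [this]
        exact one_mem _
      rw [hTL]
      exact le_inf hQT hQC
    · exact Cfsg.Agent.H13.le_pCoreOf hTLN hTLp le_rfl
  · apply le_antisymm
    · intro y hy
      refine Cfsg.Agent.H12.mem_omegaOne_center_of (hYTL hy) ?_ (hYr.2.1.2 y hy)
      intro x hx
      exact (Subgroup.mem_centralizer_iff.1 (hTLC hx) y hy).symm
    · set A := Cfsg.omegaOne p (TL ⊓ Subgroup.centralizer (TL : Set L)) with hA
      have hAprop : ∀ a ∈ A, a ∈ TL ∧ (∀ y ∈ TL, y * a = a * y) ∧ a ^ p = 1 :=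
        fun a ha => Cfsg.Agent.H12.mem_omegaOne_center ha
      have hAN : A ≤ N := fun a ha => hTLN (hAprop a ha).1
      let X : Subgroup ↥N := A.subgroupOf N
      have hXmap : X.map N.subtype = A := by
        change (A.subgroupOf N).map N.subtype = A
        rw [Subgroup.subgroupOf_map_subtype]
        exact inf_eq_left.2 hAN
      have hAnorm : N ≤ Subgroup.normalizer (A : Set L) := by
        intro n hn
        apply Cfsg.Agent.H13.mem_normalizer_of_map_conj_le
        rintro _ ⟨a, ha, rfl⟩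
        exact Cfsg.Agent.H12.conj_mem_omegaOne n (Cfsg.Agent.H13.map_conj_eq_of_mem_normalizer hn).symm ha
      have hXn : X.Normal := by
        constructor
        intro x hx g
        rw [Subgroup.mem_subgroupOf] at hx ⊢
        exact (Subgroup.mem_normalizer_iff.1 (hAnorm g.2) x).1 hx
      have hAE : Cfsg.IsElementaryAbelian p A := Cfsg.Agent.H12.isElementaryAbelian_omegaOne_center _
      have hXE : Cfsg.IsElementaryAbelian p X := by
        refine ⟨⟨⟨fun a b => ?_⟩⟩, fun a ha => ?_⟩
        · apply Subtype.ext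
          apply Subtype.ext
          exact Cfsg.Agent.H12.isElementaryAbelian_comm hAE _ a.2 _ b.2
        · apply Subtype.ext
          exact hAE.2 _ ha
      have hcent : ∀ x : ↥N, x ∈ Subgroup.centralizer (X : Set ↥N) ↔ ∀ a ∈ A, a * (x : L) = x * a := by
        intro x
        rw [Subgroup.mem_centralizer_iff]
        constructor
        · intro h a ha
          exact congrArg Subtype.val (h ⟨a, hAN ha⟩ ha)
        · intro h a ha
          exact Subtype.ext (h a ha)
      have hXr : Cfsg.IsPReducedNormal p X := by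
        apply Cfsg.Agent.H12.pReduced_intro hXn hXE
        intro D hD _ hDp
        have hCA : ∀ x : ↥N, x ∈ Subgroup.centralizer (X : Set ↥N) → (x : L) ∈ C := by
          intro x hx
          rw [hC, Subgroup.mem_centralizer_iff]
          intro y hy
          exact (hcent x).1 hx y (by
            have : Y ≤ A := by
              intro y hy
              refine Cfsg.Agent.H12.mem_omegaOne_center_of (hYTL hy) ?_ (hYr.2.1.2 y hy)
              intro x hx
              exact (Subgroup.mem_centralizer_iff.1 (hTLC hx) y hy).symm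
            exact this hy)
        have hD'N : N ≤ Subgroup.normalizer ((D.map N.subtype : Subgroup L) : Set L) := by
          intro n hn
          apply Cfsg.Agent.H13.mem_normalizer_of_map_conj_le
          rintro _ ⟨_, ⟨d, hd, rfl⟩, rfl⟩
          exact ⟨_, hD.conj_mem d hd ⟨n, hn⟩, rfl⟩
        have hD'C : D.map N.subtype ≤ C := by
          apply le_centralizer_of_normalized hYr N _ hdec hD'N
          rintro _ ⟨d, hd, rfl⟩
          obtain ⟨k, hk⟩ := hDp d hd
          exact ⟨k, hCA _ hk⟩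
        intro x hx
        obtain ⟨y, z, hy, hz, hxyz, ⟨k, hk⟩, hzc⟩ := Cfsg.Agent.H05.exists_pow_decomp (x : ↥N) (Fact.out : p.Prime)
        have hyD : y ∈ D := (Subgroup.zpowers_le.2 hx) hy
        have hzD : z ∈ D := (Subgroup.zpowers_le.2 hx) hz
        rw [hxyz]
        refine mul_mem ?_ ?_
        · -- y ∈ TL
          have hyp : IsPGroup p ↥(Subgroup.zpowers (y : L)) := Cfsg.Agent.H12.isPGroup_zpowers_of_pow (by
            have := congrArg Subtype.val hk
            simpa using this)
          have hyn : Subgroup.zpowers (y : L) ≤ Subgroup.normalizer (TL : Set L) :=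
            Subgroup.zpowers_le.2 y.2
          have hB : IsPGroup p ↥(TL ⊔ Subgroup.zpowers (y : L)) :=
            IsPGroup.to_sup_of_normal_left' hTLp hyp hyn
          have hyC : (y : L) ∈ C := hD'C ⟨y, hyD, rfl⟩
          have hzC : Subgroup.zpowers (y : L) ≤ C := Subgroup.zpowers_le.2 hyC
          let P : Sylow p ↥C := Cfsg.Agent.H18.sylowOfNormal T C
          have hP : (P : Subgroup ↥C) = (T : Subgroup L).subgroupOf C := rfl
          have hle : (P : Subgroup ↥C) ≤ (TL ⊔ Subgroup.zpowers (y : L)).subgroupOf C := by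
            rw [hP]
            intro t ht
            rw [Subgroup.mem_subgroupOf] at ht ⊢
            apply (le_sup_left : TL ≤ _)
            rw [hTL]
            exact ⟨ht, t.2⟩
          have h1 := P.3 (Cfsg.Agent.H13.isPGroup_subgroupOf hB) hle
          have h2 : (⟨(y : L), hyC⟩ : ↥C) ∈ (TL ⊔ Subgroup.zpowers (y : L)).subgroupOf C := by
            rw [Subgroup.mem_subgroupOf]
            exact (le_sup_right : Subgroup.zpowers (y : L) ≤ _) (Subgroup.mem_zpowers _)
          rw [h1, hP, Subgroup.mem_subgroupOf] at h2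
          have hyTL : (y : L) ∈ TL := by
            rw [hTL]; exact ⟨h2, hyC⟩
          rw [hcent]
          intro a ha
          exact ((hAprop a ha).2.1 _ hyTL).symm
        · obtain ⟨k', hk'⟩ := hDp z hzD
          refine Cfsg.Agent.H12.mem_of_pow_mem_of_coprime _ (pow_orderOf_eq_one z) ?_ hk'
          exact (hzc.pow_right k').symm
      have h1 := hYl _ (Cfsg.Agent.H12.normalClosure_pReduced hchar T N hTN X hXr)
      rw [hXmap] at h1
      exact Subgroup.le_normalClosure.trans h1

end Cfsg.Agent.S2803
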