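import Cfsg.Statements.S2809
import Cfsg.Agent.Lib.H12.Core2
-- import your own Cfsg.Agent.* helpers here

set_option autoImplicit false
open Cfsg

namespace Cfsg.Agent.S2809

open scoped commutatorElement


/-- Let H be a finite group, p a prime, R a p-subgroup of H with C_H(R) ≤ R, and L a subgroup of N_H(R) acting nilpotently on R (some iterated commutator [R, L, …, L] is trivial). Then L is a p-group. -/
theorem result {H : Type*} [Group H] [Finite H] {p : ℕ} [Fact p.Prime] (R : Subgroup H) (hR : IsPGroup p ↥R) (hC : Subgroup.centralizer (R : Set H) ≤ R) (L : Subgroup H) (hL : L ≤ Subgroup.normalizer (R : Set H)) (hnil : ∃ n : ℕ, Cfsg.iterCommutator R L n = ⊥) : IsPGroup p ↥L := by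
  obtain ⟨n, hn⟩ := hnil
  have hle : ∀ i, Cfsg.iterCommutator R L i ≤ R := by
    intro i
    induction i with
    | zero => exact le_rfl
    | succ i ih =>
      change ⁅Cfsg.iterCommutator R L i, L⁆ ≤ R
      rw [Subgroup.commutator_le]
      intro r hr l hl
      have : ⁅r, l⁆ = r * (l * r⁻¹ * l⁻¹) := by rw [commutatorElement_def]; group
      rw [this]
      exact mul_mem (ih hr) ((Subgroup.mem_normalizer_iff.1 (hL hl) _).1 (inv_mem (ih hr)))
  have hz : ∀ z ∈ L, Nat.Coprime (orderOf z) p → z = 1 := by
    intro z hzL hzc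
    have key : ∀ m k, k + m = n → ∀ r ∈ Cfsg.iterCommutator R L k, z * r = r * z := by
      intro m
      induction m with
      | zero =>
        intro k hk r hr
        rw [add_zero] at hk
        rw [hk, hn, Subgroup.mem_bot] at hr
        rw [hr, mul_one, one_mul]
      | succ m ih =>
        intro k hk r hr
        have hB : IsPGroup p ↥(Cfsg.iterCommutator R L (k + 1)) := hR.to_le (hle _)
        apply Cfsg.Agent.H12.commute_of_step hB hzc (ih (k + 1) (by omega))
        have h1 : r⁻¹ * (z * r * z⁻¹) = ⁅r⁻¹, z⁆ := by
          rw [commutatorElement_def]; group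
        rw [h1]
        exact Subgroup.commutator_mem_commutator (inv_mem hr) hzL
    have hzC : z ∈ Subgroup.centralizer (R : Set H) := by
      rw [Subgroup.mem_centralizer_iff]
      intro r hr
      exact (key n 0 (by omega) r hr).symm
    exact Cfsg.Agent.H12.eq_one_of_mem_isPGroup hR (hC hzC) hzc
  exact IsPGroup.of_equiv (Cfsg.Agent.H12.isPGroup_of_no_pprime L hz) (MulEquiv.refl _)

end Cfsg.Agent.S2809
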