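import Cfsg.Statements.S2810
import Cfsg.Agent.Lib.H12.Core2
-- import your own Cfsg.Agent.* helpers here

set_option autoImplicit false
open Cfsg

namespace Cfsg.Agent.S2810

open scoped commutatorElement


/-- Let H be a finite group of characteristic p and L a subgroup of H centralizing every factor of some H-invariant chain 1 = A₀ ≤ A₁ ≤ … ≤ Aₙ = O_p(H) of normal subgroups (that is, [A_{i+1}, L] ≤ Aᵢ for each i). Then L ≤ O_p(H). -/
theorem result {H : Type*} [Group H] [Finite H] {p : ℕ} [Fact p.Prime] (hchar : Subgroup.centralizer (Cfsg.pCore p H : Set H) ≤ Cfsg.pCore p H) (L : Subgroup H) (n : ℕ) (A : Fin (n + 1) → Subgroup H) (h0 : A 0 = ⊥) (hn : A (Fin.last n) = Cfsg.pCore p H) (hmono : Monotone A) (hnorm : ∀ i, (A i).Normal) (hcent : ∀ i : Fin n, ⁅A i.succ, L⁆ ≤ A i.castSucc) : L ≤ Cfsg.pCore p H := by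
  let C : Subgroup H :=
    { carrier := {h | ∀ i : Fin n, ∀ a ∈ A i.succ, ⁅a, h⁆ ∈ A i.castSucc}
      one_mem' := fun i a _ => by simp [commutatorElement_def]
      mul_mem' := by
        intro h₁ h₂ h1 h2 i a ha
        have : ⁅a, h₁ * h₂⁆ = ⁅a, h₁⁆ * (h₁ * ⁅a, h₂⁆ * h₁⁻¹) := by
          simp only [commutatorElement_def]; group
        rw [this]
        exact mul_mem (h1 i a ha) ((hnorm _).conj_mem _ (h2 i a ha) _)
      inv_mem' := by
        intro h h1 i a ha
        have : ⁅a, h⁻¹⁆ = h⁻¹ * ⁅a, h⁆⁻¹ * h⁻¹⁻¹ := by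
          simp only [commutatorElement_def]; group
        rw [this]
        exact (hnorm _).conj_mem _ (inv_mem (h1 i a ha)) _ }
  have hCn : C.Normal := by
    constructor
    intro h hh g i a ha
    have h1 : g⁻¹ * a * g ∈ A i.succ := by
      have := (hnorm i.succ).conj_mem a ha g⁻¹
      simpa using this
    have h2 := hh i _ h1
    have h3 := (hnorm i.castSucc).conj_mem _ h2 g
    have h4 : g * ⁅g⁻¹ * a * g, h⁆ * g⁻¹ = ⁅a, g * h * g⁻¹⁆ := by
      simp only [commutatorElement_def]; group
    rwa [h4] at h3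
  have hLC : L ≤ C := by
    intro l hl i a ha
    exact (hcent i) (Subgroup.commutator_mem_commutator ha hl)
  have hO : (A (Fin.last n)) = Cfsg.pCore p H := hn
  have hAp : ∀ i, IsPGroup p ↥(A i) := fun i =>
    (Cfsg.Agent.H13.isPGroup_pCore (p := p) (G := H)).to_le (by rw [← hn]; exact hmono (Fin.le_last i))
  have hz : ∀ z ∈ C, Nat.Coprime (orderOf z) p → z = 1 := by
    intro z hzC hzc
    have key : ∀ i : Fin (n + 1), ∀ r ∈ A i, z * r = r * z := by
      intro i
      induction i using Fin.induction with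
      | zero =>
        intro r hr
        rw [h0, Subgroup.mem_bot] at hr
        rw [hr, mul_one, one_mul]
      | succ i ih =>
        intro r hr
        apply Cfsg.Agent.H12.commute_of_step (hAp i.castSucc) hzc ih
        have h1 : r⁻¹ * (z * r * z⁻¹) = ⁅r⁻¹, z⁆ := by
          rw [commutatorElement_def]; group
        rw [h1]
        exact hzC i _ (inv_mem hr)
    have hzO : z ∈ Subgroup.centralizer (Cfsg.pCore p H : Set H) := by
      rw [Subgroup.mem_centralizer_iff]
      intro r hr
      rw [← hn] at hr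
      exact (key _ r hr).symm
    exact Cfsg.Agent.H12.eq_one_of_mem_isPGroup Cfsg.Agent.H13.isPGroup_pCore (hchar hzO) hzc
  exact hLC.trans (Cfsg.Agent.H13.le_pCore hCn (Cfsg.Agent.H12.isPGroup_of_no_pprime C hz))

end Cfsg.Agent.S2810
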