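import Cfsg.Statements.S2814
import Cfsg.Agent.Lib.H12.Subnormal2
import Cfsg.Agent.Lib.H05.Comp5
-- import your own Cfsg.Agent.* helpers here

set_option autoImplicit false
open Cfsg

namespace Cfsg.Agent.S2814

open scoped commutatorElement

theorem isSubnormal_sInf {H : Type*} [Group H] [Finite H] (S : Set (Subgroup H))
    (hS : ∀ K ∈ S, K.IsSubnormal) : (sInf S).IsSubnormal := by
  have hfin : S.Finite := Set.toFinite S
  induction S, hfin using Set.Finite.induction_on with
  | empty => simp
  | insert _ _ ih =>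
    rw [sInf_insert]
    exact (hS _ (Set.mem_insert _ _)).inf (ih (fun K hK => hS K (Set.mem_insert_of_mem _ hK)))


/-- Let A be a subgroup of the finite group H and K the subnormal closure of A (intersection of the subnormal subgroups containing A). Then K is the normal closure of A inside K and N_H(A) ≤ N_H(K); K = A·O^p(K), O^p(K) being generated by the elements of K of order prime to p; and if A is a p-group, O^p(K) = [O^p(K), A]. -/
theorem result {H : Type*} [Group H] [Finite H] {p : ℕ} [Fact p.Prime] (A : Subgroup H) (K : Subgroup H) (hK : K = Cfsg.subnormalClosure A) : (Subgroup.normalClosure ((A.subgroupOf K : Subgroup ↥K) : Set ↥K)).map K.subtype = K ∧ Subgroup.normalizer (A : Set H) ≤ Subgroup.normalizer (K : Set H) ∧ A ⊔ (Cfsg.pResidual p ↥K).map K.subtype = K ∧ (IsPGroup p ↥A → ⁅(Cfsg.pResidual p ↥K).map K.subtype, A⁆ = (Cfsg.pResidual p ↥K).map K.subtype) := by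
  have hKsn : K.IsSubnormal := by
    rw [hK]
    exact isSubnormal_sInf _ (fun K hK => hK.2)
  have hmin : ∀ K' : Subgroup H, K'.IsSubnormal → A ≤ K' → K ≤ K' := by
    intro K' h1 h2
    rw [hK]
    exact sInf_le ⟨h2, h1⟩
  have hAK : A ≤ K := by
    rw [hK]
    exact le_sInf (fun K hK => hK.1)
  have hSub : ∀ D : Subgroup H, D ≤ K → (D.subgroupOf K).IsSubnormal → D.IsSubnormal := fun D h1 h2 =>
    Subgroup.IsSubnormal.trans h1 h2 hKsn
  set R := (Cfsg.pResidual p ↥K).map K.subtype with hR
  have hRK : R ≤ K := Cfsg.Agent.H12.res_le K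
  have hKR : K ≤ Subgroup.normalizer (R : Set H) := fun k hk =>
    Cfsg.Agent.H12.res_normalized (Subgroup.le_normalizer hk)
  have h3 : A ⊔ R = K := by
    apply le_antisymm (sup_le hAK hRK)
    apply hmin _ _ le_sup_left
    apply hSub _ (sup_le hAK hRK)
    have hq : IsPGroup p (↥K ⧸ Cfsg.pResidual p ↥K) := Cfsg.Agent.H13.isPGroup_quotient_pResidual
    have hnil : Group.IsNilpotent (↥K ⧸ Cfsg.pResidual p ↥K) := hq.isNilpotent
    have h1 := (Cfsg.Agent.H05.nil_subnormal hnil (((A ⊔ R).subgroupOf K).map (QuotientGroup.mk' (Cfsg.pResidual p ↥K)))).comap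
      (QuotientGroup.mk' (Cfsg.pResidual p ↥K))
    rw [Subgroup.comap_map_eq, QuotientGroup.ker_mk'] at h1
    have h2 : (A ⊔ R).subgroupOf K ⊔ Cfsg.pResidual p ↥K = (A ⊔ R).subgroupOf K := by
      apply sup_eq_left.2
      intro x hx
      rw [Subgroup.mem_subgroupOf]
      exact (le_sup_right : R ≤ A ⊔ R) ⟨x, hx, rfl⟩
    rwa [h2] at h1
  refine ⟨?_, ?_, h3, ?_⟩
  · apply le_antisymm
    · rintro _ ⟨x, -, rfl⟩
      exact x.2
    · apply hmin
      · apply Subgroup.IsSubnormal.trans'
        · exact Subgroup.Normal.isSubnormal inferInstance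
        · exact hKsn
      · intro a ha
        exact ⟨⟨a, hAK ha⟩, Subgroup.subset_normalClosure ha, rfl⟩
  · intro g hg
    apply Cfsg.Agent.H13.mem_normalizer_of_map_conj_eq
    symm
    apply Subgroup.eq_of_le_of_card_ge
    · apply hmin _ (hKsn.map (MulAut.conj g).surjective)
      have := Subgroup.map_mono (f := (MulAut.conj g).toMonoidHom) hAK
      rwa [Cfsg.Agent.H13.map_conj_eq_of_mem_normalizer hg] at this
    · exact le_of_eq (Cfsg.Agent.H13.card_map_conj g K)
  · intro hAp
    set C := ⁅R, A⁆ with hC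
    have hCR : C ≤ R := by
      rw [hC, Subgroup.commutator_le]
      intro r hr a ha
      have e : ⁅r, a⁆ = r * (a * r⁻¹ * a⁻¹) := by rw [commutatorElement_def]; group
      rw [e]
      exact mul_mem hr ((Subgroup.mem_normalizer_iff.1 (hKR (hAK ha)) _).1 (inv_mem hr))
    have hAC : A ≤ Subgroup.normalizer (C : Set H) := fun a ha =>
      Cfsg.Agent.H12.conj_right_mem_normalizer_commutator ha
    have hRC : R ≤ Subgroup.normalizer (C : Set H) := fun a ha =>
      Cfsg.Agent.H12.conj_left_mem_normalizer_commutator ha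
    have hKD : K ≤ Subgroup.normalizer ((A ⊔ C : Subgroup H) : Set H) := by
      rw [← h3]
      apply sup_le
      · intro a ha
        apply Cfsg.Agent.H13.mem_normalizer_of_map_conj_le
        rw [Subgroup.map_sup, Cfsg.Agent.H13.map_conj_eq_of_mem_normalizer (hAC ha),
          Cfsg.Agent.H13.map_conj_eq_of_mem_normalizer (Subgroup.le_normalizer ha)]
      · intro r hr
        apply Cfsg.Agent.H13.mem_normalizer_of_map_conj_le
        rw [Subgroup.map_sup, Cfsg.Agent.H13.map_conj_eq_of_mem_normalizer (hRC hr)]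
        apply sup_le _ le_sup_right
        rintro _ ⟨a, ha, rfl⟩
        have e : (MulAut.conj r).toMonoidHom a = ⁅r, a⁆ * a := by
          simp [commutatorElement_def]
        rw [e]
        exact mul_mem ((le_sup_right : C ≤ _) (Subgroup.commutator_mem_commutator hr ha))
          ((le_sup_left : A ≤ _) ha)
    have hDK : A ⊔ C ≤ K := sup_le hAK (hCR.trans hRK)
    have hKle : K ≤ A ⊔ C := by
      apply hmin _ _ le_sup_left
      apply hSub _ hDK
      apply Subgroup.Normal.isSubnormal
      exact (Subgroup.normal_subgroupOf_iff_le_normalizer hDK).2 hKD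
    apply le_antisymm hCR
    rw [hR, Cfsg.Agent.H12.res_eq_closure, Subgroup.closure_le]
    rintro g ⟨h1, h2⟩
    exact Cfsg.Agent.H12.coprime_mem_of_mem_sup' C A hAC hAp (hKle h1) h2

end Cfsg.Agent.S2814
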