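import Cfsg.Statements.S2815
import Cfsg.Agent.Lib.H12.Quasi
-- import your own Cfsg.Agent.* helpers here

set_option autoImplicit false
open Cfsg

namespace Cfsg.Agent.S2815

open scoped commutatorElement


/-- Let H be a finite group and p a prime dividing its order with O_p(H) = 1, and suppose K = O^p(H) (generated by the elements of order prime to p) is quasisimple. Then K = F*(H); for every nontrivial p-subgroup Y of H, K = [K, Y] and K lies in the subgroup generated by the K-conjugates of Y; every normal subgroup of H not containing K has order prime to p; and H is p-irreducible. -/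
theorem result {H : Type*} [Group H] [Finite H] {p : ℕ} [Fact p.Prime] (hp : p ∣ Nat.card H) (hO : Cfsg.pCore p H = ⊥) (hq : Cfsg.IsQuasisimple ↥(Cfsg.pResidual p H)) : Cfsg.pResidual p H = Cfsg.generalizedFittingSubgroup H ∧ (∀ Y : Subgroup H, IsPGroup p ↥Y → Y ≠ ⊥ → ⁅Cfsg.pResidual p H, Y⁆ = Cfsg.pResidual p H ∧ Cfsg.pResidual p H ≤ ⨆ k : ↥(Cfsg.pResidual p H), Y.map (MulAut.conj (k : H)).toMonoidHom) ∧ (∀ C : Subgroup H, C.Normal → ¬ Cfsg.pResidual p H ≤ C → (Nat.card ↥C).Coprime p) ∧ Cfsg.IsPIrreducible p H := by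
  classical
  set R := Cfsg.pResidual p H with hR
  haveI hRn : R.Normal := H13.pResidual_normal'
  have hCR : Subgroup.centralizer (R : Set H) ≤ R := H12.centralizer_res_le hO hq
  -- (iii)
  have h3 : ∀ C : Subgroup H, C.Normal → ¬ R ≤ C → (Nat.card ↥C).Coprime p := by
    intro C hC hnot
    have h1 : C ≤ Subgroup.centralizer (R : Set H) := by
      apply H12.le_centralizer_of_comm_central hq
      have h2 : (C ⊓ R) = R ∨ (C ⊓ R) ≤ Subgroup.centralizer (R : Set H) := by
        apply H12.qs_normal_at hq inf_le_right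
        rw [Subgroup.normalizer_eq_top_iff.2 (inferInstance : (C ⊓ R).Normal)]
        exact le_top
      rcases h2 with h2 | h2
      · exact absurd (h2 ▸ inf_le_left) hnot
      · exact le_trans (Subgroup.commutator_le_inf C R) h2
    rw [Nat.coprime_comm, Nat.Prime.coprime_iff_not_dvd (Fact.out : p.Prime)]
    intro hd
    obtain ⟨x, hx⟩ := exists_prime_orderOf_dvd_card' p hd
    have h4 := H12.coprime_of_mem_centralizer_res hO hq (h1 x.2)
    have hx' : orderOf (x : H) = p := by rw [Subgroup.orderOf_coe]; exact hx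
    rw [hx'] at h4
    exact (Fact.out : p.Prime).one_lt.ne' (by simpa using h4)
  refine ⟨?_, ?_, h3, ?_, ?_⟩
  · -- (i)
    have hRc : Cfsg.IsComponent R := ⟨hRn.isSubnormal, hq⟩
    apply le_antisymm
    · exact le_trans (H05.comp_le_layer hRc) le_sup_left
    · apply sup_le
      · apply sSup_le
        intro L hL
        rcases H05.comp_eq_or_comm hL hRc with h | h
        · exact h.le
        · have h1 : L ≤ Subgroup.centralizer (R : Set H) :=
            Subgroup.commutator_eq_bot_iff_le_centralizer.1 h
          exact le_trans h1 hCR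
      · have h := H05.comp_comm_fitting hRc
        rw [Subgroup.commutator_comm] at h
        exact le_trans (Subgroup.commutator_eq_bot_iff_le_centralizer.1 h) hCR
  · -- (ii)
    intro Y hY hYne
    have h1 : ⁅R, Y⁆ = R := by
      have h2 : ⁅R, Y⁆ = R ∨ ⁅R, Y⁆ ≤ Subgroup.centralizer (R : Set H) :=
        H12.qs_normal_at hq (Subgroup.commutator_le_left R Y) (H05.comm_le_normalizer_left R Y)
      rcases h2 with h2 | h2
      · exact h2
      · exfalso
        rw [Subgroup.commutator_comm] at h2
        exact hYne (H12.eq_bot_of_isPGroup_le_centralizer_res hO hq hY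
          (H12.le_centralizer_of_comm_central hq h2))
    refine ⟨h1, ?_⟩
    conv_lhs => rw [← h1]
    rw [Subgroup.commutator_le]
    intro k hk y hy
    have e : ⁅k, y⁆ = (k * y * k⁻¹) * y⁻¹ := rfl
    rw [e]
    apply Subgroup.mul_mem
    · apply Subgroup.mem_iSup_of_mem (⟨k, hk⟩ : R)
      exact ⟨y, hy, rfl⟩
    · apply Subgroup.mem_iSup_of_mem (1 : R)
      refine ⟨y⁻¹, Y.inv_mem hy, ?_⟩
      simp
  · -- (iv) not `p`-closed
    intro hc
    obtain ⟨P⟩ : Nonempty (Sylow p H) := inferInstance
    have h1 : (P : Subgroup H) ≤ Cfsg.pCore p H := H12.le_pCore_of_isPClosed hc P.2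
    rw [hO] at h1
    have h2 := (Sylow.exists_subgroup_card_pow_prime (G := H) p (n := 1) (by simpa using hp))
    obtain ⟨K, hK⟩ := h2
    obtain ⟨Q, hQ⟩ := (IsPGroup.of_card (p := p) (n := 1) hK).exists_le_sylow
    obtain ⟨g, hg⟩ := H12.sylow_exists_conj P Q
    have h3 : (Q : Subgroup H) = ⊥ := by
      rw [hg, eq_bot_iff] at *
      rw [le_bot_iff.1 h1]
      simp
    have h4 : K = ⊥ := le_bot_iff.1 (h3 ▸ hQ)
    rw [h4] at hK
    simp at hK
    exact (Fact.out : p.Prime).one_lt.ne' hK.symm
  · -- (iv) normal subgroups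
    intro N hN hnot
    by_contra hle
    have h1 := h3 N hN hle
    apply hnot
    intro P
    have h2 : (P : Subgroup N) = ⊥ := by
      rw [eq_bot_iff]
      intro x hx
      have hc : Nat.Coprime (orderOf x) p := Nat.Coprime.coprime_dvd_left (orderOf_dvd_natCard x) h1
      have := H12.eq_one_of_mem_isPGroup P.2 hx hc
      simp [this]
    rw [h2]
    infer_instance

end Cfsg.Agent.S2815
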