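import Cfsg.Statements.S2816
import Cfsg.Agent.Lib.H12.FStarAct2
-- import your own Cfsg.Agent.* helpers here

set_option autoImplicit false
open Cfsg

namespace Cfsg.Agent.S2816



/-- Let H be a finite group and p a prime with O_p(H) = 1, and Y a p-subgroup of H. Then for every subnormal subgroup K of H containing Y, [F*(H), Y] = [F*(K), Y] = [F*(K), Y, Y]; and if Y₀ ≤ Y with [F*(H), Y, Y₀] = 1 then Y₀ = 1 (in particular [F*(H), Y] = 1 forces Y = 1). -/
theorem result {H : Type*} [Group H] [Finite H] {p : ℕ} [Fact p.Prime] (hO : Cfsg.pCore p H = ⊥) (Y : Subgroup H) (hY : IsPGroup p ↥Y) : (∀ K : Subgroup H, K.IsSubnormal → Y ≤ K → ⁅Cfsg.generalizedFittingSubgroup H, Y⁆ = ⁅(Cfsg.generalizedFittingSubgroup ↥K).map K.subtype, Y⁆ ∧ ⁅(Cfsg.generalizedFittingSubgroup ↥K).map K.subtype, Y⁆ = ⁅⁅(Cfsg.generalizedFittingSubgroup ↥K).map K.subtype, Y⁆, Y⁆) ∧ (∀ Y₀ : Subgroup H, Y₀ ≤ Y → ⁅⁅Cfsg.generalizedFittingSubgroup H, Y⁆, Y₀⁆ = ⊥ → Y₀ = ⊥) := by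
  classical
  set E := Cfsg.generalizedFittingSubgroup H with hE
  haveI hF : E.Normal := H07.generalizedFitting_normal H
  have hYE : Y ≤ Subgroup.normalizer (E : Set H) := by
    rw [Subgroup.normalizer_eq_top_iff.2 hF]; exact le_top
  have hdec := H12.fstar_decomp hO Y hY
  have hD := H12.comm_comm_eq_of_decomp hYE hdec
  have hDE : ⁅E, Y⁆ ≤ E := H12.comm_le_of_le_normalizer hYE
  refine ⟨?_, ?_⟩
  · intro K hK hYK
    have hDK := H12.comm_fstar_le_of_subnormal hO Y hY hK hYK
    have hn : (⁅E, Y⁆.subgroupOf E).Normal :=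
      (Subgroup.normal_subgroupOf_iff_le_normalizer hDE).2 (H05.comm_le_normalizer_left E Y)
    have h1 := H12.le_fstar_map_of_subnormal hK hDK hDE hn.isSubnormal
    have h2 := H12.fstar_map_le hK
    have eq1 : ⁅E, Y⁆ = ⁅(Cfsg.generalizedFittingSubgroup ↥K).map K.subtype, Y⁆ := by
      apply le_antisymm
      · conv_lhs => rw [hD]
        exact Subgroup.commutator_mono h1 le_rfl
      · exact Subgroup.commutator_mono h2 le_rfl
    refine ⟨eq1, ?_⟩
    rw [← eq1]
    exact hD
  · intro Y₀ hY₀ hc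
    have h1 : Y₀ ≤ Subgroup.centralizer ((⁅E, Y⁆ : Subgroup H) : Set H) := by
      rw [Subgroup.commutator_comm, Subgroup.commutator_eq_bot_iff_le_centralizer] at hc
      exact hc
    have h2 : E ≤ Subgroup.centralizer (Y₀ : Set H) := by
      have hdec' : ⁅E, Y⁆ ⊔ (E ⊓ Subgroup.centralizer (Y : Set H)) = E := hdec
      rw [← hdec']
      apply sup_le
      · exact Subgroup.le_centralizer_iff.2 h1
      · exact inf_le_right.trans (Subgroup.centralizer_le hY₀)
    have h3 : Y₀ ≤ Subgroup.centralizer (E : Set H) := Subgroup.le_centralizer_iff.2 h2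
    have hCE : Subgroup.centralizer (E : Set H) ≤ E := H05.centralizer_fstar_le
    haveI hCn : (Subgroup.centralizer (E : Set H)).Normal := Subgroup.normal_centralizer
    haveI hnil : Group.IsNilpotent ↥(Subgroup.centralizer (E : Set H)) := H05.nil_of_comm (by
      intro a b
      apply Subtype.ext
      exact (Subgroup.mem_centralizer_iff.1 b.2) a (hCE a.2))
    rw [eq_bot_iff]
    intro y hy
    have h4 := H12.coprime_of_mem_normal_isPClosed hO _ (H12.isPClosed_of_nilpotent) (h3 hy)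
    have h5 := H12.eq_one_of_mem_isPGroup (IsPGroup.to_le hY hY₀) hy h4
    simp [h5]

end Cfsg.Agent.S2816
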