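import Cfsg.Statements.S2817
import Cfsg.Agent.Lib.H12.FStarAct3
import Cfsg.Agent.S2816
-- import your own Cfsg.Agent.* helpers here

set_option autoImplicit false
open Cfsg

namespace Cfsg.Agent.S2817

open scoped commutatorElement


/-- Let H be a finite group and p a prime with O_p(H) = 1, Q a p-subgroup of H, L = [F*(H), Q], and F the largest normal subgroup of F*(H) centralized by Q (a normal subgroup of F*(H) centralized by Q and containing every such). Then F = C_{F*(H)}(LQ); L = [L, Q]; L ∩ F ≤ Φ(L); every p-subgroup B of N_H(Q) with [L, B] ≤ F satisfies [L, B] = 1; and C_H(FL) has order prime to p. -/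
theorem result {H : Type*} [Group H] [Finite H] {p : ℕ} [Fact p.Prime] (hO : Cfsg.pCore p H = ⊥) (Q : Subgroup H) (hQ : IsPGroup p ↥Q) (L : Subgroup H) (hL : L = ⁅Cfsg.generalizedFittingSubgroup H, Q⁆) (F : Subgroup H) (hF : F ≤ Cfsg.generalizedFittingSubgroup H ∧ Cfsg.generalizedFittingSubgroup H ≤ Subgroup.normalizer (F : Set H) ∧ Q ≤ Subgroup.centralizer (F : Set H) ∧ ∀ N : Subgroup H, N ≤ Cfsg.generalizedFittingSubgroup H → Cfsg.generalizedFittingSubgroup H ≤ Subgroup.normalizer (N : Set H) → Q ≤ Subgroup.centralizer (N : Set H) → N ≤ F) : F = Cfsg.generalizedFittingSubgroup H ⊓ Subgroup.centralizer ((L ⊔ Q : Subgroup H) : Set H) ∧ ⁅L, Q⁆ = L ∧ L ⊓ F ≤ (frattini ↥L).map L.subtype ∧ (∀ B : Subgroup H, IsPGroup p ↥B → B ≤ Subgroup.normalizer (Q : Set H) → ⁅L, B⁆ ≤ F → ⁅L, B⁆ = ⊥) ∧ (Nat.card ↥(Subgroup.centralizer ((F ⊔ L : Subgroup H) : Set H))).Coprime p := by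
  classical
  obtain ⟨hFE, hEF, hQF, hFmax⟩ := hF
  have hEn : (Cfsg.generalizedFittingSubgroup H).Normal := H07.generalizedFitting_normal H
  have hQE : Q ≤ Subgroup.normalizer (Cfsg.generalizedFittingSubgroup H : Set H) := by
    rw [Subgroup.normalizer_eq_top_iff.2 hEn]; exact le_top
  have hdec := H12.fstar_decomp hO Q hQ
  rw [← hL] at hdec
  have hD : ⁅L, Q⁆ = L := by
    have := H12.comm_comm_eq_of_decomp hQE (by rw [← hL]; exact hdec)
    rw [← hL] at this
    exact this.symm
  have hLE : L ≤ Cfsg.generalizedFittingSubgroup H := hL ▸ H12.comm_le_of_le_normalizer hQE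
  have hEL : Cfsg.generalizedFittingSubgroup H ≤ Subgroup.normalizer (L : Set H) :=
    hL ▸ H05.comm_le_normalizer_left _ _
  have hQL : Q ≤ Subgroup.normalizer (L : Set H) := fun u hu => by
    rw [hL]
    exact H12.conj_mem_normalizer_commutator (hQE hu) (Subgroup.le_normalizer hu)
  have hLs : L.IsSubnormal := by
    have hn : (L.subgroupOf (Cfsg.generalizedFittingSubgroup H)).Normal :=
      (Subgroup.normal_subgroupOf_iff_le_normalizer hLE).2 hEL
    exact H05.sn_of_subgroupOf hLE hn.isSubnormal hEn.isSubnormal
  -- `L` centralizes `F`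
  have hFL : L ≤ Subgroup.centralizer (F : Set H) := by
    rw [← Subgroup.commutator_eq_bot_iff_le_centralizer, hL]
    apply Subgroup.commutator_commutator_eq_bot_of_rotate
    · rw [Subgroup.commutator_eq_bot_iff_le_centralizer.2 hQF]
      exact Subgroup.commutator_bot_left _
    · rw [← le_bot_iff, ← Subgroup.commutator_eq_bot_iff_le_centralizer.2 hQF, Subgroup.commutator_comm Q F]
      exact Subgroup.commutator_mono (H12.comm_le_of_le_normalizer hEF) le_rfl
  have hF1 : F = Cfsg.generalizedFittingSubgroup H ⊓ Subgroup.centralizer ((L ⊔ Q : Subgroup H) : Set H) := by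
    apply le_antisymm
    · exact le_inf hFE (Subgroup.le_centralizer_iff.2 (sup_le hFL hQF))
    · apply hFmax _ inf_le_left
      · conv_lhs => rw [← hdec]
        apply sup_le
        · intro l hl
          apply H05.mem_normalizer_of_comm
          intro b hb
          have := Subgroup.mem_centralizer_iff.1 (Subgroup.mem_inf.1 hb).2 l
            (Subgroup.mem_sup_left hl)
          exact this
        · intro c hc
          obtain ⟨hc1, hc2⟩ := Subgroup.mem_inf.1 hc
          have hcQ : c ∈ Subgroup.normalizer (Q : Set H) := H05.mem_normalizer_of_comm (fun b hb =>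
            (Subgroup.mem_centralizer_iff.1 hc2 b hb).symm)
          have hcA : c ∈ Subgroup.normalizer ((L ⊔ Q : Subgroup H) : Set H) := by
            apply H13.mem_normalizer_of_map_conj_eq
            rw [H13.map_conj_sup, H13.map_conj_eq_of_mem_normalizer (hEL hc1),
              H13.map_conj_eq_of_mem_normalizer hcQ]
          exact Subgroup.inf_normalizer_le_normalizer_inf
            ⟨Subgroup.le_normalizer hc1, H12.mem_normalizer_centralizer hcA⟩
      · apply Subgroup.le_centralizer_iff.2
        exact inf_le_right.trans (Subgroup.centralizer_le (SetLike.coe_subset_coe.2 le_sup_right))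
  refine ⟨hF1, hD, ?_, ?_, ?_⟩
  · -- (3)
    rintro x ⟨hxL, hxF⟩
    refine ⟨⟨x, hxL⟩, ?_, rfl⟩
    apply H12.center_inf_commutator_le_frattini
    · rw [Subgroup.mem_center_iff]
      intro l
      apply Subtype.ext
      exact (Subgroup.mem_centralizer_iff.1 (hFL l.2) x hxF).symm
    · apply H12.mem_commutator_of_centralized hO Q L hQ hL
      intro y hy
      exact (Subgroup.mem_centralizer_iff.1 (hQF hy) x hxF).symm
  · -- (4)
    intro B hB hBQ hLB
    have hBL : B ≤ Subgroup.normalizer (L : Set H) := fun b hb => by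
      rw [hL]
      apply H12.conj_mem_normalizer_commutator _ (hBQ hb)
      rw [Subgroup.normalizer_eq_top_iff.2 hEn]; trivial
    have hLL : ⁅L, B⁆ ≤ L := H12.comm_le_of_le_normalizer hBL
    have ha : ⁅⁅L, L⁆, B⁆ = ⊥ := by
      apply Subgroup.commutator_commutator_eq_bot_of_rotate
      · rw [← le_bot_iff, ← Subgroup.commutator_eq_bot_iff_le_centralizer.2 hFL, Subgroup.commutator_comm L F]
        exact Subgroup.commutator_mono hLB le_rfl
      · rw [Subgroup.commutator_comm B L, ← le_bot_iff, ← Subgroup.commutator_eq_bot_iff_le_centralizer.2 hFL,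
          Subgroup.commutator_comm L F]
        exact Subgroup.commutator_mono hLB le_rfl
    have hb : ⁅L, B⁆ ≤ ⁅L, L⁆ := by
      intro x hx
      have h1 := H12.mem_commutator_of_centralized hO Q L hQ hL ⟨x, hLL hx⟩ (fun y hy =>
        (Subgroup.mem_centralizer_iff.1 (hQF hy) x (hLB hx)).symm)
      rw [← H12.map_commutator_subtype]
      exact ⟨_, h1, rfl⟩
    have hc : ⁅⁅L, B⁆, B⁆ = ⊥ := by
      rw [← le_bot_iff, ← ha]
      exact Subgroup.commutator_mono hb le_rfl
    exact S2813.result L (H12.pCore_eq_bot_of_subnormal hO hLs) B hB hBL hc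
  · -- (5)
    rw [Nat.coprime_comm, Nat.Prime.coprime_iff_not_dvd Fact.out]
    intro hd
    obtain ⟨y, hy⟩ := exists_prime_orderOf_dvd_card' p hd
    have hy' : orderOf (y : H) = p := by rw [Subgroup.orderOf_coe]; exact hy
    set P := Subgroup.zpowers (y : H) with hP
    have hPp : IsPGroup p P := by
      apply IsPGroup.of_card (n := 1)
      rw [Nat.card_zpowers, hy', pow_one]
    have hPC : P ≤ Subgroup.centralizer ((F ⊔ L : Subgroup H) : Set H) := by
      rw [hP, Subgroup.zpowers_le]
      exact y.2
    have hPL : P ≤ Subgroup.centralizer (L : Set H) := hPC.trans (Subgroup.centralizer_le (SetLike.coe_subset_coe.2 le_sup_right))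
    have hPF : P ≤ Subgroup.centralizer (F : Set H) := hPC.trans (Subgroup.centralizer_le (SetLike.coe_subset_coe.2 le_sup_left))
    set A := Cfsg.generalizedFittingSubgroup H ⊓ Subgroup.centralizer (L : Set H) with hA
    have hAn : Cfsg.generalizedFittingSubgroup H ≤ Subgroup.normalizer (A : Set H) := fun e he =>
      Subgroup.inf_normalizer_le_normalizer_inf
        ⟨Subgroup.le_normalizer he, H12.mem_normalizer_centralizer (hEL he)⟩
    have hAs : A.IsSubnormal := by
      have hn : (A.subgroupOf (Cfsg.generalizedFittingSubgroup H)).Normal :=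
        (Subgroup.normal_subgroupOf_iff_le_normalizer inf_le_left).2 hAn
      exact H05.sn_of_subgroupOf inf_le_left hn.isSubnormal hEn.isSubnormal
    have hQA : Q ≤ Subgroup.normalizer (A : Set H) := fun q hq =>
      Subgroup.inf_normalizer_le_normalizer_inf ⟨hQE hq, H12.mem_normalizer_centralizer (hQL hq)⟩
    have hAdec := H12.decomp_of_subnormal_le_fstar hO Q hQ A hAs inf_le_left hQA
    have hAle : A ≤ L ⊔ F := by
      rw [← hAdec]
      apply sup_le_sup
      · rw [hL]
        exact Subgroup.commutator_mono inf_le_left le_rfl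
      · rw [hF1]
        intro x hx
        obtain ⟨⟨hx1, hx2⟩, hx3⟩ := Subgroup.mem_inf.1 hx
        refine ⟨hx1, ?_⟩
        have h9 : L ⊔ Q ≤ Subgroup.centralizer ({x} : Set H) := by
          apply sup_le
          · intro l hl
            rw [Subgroup.mem_centralizer_singleton_iff]
            exact (Subgroup.mem_centralizer_iff.1 hx2 l hl)
          · intro l hl
            rw [Subgroup.mem_centralizer_singleton_iff]
            exact (Subgroup.mem_centralizer_iff.1 hx3 l hl)
        change x ∈ Subgroup.centralizer _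
        rw [Subgroup.mem_centralizer_iff]
        intro g hg
        have := Subgroup.mem_centralizer_singleton_iff.1 (h9 hg)
        exact this
    have hEP : ⁅Cfsg.generalizedFittingSubgroup H, P⁆ ≤ A := by
      apply le_inf
      · rw [Subgroup.normalizer_eq_top_iff.2 hEn] at *
        exact Subgroup.commutator_le_left _ _
      · rw [← Subgroup.commutator_eq_bot_iff_le_centralizer]
        apply Subgroup.commutator_commutator_eq_bot_of_rotate
        · rw [Subgroup.commutator_eq_bot_iff_le_centralizer.2 hPL]
          exact Subgroup.commutator_bot_left _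
        · rw [← le_bot_iff, ← Subgroup.commutator_eq_bot_iff_le_centralizer.2 hPL, Subgroup.commutator_comm P L]
          exact Subgroup.commutator_mono (H12.comm_le_of_le_normalizer hEL) le_rfl
    have hcc : ⁅⁅Cfsg.generalizedFittingSubgroup H, P⁆, P⁆ = ⊥ := by
      rw [Subgroup.commutator_eq_bot_iff_le_centralizer]
      refine hEP.trans (hAle.trans ?_)
      rw [sup_comm]
      exact Subgroup.le_centralizer_iff.2 hPC
    have hbot := (S2816.result hO P hPp).2 P le_rfl hcc
    have h1 : (y : H) = 1 := by
      have : (y : H) ∈ (⊥ : Subgroup H) := by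
        rw [← hbot]; exact Subgroup.mem_zpowers _
      simpa using this
    rw [h1, orderOf_one] at hy'
    exact (Fact.out : p.Prime).one_lt.ne hy'

end Cfsg.Agent.S2817
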