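import Cfsg.Statements.S2818
import Cfsg.Agent.Lib.H12.Core2
import Cfsg.Agent.Lib.H01.Basic
-- import your own Cfsg.Agent.* helpers here

set_option autoImplicit false
open Cfsg

namespace Cfsg.Agent.S2818

open scoped commutatorElement

theorem comm_aux {G : Type*} [Group G] {z₁ z₂ x y : G} (h1 : Commute z₁ x) (h2 : Commute z₁ y)
    (h3 : Commute z₁ z₂) (h4 : Commute z₂ x) (h5 : Commute z₂ y) :
    (z₁ * x) * (z₂ * y) * (z₁ * x)⁻¹ * (z₂ * y)⁻¹ = x * y * x⁻¹ * y⁻¹ := by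
  have c1 : Commute z₁ (x * z₂ * y * x⁻¹) := ((h1.mul_right h3).mul_right h2).mul_right h1.inv_right
  have c2 : Commute z₂ (x * y * x⁻¹ * y⁻¹) := ((h4.mul_right h5).mul_right h4.inv_right).mul_right h5.inv_right
  calc (z₁ * x) * (z₂ * y) * (z₁ * x)⁻¹ * (z₂ * y)⁻¹
      = (z₁ * (x * z₂ * y * x⁻¹) * z₁⁻¹) * (y⁻¹ * z₂⁻¹) := by group
    _ = (x * z₂ * y * x⁻¹) * (y⁻¹ * z₂⁻¹) := by rw [c1.eq]; group
    _ = x * z₂ * y * x⁻¹ * y⁻¹ * z₂⁻¹ := by group
    _ = z₂ * x * y * x⁻¹ * y⁻¹ * z₂⁻¹ := by rw [h4.eq]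
    _ = (z₂ * (x * y * x⁻¹ * y⁻¹)) * z₂⁻¹ := by group
    _ = x * y * x⁻¹ * y⁻¹ := by rw [c2.eq]; group


/-- Let P be a finite p-subgroup of a group G and H a subgroup of N_G(P) with [P, H] ≤ Ω₁(Z(P)) (the elements of order dividing p in the centre of P). Then H centralizes the Frattini subgroup of P. -/
theorem result {G : Type*} [Group G] [Finite G] {p : ℕ} [Fact p.Prime] (P : Subgroup G) (hP : IsPGroup p ↥P) (H : Subgroup G) (hH : H ≤ Subgroup.normalizer (P : Set G)) (h : ⁅P, H⁆ ≤ Cfsg.omegaOne p (P ⊓ Subgroup.centralizer (P : Set G))) : ⁅(frattini ↥P).map P.subtype, H⁆ = ⊥ := by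
  classical
  set Z := Cfsg.omegaOne p (P ⊓ Subgroup.centralizer (P : Set G)) with hZ
  -- elements of Z: central in P of exponent p
  have hZprop : ∀ z ∈ Z, z ∈ P ∧ (∀ x ∈ P, Commute x z) ∧ z ^ p = 1 := by
    intro z hz
    have hcomm : ∀ a ∈ P ⊓ Subgroup.centralizer (P : Set G), ∀ b ∈ P ⊓ Subgroup.centralizer (P : Set G), a * b = b * a := by
      intro a ha b hb
      exact Subgroup.mem_centralizer_iff.1 hb.2 a ha.1
    have key : z ∈ P ⊓ Subgroup.centralizer (P : Set G) ∧ z ^ p = 1 := by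
      induction hz using Subgroup.closure_induction with
      | mem x hx => exact ⟨hx.1, hx.2⟩
      | one => exact ⟨one_mem _, one_pow _⟩
      | mul x y _ _ hx hy =>
        refine ⟨mul_mem hx.1 hy.1, ?_⟩
        have : Commute x y := hcomm x hx.1 y hy.1
        rw [this.mul_pow, hx.2, hy.2, one_mul]
      | inv x _ hx =>
        exact ⟨inv_mem hx.1, by rw [inv_pow, hx.2, inv_one]⟩
    exact ⟨key.1.1, fun x hx => Subgroup.mem_centralizer_iff.1 key.1.2 x hx, key.2⟩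
  have hconj : ∀ h ∈ H, ∀ x ∈ P, ∃ z ∈ Z, h * x * h⁻¹ = z * x := by
    intro h hh x hx
    refine ⟨⁅x, h⁆⁻¹, inv_mem (‹⁅P, H⁆ ≤ Z› (Subgroup.commutator_mem_commutator hx hh)), ?_⟩
    simp only [commutatorElement_def]; group
  let N : Subgroup ↥P := (Subgroup.centralizer (H : Set G)).subgroupOf P
  have hN1 : commutator ↥P ≤ N := by
    rw [_root_.commutator_def, Subgroup.commutator_le]
    rintro x - y -
    rw [Subgroup.mem_subgroupOf, Subgroup.mem_centralizer_iff]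
    intro h hh
    obtain ⟨z₁, hz₁, e₁⟩ := hconj h hh x x.2
    obtain ⟨z₂, hz₂, e₂⟩ := hconj h hh y y.2
    obtain ⟨p1, c1, -⟩ := hZprop z₁ hz₁
    obtain ⟨p2, c2, -⟩ := hZprop z₂ hz₂
    have e3 : h * ((x : G) * y * (x : G)⁻¹ * (y : G)⁻¹) * h⁻¹ =
        (h * x * h⁻¹) * (h * y * h⁻¹) * (h * x * h⁻¹)⁻¹ * (h * y * h⁻¹)⁻¹ := by group
    rw [e₁, e₂, comm_aux (c1 _ x.2).symm (c1 _ y.2).symm (c1 _ p2).symm (c2 _ x.2).symm (c2 _ y.2).symm] at e3
    have e4 : ((⁅x, y⁆ : ↥P) : G) = (x : G) * y * (x : G)⁻¹ * (y : G)⁻¹ := rfl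
    rw [e4]
    rw [mul_inv_eq_iff_eq_mul] at e3
    exact e3
  have hN2 : ∀ x : ↥P, x ^ p ∈ N := by
    intro x
    rw [Subgroup.mem_subgroupOf, Subgroup.mem_centralizer_iff]
    intro h hh
    obtain ⟨z, hz, e⟩ := hconj h hh x x.2
    obtain ⟨-, c, hzp⟩ := hZprop z hz
    have e2 : h * ((x : G) ^ p) * h⁻¹ = (h * x * h⁻¹) ^ p := by
      rw [conj_pow]
    rw [e, (c _ x.2).symm.mul_pow, hzp, one_mul] at e2
    have e3 : ((x ^ p : ↥P) : G) = (x : G) ^ p := rfl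
    rw [e3]
    rw [mul_inv_eq_iff_eq_mul] at e2
    exact e2
  have hNn : N.Normal := by
    constructor
    intro n hn g
    have h1 : g * n * g⁻¹ * n⁻¹ ∈ N := hN1 (by
      rw [_root_.commutator_def]
      exact Subgroup.commutator_mem_commutator (Subgroup.mem_top g) (Subgroup.mem_top n))
    have h2 := mul_mem h1 hn
    simpa using h2
  have hF := Cfsg.Agent.H01.frattini_le_of_comm_pow (p := p) N hN1 hN2
  rw [Subgroup.commutator_eq_bot_iff_le_centralizer]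
  rintro _ ⟨x, hx, rfl⟩
  exact hF hx

end Cfsg.Agent.S2818
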