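import Cfsg.Statements.S2819
import Cfsg.Agent.Lib.H12.Subnormal2
import Cfsg.Agent.Lib.H01.Basic
-- import your own Cfsg.Agent.* helpers here

set_option autoImplicit false
open Cfsg

namespace Cfsg.Agent.S2819

open scoped commutatorElement

/-- In `P`, `(a b)^n ≡ a^n b^n` modulo `P' = [P, P]`. -/
theorem pow_mul_mod {G : Type*} [Group G] (P : Subgroup G) {a b : G} (ha : a ∈ P) (hb : b ∈ P)
    (hn : P ≤ Subgroup.normalizer (((⁅P, P⁆ : Subgroup G) : Subgroup G) : Set G)) (n : ℕ) :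
    ∃ c ∈ (⁅P, P⁆ : Subgroup G), (a * b) ^ n = c * (a ^ n * b ^ n) := by
  induction n with
  | zero => exact ⟨1, one_mem _, by simp⟩
  | succ n ih =>
    obtain ⟨c, hc, e⟩ := ih
    refine ⟨c * (a ^ n * ⁅b ^ n, a⁆ * (a ^ n)⁻¹), ?_, ?_⟩
    · refine mul_mem hc ((Subgroup.mem_normalizer_iff.1 (hn (pow_mem ha n)) _).1 ?_)
      exact Subgroup.commutator_mem_commutator (pow_mem hb n) ha
    · rw [pow_succ, e, pow_succ, pow_succ, commutatorElement_def]
      group


/-- Let P be a finite p-subgroup of a group G, H a subgroup of N_G(P), and Y a subgroup of H centralizing the derived subgroup P' such that [P, Y] is elementary abelian. Then O^p(⟨Y^H⟩), the subgroup of the normal closure of Y in H generated by its elements of order prime to p, centralizes the Frattini subgroup of P. -/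
theorem result {G : Type*} [Group G] [Finite G] {p : ℕ} [Fact p.Prime] (P : Subgroup G) (hP : IsPGroup p ↥P) (H : Subgroup G) (hH : H ≤ Subgroup.normalizer (P : Set G)) (Y : Subgroup G) (hYH : Y ≤ H) (hYc : Y ≤ Subgroup.centralizer ((⁅P, P⁆ : Subgroup G) : Set G)) (hel : Cfsg.IsElementaryAbelian p ⁅P, Y⁆) (NY : Subgroup G) (hNY : NY = (Subgroup.normalClosure ((Y.subgroupOf H : Subgroup ↥H) : Set ↥H)).map H.subtype) : (Cfsg.pResidual p ↥NY).map NY.subtype ≤ Subgroup.centralizer (((frattini ↥P).map P.subtype : Subgroup G) : Set G) := by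
  set P' := (⁅P, P⁆ : Subgroup G) with hP'
  -- P' is normalized by H
  have hHP' : H ≤ Subgroup.normalizer ((P' : Subgroup G) : Set G) := fun h hh =>
    Cfsg.Agent.H12.conj_mem_normalizer_commutator (hH hh) (hH hh)
  have hPP' : P ≤ Subgroup.normalizer ((P' : Subgroup G) : Set G) := fun a ha =>
    Cfsg.Agent.H12.conj_left_mem_normalizer_commutator ha
  have hP'P : P' ≤ P := by
    rw [hP', Subgroup.commutator_le]
    intro a ha b hb
    exact mul_mem (mul_mem (mul_mem ha hb) (inv_mem ha)) (inv_mem hb)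
  have hP'p : IsPGroup p ↥P' := hP.to_le hP'P
  have hNYH : NY ≤ H := by
    rw [hNY]; rintro _ ⟨x, -, rfl⟩; exact x.2
  let Sg : Subgroup G :=
    { carrier := {g | g ∈ H ∧ (∀ a ∈ P', g * a = a * g) ∧ (∀ x ∈ P, ⁅x ^ p, g⁆ ∈ P')}
      one_mem' := ⟨one_mem _, fun a _ => by simp, fun x _ => by simp [commutatorElement_def]⟩
      mul_mem' := by
        rintro g₁ g₂ ⟨h1, h2, h3⟩ ⟨k1, k2, k3⟩
        refine ⟨mul_mem h1 k1, fun a ha => ?_, fun x hx => ?_⟩
        · rw [mul_assoc, k2 a ha, ← mul_assoc, h2 a ha, mul_assoc]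
        · have e : ⁅x ^ p, g₁ * g₂⁆ = ⁅x ^ p, g₁⁆ * (g₁ * ⁅x ^ p, g₂⁆ * g₁⁻¹) := by
            simp only [commutatorElement_def]; group
          rw [e]
          exact mul_mem (h3 x hx) ((Subgroup.mem_normalizer_iff.1 (hHP' h1) _).1 (k3 x hx))
      inv_mem' := by
        rintro g ⟨h1, h2, h3⟩
        refine ⟨inv_mem h1, fun a ha => ?_, fun x hx => ?_⟩
        · have := h2 a ha
          calc g⁻¹ * a = g⁻¹ * (a * g) * g⁻¹ := by group
            _ = g⁻¹ * (g * a) * g⁻¹ := by rw [this]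
            _ = a * g⁻¹ := by group
        · have e : ⁅x ^ p, g⁻¹⁆ = g⁻¹ * ⁅x ^ p, g⁆⁻¹ * g⁻¹⁻¹ := by
            simp only [commutatorElement_def]; group
          rw [e]
          exact (Subgroup.mem_normalizer_iff.1 (hHP' (inv_mem h1)) _).1 (inv_mem (h3 x hx)) }
  have hYSg : Y ≤ Sg := by
    intro y hy
    refine ⟨hYH hy, fun a ha => ?_, fun x hx => ?_⟩
    · exact Subgroup.mem_centralizer_iff.1 (hYc hy) a ha |>.symm
    · have hyP : y * x * y⁻¹ ∈ P := (Subgroup.mem_normalizer_iff.1 (hH (hYH hy)) x).1 hx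
      have hzc : ⁅x, y⁆ ∈ ⁅P, Y⁆ := Subgroup.commutator_mem_commutator hx hy
      set z := ⁅x, y⁆⁻¹ with hz
      have hzp : z ^ p = 1 := hel.2 z (inv_mem hzc)
      have hzP : z ∈ P := by
        have e : z = (y * x * y⁻¹) * x⁻¹ := by rw [hz, commutatorElement_def]; group
        rw [e]
        exact mul_mem hyP (inv_mem hx)
      obtain ⟨c, hc, e⟩ := pow_mul_mod P hzP hx hPP' p
      have e1 : z * x = y * x * y⁻¹ := by rw [hz, commutatorElement_def]; group
      rw [e1, hzp, one_mul, conj_pow] at e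
      have e2 : ⁅x ^ p, y⁆ = c⁻¹ := by
        rw [commutatorElement_def]
        have e3 : c = y * x ^ p * y⁻¹ * (x ^ p)⁻¹ := by rw [e]; group
        rw [e3]; group
      rw [e2]
      exact inv_mem hc
  have hNSg : (Sg.subgroupOf H).Normal := by
    constructor
    intro g hg h
    rw [Subgroup.mem_subgroupOf] at hg ⊢
    obtain ⟨h1, h2, h3⟩ := hg
    refine ⟨mul_mem (mul_mem h.2 h1) (inv_mem h.2), fun a ha => ?_, fun x hx => ?_⟩
    · have ha' : (h : G)⁻¹ * a * h ∈ P' := by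
        have := (Subgroup.mem_normalizer_iff.1 (hHP' (inv_mem h.2)) a).1 ha
        simpa using this
      have e := h2 _ ha'
      calc ((h : G) * (g : G) * (h : G)⁻¹) * a = h * ((g : G) * ((h : G)⁻¹ * a * h)) * (h : G)⁻¹ := by group
        _ = h * (((h : G)⁻¹ * a * h) * (g : G)) * (h : G)⁻¹ := by rw [e]
        _ = a * ((h : G) * (g : G) * (h : G)⁻¹) := by group
    · have hx' : (h : G)⁻¹ * x * h ∈ P := by
        have := (Subgroup.mem_normalizer_iff.1 (hH (inv_mem h.2)) x).1 hx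
        simpa using this
      have e := h3 _ hx'
      have e2 : ⁅x ^ p, (h : G) * (g : G) * (h : G)⁻¹⁆ = h * ⁅((h : G)⁻¹ * x * h) ^ p, (g : G)⁆ * (h : G)⁻¹ := by
        have e3 : x ^ p = (h : G) * ((h : G)⁻¹ * x * h) ^ p * (h : G)⁻¹ := by
          rw [← conj_pow]; group
        rw [commutatorElement_def, commutatorElement_def]
        conv_lhs => rw [e3]
        group
      change ⁅x ^ p, (h : G) * (g : G) * (h : G)⁻¹⁆ ∈ P'
      rw [e2]
      exact (Subgroup.mem_normalizer_iff.1 (hHP' h.2) _).1 e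
  have hNYSg : NY ≤ Sg := by
    rw [hNY]
    have h1 : Subgroup.normalClosure ((Y.subgroupOf H : Subgroup ↥H) : Set ↥H) ≤ Sg.subgroupOf H := by
      apply Subgroup.normalClosure_le_normal
      intro y hy
      exact hYSg hy
    rintro _ ⟨x, hx, rfl⟩
    exact h1 hx
  -- The Frattini part
  let N₂ : Subgroup ↥P :=
    { carrier := {w | ∀ g ∈ NY, ⁅(w : G), g⁆ ∈ P'}
      one_mem' := fun g _ => by simp [commutatorElement_def]
      mul_mem' := by
        intro w₁ w₂ h1 h2 g hg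
        have e : ⁅((w₁ * w₂ : ↥P) : G), g⁆ = (w₁ : G) * ⁅(w₂ : G), g⁆ * (w₁ : G)⁻¹ * ⁅(w₁ : G), g⁆ := by
          simp only [commutatorElement_def, Subgroup.coe_mul]; group
        rw [e]
        exact mul_mem ((Subgroup.mem_normalizer_iff.1 (hPP' w₁.2) _).1 (h2 g hg)) (h1 g hg)
      inv_mem' := by
        intro w h1 g hg
        have e : ⁅((w⁻¹ : ↥P) : G), g⁆ = (w : G)⁻¹ * ⁅(w : G), g⁆⁻¹ * (w : G)⁻¹⁻¹ := by
          simp only [commutatorElement_def, Subgroup.coe_inv]; group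
        rw [e]
        exact (Subgroup.mem_normalizer_iff.1 (hPP' (inv_mem w.2)) _).1 (inv_mem (h1 g hg)) }
  have hcommN₂ : commutator ↥P ≤ N₂ := by
    rw [_root_.commutator_def, Subgroup.commutator_le]
    rintro a - b - g hg
    have h1 : ((⁅a, b⁆ : ↥P) : G) ∈ P' := Subgroup.commutator_mem_commutator a.2 b.2
    have h2 := (hNYSg hg).2.1 _ h1
    have e : ⁅((⁅a, b⁆ : ↥P) : G), g⁆ = 1 := by
      rw [commutatorElement_eq_one_iff_mul_comm]
      exact h2.symm
    rw [e]
    exact one_mem _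
  have hnN₂ : N₂.Normal := by
    constructor
    intro n hn g
    have h1 : g * n * g⁻¹ * n⁻¹ ∈ N₂ := hcommN₂ (by
      rw [_root_.commutator_def]
      exact Subgroup.commutator_mem_commutator (Subgroup.mem_top g) (Subgroup.mem_top n))
    have h2 := mul_mem h1 hn
    simpa using h2
  have hF := Cfsg.Agent.H01.frattini_le_of_comm_pow (p := p) N₂ hcommN₂ (fun x g hg => (hNYSg hg).2.2 x x.2)
  rw [Cfsg.Agent.H12.res_eq_closure, Subgroup.closure_le]
  rintro g ⟨hg, hgc⟩
  change g ∈ Subgroup.centralizer _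
  rw [Subgroup.mem_centralizer_iff]
  rintro _ ⟨r, hr, rfl⟩
  symm
  apply Cfsg.Agent.H12.commute_of_step hP'p hgc (hNYSg hg).2.1
  have hr' : r⁻¹ ∈ N₂ := inv_mem (hF hr)
  have h1 := hr' g hg
  have e : ((r : G))⁻¹ * (g * r * g⁻¹) = ⁅((r⁻¹ : ↥P) : G), g⁆ := by
    simp only [commutatorElement_def, Subgroup.coe_inv]; group
  change ((r : G))⁻¹ * (g * r * g⁻¹) ∈ P'
  rw [e]
  exact h1

end Cfsg.Agent.S2819
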