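import Cfsg.Statements.S2820
import Cfsg.Agent.Lib.H12.Subnormal
-- import your own Cfsg.Agent.* helpers here

set_option autoImplicit false
open Cfsg

namespace Cfsg.Agent.S2820



/-- Let A and B be subnormal subgroups of the finite group H with A a p-group and B = O^p(B) (B generated by its elements of order prime to p). Then A normalizes B and B = O^p(AB), the subgroup of ⟨A, B⟩ generated by its elements of order prime to p. -/
theorem result {H : Type*} [Group H] [Finite H] {p : ℕ} [Fact p.Prime] (A B : Subgroup H) (hA : A.IsSubnormal) (hB : B.IsSubnormal) (hAp : IsPGroup p ↥A) (hBres : (Cfsg.pResidual p ↥B).map B.subtype = B) : A ≤ Subgroup.normalizer (B : Set H) ∧ (Cfsg.pResidual p ↥(A ⊔ B)).map (A ⊔ B).subtype = B := by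
  have hAO : A ≤ Cfsg.pCore p H := Cfsg.Agent.H12.le_pCore_of_isSubnormal hA hAp
  have hOB := Cfsg.Agent.H12.normal_pGroup_normalizes_res hB (Cfsg.pCore p H) (Cfsg.Agent.H13.isPGroup_pCore)
  rw [hBres] at hOB
  have hAB : A ≤ Subgroup.normalizer (B : Set H) := hAO.trans hOB
  refine ⟨hAB, ?_⟩
  apply le_antisymm
  · rw [Cfsg.Agent.H12.res_eq_closure, Subgroup.closure_le]
    rintro g ⟨h1, h2⟩
    exact Cfsg.Agent.H12.coprime_mem_of_mem_sup' B A hAB hAp h1 h2
  · conv_lhs => rw [← hBres]
    exact Cfsg.Agent.H12.res_mono le_sup_right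

end Cfsg.Agent.S2820
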