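import Cfsg.Statements.S2821
import Cfsg.Agent.Lib.H12.PReduced3
-- import your own Cfsg.Agent.* helpers here

set_option autoImplicit false
open Cfsg

namespace Cfsg.Agent.S2821

open scoped commutatorElement

theorem sylow_omega_le {H : Type*} [Group H] [Finite H] {p : ℕ} [Fact p.Prime] (T : Sylow p H)
    (L : Subgroup H) (hTL : (T : Subgroup H) ≤ L) :
    Cfsg.omegaOne p ((T : Subgroup H) ⊓ Subgroup.centralizer (((T : Subgroup H) : Subgroup H) : Set H)) ≤
      Cfsg.sylowCenterClosure p L := by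
  let S : Sylow p ↥L := Sylow.subtype T hTL
  have hS : (S : Subgroup ↥L).map L.subtype = (T : Subgroup H) := by
    change ((T : Subgroup H).subgroupOf L).map L.subtype = _
    rw [Subgroup.subgroupOf_map_subtype]
    exact inf_eq_left.2 hTL
  have h1 := le_iSup (fun S : Sylow p ↥L => Cfsg.omegaOne p (((S : Subgroup ↥L).map L.subtype) ⊓
      Subgroup.centralizer (((S : Subgroup ↥L).map L.subtype : Subgroup H) : Set H))) S
  simp only [hS] at h1
  exact h1


/-- Let H be a finite group, p a prime, T a Sylow p-subgroup and L a subgroup of characteristic p containing T; let Y_L be the largest p-reduced normal subgroup of L (the join of the normal elementary abelian p-subgroups V of L with O_p(L/C_L(V)) = 1). Then T₀ := C_T(Y_L) is a Sylow p-subgroup of C_H(Y_L); moreover O_p(L) ≤ T₀ ≤ C_L(Y_L) and Ω₁(Z(T)) ≤ Z_L ≤ Y_L ≤ Ω₁(Z(O_p(L))), where Z_L is generated by the Ω₁(Z(S)) over the Sylow p-subgroups S of L. -/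
theorem result {H : Type*} [Group H] [Finite H] {p : ℕ} [Fact p.Prime] (T : Sylow p H) (L : Subgroup H) (hTL : (T : Subgroup H) ≤ L) (hL : Subgroup.centralizer (Cfsg.pCore p ↥L : Set ↥L) ≤ Cfsg.pCore p ↥L) (T₀ : Subgroup H) (hT₀ : T₀ = (T : Subgroup H) ⊓ Subgroup.centralizer (((Cfsg.largestPReducedOf p L) : Subgroup H) : Set H)) : (∃ P : Sylow p ↥(Subgroup.centralizer (((Cfsg.largestPReducedOf p L) : Subgroup H) : Set H)), (P : Subgroup ↥(Subgroup.centralizer (((Cfsg.largestPReducedOf p L) : Subgroup H) : Set H))) = T₀.subgroupOf (Subgroup.centralizer (((Cfsg.largestPReducedOf p L) : Subgroup H) : Set H))) ∧ (Cfsg.pCoreOf p L) ≤ T₀ ∧ T₀ ≤ L ⊓ Subgroup.centralizer (((Cfsg.largestPReducedOf p L) : Subgroup H) : Set H) ∧ (Cfsg.omegaOne p ((T : Subgroup H) ⊓ Subgroup.centralizer (((T : Subgroup H) : Subgroup H) : Set H))) ≤ Cfsg.sylowCenterClosure p L ∧ Cfsg.sylowCenterClosure p L ≤ (Cfsg.largestPReducedOf p L) ∧ (Cfsg.largestPReducedOf p L) ≤ (Cfsg.omegaOne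 p ((Cfsg.pCoreOf p L) ⊓ Subgroup.centralizer (((Cfsg.pCoreOf p L) : Subgroup H) : Set H))) := by
  set Y := Cfsg.largestPReducedOf p L with hY
  have hTN : (T : Subgroup H) ≤ Subgroup.normalizer (((Subgroup.centralizer ((Y : Subgroup H) : Set H)) : Subgroup H) : Set H) := by
    intro t ht
    apply Cfsg.Agent.H13.mem_normalizer_of_map_conj_le
    rw [Cfsg.Agent.H13.map_conj_centralizer,
      Cfsg.Agent.H13.map_conj_eq_of_mem_normalizer (Cfsg.Agent.H12.le_normalizer_largestPReducedOf (hTL ht))]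
  have hOT := Cfsg.Agent.H12.pCoreOf_le_sylow (L := L) T hTL
  refine ⟨?_, ?_, ?_, sylow_omega_le T L hTL, ?_, Cfsg.Agent.H12.largestPReducedOf_le_omega⟩
  · obtain ⟨P, hP⟩ := Cfsg.Agent.H12.exists_sylow_of_le_normalizer T _ hTN
    exact ⟨P, by rw [hP, hT₀, Subgroup.inf_subgroupOf_right]⟩
  · rw [hT₀]
    exact le_inf hOT Cfsg.Agent.H12.pCoreOf_le_centralizer
  · rw [hT₀]
    exact inf_le_inf_right _ hTL
  · rw [← Cfsg.Agent.H12.sylowCenterClosure_subgroupOf_map (p := p) L]
    apply Subgroup.map_mono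
    exact le_sSup (Cfsg.Agent.H12.sylowCenterClosure_pReduced hL)

end Cfsg.Agent.S2821
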