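import Cfsg.Statements.S2822
import Cfsg.Agent.Lib.H12.PReduced3
-- import your own Cfsg.Agent.* helpers here

set_option autoImplicit false
open Cfsg

namespace Cfsg.Agent.S2822

open scoped commutatorElement


/-- Let H be a finite group, p a prime, T a Sylow p-subgroup, and L, M subgroups of characteristic p containing T, with largest p-reduced normal subgroups Y_L, Y_M. If L·C_H(Y_M) = M·C_H(Y_M), then Y_M ≤ Y_L. -/
theorem result {H : Type*} [Group H] [Finite H] {p : ℕ} [Fact p.Prime] (T : Sylow p H) (L M : Subgroup H) (hTL : (T : Subgroup H) ≤ L) (hTM : (T : Subgroup H) ≤ M) (hL : Subgroup.centralizer (Cfsg.pCore p ↥L : Set ↥L) ≤ Cfsg.pCore p ↥L) (hM : Subgroup.centralizer (Cfsg.pCore p ↥M : Set ↥M) ≤ Cfsg.pCore p ↥M) : L ⊔ Subgroup.centralizer (((Cfsg.largestPReducedOf p M) : Subgroup H) : Set H) = M ⊔ Subgroup.centralizer (((Cfsg.largestPReducedOf p M) : Subgroup H) : Set H) → (Cfsg.largestPReducedOf p M) ≤ (Cfsg.largestPReducedOf p L) := by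
  intro hsup
  set Y := Cfsg.largestPReducedOf p M with hY
  set C := Subgroup.centralizer ((Y : Subgroup H) : Set H) with hC
  have hYM : Y ≤ M := Cfsg.Agent.H12.largestPReducedOf_le
  have hMY : M ≤ Subgroup.normalizer ((Y : Subgroup H) : Set H) := Cfsg.Agent.H12.le_normalizer_largestPReducedOf
  have hYE : Cfsg.IsElementaryAbelian p Y :=
    Cfsg.Agent.H12.IsElementaryAbelian_mono Cfsg.Agent.H12.largestPReducedOf_le_omega
      (Cfsg.Agent.H12.isElementaryAbelian_omegaOne_center _)
  have hYO : Y ≤ Cfsg.pCoreOf p M := fun y hy =>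
    (Cfsg.Agent.H12.mem_omegaOne_center (Cfsg.Agent.H12.largestPReducedOf_le_omega hy)).1
  have hYL : Y ≤ L := (hYO.trans (Cfsg.Agent.H12.pCoreOf_le_sylow T hTM)).trans hTL
  have hCY : C ≤ Subgroup.normalizer ((Y : Subgroup H) : Set H) := by
    intro c hc
    rw [Subgroup.mem_normalizer_iff]
    intro y
    constructor
    · intro hy
      have h1 := Subgroup.mem_centralizer_iff.1 hc y hy
      rw [← h1]
      simpa using hy
    · intro hy
      have h1 := Subgroup.mem_centralizer_iff.1 hc _ hy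
      have h2 : c * (c * y * c⁻¹) = c * y := by rw [← h1]; group
      rw [← mul_left_cancel h2]
      exact hy
  have hNY : L ⊔ C ≤ Subgroup.normalizer ((Y : Subgroup H) : Set H) := by
    rw [hsup]; exact sup_le hMY hCY
  have hLY : L ≤ Subgroup.normalizer ((Y : Subgroup H) : Set H) := le_sup_left.trans hNY
  have hNC : ∀ g ∈ Subgroup.normalizer ((Y : Subgroup H) : Set H), g ∈ Subgroup.normalizer ((C : Subgroup H) : Set H) := by
    intro g hg
    apply Cfsg.Agent.H13.mem_normalizer_of_map_conj_le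
    rw [hC, Cfsg.Agent.H13.map_conj_centralizer, Cfsg.Agent.H13.map_conj_eq_of_mem_normalizer hg]
  have hLC : L ≤ Subgroup.normalizer ((C : Subgroup H) : Set H) := fun l hl => hNC l (hLY hl)
  have hMC : M ≤ Subgroup.normalizer ((C : Subgroup H) : Set H) := fun l hl => hNC l (hMY hl)
  let X : Subgroup ↥L := Y.subgroupOf L
  have hXr : Cfsg.IsPReducedNormal p X := by
    have hXn : X.Normal := by
      constructor
      intro x hx g
      rw [Subgroup.mem_subgroupOf] at hx ⊢
      exact (Subgroup.mem_normalizer_iff.1 (hLY g.2) x).1 hx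
    have hXE : Cfsg.IsElementaryAbelian p X := by
      refine ⟨⟨⟨fun a b => ?_⟩⟩, fun a ha => ?_⟩
      · apply Subtype.ext
        apply Subtype.ext
        exact Cfsg.Agent.H12.isElementaryAbelian_comm hYE _ a.2 _ b.2
      · apply Subtype.ext
        exact hYE.2 _ ha
    have hcent : ∀ x : ↥L, x ∈ Subgroup.centralizer (X : Set ↥L) ↔ (x : H) ∈ C := by
      intro x
      rw [hC, Subgroup.mem_centralizer_iff, Subgroup.mem_centralizer_iff]
      constructor
      · intro h y hy
        exact congrArg Subtype.val (h ⟨y, hYL hy⟩ hy)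
      · intro h a ha
        exact Subtype.ext (h a ha)
    apply Cfsg.Agent.H12.pReduced_intro hXn hXE
    intro D hD _ hDp
    set D₀ := D.map L.subtype with hD₀
    have hD₀L : D₀ ≤ L := by rintro _ ⟨d, -, rfl⟩; exact d.2
    set U := D₀ ⊔ C with hU
    have hLU : L ≤ Subgroup.normalizer ((U : Subgroup H) : Set H) := by
      intro l hl
      apply Cfsg.Agent.H13.mem_normalizer_of_map_conj_le
      rw [hU, Subgroup.map_sup, Cfsg.Agent.H13.map_conj_eq_of_mem_normalizer (hLC hl)]
      have : D₀.map (MulAut.conj l).toMonoidHom ≤ D₀ := by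
        rintro _ ⟨_, ⟨d, hd, rfl⟩, rfl⟩
        exact ⟨_, hD.conj_mem d hd ⟨l, hl⟩, rfl⟩
      exact sup_le_sup_right this _
    have hCU : C ≤ Subgroup.normalizer ((U : Subgroup H) : Set H) := by
      intro c hc
      apply Cfsg.Agent.H13.mem_normalizer_of_map_conj_le
      rw [hU, Subgroup.map_sup, Cfsg.Agent.H13.map_conj_eq_of_mem_normalizer (Subgroup.le_normalizer hc)]
      apply sup_le _ le_sup_right
      rintro _ ⟨d, hd, rfl⟩
      have h1 : (MulAut.conj c).toMonoidHom d = (c * (d * c⁻¹ * d⁻¹)) * d := by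
        simp
        group
      rw [h1]
      refine mul_mem ((le_sup_right : C ≤ D₀ ⊔ C) (mul_mem hc ?_)) ((le_sup_left : D₀ ≤ D₀ ⊔ C) hd)
      exact (Subgroup.mem_normalizer_iff.1 (hLC (hD₀L hd)) _).1 (inv_mem hc)
    have hMU : M ≤ Subgroup.normalizer ((U : Subgroup H) : Set H) := by
      have : M ≤ L ⊔ C := by rw [hsup]; exact le_sup_left
      exact this.trans (sup_le hLU hCU)
    have hY'r := (Cfsg.Agent.H12.largest_spec (p := p) (L := ↥M)).1
    have hcentM : ∀ m : ↥M, (m : H) ∈ C → m ∈ Subgroup.centralizer (Cfsg.largestPReduced p ↥M : Set ↥M) := by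
      intro m hm
      rw [Subgroup.mem_centralizer_iff] at hm ⊢
      intro y hy
      exact Subtype.ext (hm _ ⟨y, hy, rfl⟩)
    have hcentM' : ∀ m : ↥M, m ∈ Subgroup.centralizer (Cfsg.largestPReduced p ↥M : Set ↥M) → (m : H) ∈ C := by
      intro m hm
      rw [Subgroup.mem_centralizer_iff] at hm ⊢
      rintro _ ⟨y, hy, rfl⟩
      exact congrArg Subtype.val (hm y hy)
    have hW : U.subgroupOf M ≤ Subgroup.centralizer (Cfsg.largestPReduced p ↥M : Set ↥M) := by
      apply Cfsg.Agent.H12.pReduced_elim hY'r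
      · constructor
        intro x hx g
        rw [Subgroup.mem_subgroupOf] at hx ⊢
        exact (Subgroup.mem_normalizer_iff.1 (hMU g.2) x).1 hx
      · intro w hw
        rw [Subgroup.mem_subgroupOf] at hw
        have hD₀N : D₀ ≤ Subgroup.normalizer ((C : Subgroup H) : Set H) := hD₀L.trans hLC
        rw [hU, ← SetLike.mem_coe, Subgroup.coe_mul_of_left_le_normalizer_right D₀ C hD₀N, Set.mem_mul] at hw
        obtain ⟨d₀, hd₀, c, hc, e⟩ := hw
        obtain ⟨d, hd, rfl⟩ := hd₀
        obtain ⟨k, hk⟩ := hDp d hd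
        refine ⟨k, hcentM _ ?_⟩
        obtain ⟨c', hc', e'⟩ := Cfsg.Agent.H12.pow_mul_mem_of_normalizer (hLC d.2) hc (p ^ k)
        have e2 : ((w ^ (p ^ k) : ↥M) : H) = ((d : H)) ^ (p ^ k) * c' := by
          rw [← e']
          simp only [Subgroup.coe_pow, ← e]
          rfl
        rw [e2]
        refine mul_mem ?_ hc'
        have := (hcent _).1 hk
        simpa using this
    intro d hd
    rw [hcent]
    have hdL : (d : H) ∈ M ⊔ C := by
      rw [← hsup]
      exact (le_sup_left : L ≤ L ⊔ C) d.2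
    rw [← SetLike.mem_coe, Subgroup.coe_mul_of_left_le_normalizer_right M C hMC, Set.mem_mul] at hdL
    obtain ⟨m, hm, c₀, hc₀, e⟩ := hdL
    have hmU : m ∈ U := by
      have : m = (d : H) * c₀⁻¹ := by rw [← e]; group
      rw [this]
      exact mul_mem ((le_sup_left : D₀ ≤ U) ⟨d, hd, rfl⟩) ((le_sup_right : C ≤ U) (inv_mem hc₀))
    have h1 := hW (x := ⟨m, hm⟩) hmU
    have h2 := hcentM' _ h1
    rw [← e]
    exact mul_mem h2 hc₀
  have h1 : X ≤ Cfsg.largestPReduced p ↥L := le_sSup hXr
  intro y hy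
  exact ⟨⟨y, hYL hy⟩, h1 hy, rfl⟩

end Cfsg.Agent.S2822
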