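import Cfsg.Statements.S2823
import Cfsg.Agent.Lib.H12.PReduced3
-- import your own Cfsg.Agent.* helpers here

set_option autoImplicit false
open Cfsg

namespace Cfsg.Agent.S2823

open scoped commutatorElement


/-- Let H be a finite group, p a prime, T a Sylow p-subgroup and L a subgroup of characteristic p containing T; let Z_L be the subgroup generated by the Ω₁(Z(S)) over the Sylow p-subgroups S of L and O^p(L) the subgroup generated by the elements of L of order prime to p. Then Z_L = Ω₁(Z(L))·[Z_L, O^p(L)] and [Z_L, L] = [Z_L, O^p(L)]. -/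
theorem result {H : Type*} [Group H] [Finite H] {p : ℕ} [Fact p.Prime] (T : Sylow p H) (L : Subgroup H) (hTL : (T : Subgroup H) ≤ L) (hL : Subgroup.centralizer (Cfsg.pCore p ↥L : Set ↥L) ≤ Cfsg.pCore p ↥L) : Cfsg.sylowCenterClosure p L = (Cfsg.omegaOne p (L ⊓ Subgroup.centralizer ((L : Subgroup H) : Set H))) ⊔ ⁅Cfsg.sylowCenterClosure p L, (Cfsg.pResidual p ↥L).map L.subtype⁆ ∧ ⁅Cfsg.sylowCenterClosure p L, L⁆ = ⁅Cfsg.sylowCenterClosure p L, (Cfsg.pResidual p ↥L).map L.subtype⁆ := by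
  set V := Cfsg.sylowCenterClosure p L with hV
  set R := (Cfsg.pResidual p ↥L).map L.subtype with hR
  set W₀ := Cfsg.omegaOne p (L ⊓ Subgroup.centralizer ((L : Subgroup H) : Set H)) with hW₀
  have hVL : V ≤ L := Cfsg.Agent.H12.sylowCenterClosure_le L
  have hRL : R ≤ L := by rintro _ ⟨x, -, rfl⟩; exact x.2
  have hLV : L ≤ Subgroup.normalizer (V : Set H) := by
    intro l hl
    apply Cfsg.Agent.H13.mem_normalizer_of_map_conj_le
    rintro _ ⟨v, hv, rfl⟩
    exact Cfsg.Agent.H12.conj_mem_sylowCenterClosure L l hl hv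
  have hLR : L ≤ Subgroup.normalizer (R : Set H) := by
    intro l hl
    apply Cfsg.Agent.H13.mem_normalizer_of_map_conj_le
    rintro _ ⟨_, ⟨x, hx, rfl⟩, rfl⟩
    exact ⟨_, (inferInstance : (Cfsg.pResidual p ↥L).Normal).conj_mem x hx ⟨l, hl⟩, rfl⟩
  have hRV : R ≤ Subgroup.normalizer (V : Set H) := hRL.trans hLV
  -- V elementary abelian
  have hZ'E : Cfsg.IsElementaryAbelian p (V.subgroupOf L) :=
    Cfsg.Agent.H12.IsElementaryAbelian_mono (Cfsg.Agent.H12.sylowCenterClosure_le_omega hL)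
      (Cfsg.Agent.H12.isElementaryAbelian_omegaOne_center _)
  have hVc : ∀ a ∈ V, ∀ b ∈ V, a * b = b * a := by
    intro a ha b hb
    have := Cfsg.Agent.H12.isElementaryAbelian_comm hZ'E ⟨a, hVL ha⟩ ha ⟨b, hVL hb⟩ hb
    exact congrArg Subtype.val this
  have hVp : ∀ a ∈ V, a ^ p = 1 := by
    intro a ha
    have := hZ'E.2 ⟨a, hVL ha⟩ ha
    exact congrArg Subtype.val this
  -- W₀ ≤ V
  have hW₀V : W₀ ≤ V := by
    intro z hz
    obtain ⟨hzL, hzc, hzp⟩ := Cfsg.Agent.H12.mem_omegaOne_center hz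
    obtain ⟨S⟩ : Nonempty (Sylow p ↥L) := inferInstance
    let u : ↥L := ⟨z, hzL⟩
    have hucent : ∀ y : ↥L, y * u = u * y := fun y => Subtype.ext (hzc y y.2)
    have hup : u ^ p = 1 := Subtype.ext hzp
    have h1 : u ∈ (S : Subgroup ↥L) := by
      have hN : (Subgroup.zpowers u).Normal := by
        constructor
        rintro _ ⟨k, rfl⟩ g
        have : g * u ^ k * g⁻¹ = u ^ k := by
          have hc : Commute g (u ^ k) := (show Commute g u from hucent g).zpow_right k
          rw [hc.eq]; group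
        change g * u ^ k * g⁻¹ ∈ _
        rw [this]
        exact zpow_mem (Subgroup.mem_zpowers u) k
      have hPp : IsPGroup p (Subgroup.zpowers u) :=
        Cfsg.Agent.H12.isPGroup_zpowers_of_pow (k := 1) (by rwa [pow_one])
      exact Cfsg.Agent.H13.sylow_normal_of_normal_le hPp S (Subgroup.mem_zpowers u)
    exact Cfsg.Agent.H12.le_sylowCenterClosure L S h1 (fun y _ => hucent y) hup
  have hcomm_le : ⁅V, R⁆ ≤ V := by
    rw [Subgroup.commutator_le]
    intro v hv r hr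
    have : ⁅v, r⁆ = v * (r * v⁻¹ * r⁻¹) := by rw [commutatorElement_def]; group
    rw [this]
    exact mul_mem hv ((Subgroup.mem_normalizer_iff.1 (hRV hr) _).1 (inv_mem hv))
  have hmain : V = W₀ ⊔ ⁅V, R⁆ := by
    apply le_antisymm _ (sup_le hW₀V hcomm_le)
    refine iSup_le fun S => ?_
    intro x hx
    obtain ⟨hxT, hxc, hxp⟩ := Cfsg.Agent.H12.mem_omegaOne_center hx
    have hxV : x ∈ V := (le_iSup (fun S : Sylow p ↥L => Cfsg.omegaOne p (((S : Subgroup ↥L).map L.subtype) ⊓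
      Subgroup.centralizer (((S : Subgroup ↥L).map L.subtype : Subgroup H) : Set H))) S) hx
    set T₁ := (S : Subgroup ↥L).map L.subtype with hT₁
    obtain ⟨y, m, hy, hm, hyg, hym⟩ := Cfsg.Agent.H12.exists_average V R (T₁ ⊓ R) hVc hRV inf_le_right hxV
      (fun t ht => hxc t ht.1)
    have hidx : ¬ p ∣ m := by
      intro hd
      have h1 : (T₁ ⊓ R).relIndex R = T₁.relIndex R := Subgroup.inf_relIndex_right _ _
      have h2 : T₁.relIndex R = (S : Subgroup ↥L).relIndex (Cfsg.pResidual p ↥L) :=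
        Subgroup.relIndex_map_map_of_injective _ _ L.subtype_injective
      rw [h1, h2] at hm
      exact S.not_dvd_index (hd.trans (hm.trans (Cfsg.Agent.H18.relIndex_dvd_index_of_normal_right _ _)))
    have hyR : ∀ r ∈ R, r * y * r⁻¹ = y := by
      intro r hr
      exact hyg r (hRV hr) (fun r₁ hr₁ => ⟨r * r₁, mul_mem hr hr₁, by group⟩)
    have hT₁L : T₁ ≤ L := by rintro _ ⟨t, -, rfl⟩; exact t.2
    have hyT : ∀ t ∈ T₁, t * y * t⁻¹ = y := by
      intro t ht
      refine hyg t (hLV (hT₁L ht)) ?_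
      intro r hr
      refine ⟨t * r * t⁻¹, (Subgroup.mem_normalizer_iff.1 (hLR (hT₁L ht)) r).1 hr, ?_⟩
      have h1 : t * x = x * t := hxc t ht
      calc t * (r * x * r⁻¹) * t⁻¹ = (t * r * t⁻¹) * (t * x) * r⁻¹ * t⁻¹ := by group
        _ = (t * r * t⁻¹) * (x * t) * r⁻¹ * t⁻¹ := by rw [h1]
        _ = (t * r * t⁻¹) * x * (t * r * t⁻¹)⁻¹ := by group
    have hyW : y ∈ W₀ := by
      refine Cfsg.Agent.H12.mem_omegaOne_center_of (hVL hy) ?_ (hVp y hy)
      intro l hl
      have h1 : (⊤ : Subgroup ↥L) ≤ (Subgroup.centralizer ({y} : Set H)).subgroupOf L := by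
        rw [← Cfsg.Agent.H13.sylow_sup_pResidual S]
        apply sup_le
        · intro t ht
          rw [Subgroup.mem_subgroupOf, Subgroup.mem_centralizer_singleton_iff]
          have := hyT t ⟨t, ht, rfl⟩
          rwa [mul_inv_eq_iff_eq_mul] at this
        · intro r hr
          rw [Subgroup.mem_subgroupOf, Subgroup.mem_centralizer_singleton_iff]
          have := hyR r ⟨r, hr, rfl⟩
          rwa [mul_inv_eq_iff_eq_mul] at this
      have h2 := h1 (Subgroup.mem_top (⟨l, hl⟩ : ↥L))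
      rw [Subgroup.mem_subgroupOf, Subgroup.mem_centralizer_singleton_iff] at h2
      exact h2
    have hxm : x ^ m ∈ W₀ ⊔ ⁅V, R⁆ := by
      have e : x ^ m = (x ^ m * y⁻¹) * y := by group
      rw [e]
      exact mul_mem ((le_sup_right : ⁅V, R⁆ ≤ _) hym) ((le_sup_left : W₀ ≤ _) hyW)
    have hp' := (Fact.out : p.Prime)
    have hc : Nat.Coprime m p := ((Nat.Prime.coprime_iff_not_dvd hp').2 hidx).symm
    exact Cfsg.Agent.H12.mem_of_pow_mem_of_coprime _ hxp hc hxm
  refine ⟨hmain, ?_⟩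
  apply le_antisymm
  · rw [Subgroup.commutator_le]
    intro v hv l hl
    have hvdec : v ∈ W₀ ⊔ ⁅V, R⁆ := by rw [← hmain]; exact hv
    have hWn : W₀ ≤ Subgroup.normalizer ((⁅V, R⁆ : Subgroup H) : Set H) := fun a ha =>
      Cfsg.Agent.H12.conj_left_mem_normalizer_commutator (hW₀V ha)
    rw [← SetLike.mem_coe, Subgroup.coe_mul_of_left_le_normalizer_right W₀ _ hWn, Set.mem_mul] at hvdec
    obtain ⟨a, ha, b, hb, rfl⟩ := hvdec
    obtain ⟨haL, hac, -⟩ := Cfsg.Agent.H12.mem_omegaOne_center ha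
    have hbL : b ∈ L := hVL (hcomm_le hb)
    have e1 : ⁅a * b, l⁆ = ⁅b, l⁆ := by
      have h1 : a * b = b * a := (hac b hbL).symm
      have h2 : a * l = l * a := (hac l hl).symm
      rw [commutatorElement_def, commutatorElement_def]
      calc a * b * l * (a * b)⁻¹ * l⁻¹ = b * a * l * a⁻¹ * b⁻¹ * l⁻¹ := by rw [h1]; group
        _ = b * (a * l) * a⁻¹ * b⁻¹ * l⁻¹ := by group
        _ = b * (l * a) * a⁻¹ * b⁻¹ * l⁻¹ := by rw [h2]
        _ = b * l * b⁻¹ * l⁻¹ := by group
    rw [e1]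
    have e2 : ⁅b, l⁆ = b * (l * b⁻¹ * l⁻¹) := by rw [commutatorElement_def]; group
    rw [e2]
    refine mul_mem hb ?_
    have hn := Cfsg.Agent.H12.conj_mem_normalizer_commutator (hLV hl) (hLR hl)
    exact (Subgroup.mem_normalizer_iff.1 hn _).1 (inv_mem hb)
  · exact Subgroup.commutator_mono le_rfl hRL

end Cfsg.Agent.S2823
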