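import Cfsg.Statements.S2824
import Cfsg.Agent.Lib.H12.PReduced4
import Cfsg.Agent.S2803
-- import your own Cfsg.Agent.* helpers here

set_option autoImplicit false
open Cfsg

namespace Cfsg.Agent.S2824

open scoped commutatorElement


/-- Let H be a finite group, p a prime, T a Sylow p-subgroup, L and M subgroups of characteristic p containing T, Y_L the largest p-reduced normal subgroup of L and T₀ = C_T(Y_L). If M·C_H(Y_L) = L·C_H(Y_L), then L* := N_M(T₀) has Y_{L*} = Y_L and L·C_H(Y_L) = L*·C_H(Y_L). -/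
theorem result {H : Type*} [Group H] [Finite H] {p : ℕ} [Fact p.Prime] (T : Sylow p H) (L M : Subgroup H) (hTL : (T : Subgroup H) ≤ L) (hTM : (T : Subgroup H) ≤ M) (hL : Subgroup.centralizer (Cfsg.pCore p ↥L : Set ↥L) ≤ Cfsg.pCore p ↥L) (hM : Subgroup.centralizer (Cfsg.pCore p ↥M : Set ↥M) ≤ Cfsg.pCore p ↥M) (T₀ : Subgroup H) (hT₀ : T₀ = (T : Subgroup H) ⊓ Subgroup.centralizer (((Cfsg.largestPReducedOf p L) : Subgroup H) : Set H)) (hfac : M ⊔ Subgroup.centralizer (((Cfsg.largestPReducedOf p L) : Subgroup H) : Set H) = L ⊔ Subgroup.centralizer (((Cfsg.largestPReducedOf p L) : Subgroup H) : Set H)) (Ls : Subgroup H) (hLs : Ls = M ⊓ Subgroup.normalizer ((T₀ : Subgroup H) : Set H)) : (Cfsg.largestPReducedOf p Ls) = (Cfsg.largestPReducedOf p L) ∧ L ⊔ Subgroup.centralizer (((Cfsg.largestPReducedOf p L) : Subgroup H) : Set H) = Ls ⊔ Subgroup.centralizer (((Cfsg.largestPReducedOf p L) : Subgroup H) : Set H) := by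
  set Y := Cfsg.largestPReducedOf p L with hY
  set C := Subgroup.centralizer ((Y : Subgroup H) : Set H) with hC
  have hYL : Y ≤ L := Cfsg.Agent.H12.largestPReducedOf_le
  have hLY : L ≤ Subgroup.normalizer ((Y : Subgroup H) : Set H) := Cfsg.Agent.H12.le_normalizer_largestPReducedOf
  have hYE : Cfsg.IsElementaryAbelian p Y :=
    Cfsg.Agent.H12.IsElementaryAbelian_mono Cfsg.Agent.H12.largestPReducedOf_le_omega
      (Cfsg.Agent.H12.isElementaryAbelian_omegaOne_center _)
  have hCY : C ≤ Subgroup.normalizer ((Y : Subgroup H) : Set H) := by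
    intro c hc
    rw [Subgroup.mem_normalizer_iff]
    intro y
    constructor
    · intro hy
      have h1 := Subgroup.mem_centralizer_iff.1 hc y hy
      rw [← h1]
      simpa using hy
    · intro hy
      have h1 := Subgroup.mem_centralizer_iff.1 hc _ hy
      have h2 : c * (c * y * c⁻¹) = c * y := by rw [← h1]; group
      rw [← mul_left_cancel h2]
      exact hy
  have hMY : M ≤ Subgroup.normalizer ((Y : Subgroup H) : Set H) := by
    have : M ≤ L ⊔ C := by rw [← hfac]; exact le_sup_left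
    exact this.trans (sup_le hLY hCY)
  have hNC : ∀ g ∈ Subgroup.normalizer ((Y : Subgroup H) : Set H), g ∈ Subgroup.normalizer ((C : Subgroup H) : Set H) := by
    intro g hg
    apply Cfsg.Agent.H13.mem_normalizer_of_map_conj_le
    rw [hC, Cfsg.Agent.H13.map_conj_centralizer, Cfsg.Agent.H13.map_conj_eq_of_mem_normalizer hg]
  have hTN₀ : (T : Subgroup H) ≤ Subgroup.normalizer ((T₀ : Subgroup H) : Set H) := by
    intro t ht
    apply Cfsg.Agent.H13.mem_normalizer_of_map_conj_le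
    rw [hT₀, Cfsg.Agent.H13.map_conj_inf, Cfsg.Agent.H13.map_conj_eq_of_mem_normalizer (Subgroup.le_normalizer ht),
      Cfsg.Agent.H13.map_conj_eq_of_mem_normalizer (hNC t (hLY (hTL ht)))]
  have hTLs : (T : Subgroup H) ≤ Ls := by
    rw [hLs]; exact le_inf hTM hTN₀
  have hLsM : Ls ≤ M := by rw [hLs]; exact inf_le_left
  have hLsN : Ls ≤ Subgroup.normalizer ((T₀ : Subgroup H) : Set H) := by rw [hLs]; exact inf_le_right
  -- Frattini
  have hMdec : M ≤ Ls ⊔ C := by
    let T' : Sylow p ↥M := Sylow.subtype T hTM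
    let C' : Subgroup ↥M := C.subgroupOf M
    have hC' : C'.Normal := by
      constructor
      intro x hx g
      rw [Subgroup.mem_subgroupOf] at hx ⊢
      exact (Subgroup.mem_normalizer_iff.1 (hNC g (hMY g.2)) x).1 hx
    have hF := Cfsg.Agent.H18.frattini_inf T' C'
    intro m hm
    have hm' : (⟨m, hm⟩ : ↥M) ∈ Subgroup.normalizer (((T' : Subgroup ↥M) ⊓ C' : Subgroup ↥M) : Set ↥M) ⊔ C' := by
      rw [hF]; trivial
    rw [← SetLike.mem_coe, Subgroup.mul_normal, Set.mem_mul] at hm'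
    obtain ⟨n, hn, c, hc, e⟩ := hm'
    have hnLs : (n : H) ∈ Ls := by
      rw [hLs]
      refine ⟨n.2, ?_⟩
      change (n : H) ∈ Subgroup.normalizer ((T₀ : Subgroup H) : Set H)
      apply Cfsg.Agent.H13.mem_normalizer_of_map_conj_le
      rintro _ ⟨t, ht, rfl⟩
      rw [hT₀] at ht
      have ht2 : (⟨t, hTM ht.1⟩ : ↥M) ∈ ((T' : Subgroup ↥M) ⊓ C' : Subgroup ↥M) := ⟨ht.1, ht.2⟩
      have h5 := (Subgroup.mem_normalizer_iff.1 hn _).1 ht2
      rw [hT₀]
      exact ⟨h5.1, h5.2⟩
    have e' : m = (n : H) * c := by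
      have := congrArg Subtype.val e
      simpa using this.symm
    rw [e']
    exact mul_mem ((le_sup_left : Ls ≤ _) hnLs) ((le_sup_right : C ≤ _) hc)
  have hsup : L ⊔ C = Ls ⊔ C := by
    rw [← hfac]
    exact le_antisymm (sup_le hMdec le_sup_right) (sup_le_sup_right hLsM _)
  refine ⟨?_, hsup⟩
  apply le_antisymm
  · -- `Y_{Ls} ≤ Y_L`
    set Z := Cfsg.largestPReducedOf p Ls with hZ
    have hYZ : Y ≤ Z := Cfsg.Agent.H12.largestPReducedOf_le_of_sup_eq T Ls L hTLs hTL hsup.symm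
    have hZE : Cfsg.IsElementaryAbelian p Z :=
      Cfsg.Agent.H12.IsElementaryAbelian_mono Cfsg.Agent.H12.largestPReducedOf_le_omega
        (Cfsg.Agent.H12.isElementaryAbelian_omegaOne_center _)
    have hZT : Z ≤ (T : Subgroup H) := fun z hz =>
      Cfsg.Agent.H12.pCoreOf_le_sylow T hTLs
        (Cfsg.Agent.H12.mem_omegaOne_center (Cfsg.Agent.H12.largestPReducedOf_le_omega hz)).1
    have hT₀p : IsPGroup p ↥T₀ := T.2.to_le (by rw [hT₀]; exact inf_le_left)
    have hT₀Ls : T₀ ≤ Ls := by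
      rw [hT₀]
      exact (inf_le_left (b := C)).trans hTLs
    have hT₀O : T₀ ≤ Cfsg.pCoreOf p Ls := Cfsg.Agent.H13.le_pCoreOf hT₀Ls hT₀p hLsN
    have hT₀Z : T₀ ≤ Subgroup.centralizer (Z : Set H) :=
      hT₀O.trans Cfsg.Agent.H12.pCoreOf_le_centralizer
    have hZC : Z ≤ C := by
      intro z hz
      rw [hC, Subgroup.mem_centralizer_iff]
      intro y hy
      exact Cfsg.Agent.H12.isElementaryAbelian_comm hZE _ (hYZ hy) _ hz
    have hS2803 := (Cfsg.Agent.S2803.result hL (Sylow.subtype T hTL) (Cfsg.largestPReduced p ↥L)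
      Cfsg.Agent.H12.largest_spec _ rfl).2.2
    intro z hz
    have hzL : z ∈ L := hTL (hZT hz)
    refine ⟨⟨z, hzL⟩, ?_, rfl⟩
    rw [hS2803]
    refine Cfsg.Agent.H12.mem_omegaOne_center_of ?_ ?_ ?_
    · refine ⟨hZT hz, ?_⟩
      change (⟨z, hzL⟩ : ↥L) ∈ Subgroup.centralizer _
      rw [Subgroup.mem_centralizer_iff]
      intro y hy
      have h1 : (y : H) ∈ Y := ⟨y, hy, rfl⟩
      apply Subtype.ext
      exact Subgroup.mem_centralizer_iff.1 (hZC hz) _ h1
    · rintro ⟨y, hyL⟩ ⟨hy1, hy2⟩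
      have hy3 : y ∈ T₀ := by
        rw [hT₀]
        refine ⟨hy1, ?_⟩
        change y ∈ C
        rw [hC, Subgroup.mem_centralizer_iff]
        rintro _ ⟨u, hu, rfl⟩
        have := Subgroup.mem_centralizer_iff.1 hy2 u hu
        exact congrArg Subtype.val this
      apply Subtype.ext
      have := Subgroup.mem_centralizer_iff.1 (hT₀Z hy3) z hz
      exact this.symm
    · apply Subtype.ext
      exact hZE.2 z hz
  · exact Cfsg.Agent.H12.largestPReducedOf_le_of_sup_eq T Ls L hTLs hTL hsup.symm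

end Cfsg.Agent.S2824
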