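import Cfsg.Statements.S2825
import Cfsg.Agent.Lib.H12.YLocal
import Cfsg.Agent.Lib.H13.Residual
-- import your own Cfsg.Agent.* helpers here

set_option autoImplicit false
open Cfsg

namespace Cfsg.Agent.S2825

open scoped commutatorElement


/-- Let L be a subnormal subgroup of the finite group H, p a prime, Y_H and Y_L the largest p-reduced normal subgroups. Then Y_H ∩ L = Y_H ∩ Y_L and this subgroup is a p-reduced normal subgroup of L; C_L(Y_L) = C_L(Y_H) = C_L(Y_H ∩ L); and if O^p(H) ≤ L, then [Y_L, L] = 1 if and only if [Y_H, H] = 1. -/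
theorem result {H : Type*} [Group H] [Finite H] {p : ℕ} [Fact p.Prime] (L : Subgroup H) (hL : L.IsSubnormal) : Cfsg.largestPReduced p H ⊓ L = Cfsg.largestPReduced p H ⊓ (Cfsg.largestPReducedOf p L) ∧ Cfsg.IsPReducedNormal p ((Cfsg.largestPReduced p H ⊓ L).subgroupOf L) ∧ L ⊓ Subgroup.centralizer ((Cfsg.largestPReducedOf p L : Subgroup H) : Set H) = L ⊓ Subgroup.centralizer (Cfsg.largestPReduced p H : Set H) ∧ L ⊓ Subgroup.centralizer (Cfsg.largestPReduced p H : Set H) = L ⊓ Subgroup.centralizer ((Cfsg.largestPReduced p H ⊓ L : Subgroup H) : Set H) ∧ (Cfsg.pResidual p H ≤ L → (⁅(Cfsg.largestPReducedOf p L), L⁆ = ⊥ ↔ ⁅Cfsg.largestPReduced p H, (⊤ : Subgroup H)⁆ = ⊥)) := by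
  classical
  have hV : IsPReducedNormal p (largestPReduced p H) := (H12.largest_spec (p := p) (L := H)).1
  haveI hVn : (largestPReduced p H).Normal := hV.1
  have hVE : IsElementaryAbelian p (largestPReduced p H) := hV.2.1
  set V := largestPReduced p H with hVd
  set Y := largestPReducedOf p L with hY
  have hYL : Y ≤ L := H13.largestPReducedOf_le L
  have hA3 := H12.inf_centralizer_inf_le hV hL
  have hAR := H12.redOn_inf_of_subnormal hV hL
  have hLA : L ≤ Subgroup.normalizer ((V ⊓ L : Subgroup H) : Set H) := by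
    intro k hk
    apply H13.mem_normalizer_of_map_conj_le
    rw [H13.map_conj_inf, H13.map_conj_eq_of_normal, H13.map_conj_eq_of_mem_normalizer (Subgroup.le_normalizer hk)]
  have hAE : IsElementaryAbelian p (V ⊓ L) := H12.isElementaryAbelian_of_le inf_le_left hVE
  have hAY : V ⊓ L ≤ Y := H12.le_largestOf inf_le_right hLA hAE hAR
  have h3a : L ⊓ Subgroup.centralizer ((Y : Subgroup H) : Set H) = L ⊓ Subgroup.centralizer (V : Set H) := by
    apply le_antisymm
    · exact le_inf inf_le_left
        ((inf_le_inf_left _ (Subgroup.centralizer_le hAY)).trans hA3)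
    · exact le_inf inf_le_left (H12.inf_centralizer_le_of_subnormal hL)
  refine ⟨?_, H12.pReduced_of_redOn inf_le_right hLA hAE hAR, h3a, ?_, ?_⟩
  · apply le_antisymm
    · exact le_inf inf_le_left hAY
    · exact inf_le_inf_left _ hYL
  · apply le_antisymm
    · exact inf_le_inf_left _ (Subgroup.centralizer_le inf_le_left)
    · exact le_inf inf_le_left hA3
  · intro hres
    constructor
    · intro h
      have h1 : L ≤ Subgroup.centralizer ((Y : Subgroup H) : Set H) := by
        intro l hl
        rw [Subgroup.mem_centralizer_iff]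
        intro y hy
        have h2 : ⁅y, l⁆ ∈ ⁅Y, L⁆ := Subgroup.commutator_mem_commutator hy hl
        rw [h, Subgroup.mem_bot, commutatorElement_eq_one_iff_mul_comm] at h2
        exact h2
      have h2 : L ≤ Subgroup.centralizer (V : Set H) := by
        intro l hl
        have h3 : l ∈ L ⊓ Subgroup.centralizer ((Y : Subgroup H) : Set H) := ⟨hl, h1 hl⟩
        rw [h3a] at h3
        exact h3.2
      have h4 : (⊤ : Subgroup H) ≤ Subgroup.centralizer (V : Set H) := by
        apply H12.pReduced_elim hV (inferInstance : (⊤ : Subgroup H).Normal)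
        intro x _
        obtain ⟨k, hk⟩ := H12.exists_pow_coprime (p := p) x
        exact ⟨k, h2 (hres (H13.mem_pResidual_of_coprime hk))⟩
      rw [← le_bot_iff, Subgroup.commutator_le]
      intro v hv g _
      rw [Subgroup.mem_bot, commutatorElement_eq_one_iff_mul_comm]
      exact (Subgroup.mem_centralizer_iff.1 (h4 (Subgroup.mem_top g)) v hv)
    · intro h
      have h1 : L ≤ L ⊓ Subgroup.centralizer (V : Set H) := by
        intro l hl
        refine ⟨hl, ?_⟩
        change l ∈ Subgroup.centralizer (V : Set H)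
        rw [Subgroup.mem_centralizer_iff]
        intro v hv
        have h2 : ⁅v, l⁆ ∈ ⁅V, (⊤ : Subgroup H)⁆ := Subgroup.commutator_mem_commutator hv (Subgroup.mem_top l)
        rw [h, Subgroup.mem_bot, commutatorElement_eq_one_iff_mul_comm] at h2
        exact h2
      rw [← h3a] at h1
      rw [← le_bot_iff, Subgroup.commutator_le]
      intro y hy l hl
      rw [Subgroup.mem_bot, commutatorElement_eq_one_iff_mul_comm]
      exact (Subgroup.mem_centralizer_iff.1 (h1 hl).2 y hy)

end Cfsg.Agent.S2825
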