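import Cfsg.Statements.S2826
import Cfsg.Agent.Lib.H12.PReduced3
-- import your own Cfsg.Agent.* helpers here

set_option autoImplicit false
open Cfsg

namespace Cfsg.Agent.S2826

open scoped commutatorElement


/-- Let H be a finite group of characteristic p, T a Sylow p-subgroup, and V a normal elementary abelian p-subgroup of H containing Ω₁(Z(T)). Then C_H(Ω₁(Z(T))) = C_H([V, O^p(H)] ∩ Ω₁(Z(T))), O^p(H) being generated by the elements of order prime to p. -/
theorem result {H : Type*} [Group H] [Finite H] {p : ℕ} [Fact p.Prime] (hH : Subgroup.centralizer (Cfsg.pCore p H : Set H) ≤ Cfsg.pCore p H) (T : Sylow p H) (V : Subgroup H) [V.Normal] (hV : Cfsg.IsElementaryAbelian p V) (hZV : (Cfsg.omegaOne p ((T : Subgroup H) ⊓ Subgroup.centralizer (((T : Subgroup H) : Subgroup H) : Set H))) ≤ V) : Subgroup.centralizer ((Cfsg.omegaOne p ((T : Subgroup H) ⊓ Subgroup.centralizer (((T : Subgroup H) : Subgroup H) : Set H))) : Set H) = Subgroup.centralizer (((⁅V, Cfsg.pResidual p H⁆ ⊓ (Cfsg.omegaOne p ((T : Subgroup H) ⊓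 Subgroup.centralizer (((T : Subgroup H) : Subgroup H) : Set H)))) : Subgroup H) : Set H) := by
  set Z := Cfsg.omegaOne p ((T : Subgroup H) ⊓ Subgroup.centralizer (((T : Subgroup H) : Subgroup H) : Set H)) with hZ
  set R := Cfsg.pResidual p H with hR
  have hRn : R.Normal := inferInstance
  apply le_antisymm
  · apply Subgroup.centralizer_le
    exact inf_le_right
  · intro g hg
    have hVp : IsPGroup p V := Cfsg.Agent.H12.isPGroup_of_elementary hV
    have hVT : V ≤ (T : Subgroup H) :=
      (Cfsg.Agent.H13.le_pCore inferInstance hVp).trans (Cfsg.Agent.H13.pCore_le_sylow T)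
    have hVc := Cfsg.Agent.H12.isElementaryAbelian_comm hV
    have hRV : R ≤ Subgroup.normalizer (V : Set H) := by
      rw [Subgroup.normalizer_eq_top_iff.2 inferInstance]; exact le_top
    rw [Subgroup.mem_centralizer_iff]
    intro z hz
    have hz' : z ∈ Z := hz
    obtain ⟨hzT, hzc, hzp⟩ := Cfsg.Agent.H12.mem_omegaOne_center hz'
    obtain ⟨y, m, hy, hm, hyg, hym⟩ := Cfsg.Agent.H12.exists_average V R ((T : Subgroup H) ⊓ R) hVc hRV inf_le_right (hZV hz')
      (fun t ht => hzc t ht.1)
    have hidx : ¬ p ∣ m := by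
      intro hd
      have h1 : ((T : Subgroup H) ⊓ R).relIndex R = (T : Subgroup H).relIndex R := Subgroup.inf_relIndex_right _ _
      rw [h1] at hm
      exact T.not_dvd_index (hd.trans (hm.trans (Cfsg.Agent.H18.relIndex_dvd_index_of_normal_right _ _)))
    have hyR : ∀ r ∈ R, r * y * r⁻¹ = y := by
      intro r hr
      exact hyg r (hRV hr) (fun r₁ hr₁ => ⟨r * r₁, mul_mem hr hr₁, by group⟩)
    have hyT : ∀ t ∈ (T : Subgroup H), t * y * t⁻¹ = y := by
      intro t ht
      refine hyg t (Subgroup.mem_normalizer_iff.2 ?_) ?_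
      · intro v
        constructor
        · intro hv; exact (inferInstance : V.Normal).conj_mem v hv t
        · intro hv
          have e : v = t⁻¹ * (t * v * t⁻¹) * t⁻¹⁻¹ := by group
          rw [e]
          exact (inferInstance : V.Normal).conj_mem _ hv t⁻¹
      · intro r hr
        refine ⟨t * r * t⁻¹, hRn.conj_mem r hr t, ?_⟩
        have h1 : t * z = z * t := hzc t ht
        calc t * (r * z * r⁻¹) * t⁻¹ = (t * r * t⁻¹) * (t * z) * r⁻¹ * t⁻¹ := by group
          _ = (t * r * t⁻¹) * (z * t) * r⁻¹ * t⁻¹ := by rw [h1]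
          _ = (t * r * t⁻¹) * z * (t * r * t⁻¹)⁻¹ := by group
    have hytop : ∀ h : H, h * y * h⁻¹ = y := by
      intro h
      have h1 : Subgroup.centralizer ({y} : Set H) = ⊤ := by
        rw [eq_top_iff, ← Cfsg.Agent.H13.sylow_sup_pResidual T]
        apply sup_le
        · intro t ht
          rw [Subgroup.mem_centralizer_singleton_iff]
          have := hyT t ht
          rwa [mul_inv_eq_iff_eq_mul] at this
        · intro r hr
          rw [Subgroup.mem_centralizer_singleton_iff]
          have := hyR r hr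
          rwa [mul_inv_eq_iff_eq_mul] at this
      have h2 : h ∈ Subgroup.centralizer ({y} : Set H) := by rw [h1]; trivial
      rw [Subgroup.mem_centralizer_singleton_iff] at h2
      rw [mul_inv_eq_iff_eq_mul]
      exact h2
    have hyZ : y ∈ Z := by
      refine Cfsg.Agent.H12.mem_omegaOne_center_of (hVT hy) ?_ (hV.2 y hy)
      intro t _
      have := hytop t
      rwa [mul_inv_eq_iff_eq_mul] at this
    have hzm : z ^ m * y⁻¹ ∈ ⁅V, R⁆ ⊓ Z := Subgroup.mem_inf.2 ⟨hym, mul_mem (pow_mem hz' m) (inv_mem hyZ)⟩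
    have h1 := Subgroup.mem_centralizer_iff.1 hg _ hzm
    have hgy : y * g = g * y := by
      have := hytop g
      rw [mul_inv_eq_iff_eq_mul] at this
      exact this.symm
    have hz2 : z ^ m ∈ Subgroup.centralizer ({g} : Set H) := by
      rw [Subgroup.mem_centralizer_singleton_iff]
      have e : z ^ m = (z ^ m * y⁻¹) * y := by group
      rw [e]
      calc (z ^ m * y⁻¹) * y * g = (z ^ m * y⁻¹) * (y * g) := by group
        _ = (z ^ m * y⁻¹) * (g * y) := by rw [hgy]
        _ = ((z ^ m * y⁻¹) * g) * y := by group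
        _ = (g * (z ^ m * y⁻¹)) * y := by rw [h1]
        _ = g * ((z ^ m * y⁻¹) * y) := by group
    have hp' := (Fact.out : p.Prime)
    have hc : Nat.Coprime m p := ((Nat.Prime.coprime_iff_not_dvd hp').2 hidx).symm
    have := Cfsg.Agent.H12.mem_of_pow_mem_of_coprime _ hzp hc hz2
    rw [Subgroup.mem_centralizer_singleton_iff] at this
    exact this

end Cfsg.Agent.S2826
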