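import Cfsg.Statements.S2827
import Cfsg.Agent.Lib.H12.Core
-- import your own Cfsg.Agent.* helpers here

set_option autoImplicit false
open Cfsg

namespace Cfsg.Agent.S2827

open scoped commutatorElement


/-- Let H be a finite p-irreducible group (not p-closed, and O^p(H) lies in every normal subgroup that is not p-closed) and T a Sylow p-subgroup. Then H is generated by the conjugates of T and H = H'·T; O^p(H) ≤ H'; and for every normal subgroup Y of T not contained in O_p(H), O^p(H) = [O^p(H), Y] and O^p(H) is contained in the normal closure of Y in H. -/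
theorem result {H : Type*} [Group H] [Finite H] {p : ℕ} [Fact p.Prime] (hH : Cfsg.IsPIrreducible p H) (T : Sylow p H) : Subgroup.normalClosure ((T : Subgroup H) : Set H) = ⊤ ∧ commutator H ⊔ (T : Subgroup H) = ⊤ ∧ Cfsg.pResidual p H ≤ commutator H ∧ ∀ Y : Subgroup H, Y ≤ (T : Subgroup H) → (T : Subgroup H) ≤ Subgroup.normalizer (Y : Set H) → ¬ Y ≤ Cfsg.pCore p H → ⁅Cfsg.pResidual p H, Y⁆ = Cfsg.pResidual p H ∧ Cfsg.pResidual p H ≤ Subgroup.normalClosure (Y : Set H) := by
  have hNC := Cfsg.Agent.H12.eq_top_of_normal_of_sylow_le hH T (Subgroup.normalClosure ((T : Subgroup H) : Set H)) Subgroup.le_normalClosure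
  have hcomm : commutator H ⊔ (T : Subgroup H) = ⊤ := by
    have hn : (commutator H ⊔ (T : Subgroup H)).Normal := by
      constructor
      intro x hx g
      have h1 : g * x * g⁻¹ = (g * x * g⁻¹ * x⁻¹) * x := by group
      rw [h1]
      refine mul_mem ?_ hx
      apply (le_sup_left : commutator H ≤ _)
      rw [commutator_def]
      exact Subgroup.commutator_mem_commutator (Subgroup.mem_top _) (Subgroup.mem_top _)
    exact Cfsg.Agent.H12.eq_top_of_normal_of_sylow_le hH T _ le_sup_right
  refine ⟨hNC, hcomm, ?_, ?_⟩
  · exact Cfsg.Agent.H12.pResidual_le_of_sup_sylow _ T hcomm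
  · intro Y hYT hTY hYO
    have hYp : IsPGroup p Y := T.2.to_le hYT
    set R := Cfsg.pResidual p H with hR
    have hRn : R.Normal := inferInstance
    have hRT : R ⊔ (T : Subgroup H) = ⊤ := by
      rw [sup_comm]; exact Cfsg.Agent.H13.sylow_sup_pResidual T
    refine ⟨?_, ?_⟩
    · -- [R,Y] = R
      set C := ⁅R, Y⁆ with hC
      have hCR : C ≤ R := by
        rw [hC, Subgroup.commutator_le]
        intro r hr y hy
        have h1 : ⁅r, y⁆ = r * (y * r⁻¹ * y⁻¹) := by
          rw [commutatorElement_def]; group
        rw [h1]
        exact mul_mem hr (hRn.conj_mem _ (inv_mem hr) _)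
      have hRnorm : ∀ g, g ∈ Subgroup.normalizer (R : Set H) := by
        intro g
        rw [Subgroup.normalizer_eq_top_iff.2 hRn]
        trivial
      have hCnorm : C.Normal := by
        rw [← Subgroup.normalizer_eq_top_iff, eq_top_iff, ← hRT]
        apply sup_le
        · intro r hr
          exact Cfsg.Agent.H12.conj_left_mem_normalizer_commutator hr
        · intro t ht
          exact Cfsg.Agent.H12.conj_mem_normalizer_commutator (hRnorm t) (hTY ht)
      have hCYnorm : (C ⊔ Y).Normal := by
        rw [← Subgroup.normalizer_eq_top_iff, eq_top_iff, ← hRT]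
        apply sup_le
        · intro r hr
          apply Cfsg.Agent.H13.mem_normalizer_of_map_conj_le
          rw [Subgroup.map_sup]
          apply sup_le
          · rw [Cfsg.Agent.H13.map_conj_eq_of_normal (N := C)]
            exact le_sup_left
          · rintro _ ⟨y, hy, rfl⟩
            have h1 : (MulAut.conj r).toMonoidHom y = ⁅r, y⁆ * y := by
              simp [commutatorElement_def]
            rw [h1]
            exact mul_mem ((le_sup_left : C ≤ C ⊔ Y) (Subgroup.commutator_mem_commutator hr hy))
              ((le_sup_right : Y ≤ C ⊔ Y) hy)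
        · intro t ht
          apply Cfsg.Agent.H13.mem_normalizer_of_map_conj_le
          rw [Subgroup.map_sup]
          apply sup_le
          · rw [Cfsg.Agent.H13.map_conj_eq_of_normal (N := C)]
            exact le_sup_left
          · have := Cfsg.Agent.H13.map_conj_eq_of_mem_normalizer (hTY ht)
            rw [this]
            exact le_sup_right
      have hCYc : ¬ Cfsg.IsPClosed p ↥(C ⊔ Y) := by
        intro hc
        exact hYO (Cfsg.Agent.H12.le_pCore_of_le_isPClosed_normal _ hc hYp le_sup_right)
      have h1 := hH.2 _ hCYnorm hCYc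
      exact le_antisymm hCR (Cfsg.Agent.H12.le_of_le_sup_of_pResidual C Y hYp h1)
    · have := Cfsg.Agent.H12.not_isPClosed_normalClosure_of_not_le Y hYp hYO
      exact hH.2 _ inferInstance this

end Cfsg.Agent.S2827
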