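import Cfsg.Statements.S2828
import Cfsg.Agent.Lib.H12.Core
-- import your own Cfsg.Agent.* helpers here

set_option autoImplicit false
open Cfsg

namespace Cfsg.Agent.S2828

open scoped commutatorElement

variable {H : Type*} [Group H] [Finite H] {p : ℕ} [hp : Fact p.Prime]

theorem map_residual (D : Subgroup H) [D.Normal] :
    (Cfsg.pResidual p H).map (QuotientGroup.mk' D) = Cfsg.pResidual p (H ⧸ D) := by
  apply le_antisymm
  · rw [Subgroup.map_le_iff_le_comap]
    unfold Cfsg.pResidual
    rw [Subgroup.closure_le]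
    intro g hg
    apply Subgroup.subset_closure
    have h1 : orderOf (g : H ⧸ D) ∣ orderOf g := by
      apply orderOf_dvd_of_pow_eq_one
      rw [← QuotientGroup.mk_pow, pow_orderOf_eq_one]; rfl
    exact Nat.Coprime.coprime_dvd_left h1 hg
  · conv_lhs => unfold Cfsg.pResidual
    rw [Subgroup.closure_le]
    intro x hx
    have hx' : Nat.Coprime (orderOf x) p := hx
    obtain ⟨g, rfl⟩ := QuotientGroup.mk_surjective x
    obtain ⟨y, z, hgyz, hy, ⟨k, hk⟩, hz⟩ := Cfsg.Agent.H05.exists_decomp_pResidual (G := H) hp.out g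
    refine ⟨z, hz, ?_⟩
    obtain ⟨n, rfl⟩ := Subgroup.mem_zpowers_iff.1 hy
    have h1 : ((g ^ n : H) : H ⧸ D) = 1 := by
      have h2 : ((g ^ n : H) : H ⧸ D) ^ (p ^ k) = 1 := by
        rw [← QuotientGroup.mk_pow, hk]; rfl
      have h3 : orderOf ((g ^ n : H) : H ⧸ D) ∣ p ^ k := orderOf_dvd_of_pow_eq_one h2
      have h4 : orderOf ((g ^ n : H) : H ⧸ D) ∣ orderOf (g : H ⧸ D) := by
        rw [QuotientGroup.mk_zpow]
        exact orderOf_dvd_of_pow_eq_one (by rw [← zpow_natCast, ← zpow_mul, mul_comm, zpow_mul, zpow_natCast, pow_orderOf_eq_one, one_zpow])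
      have h5 := Nat.eq_one_of_dvd_coprimes (hx'.pow_right k) h4 h3
      rwa [orderOf_eq_one_iff] at h5
    change ((z : H) : H ⧸ D) = g
    rw [hgyz, QuotientGroup.mk_mul, h1, one_mul]

theorem map_core (D : Subgroup H) [D.Normal] (hD : IsPGroup p ↥D) :
    (Cfsg.pCore p H).map (QuotientGroup.mk' D) = Cfsg.pCore p (H ⧸ D) := by
  have hs := QuotientGroup.mk'_surjective D
  apply le_antisymm
  · apply Cfsg.Agent.H13.le_pCore
    · exact Subgroup.Normal.map inferInstance _ hs
    · exact IsPGroup.map Cfsg.Agent.H13.isPGroup_pCore _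
  · have h1 : (Cfsg.pCore p (H ⧸ D)).comap (QuotientGroup.mk' D) ≤ Cfsg.pCore p H := by
      apply Cfsg.Agent.H13.le_pCore
      · exact Subgroup.Normal.comap inferInstance _
      · apply (IsPGroup.comap_of_ker_isPGroup Cfsg.Agent.H13.isPGroup_pCore _ ?_)
        rw [QuotientGroup.ker_mk']
        exact hD
    have h2 := Subgroup.map_mono (f := QuotientGroup.mk' D) h1
    rwa [Subgroup.map_comap_eq_self_of_surjective hs] at h2

theorem le_core (D : Subgroup H) [D.Normal] (hD : IsPGroup p ↥D) : D ≤ Cfsg.pCore p H :=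
  Cfsg.Agent.H13.le_pCore inferInstance hD

theorem isPClosed_quotient_iff (D : Subgroup H) [D.Normal] (hD : IsPGroup p ↥D) :
    Cfsg.IsPClosed p H ↔ Cfsg.IsPClosed p (H ⧸ D) := by
  constructor
  · exact Cfsg.Agent.H12.isPClosed_of_surjective _ (QuotientGroup.mk'_surjective D)
  · intro h
    obtain ⟨Q⟩ : Nonempty (Sylow p H) := inferInstance
    apply Cfsg.Agent.H12.isPClosed_of_sylow_normal Q
    have h1 : (Q : Subgroup H).map (QuotientGroup.mk' D) ≤ Cfsg.pCore p (H ⧸ D) :=
      Cfsg.Agent.H12.le_pCore_of_isPClosed h (IsPGroup.map Q.2 _)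
    rw [← map_core D hD] at h1
    have h2 : (Q : Subgroup H) ≤ Cfsg.pCore p H := by
      have h3 := Subgroup.comap_mono (f := QuotientGroup.mk' D) h1
      rw [Subgroup.comap_map_eq, Subgroup.comap_map_eq, QuotientGroup.ker_mk', sup_eq_left.2 (le_core D hD)] at h3
      exact le_sup_left.trans h3
    have h3 : (Q : Subgroup H) = Cfsg.pCore p H := le_antisymm h2 (Cfsg.Agent.H13.pCore_le_sylow Q)
    rw [h3]
    infer_instance


theorem comap_map_core (D : Subgroup H) [D.Normal] (hD : IsPGroup p ↥D) {K : Subgroup H}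
    (h : K.map (QuotientGroup.mk' D) ≤ Cfsg.pCore p (H ⧸ D)) : K ≤ Cfsg.pCore p H := by
  rw [← map_core D hD] at h
  have h3 := Subgroup.comap_mono (f := QuotientGroup.mk' D) h
  rw [Subgroup.comap_map_eq, Subgroup.comap_map_eq, QuotientGroup.ker_mk', sup_eq_left.2 (le_core D hD)] at h3
  exact le_sup_left.trans h3

theorem residual_le_of_map_le (N D : Subgroup H) [N.Normal] [D.Normal] (hD : IsPGroup p ↥D)
    (h : Cfsg.pResidual p (H ⧸ D) ≤ N.map (QuotientGroup.mk' D)) : Cfsg.pResidual p H ≤ N := by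
  rw [← map_residual D] at h
  have h3 := Subgroup.comap_mono (f := QuotientGroup.mk' D) h
  rw [Subgroup.comap_map_eq, Subgroup.comap_map_eq, QuotientGroup.ker_mk'] at h3
  exact Cfsg.Agent.H12.le_of_le_sup_of_pResidual N D hD (le_sup_left.trans h3)

theorem map_residual_le_of_le {D : Subgroup H} [D.Normal] (N : Subgroup (H ⧸ D)) 
    (h : Cfsg.pResidual p H ≤ N.comap (QuotientGroup.mk' D)) : Cfsg.pResidual p (H ⧸ D) ≤ N := by
  rw [← map_residual D]
  rw [Subgroup.map_le_iff_le_comap]
  exact h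


/-- Let H be a finite group, p a prime and D a normal p-subgroup of H. Then H is p-irreducible if and only if H/D is p-irreducible, and H is strongly p-irreducible if and only if H/D is strongly p-irreducible. -/
theorem result {H : Type*} [Group H] [Finite H] {p : ℕ} [Fact p.Prime] (D : Subgroup H) [D.Normal] (hD : IsPGroup p ↥D) : (Cfsg.IsPIrreducible p H ↔ Cfsg.IsPIrreducible p (H ⧸ D)) ∧ (Cfsg.IsStronglyPIrreducible p H ↔ Cfsg.IsStronglyPIrreducible p (H ⧸ D)) := by
  have hs := QuotientGroup.mk'_surjective D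
  have hmc : ∀ K : Subgroup (H ⧸ D), (K.comap (QuotientGroup.mk' D)).map (QuotientGroup.mk' D) = K := fun K =>
    Subgroup.map_comap_eq_self_of_surjective hs K
  have hclosed := isPClosed_quotient_iff D hD
  refine ⟨⟨?_, ?_⟩, ⟨?_, ?_⟩⟩
  · intro hH
    refine ⟨fun h => hH.1 (hclosed.2 h), fun N hN hNc => ?_⟩
    apply map_residual_le_of_le
    apply hH.2 _ (hN.comap _)
    intro hc
    apply hNc
    -- surjection from comap to N
    let f : ↥(N.comap (QuotientGroup.mk' D)) →* ↥N :=
      ((QuotientGroup.mk' D).comp (N.comap (QuotientGroup.mk' D)).subtype).codRestrict N (fun x => x.2)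
    refine Cfsg.Agent.H12.isPClosed_of_surjective f ?_ hc
    rintro ⟨y, hy⟩
    obtain ⟨x, rfl⟩ := hs y
    exact ⟨⟨x, hy⟩, rfl⟩
  · intro hH
    refine ⟨fun h => hH.1 (hclosed.1 h), fun N hN hNc => ?_⟩
    apply residual_le_of_map_le N D hD
    apply hH.2 _ (hN.map _ hs)
    intro hc
    apply hNc
    intro P
    have hN' : ((N.map (QuotientGroup.mk' D))).Normal := hN.map _ hs
    have h1 : ((P : Subgroup N).map N.subtype).map (QuotientGroup.mk' D) ≤ Cfsg.pCore p (H ⧸ D) := by
      apply Cfsg.Agent.H12.le_pCore_of_le_isPClosed_normal _ hc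
      · exact IsPGroup.map (IsPGroup.map P.2 _) _
      · apply Subgroup.map_mono
        rintro _ ⟨x, -, rfl⟩
        exact x.2
    have h2 := comap_map_core D hD h1
    have h3 : (Cfsg.pCore p H).subgroupOf N = (P : Subgroup N) := by
      apply P.3 (Cfsg.Agent.H13.isPGroup_subgroupOf Cfsg.Agent.H13.isPGroup_pCore)
      intro x hx
      rw [Subgroup.mem_subgroupOf]
      exact h2 ⟨x, hx, rfl⟩
    rw [← h3]
    exact Subgroup.normal_subgroupOf
  · intro hH
    refine ⟨fun h => hH.1 (hclosed.2 h), fun N hN hNc => ?_⟩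
    apply map_residual_le_of_le
    apply hH.2 _ (hN.comap _)
    intro hc
    apply hNc
    have h1 := Subgroup.map_mono (f := QuotientGroup.mk' D) hc
    rw [Subgroup.map_commutator, hmc, map_core D hD, Subgroup.map_top_of_surjective _ hs] at h1
    exact h1
  · intro hH
    refine ⟨fun h => hH.1 (hclosed.1 h), fun N hN hNc => ?_⟩
    apply residual_le_of_map_le N D hD
    apply hH.2 _ (hN.map _ hs)
    intro hc
    apply hNc
    apply comap_map_core D hD
    rw [Subgroup.map_commutator, Subgroup.map_top_of_surjective _ hs]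
    exact hc

end Cfsg.Agent.S2828
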