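import Cfsg.Statements.S2829
import Cfsg.Agent.Lib.H12.Core
-- import your own Cfsg.Agent.* helpers here

set_option autoImplicit false
open Cfsg

namespace Cfsg.Agent.S2829



/-- Every strongly p-irreducible finite group is p-irreducible. -/
theorem result {H : Type*} [Group H] [Finite H] {p : ℕ} [Fact p.Prime] (hH : Cfsg.IsStronglyPIrreducible p H) : Cfsg.IsPIrreducible p H := by
  refine ⟨hH.1, fun N hN hNc => hH.2 N hN ?_⟩
  intro hle
  apply hNc
  intro P
  -- [N,N] ≤ N ∩ O_p ≤ P
  have hPN : ∀ n : N, ∀ x ∈ (P : Subgroup N), n * x * n⁻¹ ∈ (P : Subgroup N) := by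
    intro n x hx
    have h1 : (n : H) * x * (n : H)⁻¹ * (x : H)⁻¹ ∈ pCore p H := by
      apply hle
      exact Subgroup.commutator_mem_commutator n.2 (Subgroup.mem_top _)
    have h2 : ((pCore p H).subgroupOf N) ≤ (P : Subgroup N) := by
      have : ((pCore p H).subgroupOf N).Normal := Subgroup.normal_subgroupOf
      exact Cfsg.Agent.H13.sylow_normal_of_normal_le (Cfsg.Agent.H13.isPGroup_subgroupOf Cfsg.Agent.H13.isPGroup_pCore) P
    have h3 : n * x * n⁻¹ * x⁻¹ ∈ (P : Subgroup N) := by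
      apply h2
      rw [Subgroup.mem_subgroupOf]
      simpa using h1
    have h4 : n * x * n⁻¹ = (n * x * n⁻¹ * x⁻¹) * x := by group
    rw [h4]
    exact mul_mem h3 hx
  exact ⟨fun x hx n => hPN n x hx⟩ 

end Cfsg.Agent.S2829
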