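import Cfsg.Statements.S2830
import Cfsg.Agent.Lib.H12.Core
-- import your own Cfsg.Agent.* helpers here

set_option autoImplicit false
open Cfsg

namespace Cfsg.Agent.S2830

open scoped commutatorElement

variable {H : Type*} [Group H] [Finite H] {p : ℕ} [hp : Fact p.Prime]

theorem isPGroup_zpowers_of_pow {y : H} {k : ℕ} (h : y ^ (p ^ k) = 1) : IsPGroup p (Subgroup.zpowers y) := by
  intro x
  obtain ⟨x, n, rfl⟩ := x
  refine ⟨k, ?_⟩
  ext
  simp only [SubgroupClass.coe_pow, OneMemClass.coe_one]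
  rw [← zpow_natCast, ← zpow_mul, mul_comm, zpow_mul, zpow_natCast, h, one_zpow]

theorem mem_of_mk_mem_pCore (C : Subgroup H) [C.Normal] {g : H} (hg : Nat.Coprime (orderOf g) p)
    (h : (g : H ⧸ C) ∈ Cfsg.pCore p (H ⧸ C)) : g ∈ C := by
  have hp := Cfsg.Agent.H13.isPGroup_pCore (p := p) (G := H ⧸ C)
  obtain ⟨k, hk⟩ := hp ⟨_, h⟩
  have hk' : (g : H ⧸ C) ^ (p ^ k) = 1 := by simpa using congrArg Subtype.val hk
  have h1 : orderOf (g : H ⧸ C) ∣ p ^ k := orderOf_dvd_of_pow_eq_one hk'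
  have h2 : orderOf (g : H ⧸ C) ∣ orderOf g := by
    apply orderOf_dvd_of_pow_eq_one
    rw [← QuotientGroup.mk_pow, pow_orderOf_eq_one]; rfl
  have h3 := Nat.eq_one_of_dvd_coprimes (hg.pow_right k) h2 h1
  rw [orderOf_eq_one_iff, QuotientGroup.eq_one_iff] at h3
  exact h3

theorem residual_le_of_le_comap (C : Subgroup H) [C.Normal]
    (h : Cfsg.pResidual p H ≤ (Cfsg.pCore p (H ⧸ C)).comap (QuotientGroup.mk' C)) : Cfsg.pResidual p H ≤ C := by
  unfold Cfsg.pResidual at h ⊢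
  rw [Subgroup.closure_le] at h ⊢
  intro g hg
  exact mem_of_mk_mem_pCore C hg (h hg)


/-- Let H act by conjugation on the elementary abelian p-subgroup V of a finite group G (H ≤ N(V)), with H p-irreducible and O^p(H) not centralizing V. Then C_H(V) is p-closed and C_T(V) ≤ O_p(H) for every p-subgroup T of H. If in addition O_p(H) centralizes V, then C_T(V) = T ∩ O_p(H) for every p-subgroup T of H, and V is p-reduced for H: O_p(H/C_H(V)) = 1. -/
theorem result {G : Type*} [Group G] [Finite G] {p : ℕ} [Fact p.Prime] (V H : Subgroup G) (hV : Cfsg.IsElementaryAbelian p V) (hHV : H ≤ Subgroup.normalizer (V : Set G)) (hH : Cfsg.IsPIrreducible p ↥H) (hnc : ¬ (Cfsg.pResidual p ↥H).map H.subtype ≤ Subgroup.centralizer (V : Set G)) [hn : ((Subgroup.centralizer (V : Set G)).subgroupOf H).Normal] : Cfsg.IsPClosed p ↥(H ⊓ Subgroup.centralizer (V : Set G)) ∧ (∀ T : Subgroup G, T ≤ H → IsPGroup p ↥T → T ⊓ Subgroup.centralizer (V : Set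 G) ≤ Cfsg.pCoreOf p H) ∧ (Cfsg.pCoreOf p H ≤ Subgroup.centralizer (V : Set G) → (∀ T : Subgroup G, T ≤ H → IsPGroup p ↥T → T ⊓ Subgroup.centralizer (V : Set G) = T ⊓ Cfsg.pCoreOf p H) ∧ Cfsg.pCore p (↥H ⧸ (Subgroup.centralizer (V : Set G)).subgroupOf H) = ⊥) := by
  set C : Subgroup ↥H := (Subgroup.centralizer (V : Set G)).subgroupOf H with hC
  have hCn : C.Normal := hn
  have hR : ¬ Cfsg.pResidual p ↥H ≤ C := by
    intro h
    apply hnc
    rw [Subgroup.map_le_iff_le_comap]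
    exact h
  have hCc : ¬ ¬ Cfsg.IsPClosed p ↥C := fun h => hR (hH.2 C hCn h)
  have hCc' : Cfsg.IsPClosed p ↥C := not_not.1 hCc
  have hcore : ∀ T : Subgroup G, T ≤ H → IsPGroup p ↥T → T ⊓ Subgroup.centralizer (V : Set G) ≤ Cfsg.pCoreOf p H := by
    intro T hTH hT
    have h1 : (T.subgroupOf H) ⊓ C ≤ Cfsg.pCore p ↥H := by
      apply Cfsg.Agent.H12.le_pCore_of_le_isPClosed_normal C hCc'
      · exact (Cfsg.Agent.H13.isPGroup_subgroupOf hT).to_le inf_le_left
      · exact inf_le_right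
    rintro x ⟨hx1, hx2⟩
    refine ⟨⟨x, hTH hx1⟩, h1 ?_, rfl⟩
    exact ⟨hx1, hx2⟩
  refine ⟨?_, hcore, ?_⟩
  · -- transfer
    have e : ↥C ≃* ↥(H ⊓ Subgroup.centralizer (V : Set G)) := by
      refine MulEquiv.ofBijective (MonoidHom.codRestrict (H.subtype.comp C.subtype) _ ?_) ⟨?_, ?_⟩
      · rintro ⟨x, hx⟩
        exact ⟨x.2, hx⟩
      · rintro ⟨x, hx⟩ ⟨y, hy⟩ h
        have h' : ((x : H) : G) = y := congrArg (fun z => z.1) h
        exact Subtype.ext (Subtype.ext h')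
      · rintro ⟨x, hx⟩
        exact ⟨⟨⟨x, hx.1⟩, hx.2⟩, rfl⟩
    exact Cfsg.Agent.H12.isPClosed_of_mulEquiv e hCc'
  · intro hOC
    refine ⟨fun T hTH hT => le_antisymm (le_inf inf_le_left (hcore T hTH hT)) (inf_le_inf_left _ hOC), ?_⟩
    -- O_p(H/C) = 1
    set X : Subgroup ↥H := (Cfsg.pCore p (↥H ⧸ C)).comap (QuotientGroup.mk' C) with hX
    have hXn : X.Normal := Subgroup.Normal.comap inferInstance _
    have hCX : C ≤ X := by
      intro x hx
      have h0 : (QuotientGroup.mk' C) x = 1 := (QuotientGroup.eq_one_iff x).2 hx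
      rw [hX, Subgroup.mem_comap, h0]
      exact one_mem _
    -- X is p-closed
    have hXc : Cfsg.IsPClosed p ↥X := by
      by_contra hnX
      exact hR (residual_le_of_le_comap C (hH.2 X hXn hnX))
    rw [eq_bot_iff]
    intro xb hxb
    obtain ⟨g, rfl⟩ := QuotientGroup.mk_surjective xb
    rw [Subgroup.mem_bot, QuotientGroup.eq_one_iff]
    obtain ⟨y, z, hy, hz, hgyz, ⟨k, hk⟩, hzc⟩ := Cfsg.Agent.H05.exists_pow_decomp (G := ↥H) g (Fact.out : p.Prime)
    have hgX : g ∈ X := hxb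
    have hyX : y ∈ X := (Subgroup.zpowers_le.2 hgX) hy
    have hzX : z ∈ X := (Subgroup.zpowers_le.2 hgX) hz
    have hyC : y ∈ C := by
      have h1 : Subgroup.zpowers y ≤ Cfsg.pCore p ↥H :=
        Cfsg.Agent.H12.le_pCore_of_le_isPClosed_normal X hXc (isPGroup_zpowers_of_pow hk) (Subgroup.zpowers_le.2 hyX)
      have h2 := h1 (Subgroup.mem_zpowers y)
      have h3 : (y : G) ∈ Cfsg.pCoreOf p H := ⟨y, h2, rfl⟩
      exact hOC h3
    have hzC : z ∈ C := mem_of_mk_mem_pCore C hzc hzX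
    rw [hgyz]
    exact mul_mem hyC hzC

end Cfsg.Agent.S2830
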