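import Cfsg.Statements.S2831
import Cfsg.Agent.Lib.H12.Core
-- import your own Cfsg.Agent.* helpers here

set_option autoImplicit false
open Cfsg

namespace Cfsg.Agent.S2831



/-- Let H be a finite group with Sylow p-subgroup T such that H is T-minimal (H is generated by the conjugates of T and T lies in exactly one maximal subgroup of H). Then H is p-irreducible: H is not p-closed and O^p(H) lies in every normal subgroup of H that is not p-closed. -/
theorem result {H : Type*} [Group H] [Finite H] {p : ℕ} [Fact p.Prime] (T : Sylow p H) (hmin : Cfsg.IsMinimalOver (T : Subgroup H)) : Cfsg.IsPIrreducible p H := by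
  obtain ⟨hcl, M, ⟨hM, hTM⟩, huniq⟩ := hmin
  have hcoat : ∀ K : Subgroup H, K ≠ ⊤ → (T : Subgroup H) ≤ K → K ≤ M := by
    intro K hK hTK
    obtain ⟨M', hM', hKM'⟩ := (eq_top_or_exists_le_coatom K).resolve_left hK
    have := huniq M' ⟨hM', hTK.trans hKM'⟩
    rw [this] at hKM'
    exact hKM'
  constructor
  · intro hc
    have hn := hc T
    have h1 : Subgroup.normalClosure ((T : Subgroup H) : Set H) ≤ T :=
      Subgroup.normalClosure_le_normal (fun x hx => hx)
    rw [hcl] at h1
    exact hM.1 (top_le_iff.1 (h1.trans hTM))
  · intro N hN hNc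
    by_cases hNT : N ⊔ (T : Subgroup H) = ⊤
    · exact Cfsg.Agent.H12.pResidual_le_of_sup_sylow N T hNT
    · exfalso
      apply hNc
      have hle : N ⊔ (T : Subgroup H) ≤ M := hcoat _ hNT le_sup_right
      have hN_le : N ≤ M := le_sup_left.trans hle
      -- Frattini
      have hF := Cfsg.Agent.H18.frattini_inf T N
      have hnorm : Subgroup.normalizer (((T : Subgroup H) ⊓ N : Subgroup H) : Set H) = ⊤ := by
        by_contra hne
        have hTle : (T : Subgroup H) ≤ Subgroup.normalizer (((T : Subgroup H) ⊓ N : Subgroup H) : Set H) := by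
          intro t ht
          rw [Subgroup.mem_normalizer_iff]
          intro x
          rw [Subgroup.mem_inf, Subgroup.mem_inf]
          constructor
          · rintro ⟨hx1, hx2⟩
            exact ⟨mul_mem (mul_mem ht hx1) (inv_mem ht), hN.conj_mem _ hx2 _⟩
          · rintro ⟨hx1, hx2⟩
            refine ⟨?_, ?_⟩
            · have : x = t⁻¹ * (t * x * t⁻¹) * t := by group
              rw [this]
              exact mul_mem (mul_mem (inv_mem ht) hx1) ht
            · have : x = t⁻¹ * (t * x * t⁻¹) * t⁻¹⁻¹ := by group
              rw [this]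
              exact hN.conj_mem _ hx2 _
        have h2 := hcoat _ hne hTle
        apply hM.1
        rw [eq_top_iff, ← hF]
        exact sup_le h2 hN_le
      have hnormal : ((T : Subgroup H) ⊓ N).Normal := Subgroup.normalizer_eq_top_iff.1 hnorm
      obtain ⟨P, hP⟩ : Nonempty (Sylow p N) := inferInstance
      apply Cfsg.Agent.H12.isPClosed_of_sylow_normal (Cfsg.Agent.H18.sylowOfNormal T N)
      rw [Cfsg.Agent.H18.coe_sylowOfNormal]
      have : (T : Subgroup H).subgroupOf N = ((T : Subgroup H) ⊓ N).subgroupOf N := by
        rw [Subgroup.inf_subgroupOf_right]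
      rw [this]
      exact Subgroup.normal_subgroupOf

end Cfsg.Agent.S2831
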