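import Cfsg.Statements.S2832
import Cfsg.Agent.Lib.H12.Core
-- import your own Cfsg.Agent.* helpers here

set_option autoImplicit false
open Cfsg

namespace Cfsg.Agent.S2832



/-- Let H be a finite group with Sylow p-subgroup T such that H is T-minimal (generated by the conjugates of T, with T in exactly one maximal subgroup), and let N be a normal subgroup of H. Then either H/N is a p-group or H/N is minimal over the image of T in the same sense. -/
theorem result {H : Type*} [Group H] [Finite H] {p : ℕ} [Fact p.Prime] (T : Sylow p H) (hmin : Cfsg.IsMinimalOver (T : Subgroup H)) (N : Subgroup H) [N.Normal] : IsPGroup p (H ⧸ N) ∨ Cfsg.IsMinimalOver ((T : Subgroup H).map (QuotientGroup.mk' N)) := by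
  by_cases hp' : IsPGroup p (H ⧸ N)
  · exact Or.inl hp'
  right
  obtain ⟨hcl, M, ⟨hM, hTM⟩, huniq⟩ := hmin
  set π := QuotientGroup.mk' N with hπ
  have hπs : Function.Surjective π := QuotientGroup.mk'_surjective N
  have hker : π.ker = N := QuotientGroup.ker_mk' N
  have hcoat : ∀ K : Subgroup H, K ≠ ⊤ → (T : Subgroup H) ≤ K → K ≤ M := by
    intro K hK hTK
    obtain ⟨M', hM', hKM'⟩ := (eq_top_or_exists_le_coatom K).resolve_left hK
    have := huniq M' ⟨hM', hTK.trans hKM'⟩
    rw [this] at hKM'
    exact hKM'
  have hNT : N ⊔ (T : Subgroup H) ≠ ⊤ := fun h =>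
    hp' (Cfsg.Agent.H12.isPGroup_quotient_of_sup_sylow N T h)
  have hNM : N ≤ M := le_sup_left.trans (hcoat _ hNT le_sup_right)
  have hcm : ∀ K : Subgroup H, N ≤ K → (K.map π).comap π = K := by
    intro K hK
    rw [Subgroup.comap_map_eq, hker]
    exact sup_eq_left.2 hK
  have hmc : ∀ K : Subgroup (H ⧸ N), (K.comap π).map π = K := fun K =>
    Subgroup.map_comap_eq_self_of_surjective hπs K
  have hcN : ∀ K : Subgroup (H ⧸ N), N ≤ K.comap π := by
    intro K x hx
    have h0 : π x = 1 := (QuotientGroup.eq_one_iff x).2 hx
    rw [Subgroup.mem_comap, h0]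
    exact one_mem _
  refine ⟨?_, M.map π, ⟨?_, Subgroup.map_mono hTM⟩, ?_⟩
  · rw [eq_top_iff]
    have h1 : Subgroup.normalClosure ((T : Subgroup H) : Set H) ≤
        (Subgroup.normalClosure (((T : Subgroup H).map π : Subgroup _) : Set _)).comap π := by
      apply Subgroup.normalClosure_le_normal
      intro x hx
      exact Subgroup.subset_normalClosure ⟨x, hx, rfl⟩
    rw [hcl] at h1
    intro x _
    obtain ⟨y, rfl⟩ := hπs x
    exact h1 (Subgroup.mem_top y)
  · constructor
    · intro h
      apply hM.1
      rw [← hcm M hNM, h, Subgroup.comap_top]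
    · intro K hK
      have h1 : M < K.comap π := by
        refine lt_of_le_of_ne ?_ ?_
        · rw [← hcm M hNM]
          exact Subgroup.comap_mono hK.le
        · intro h
          apply hK.ne
          rw [← hmc K, ← h]
      have h2 := hM.2 _ h1
      rw [← hmc K, h2, Subgroup.map_top_of_surjective _ hπs]
  · rintro K ⟨hK, hTK⟩
    have h1 : IsCoatom (K.comap π) := by
      constructor
      · intro h
        apply hK.1
        rw [← hmc K, h, Subgroup.map_top_of_surjective _ hπs]
      · intro L hL
        have hNL : N ≤ L := (hcN K).trans hL.le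
        have h2 : K < L.map π := by
          refine lt_of_le_of_ne ?_ ?_
          · rw [← hmc K]
            exact Subgroup.map_mono hL.le
          · intro h
            apply hL.ne
            rw [← hcm L hNL, ← h]
        have h3 := hK.2 _ h2
        rw [← hcm L hNL, h3, Subgroup.comap_top]
    have h2 : (T : Subgroup H) ≤ K.comap π := by
      rw [← Subgroup.map_le_iff_le_comap]
      exact hTK
    have h3 := huniq _ ⟨h1, h2⟩
    rw [← hmc K, h3]

end Cfsg.Agent.S2832
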