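import Cfsg.Statements.S2833
import Cfsg.Agent.Lib.H12.Core
-- import your own Cfsg.Agent.* helpers here

set_option autoImplicit false
open Cfsg

namespace Cfsg.Agent.S2833

open scoped commutatorElement

theorem comm_of_conj {G : Type*} [Group G] {x a : G} (h : x * a * x⁻¹ = a) : x * a = a * x := by
  calc x * a = x * a * x⁻¹ * x := by group
    _ = a * x := by rw [h]


/-- Let V be a subgroup of a finite group G normalized by the subgroup L, let X ≤ L and g ∈ L with [V, X, X] = 1 and L generated by X and gXg⁻¹. Put W = [V, L]. Then W = [V, X]·[V, gXg⁻¹], C_W(X) = [V, X], and C_W(L) = [V, X] ∩ [V, gXg⁻¹]. -/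
theorem result {G : Type*} [Group G] [Finite G] (V L : Subgroup G) (hLV : L ≤ Subgroup.normalizer (V : Set G)) (X : Subgroup G) (hX : X ≤ L) (g : G) (hg : g ∈ L) (hq : ⁅⁅V, X⁆, X⁆ = ⊥) (hgen : X ⊔ X.map (MulAut.conj g).toMonoidHom = L) (W : Subgroup G) (hW : W = ⁅V, L⁆) : ⁅V, X⁆ ⊔ ⁅V, X.map (MulAut.conj g).toMonoidHom⁆ = W ∧ W ⊓ Subgroup.centralizer (X : Set G) = ⁅V, X⁆ ∧ W ⊓ Subgroup.centralizer (L : Set G) = ⁅V, X⁆ ⊓ ⁅V, X.map (MulAut.conj g).toMonoidHom⁆ := by
  subst hW
  set A := ⁅V, X⁆ with hA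
  set Y := X.map (MulAut.conj g).toMonoidHom with hY
  set B := ⁅V, Y⁆ with hB
  have hgV : g ∈ Subgroup.normalizer (V : Set G) := hLV hg
  have hVconj : V.map (MulAut.conj g).toMonoidHom = V := Cfsg.Agent.H13.map_conj_eq_of_mem_normalizer hgV
  have hBA : B = A.map (MulAut.conj g).toMonoidHom := by
    rw [hA, Subgroup.map_commutator, hVconj]
  have hXL : X ≤ L := hX
  have hYL : Y ≤ L := le_sup_right.trans hgen.le
  have hLV' : ∀ l ∈ L, ∀ v ∈ V, l * v * l⁻¹ ∈ V := fun l hl v hv =>
    (Subgroup.mem_normalizer_iff.1 (hLV hl) v).1 hv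
  have hsub : ∀ Z : Subgroup G, Z ≤ L → ⁅V, Z⁆ ≤ V := by
    intro Z hZ
    rw [Subgroup.commutator_le]
    intro v hv z hz
    have : ⁅v, z⁆ = v * (z * v⁻¹ * z⁻¹) := by rw [commutatorElement_def]; group
    rw [this]
    exact mul_mem hv (hLV' z (hZ hz) _ (inv_mem hv))
  have hAV : A ≤ V := hsub X hXL
  have hBV : B ≤ V := hsub Y hYL
  have hq2 : ⁅B, Y⁆ = ⊥ := by
    rw [hBA, hY, ← Subgroup.map_commutator, hq, Subgroup.map_bot]
  have hXA : ∀ x ∈ X, ∀ a ∈ A, x * a * x⁻¹ = a := by
    intro x hx a ha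
    have := Subgroup.commutator_mem_commutator ha hx
    rw [hq, Subgroup.mem_bot, commutatorElement_eq_one_iff_mul_comm] at this
    rw [← this]; group
  have hYB : ∀ y ∈ Y, ∀ b ∈ B, y * b * y⁻¹ = b := by
    intro y hy b hb
    have := Subgroup.commutator_mem_commutator hb hy
    rw [hq2, Subgroup.mem_bot, commutatorElement_eq_one_iff_mul_comm] at this
    rw [← this]; group
  have hBnA : B ≤ Subgroup.normalizer (A : Set G) := fun b hb =>
    Cfsg.Agent.H12.conj_left_mem_normalizer_commutator (hBV hb)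
  have hmem : ∀ w ∈ A ⊔ B, ∃ a ∈ A, ∃ b ∈ B, w = a * b := by
    intro w hw
    have h1 := Subgroup.coe_mul_of_right_le_normalizer_left A B hBnA
    rw [← SetLike.mem_coe, h1, Set.mem_mul] at hw
    obtain ⟨a, ha, b, hb, rfl⟩ := hw
    exact ⟨a, ha, b, hb, rfl⟩
  have hXnU : X ≤ Subgroup.normalizer ((A ⊔ B : Subgroup G) : Set G) := by
    intro x hx
    apply Cfsg.Agent.H13.mem_normalizer_of_map_conj_le
    rw [Subgroup.map_sup]
    apply sup_le
    · rintro _ ⟨a, ha, rfl⟩
      apply (le_sup_left : A ≤ A ⊔ B)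
      change x * a * x⁻¹ ∈ A
      rw [hXA x hx a ha]
      exact ha
    · rintro _ ⟨b, hb, rfl⟩
      have h1 : (MulAut.conj x).toMonoidHom b = ⁅x, b⁆ * b := by
        simp [commutatorElement_def]
      rw [h1]
      refine mul_mem ((le_sup_left : A ≤ A ⊔ B) ?_) ((le_sup_right : B ≤ A ⊔ B) hb)
      rw [hA, Subgroup.commutator_comm]
      exact Subgroup.commutator_mem_commutator hx (hBV hb)
  have hYnU : Y ≤ Subgroup.normalizer ((A ⊔ B : Subgroup G) : Set G) := by
    intro x hx
    apply Cfsg.Agent.H13.mem_normalizer_of_map_conj_le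
    rw [Subgroup.map_sup]
    apply sup_le
    · rintro _ ⟨a, ha, rfl⟩
      have h1 : (MulAut.conj x).toMonoidHom a = ⁅x, a⁆ * a := by
        simp [commutatorElement_def]
      rw [h1]
      refine mul_mem ((le_sup_right : B ≤ A ⊔ B) ?_) ((le_sup_left : A ≤ A ⊔ B) ha)
      rw [hB, Subgroup.commutator_comm]
      exact Subgroup.commutator_mem_commutator hx (hAV ha)
    · rintro _ ⟨b, hb, rfl⟩
      apply (le_sup_right : B ≤ A ⊔ B)
      change x * b * x⁻¹ ∈ B
      rw [hYB x hx b hb]
      exact hb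
  have hLnU : L ≤ Subgroup.normalizer ((A ⊔ B : Subgroup G) : Set G) := by
    rw [← hgen]; exact sup_le hXnU hYnU
  have hUW : ⁅V, L⁆ = A ⊔ B := by
    apply le_antisymm
    · let K : Subgroup G :=
        { carrier := {l | l ∈ L ∧ ∀ v ∈ V, ⁅v, l⁆ ∈ A ⊔ B}
          one_mem' := ⟨one_mem _, fun v _ => by simp [commutatorElement_def]⟩
          mul_mem' := by
            rintro l₁ l₂ ⟨h1, h1'⟩ ⟨h2, h2'⟩
            refine ⟨mul_mem h1 h2, fun v hv => ?_⟩
            have : ⁅v, l₁ * l₂⁆ = ⁅v, l₁⁆ * (l₁ * ⁅v, l₂⁆ * l₁⁻¹) := by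
              simp only [commutatorElement_def]; group
            rw [this]
            exact mul_mem (h1' v hv) ((Subgroup.mem_normalizer_iff.1 (hLnU h1) _).1 (h2' v hv))
          inv_mem' := by
            rintro l ⟨h1, h1'⟩
            refine ⟨inv_mem h1, fun v hv => ?_⟩
            have : ⁅v, l⁻¹⁆ = l⁻¹ * ⁅v, l⁆⁻¹ * l⁻¹⁻¹ := by
              simp only [commutatorElement_def]; group
            rw [this]
            exact (Subgroup.mem_normalizer_iff.1 (hLnU (inv_mem h1)) _).1 (inv_mem (h1' v hv)) }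
      have hLK : L ≤ K := by
        rw [← hgen]
        apply sup_le
        · intro x hx
          exact ⟨hXL hx, fun v hv => (le_sup_left : A ≤ A ⊔ B) (Subgroup.commutator_mem_commutator hv hx)⟩
        · intro x hx
          exact ⟨hYL hx, fun v hv => (le_sup_right : B ≤ A ⊔ B) (Subgroup.commutator_mem_commutator hv hx)⟩
      rw [Subgroup.commutator_le]
      intro v hv l hl
      exact (hLK hl).2 v hv
    · exact sup_le (Subgroup.commutator_mono le_rfl hXL) (Subgroup.commutator_mono le_rfl hYL)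
  have hgL : ∀ b : G, (∀ l ∈ L, l * b = b * l) → b ∈ B → b ∈ A := by
    intro b hc hb
    rw [hBA] at hb
    obtain ⟨a, ha, rfl⟩ := hb
    change g * a * g⁻¹ ∈ A
    have hc' := hc g hg
    change g * (g * a * g⁻¹) = (g * a * g⁻¹) * g at hc'
    have h2 : g * (g * a * g⁻¹) = g * a := by rw [hc']; group
    have : g * a * g⁻¹ = a := mul_left_cancel h2
    rw [this]; exact ha
  have hb2 : ⁅V, L⁆ ⊓ Subgroup.centralizer (X : Set G) = A := by
    apply le_antisymm
    · rintro w ⟨hw, hwc⟩
      have hw' : w ∈ ⁅V, L⁆ := hw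
      rw [hUW] at hw'
      obtain ⟨a, ha, b, hb, rfl⟩ := hmem w hw'
      have hwc' : ∀ x ∈ X, x * (a * b) = (a * b) * x := fun x hx =>
        (Subgroup.mem_centralizer_iff.1 hwc x hx)
      have hbX : ∀ x ∈ X, x * b = b * x := by
        intro x hx
        have h1 := hwc' x hx
        have h2 : x * a = a * x := comm_of_conj (hXA x hx a ha)
        have h3 : a * (x * b) = a * (b * x) := by
          calc a * (x * b) = (a * x) * b := by group
            _ = (x * a) * b := by rw [h2]
            _ = x * (a * b) := by group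
            _ = (a * b) * x := h1
            _ = a * (b * x) := by group
        exact mul_left_cancel h3
      have hbL : ∀ l ∈ L, l * b = b * l := by
        have h1 : L ≤ Subgroup.centralizer ({b} : Set G) := by
          rw [← hgen]
          apply sup_le
          · intro x hx
            rw [Subgroup.mem_centralizer_singleton_iff]
            exact hbX x hx
          · intro y hy
            rw [Subgroup.mem_centralizer_singleton_iff]
            exact comm_of_conj (hYB y hy b hb)
        intro l hl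
        exact Subgroup.mem_centralizer_singleton_iff.1 (h1 hl)
      exact mul_mem ha (hgL b hbL hb)
    · intro a ha
      refine ⟨?_, ?_⟩
      · change a ∈ ⁅V, L⁆
        rw [hUW]
        exact (le_sup_left : A ≤ A ⊔ B) ha
      · change a ∈ Subgroup.centralizer (X : Set G)
        rw [Subgroup.mem_centralizer_iff]
        intro x hx
        exact comm_of_conj (hXA x hx a ha)
  refine ⟨hUW.symm, hb2, ?_⟩
  apply le_antisymm
  · rintro w ⟨hw, hwc⟩
    have hwc' : w ∈ Subgroup.centralizer (L : Set G) := hwc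
    have hwA : w ∈ A := by
      rw [← hb2]
      refine ⟨hw, ?_⟩
      change w ∈ Subgroup.centralizer (X : Set G)
      rw [Subgroup.mem_centralizer_iff] at hwc' ⊢
      intro x hx
      exact hwc' x (hXL hx)
    refine ⟨hwA, ?_⟩
    change w ∈ B
    rw [hBA]
    refine ⟨w, hwA, ?_⟩
    change g * w * g⁻¹ = w
    rw [Subgroup.mem_centralizer_iff] at hwc'
    rw [hwc' g hg]; group
  · rintro w ⟨hwA, hwB⟩
    have hwA' : w ∈ A := hwA
    have hwB' : w ∈ B := hwB
    refine ⟨?_, ?_⟩
    · change w ∈ ⁅V, L⁆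
      rw [hUW]
      exact (le_sup_left : A ≤ A ⊔ B) hwA'
    · change w ∈ Subgroup.centralizer (L : Set G)
      have h1 : L ≤ Subgroup.centralizer ({w} : Set G) := by
        rw [← hgen]
        apply sup_le
        · intro x hx
          rw [Subgroup.mem_centralizer_singleton_iff]
          exact comm_of_conj (hXA x hx w hwA')
        · intro y hy
          rw [Subgroup.mem_centralizer_singleton_iff]
          exact comm_of_conj (hYB y hy w hwB')
      rw [Subgroup.mem_centralizer_iff]
      intro l hl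
      exact Subgroup.mem_centralizer_singleton_iff.1 (h1 hl)

end Cfsg.Agent.S2833
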