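import Cfsg.Statements.S2835
import Cfsg.Agent.Lib.H13.Residual

set_option autoImplicit false
open Cfsg

namespace Cfsg.Agent.S2835

open Cfsg.Agent.H13

theorem isCoatom_map_conj_aux {G : Type*} [Group G] {M : Subgroup G} (hM : IsCoatom M) (g : G) :
    IsCoatom (M.map (MulAut.conj g).toMonoidHom) := by
  constructor
  · intro htop
    apply hM.1
    have h1 := congrArg (fun X : Subgroup G => X.map (MulAut.conj g⁻¹).toMonoidHom) htop
    have h1' : (M.map (MulAut.conj g).toMonoidHom).map (MulAut.conj g⁻¹).toMonoidHom = (⊤ : Subgroup G).map (MulAut.conj g⁻¹).toMonoidHom := h1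
    rw [map_conj_inv_map_conj] at h1'
    replace h1 := h1'
    rw [h1]
    exact Subgroup.map_top_of_surjective _ (MulAut.conj g⁻¹).surjective
  · intro X hX
    have hX' : M < X.map (MulAut.conj g⁻¹).toMonoidHom := by
      have h7 : M = (M.map (MulAut.conj g).toMonoidHom).map (MulAut.conj g⁻¹).toMonoidHom :=
        (map_conj_inv_map_conj _ _).symm
      rw [h7]
      exact (Subgroup.map_lt_map_iff_of_injective (MulAut.conj g⁻¹).injective).mpr hX
    have h8 := hM.2 _ hX'
    have h9 := congrArg (fun Z : Subgroup G => Z.map (MulAut.conj g).toMonoidHom) h8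
    have h9' : (X.map (MulAut.conj g⁻¹).toMonoidHom).map (MulAut.conj g).toMonoidHom = (⊤ : Subgroup G).map (MulAut.conj g).toMonoidHom := h9
    rw [map_conj_map_conj_inv] at h9'
    replace h9 := h9'
    rw [h9]
    exact Subgroup.map_top_of_surjective _ (MulAut.conj g).surjective

/-- Let L be a finite group, L₀ a maximal subgroup, T a Sylow p-subgroup of L₀ and Y ≤ T, and suppose L is Y-minimal (generated by the conjugates of Y, with Y in exactly one maximal subgroup, necessarily L₀). Then N_L(T) ≤ L₀, O_p(L) ≤ L₀ and T is a Sylow p-subgroup of L; N_L(L₀) = L₀; L = ⟨Y, gYg⁻¹⟩ for each g ∈ L outside L₀; and if Y is abelian then Y ∩ gYg⁻¹ = C_Y(L) for each such g. -/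
theorem result {L : Type*} [Group L] [Finite L] {p : ℕ} [Fact p.Prime] (L₀ : Subgroup L) (hL₀ : IsCoatom L₀) (T : Sylow p ↥L₀) (Y : Subgroup L) (hYT : Y ≤ (T : Subgroup ↥L₀).map L₀.subtype) (hmin : Cfsg.IsMinimalOver Y) : Subgroup.normalizer (((T : Subgroup ↥L₀).map L₀.subtype : Subgroup L) : Set L) ≤ L₀ ∧ Cfsg.pCore p L ≤ L₀ ∧ (∃ P : Sylow p L, (P : Subgroup L) = (T : Subgroup ↥L₀).map L₀.subtype) ∧ Subgroup.normalizer (L₀ : Set L) = L₀ ∧ (∀ g : L, g ∉ L₀ → Y ⊔ Y.map (MulAut.conj g).toMonoidHom = ⊤) ∧ (IsMulCommutative ↥Y → ∀ g : L, g ∉ L₀ → Y ⊓ Y.map (MulAut.conj g).toMonoidHom = Y ⊓ Subgroup.center L) := by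
  classical
  set T' : Subgroup L := (T : Subgroup ↥L₀).map L₀.subtype with hT'
  have hT'L₀ : T' ≤ L₀ := by
    rintro _ ⟨x, -, rfl⟩
    exact x.2
  have hT'p : IsPGroup p T' := T.2.map _
  have hYL₀ : Y ≤ L₀ := hYT.trans hT'L₀
  obtain ⟨hcl, M, ⟨hM1, hM2⟩, huniq⟩ := hmin
  have hM : M = L₀ := (huniq L₀ ⟨hL₀, hYL₀⟩).symm
  subst hM
  -- every proper subgroup containing Y lies in M
  have hprop : ∀ X : Subgroup L, Y ≤ X → X ≠ ⊤ → X ≤ M := by
    intro X hYX hX
    obtain ⟨C, hC, hXC⟩ := (eq_top_or_exists_le_coatom X).resolve_left hX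
    rw [huniq C ⟨hC, hYX.trans hXC⟩] at hXC
    exact hXC
  -- Y is not normal: no normal proper subgroup contains Y
  have hnn : ∀ X : Subgroup L, X.Normal → Y ≤ X → X = ⊤ := by
    intro X hX hYX
    rw [eq_top_iff, ← hcl]
    exact Subgroup.normalClosure_le_normal hYX
  have hNT : Subgroup.normalizer (T' : Set L) ≤ M := by
    apply hprop _ (hYT.trans Subgroup.le_normalizer)
    intro htop
    have hnT : T'.Normal := Subgroup.normalizer_eq_top_iff.mp htop
    have := hnn T' hnT hYT
    exact hL₀.1 (top_le_iff.mp (this ▸ hT'L₀))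
  have hNM : Subgroup.normalizer (M : Set L) = M := by
    have h1 : M ≤ Subgroup.normalizer (M : Set L) := Subgroup.le_normalizer
    have h2 : Subgroup.normalizer (M : Set L) ≠ ⊤ := by
      intro htop
      exact hL₀.1 (hnn M (Subgroup.normalizer_eq_top_iff.mp htop) hYL₀)
    exact le_antisymm (hprop _ (hYL₀.trans h1) h2) h1
  refine ⟨hNT, ?_, ?_, hNM, ?_, ?_⟩
  · -- O_p(L) ≤ M
    have hp : IsPGroup p (pCore p L) := isPGroup_pCore
    by_contra hcon
    have h1 : Y ⊔ pCore p L = ⊤ := by
      by_contra hne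
      exact hcon (le_sup_right.trans (hprop _ le_sup_left hne))
    have hYp : IsPGroup p Y := hT'p.to_le hYT
    have h2 : IsPGroup p (⊤ : Subgroup L) := by
      rw [← h1]
      exact IsPGroup.to_sup_of_normal_right hYp hp
    have hLp : IsPGroup p L := by
      intro x
      obtain ⟨k, hk⟩ := h2 ⟨x, trivial⟩
      exact ⟨k, by simpa using congrArg Subtype.val hk⟩
    haveI := hLp.isNilpotent
    have hnormal : M.Normal := by
      rw [← Subgroup.normalizer_eq_top_iff]
      by_contra hne
      have := Group.normalizerCondition_of_isNilpotent M (lt_top_iff_ne_top.mpr hL₀.1)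
      rw [hNM] at this
      exact lt_irrefl _ this
    exact hL₀.1 (hnn M hnormal hYL₀)
  · -- T' is Sylow in L
    obtain ⟨P, hP⟩ := hT'p.exists_le_sylow
    refine ⟨P, ?_⟩
    by_contra hne
    have hlt : T' < P := lt_of_le_of_ne hP (Ne.symm hne)
    -- normalizers grow
    have hnil : Group.IsNilpotent P := P.2.isNilpotent
    have hlt' : T'.subgroupOf P < ⊤ := by
      rw [lt_top_iff_ne_top]
      intro htop
      apply hne
      apply le_antisymm _ hP
      intro x hx
      have : (⟨x, hx⟩ : P) ∈ T'.subgroupOf P := by rw [htop]; trivial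
      exact this
    have h3 := Group.normalizerCondition_of_isNilpotent _ hlt'
    obtain ⟨x, hx1, hx2⟩ := SetLike.exists_of_lt h3
    have hxN : (x : L) ∈ Subgroup.normalizer (T' : Set L) := by
      rw [Subgroup.mem_normalizer_iff]
      intro h
      have h6 := (Subgroup.mem_normalizer_iff.mp hx1)
      constructor
      · intro hh
        have hhP : h ∈ (P : Subgroup L) := hP hh
        have h7 := (h6 ⟨h, hhP⟩).mp (by rw [Subgroup.mem_subgroupOf]; exact hh)
        rw [Subgroup.mem_subgroupOf] at h7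
        exact h7
      · intro hh
        have hhP : h ∈ (P : Subgroup L) := by
          have h8 : (x : L) * h * (x : L)⁻¹ ∈ (P : Subgroup L) := hP hh
          have := P.1.mul_mem (P.1.mul_mem (P.1.inv_mem x.2) h8) x.2
          simpa [mul_assoc] using this
        have h7 := (h6 ⟨h, hhP⟩).mpr (by rw [Subgroup.mem_subgroupOf]; exact hh)
        rw [Subgroup.mem_subgroupOf] at h7
        exact h7
    have hxM : (x : L) ∈ M := hNT hxN
    -- ⟨T', x⟩ is a p-subgroup of M containing T', so equals T'
    have hxT' : (x : L) ∉ T' := by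
      intro hh
      exact hx2 (by rw [Subgroup.mem_subgroupOf]; exact hh)
    let W : Subgroup L := T' ⊔ Subgroup.zpowers (x : L)
    have hWP : W ≤ (P : Subgroup L) := sup_le hP (by
      rw [Subgroup.zpowers_le]; exact x.2)
    have hWM : W ≤ M := sup_le hT'L₀ (by rw [Subgroup.zpowers_le]; exact hxM)
    have hWp : IsPGroup p (W.subgroupOf M) := by
      intro y
      have hyW : (y : L) ∈ W := y.2
      obtain ⟨k, hk⟩ := (P.2.to_le hWP) ⟨y, hyW⟩
      refine ⟨k, ?_⟩
      apply Subtype.ext
      apply Subtype.ext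
      simpa using congrArg Subtype.val hk
    have hTle : (T : Subgroup M) ≤ W.subgroupOf M := by
      intro y hy
      rw [Subgroup.mem_subgroupOf]
      exact Subgroup.mem_sup_left ⟨y, hy, rfl⟩
    have heq := T.is_maximal' hWp hTle
    apply hxT'
    have hmem : (⟨x, hxM⟩ : M) ∈ W.subgroupOf M := by
      rw [Subgroup.mem_subgroupOf]
      exact Subgroup.mem_sup_right (Subgroup.mem_zpowers _)
    rw [heq] at hmem
    exact ⟨_, hmem, rfl⟩
  · -- L = ⟨Y, Y^g⟩
    intro g hg
    by_contra hne
    have h1 : Y ⊔ Y.map (MulAut.conj g).toMonoidHom ≤ M := hprop _ le_sup_left hne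
    have h2 : Y.map (MulAut.conj g).toMonoidHom ≤ M := le_sup_right.trans h1
    have h3 : Y ≤ M.map (MulAut.conj g⁻¹).toMonoidHom := map_conj_le_iff.mp h2
    have hco : IsCoatom (M.map (MulAut.conj g⁻¹).toMonoidHom) := by
      exact isCoatom_map_conj_aux hL₀ g⁻¹
    have h4 := huniq _ ⟨hco, h3⟩
    have h5 : g⁻¹ ∈ Subgroup.normalizer (M : Set L) := mem_normalizer_of_map_conj_eq h4
    rw [hNM] at h5
    exact hg (by simpa using M.inv_mem h5)
  · intro hab g hg
    -- the generation statement again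
    have hgen : Y ⊔ Y.map (MulAut.conj g).toMonoidHom = ⊤ := by
      by_contra hne
      have h1 : Y ⊔ Y.map (MulAut.conj g).toMonoidHom ≤ M := hprop _ le_sup_left hne
      have h2 : Y.map (MulAut.conj g).toMonoidHom ≤ M := le_sup_right.trans h1
      have h3 : Y ≤ M.map (MulAut.conj g⁻¹).toMonoidHom := map_conj_le_iff.mp h2
      have hco : IsCoatom (M.map (MulAut.conj g⁻¹).toMonoidHom) := by
        exact isCoatom_map_conj_aux hL₀ g⁻¹
      have h4 := huniq _ ⟨hco, h3⟩
      have h5 : g⁻¹ ∈ Subgroup.normalizer (M : Set L) := mem_normalizer_of_map_conj_eq h4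
      rw [hNM] at h5
      exact hg (by simpa using M.inv_mem h5)
    have habY : ∀ a ∈ Y, ∀ b ∈ Y, a * b = b * a := by
      intro a ha b hb
      have := hab.is_comm.comm ⟨a, ha⟩ ⟨b, hb⟩
      exact congrArg Subtype.val this
    apply le_antisymm
    · rintro z ⟨hz1, hz2⟩
      refine ⟨hz1, ?_⟩
      -- z commutes with Y and Y^g
      have hC : (⊤ : Subgroup L) ≤ Subgroup.centralizer {z} := by
        rw [← hgen]
        refine sup_le ?_ ?_
        · intro y hy
          rw [Subgroup.mem_centralizer_iff]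
          rintro _ rfl
          exact habY _ hz1 _ hy
        · rintro _ ⟨y, hy, rfl⟩
          rw [Subgroup.mem_centralizer_iff]
          rintro _ rfl
          obtain ⟨w, hw, rfl⟩ := hz2
          have := habY w hw y hy
          simp only [MulEquiv.coe_toMonoidHom, MulAut.conj_apply]
          calc g * w * g⁻¹ * (g * y * g⁻¹) = g * (w * y) * g⁻¹ := by group
            _ = g * (y * w) * g⁻¹ := by rw [this]
            _ = _ := by group
      show z ∈ Subgroup.center L
      rw [Subgroup.mem_center_iff]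
      intro h
      have := hC (Subgroup.mem_top h)
      rw [Subgroup.mem_centralizer_iff] at this
      exact (this z rfl).symm
    · rintro z ⟨hz1, hz2⟩
      refine ⟨hz1, ?_⟩
      have hz2 : z ∈ Subgroup.center L := hz2
      rw [Subgroup.mem_center_iff] at hz2
      refine ⟨z, hz1, ?_⟩
      simp only [MulEquiv.coe_toMonoidHom, MulAut.conj_apply]
      rw [hz2 g]
      group

end Cfsg.Agent.S2835
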