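import Cfsg.Statements.S2836
import Cfsg.Agent.Lib.H13.YMin

set_option autoImplicit false

open Cfsg

namespace Cfsg.Agent.S2836

open Cfsg.Agent.H13

theorem result {L : Type*} [Group L] [Finite L] {p : ℕ} [Fact p.Prime] (L₀ : Subgroup L) (hL₀ : IsCoatom L₀) (T : Sylow p ↥L₀) (Y : Subgroup L) (hYT : Y ≤ (T : Subgroup ↥L₀).map L₀.subtype) (hmin : Cfsg.IsMinimalOver Y) : (Cfsg.pCore p L ≤ L₀.normalCore ∧ (L₀.normalCore).map (QuotientGroup.mk' (Cfsg.pCore p L)) = frattini (L ⧸ Cfsg.pCore p L) ∧ Cfsg.IsPClosed p ↥(L₀.normalCore)) ∧ ∀ (N : Subgroup L) [N.Normal], N ≤ L₀ → Cfsg.IsPClosed p ↥N ∧ Group.IsNilpotent (↥N ⧸ Cfsg.pCore p ↥N) ∧ (Nat.card (↥N ⧸ Cfsg.pCore p ↥N)).Coprime p := by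
  have hYL₀ : Y ≤ L₀ := hYT.trans (Subgroup.map_subtype_le _)
  have hYp : IsPGroup p Y := (T.2.map _).to_le hYT
  refine ⟨⟨ymin_pCore_le_core hL₀ hYL₀ hYp hmin, ymin_frattini hL₀ T hYT hmin, ?_⟩, ?_⟩
  · exact (isPClosed_of_forall_le (K := L₀.normalCore) isPGroup_pCore
      (fun U hU hUp => ymin_pGroup_le_pCore hL₀ T hYT hmin hU hUp)).1
  · intro N _ hN
    exact ymin_normal_nilpotent hL₀ T hYT hmin hN

end Cfsg.Agent.S2836
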