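import Cfsg.Statements.S2837
import Cfsg.Agent.Lib.H13.YMin2
import Cfsg.Agent.Lib.H13.KeyChar2

set_option autoImplicit false

open Cfsg

namespace Cfsg.Agent.S2837

open Cfsg.Agent.H13
open scoped commutatorElement

theorem result {L : Type*} [Group L] [Finite L] {p : ℕ} [Fact p.Prime] (hchar : Subgroup.centralizer (Cfsg.pCore p L : Set L) ≤ Cfsg.pCore p L) (L₀ : Subgroup L) (hL₀ : IsCoatom L₀) (Y : Subgroup L) (hYL₀ : Y ≤ L₀) (hYel : Cfsg.IsElementaryAbelian p Y) (hmin : Cfsg.IsMinimalOver Y) (hOY : Cfsg.pCore p L ≤ Subgroup.normalizer (Y : Set L)) (A : Subgroup L) (hA : A = Subgroup.normalClosure (((Cfsg.pCore p L ⊓ Y : Subgroup L)) : Set L)) (g : L) (hg : g ∉ L₀) : (frattini ↥A).map A.subtype = ⁅A, A⁆ ∧ ⁅A, A⁆ = ⁅A ⊓ Y, A⁆ ∧ ⁅A ⊓ Y, A⁆ = ⁅A ⊓ Y, A ⊓ Y.map (MulAut.conj g).toMonoidHom⁆ ∧ ⁅A ⊓ Y, A⁆ ≤ Y ⊓ Subgroup.center L ∧ Y ⊓ Y.map (MulAut.conj g).toMonoidHom = Y ⊓ Subgroup.center L ∧ (A ⊓ Y) ⊓ (A ⊓ Y.map (MulAut.conj g).toMonoidHom) = Y ⊓ Subgroup.center L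 ∧ A ⊓ Subgroup.center L = Y ⊓ Subgroup.center L := by
  set P := pCore p L with hPdef
  have hPp : IsPGroup p P := isPGroup_pCore
  set Y' := Y.map (MulAut.conj g).toMonoidHom with hY'
  have hsup : Y ⊔ Y' = ⊤ := ymin_sup_conj hL₀ hYL₀ hmin hg
  have habY : ∀ a ∈ Y, ∀ b ∈ Y, a * b = b * a := fun a ha b hb =>
    congrArg Subtype.val (hYel.1.is_comm.comm (⟨a, ha⟩ : Y) ⟨b, hb⟩)
  have habY' : ∀ a ∈ Y', ∀ b ∈ Y', a * b = b * a := by
    rintro _ ⟨a, ha, rfl⟩ _ ⟨b, hb, rfl⟩
    rw [← map_mul, ← map_mul, habY a ha b hb]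
  have hpowY' : ∀ a ∈ Y', a ^ p = 1 := by
    rintro _ ⟨a, ha, rfl⟩
    rw [← map_pow, hYel.2 a ha, map_one]
  have hZP : Subgroup.center L ≤ P := by
    intro z hz
    apply hchar
    rw [Subgroup.mem_centralizer_iff]
    intro x _
    exact (Subgroup.mem_center_iff.1 hz x)
  -- `Y ∩ Y^g = Y ∩ Z(L)`
  have hcenter : Y ⊓ Y' = Y ⊓ Subgroup.center L := by
    apply le_antisymm
    · intro z hz
      obtain ⟨hz1, hz2⟩ := Subgroup.mem_inf.1 hz
      refine Subgroup.mem_inf.2 ⟨hz1, ?_⟩
      have h1 : Y ⊔ Y' ≤ Subgroup.centralizer ({z} : Set L) := by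
        apply sup_le
        · intro y hy
          rw [Subgroup.mem_centralizer_iff]
          intro w hw
          rw [Set.mem_singleton_iff.1 hw]
          exact habY z hz1 y hy
        · intro y hy
          rw [Subgroup.mem_centralizer_iff]
          intro w hw
          rw [Set.mem_singleton_iff.1 hw]
          exact habY' z hz2 y hy
      rw [hsup] at h1
      rw [Subgroup.mem_center_iff]
      intro x
      have := Subgroup.mem_centralizer_iff.1 (h1 (Subgroup.mem_top x)) z rfl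
      exact this.symm
    · intro z hz
      obtain ⟨hz1, hz2⟩ := Subgroup.mem_inf.1 hz
      refine Subgroup.mem_inf.2 ⟨hz1, ?_⟩
      rw [hY', mem_map_conj]
      have : g⁻¹ * z * g = z := by
        rw [(Subgroup.mem_center_iff.1 hz2 g⁻¹)]
        simp
      rwa [this]
  have hcenter' : Y' ⊓ Subgroup.center L ≤ Y := by
    intro z hz
    obtain ⟨hz1, hz2⟩ := Subgroup.mem_inf.1 hz
    rw [hY', mem_map_conj] at hz1
    have : g⁻¹ * z * g = z := by
      rw [(Subgroup.mem_center_iff.1 hz2 g⁻¹)]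
      simp
    rwa [this] at hz1
  set V := P ⊓ Y with hV
  set V' := P ⊓ Y' with hV'
  have hVV' : V.map (MulAut.conj g).toMonoidHom = V' := by
    rw [hV, map_conj_inf, map_conj_eq_of_normal]
  have hOY' : P ≤ Subgroup.normalizer (Y' : Set L) := by
    have := Subgroup.map_mono (f := (MulAut.conj g).toMonoidHom) hOY
    rwa [map_conj_eq_of_normal, map_conj_normalizer] at this
  have hV'P : V' ≤ P := inf_le_left
  have hVP : V ≤ P := inf_le_left
  -- `A = V V'`
  have hWn : (V ⊔ V').Normal := by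
    rw [← Subgroup.normalizer_eq_top_iff, eq_top_iff, ← hsup]
    apply sup_le
    · exact le_normalizer_inf_sup hOY habY hV'P
    · rw [sup_comm]
      exact le_normalizer_inf_sup hOY' habY' hVP
  have hAW : A = V ⊔ V' := by
    apply le_antisymm
    · rw [hA]
      exact Subgroup.normalClosure_le_normal (fun x hx => Subgroup.mem_sup_left hx)
    · haveI hAn : A.Normal := by rw [hA]; exact Subgroup.normalClosure_normal
      have h1 : V ≤ A := by rw [hA]; exact Subgroup.le_normalClosure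
      apply sup_le h1
      rw [← hVV', ← map_conj_eq_of_normal (N := A) (g := g)]
      exact Subgroup.map_mono h1
  subst hAW
  clear hA
  set A := V ⊔ V' with hAdef
  have hAP : A ≤ P := sup_le hVP hV'P
  have hVnV' : V ≤ Subgroup.normalizer (V' : Set L) := by
    intro v hv
    refine mem_normalizer_inf ?_ (hOY' (hVP hv))
    rw [Subgroup.normalizer_eq_top_iff.2 (inferInstance : P.Normal)]
    trivial
  have hdecomp : ∀ x ∈ A, ∃ v ∈ V, ∃ v' ∈ V', x = v * v' := by
    intro x hx
    have hx' : x ∈ ((V ⊔ V' : Subgroup L) : Set L) := hx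
    rw [Subgroup.coe_mul_of_left_le_normalizer_right V V' hVnV'] at hx'
    obtain ⟨v, hv, v', hv', rfl⟩ := hx'
    exact ⟨v, hv, v', hv', rfl⟩
  have hAY : A ⊓ Y = V := by
    apply le_antisymm
    · exact le_inf (inf_le_left.trans hAP) inf_le_right
    · exact le_inf le_sup_left inf_le_right
  have hAY' : A ⊓ Y' = V' := by
    apply le_antisymm
    · exact le_inf (inf_le_left.trans hAP) inf_le_right
    · exact le_inf le_sup_right inf_le_right
  rw [hAY, hAY']
  -- commutators
  have hC : ⁅V, V'⁆ ≤ Y ⊓ Y' := by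
    rw [Subgroup.commutator_le]
    intro v hv v' hv'
    obtain ⟨hv1, hv2⟩ := Subgroup.mem_inf.1 hv
    obtain ⟨hv'1, hv'2⟩ := Subgroup.mem_inf.1 hv'
    rw [commutatorElement_def]
    refine Subgroup.mem_inf.2 ⟨?_, ?_⟩
    · have h1 := (comm_mem_inf_of_normalizer hOY hv'1 (Y.inv_mem hv2))
      have h2 := Y.mul_mem hv2 (Subgroup.mem_inf.1 h1).2
      have h3 : v * (v' * v⁻¹ * v'⁻¹ * v⁻¹⁻¹) * v⁻¹ = v * v' * v⁻¹ * v'⁻¹ := by group
      rw [← h3]
      exact Y.mul_mem h2 (Y.inv_mem hv2)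
    · have h1 := (comm_mem_inf_of_normalizer hOY' hv1 hv'2)
      exact (Subgroup.mem_inf.1 h1).2
  have hCZ : ⁅V, V'⁆ ≤ Subgroup.center L := by
    rw [hcenter] at hC
    exact hC.trans inf_le_right
  haveI hCn : (⁅V, V'⁆ : Subgroup L).Normal := normal_of_le_center hCZ
  have hVV : ⁅V, V⁆ ≤ ⁅V, V'⁆ := by
    rw [Subgroup.commutator_le]
    intro a ha b hb
    have := habY a (Subgroup.mem_inf.1 ha).2 b (Subgroup.mem_inf.1 hb).2
    rw [commutatorElement_eq_one_iff_mul_comm.2 this]
    exact Subgroup.one_mem _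
  have hV'V' : ⁅V', V'⁆ ≤ ⁅V, V'⁆ := by
    rw [Subgroup.commutator_le]
    intro a ha b hb
    have := habY' a (Subgroup.mem_inf.1 ha).2 b (Subgroup.mem_inf.1 hb).2
    rw [commutatorElement_eq_one_iff_mul_comm.2 this]
    exact Subgroup.one_mem _
  have h1 : ⁅V, A⁆ ≤ ⁅V, V'⁆ :=
    Cfsg.Agent.H20.commutator_sup_right_le _ _ _ _ hVV le_rfl
  have h2 : ⁅V', A⁆ ≤ ⁅V, V'⁆ :=
    Cfsg.Agent.H20.commutator_sup_right_le _ _ _ _ (by rw [Subgroup.commutator_comm]) hV'V'
  have h3 : ⁅A, A⁆ ≤ ⁅V, V'⁆ := by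
    rw [Subgroup.commutator_comm]
    apply Cfsg.Agent.H20.commutator_sup_right_le
    · rw [Subgroup.commutator_comm]; exact h1
    · rw [Subgroup.commutator_comm]; exact h2
  have h4 : ⁅V, V'⁆ ≤ ⁅V, A⁆ := Subgroup.commutator_mono le_rfl le_sup_right
  have h5 : ⁅V, A⁆ ≤ ⁅A, A⁆ := Subgroup.commutator_mono le_sup_left le_rfl
  have e1 : ⁅A, A⁆ = ⁅V, A⁆ := le_antisymm (h3.trans h4) h5
  have e2 : ⁅V, A⁆ = ⁅V, V'⁆ := le_antisymm h1 h4
  have hZV : Y ⊓ Subgroup.center L ≤ V :=
    le_inf (inf_le_right.trans hZP) inf_le_left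
  have hZV' : Y ⊓ Subgroup.center L ≤ V' :=
    le_inf (inf_le_right.trans hZP) (hcenter ▸ inf_le_right)
  refine ⟨?_, e1, e2, ?_, hcenter, ?_, ?_⟩
  · -- Frattini
    have hAp : IsPGroup p A := hPp.to_le hAP
    apply le_antisymm
    · rw [← Subgroup.map_subtype_commutator]
      apply Subgroup.map_mono
      haveI : (commutator ↥A).Normal := inferInstance
      apply Cfsg.Agent.H01.frattini_le_of_comm_pow (p := p)
      · exact le_rfl
      · rintro ⟨x, hx⟩
        obtain ⟨v, hv, v', hv', rfl⟩ := hdecomp x hx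
        have hv1 : v ∈ A := Subgroup.mem_sup_left hv
        have hv2 : v' ∈ A := Subgroup.mem_sup_right hv'
        have e3 : (⟨v * v', hx⟩ : ↥A) = ⟨v, hv1⟩ * ⟨v', hv2⟩ := rfl
        rw [e3]
        refine pow_mul_mem_commutator ?_ ?_
        · ext
          exact hYel.2 v (Subgroup.mem_inf.1 hv).2
        · ext
          exact hpowY' v' (Subgroup.mem_inf.1 hv').2
    · rw [← Subgroup.map_subtype_commutator]
      apply Subgroup.map_mono
      exact Cfsg.Agent.H01.commutator_le_frattini_of_isPGroup (p := p) hAp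
  · rw [e2, ← hcenter]; exact hC
  · apply le_antisymm
    · rw [← hcenter]
      exact inf_le_inf inf_le_right inf_le_right
    · exact le_inf hZV hZV'
  · apply le_antisymm
    · intro a ha
      obtain ⟨ha1, ha2⟩ := Subgroup.mem_inf.1 ha
      obtain ⟨v, hv, v', hv', rfl⟩ := hdecomp a ha1
      have hvY := (Subgroup.mem_inf.1 hv).2
      have hv'Y' := (Subgroup.mem_inf.1 hv').2
      have hcv' : v' ∈ Subgroup.center L := by
        have e4 : Y ⊔ Y' ≤ Subgroup.centralizer ({v'} : Set L) := by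
          apply sup_le
          · intro y hy
            rw [Subgroup.mem_centralizer_iff]
            intro w hw
            rw [Set.mem_singleton_iff.1 hw]
            have e5 := Subgroup.mem_center_iff.1 ha2 y
            have e6 := habY v hvY y hy
            have e7 : v * (v' * y) = v * (y * v') := by
              calc v * (v' * y) = (v * v') * y := by group
                _ = y * (v * v') := e5.symm
                _ = (y * v) * v' := by group
                _ = v * y * v' := by rw [e6]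
                _ = v * (y * v') := by group
            exact mul_left_cancel e7
          · intro y hy
            rw [Subgroup.mem_centralizer_iff]
            intro w hw
            rw [Set.mem_singleton_iff.1 hw]
            exact habY' v' hv'Y' y hy
        rw [hsup] at e4
        rw [Subgroup.mem_center_iff]
        intro x
        have := Subgroup.mem_centralizer_iff.1 (e4 (Subgroup.mem_top x)) v' rfl
        exact this.symm
      have e8 : v' ∈ Y := hcenter' (Subgroup.mem_inf.2 ⟨hv'Y', hcv'⟩)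
      exact Subgroup.mem_inf.2 ⟨Y.mul_mem hvY e8, ha2⟩
    · exact le_inf (le_sup_left.trans' hZV) inf_le_right

end Cfsg.Agent.S2837
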