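import Cfsg.Statements.S2838
import Cfsg.Agent.Lib.H13.Weak

set_option autoImplicit false
open Cfsg

namespace Cfsg.Agent.S2838

open Cfsg.Agent.H13

/-- For a nontrivial p-subgroup Q of a finite group H the following are equivalent: Q is a weakly closed subgroup (it is the only H-conjugate of itself inside some Sylow p-subgroup containing it); Q = P for every conjugate P of Q with [Q, P] ≤ Q ∩ P; Q is normal in N_H(R) for every p-subgroup R of H containing Q. -/
theorem result {H : Type*} [Group H] [Finite H] {p : ℕ} [Fact p.Prime] (Q : Subgroup H) (hQp : IsPGroup p ↥Q) (hQ1 : Q ≠ ⊥) : (Cfsg.IsWeaklyClosedSubgroup p Q ↔ ∀ g : H, ⁅Q, ((Q : Subgroup H).map (MulAut.conj (g : H)).toMonoidHom)⁆ ≤ Q ⊓ ((Q : Subgroup H).map (MulAut.conj (g : H)).toMonoidHom) → ((Q : Subgroup H).map (MulAut.conj (g : H)).toMonoidHom) = Q) ∧ (Cfsg.IsWeaklyClosedSubgroup p Q ↔ ∀ R : Subgroup H, IsPGroup p ↥R → Q ≤ R → Subgroup.normalizer ((R : Subgroup H) : Set H) ≤ Subgroup.normalizer ((Q : Subgroup H) : Set H)) :=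 by
  have h12 : Cfsg.IsWeaklyClosedSubgroup p Q → ∀ g : H, ⁅Q, ((Q : Subgroup H).map (MulAut.conj (g : H)).toMonoidHom)⁆ ≤ Q ⊓ ((Q : Subgroup H).map (MulAut.conj (g : H)).toMonoidHom) → ((Q : Subgroup H).map (MulAut.conj (g : H)).toMonoidHom) = Q := by
    intro hw g hg
    have h1 := le_normalizer_of_commutator_le_right (hg.trans inf_le_right)
    have hR : IsPGroup p ↥(Q ⊔ Q.map (MulAut.conj g).toMonoidHom) :=
      IsPGroup.to_sup_of_normal_right' hQp (isPGroup_map_conj hQp) h1
    exact wc_conj_eq hw hR le_sup_left le_sup_right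
  have h21 : (∀ g : H, ⁅Q, ((Q : Subgroup H).map (MulAut.conj (g : H)).toMonoidHom)⁆ ≤ Q ⊓ ((Q : Subgroup H).map (MulAut.conj (g : H)).toMonoidHom) → ((Q : Subgroup H).map (MulAut.conj (g : H)).toMonoidHom) = Q) → Cfsg.IsWeaklyClosedSubgroup p Q := by
    intro hyp
    obtain ⟨T, hT⟩ := hQp.exists_le_sylow
    refine ⟨T, hT, fun g hg => ?_⟩
    -- K = ⟨Q, Q^g⟩ ≤ T
    set K := Q ⊔ Q.map (MulAut.conj g).toMonoidHom with hK
    have hKT : K ≤ T := sup_le hT hg
    have hKp : IsPGroup p K := T.2.to_le hKT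
    have h1 : K ≤ Subgroup.normalizer (Q : Set H) := by
      by_contra hn
      obtain ⟨k, -, hk1, hk2, hk3⟩ := exists_conj_normalize_of_not_normal hKp le_sup_left hn
      exact hk1 (hyp k (commutator_le_inf_of_normalize hk2 hk3))
    have h2 : K ≤ Subgroup.normalizer ((Q.map (MulAut.conj g).toMonoidHom : Subgroup H) : Set H) := by
      by_contra hn
      obtain ⟨k, -, hk1, hk2, hk3⟩ := exists_conj_normalize_of_not_normal hKp le_sup_right hn
      -- conjugate by g⁻¹
      have h3 : ⁅Q, Q.map (MulAut.conj (g⁻¹ * (k * g))).toMonoidHom⁆ ≤ Q ⊓ Q.map (MulAut.conj (g⁻¹ * (k * g))).toMonoidHom := by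
        apply commutator_le_inf_of_normalize
        · have h4 := map_conj_le_map_conj (g := g⁻¹) hk2
          rw [map_conj_inv_map_conj, map_conj_normalizer, map_conj_mul, map_conj_mul] at h4
          rwa [← mul_assoc]
        · have h4 := map_conj_le_map_conj (g := g⁻¹) hk3
          rw [map_conj_normalizer, map_conj_inv_map_conj, map_conj_mul, map_conj_mul] at h4
          rwa [← mul_assoc]
      have h5 := hyp _ h3
      apply hk1
      have h6 : (Q.map (MulAut.conj (g⁻¹ * (k * g))).toMonoidHom).map (MulAut.conj g).toMonoidHom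
          = Q.map (MulAut.conj g).toMonoidHom := by rw [h5]
      rw [map_conj_mul] at h6
      rw [map_conj_mul, ← h6]
      congr 3
      group
    exact hyp g (commutator_le_inf_of_normalize (le_sup_left.trans h2) (le_sup_right.trans h1))
  have h13 : Cfsg.IsWeaklyClosedSubgroup p Q → ∀ R : Subgroup H, IsPGroup p ↥R → Q ≤ R → Subgroup.normalizer ((R : Subgroup H) : Set H) ≤ Subgroup.normalizer ((Q : Subgroup H) : Set H) := by
    intro hw R hR hQR g hg
    apply mem_normalizer_of_map_conj_eq
    apply wc_conj_eq hw hR hQR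
    have := map_conj_eq_of_mem_normalizer hg
    rw [← this]
    exact Subgroup.map_mono hQR
  have h31 : (∀ R : Subgroup H, IsPGroup p ↥R → Q ≤ R → Subgroup.normalizer ((R : Subgroup H) : Set H) ≤ Subgroup.normalizer ((Q : Subgroup H) : Set H)) → Cfsg.IsWeaklyClosedSubgroup p Q := by
    intro hyp
    obtain ⟨T, hT⟩ := hQp.exists_le_sylow
    refine ⟨T, hT, fun g hg => ?_⟩
    -- T and T^g both normalize Q^g
    have h1 : (T : Subgroup H) ≤ Subgroup.normalizer ((Q.map (MulAut.conj g).toMonoidHom : Subgroup H) : Set H) := by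
      have h2 := hyp ((T : Subgroup H).map (MulAut.conj g⁻¹).toMonoidHom) (isPGroup_map_conj T.2)
        ((map_conj_le_iff).mp hg |> fun h => by simpa using h)
      have h3 := map_conj_le_map_conj (g := g) h2
      rw [map_conj_normalizer, map_conj_normalizer, map_conj_map_conj_inv] at h3
      exact (Subgroup.le_normalizer).trans h3
    have h1' : ((g • T : Sylow p H) : Subgroup H) ≤ Subgroup.normalizer ((Q.map (MulAut.conj g).toMonoidHom : Subgroup H) : Set H) := by
      have h2 := hyp T T.2 hT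
      have h3 := map_conj_le_map_conj (g := g) h2
      rw [map_conj_normalizer, map_conj_normalizer] at h3
      exact (Subgroup.le_normalizer).trans h3
    obtain ⟨n, hn, hn'⟩ := sylow_conj_of_le (g • T) T h1' h1
    have hcoe : ((g • T : Sylow p H) : Subgroup H) = (T : Subgroup H).map (MulAut.conj g).toMonoidHom := rfl
    rw [hcoe, map_conj_mul] at hn'
    have h4 : n * g ∈ Subgroup.normalizer ((T : Subgroup H) : Set H) :=
      mem_normalizer_of_map_conj_eq hn'.symm
    have h5 := hyp T T.2 hT h4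
    have h6 := map_conj_eq_of_mem_normalizer h5
    rw [← map_conj_mul, map_conj_eq_of_mem_normalizer hn] at h6
    exact h6
  exact ⟨⟨h12, h21⟩, ⟨h13, h31⟩⟩

end Cfsg.Agent.S2838
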