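import Cfsg.Statements.S2839
import Cfsg.Agent.Lib.H13.Residual

set_option autoImplicit false
open Cfsg

namespace Cfsg.Agent.S2839

open Cfsg.Agent.H13
open scoped Pointwise

/-- Let Q be a nontrivial p-subgroup of the finite group H that is a weakly closed subgroup, K a subgroup containing Q and N a normal subgroup of H. Then Q is a weakly closed subgroup of K; every H-conjugate of Q contained in K is a K-conjugate of Q; N_K(Q) contains a Sylow p-subgroup of K; N = N_N(Q)·O^p(N); and QN/N is a weakly closed subgroup of H/N. -/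
theorem result {H : Type*} [Group H] [Finite H] {p : ℕ} [Fact p.Prime] (Q : Subgroup H) (hQp : IsPGroup p ↥Q) (hQ1 : Q ≠ ⊥) (hwc : Cfsg.IsWeaklyClosedSubgroup p Q) (K : Subgroup H) (hQK : Q ≤ K) (N' : Subgroup H) [N'.Normal] : Cfsg.IsWeaklyClosedSubgroup p (Q.subgroupOf K) ∧ (∀ g : H, ((Q : Subgroup H).map (MulAut.conj (g : H)).toMonoidHom) ≤ K → ∃ k ∈ K, ((Q : Subgroup H).map (MulAut.conj (g : H)).toMonoidHom) = ((Q : Subgroup H).map (MulAut.conj (k : H)).toMonoidHom)) ∧ Cfsg.IsParabolic p ((Subgroup.normalizer ((Q : Subgroup H) : Set H)).subgroupOf K) ∧ (N' ⊓ Subgroup.normalizer ((Q : Subgroup H) : Set H)) ⊔ (Cfsg.pResidual p ↥N').map N'.subtype = N' ∧ Cfsg.IsWeaklyClosedSubgroup p (Q.map (QuotientGroup.mk' N')) := by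
  obtain ⟨T₀, hT₀⟩ := exists_sylow_subgroup_le hQK hQp
  refine ⟨?_, fun g hg => exists_conj_in hwc hQp hQK hg, ?_, ?_, ?_⟩
  · -- weakly closed in K
    refine ⟨T₀, ?_, ?_⟩
    · intro x hx
      obtain ⟨y, hy, hyx⟩ := hT₀ hx
      have : y = x := Subtype.ext hyx
      exact this ▸ hy
    · intro k hk
      have h1 : (Q.subgroupOf K).map (K.subtype) = Q := by
        rw [Subgroup.map_subgroupOf_eq_of_le hQK]
      have h2 : Q.map (MulAut.conj (k : H)).toMonoidHom ≤ (T₀ : Subgroup K).map K.subtype := by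
        rw [← h1, ← map_subtype_conj]
        exact Subgroup.map_mono hk
      have h3 := wc_conj_eq hwc (isPGroup_map_subtype T₀) hT₀ h2
      have h4 : ((Q.subgroupOf K).map (MulAut.conj k).toMonoidHom).map K.subtype = (Q.subgroupOf K).map K.subtype := by
        rw [map_subtype_conj, h1, h3]
      exact Subgroup.map_injective K.subtype_injective h4
  · refine ⟨T₀, ?_⟩
    intro t ht
    have h1 : (t : H) ∈ (T₀ : Subgroup K).map K.subtype := ⟨t, ht, rfl⟩
    exact pgroup_le_normalizer hwc (isPGroup_map_subtype T₀) hT₀ h1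
  · -- N = N_N(Q) O^p(N)
    obtain ⟨T, hT⟩ := hQp.exists_le_sylow
    obtain ⟨P, hP⟩ := exists_sylow_inf_normal T N'
    apply le_antisymm
    · refine sup_le inf_le_left ?_
      rintro _ ⟨x, -, rfl⟩
      exact x.2
    · have h1 := sylow_sup_pResidual P
      have h2 : N' = (⊤ : Subgroup N').map N'.subtype := by
        rw [← MonoidHom.range_eq_map, Subgroup.range_subtype]
      conv_lhs => rw [h2, ← h1, Subgroup.map_sup, hP]
      apply sup_le_sup_right
      refine le_inf inf_le_right (inf_le_left.trans ?_)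
      exact pgroup_le_normalizer hwc T.2 hT
  · -- quotient
    obtain ⟨T, hT⟩ := hQp.exists_le_sylow
    have hsurj : Function.Surjective (QuotientGroup.mk' N') := QuotientGroup.mk'_surjective _
    refine ⟨T.mapSurjective hsurj, Subgroup.map_mono hT, ?_⟩
    intro y hy
    obtain ⟨g, rfl⟩ := QuotientGroup.mk_surjective y
    have hconj : ∀ (g : H) (A : Subgroup H), (A.map (QuotientGroup.mk' N')).map (MulAut.conj (g : H ⧸ N')).toMonoidHom
        = (A.map (MulAut.conj g).toMonoidHom).map (QuotientGroup.mk' N') := by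
      intro g A
      rw [Subgroup.map_map, Subgroup.map_map]
      congr 1
    rw [hconj] at hy ⊢
    have h1 : Q.map (MulAut.conj g).toMonoidHom ≤ (T : Subgroup H) ⊔ N' := by
      have h2 : (Q.map (MulAut.conj g).toMonoidHom).map (QuotientGroup.mk' N') ≤ (T : Subgroup H).map (QuotientGroup.mk' N') := hy
      rw [Subgroup.map_le_map_iff, QuotientGroup.ker_mk'] at h2
      exact h2
    obtain ⟨k, hk, hkeq⟩ := exists_conj_in hwc hQp (hT.trans le_sup_left) h1
    have hk' : k ∈ ((T : Subgroup H) : Set H) * (N' : Set H) := by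
      rw [← Subgroup.mul_normal]; exact hk
    obtain ⟨t, ht, n, hn, rfl⟩ := Set.mem_mul.mp hk'
    -- k = t * n
    have h3 : Q.map (MulAut.conj (t * n)).toMonoidHom = Q.map (MulAut.conj ((t * n * t⁻¹) * t)).toMonoidHom := by
      congr 3; group
    rw [hkeq, h3, ← map_conj_mul, map_conj_eq_of_mem_normalizer (pgroup_le_normalizer hwc T.2 hT ht)]
    have hn' : t * n * t⁻¹ ∈ N' := ‹N'.Normal›.conj_mem n hn t
    rw [← hconj]
    have h4 : ((t * n * t⁻¹ : H) : H ⧸ N') = 1 := (QuotientGroup.eq_one_iff _).mpr hn'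
    rw [h4, map_conj_one]

end Cfsg.Agent.S2839
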