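import Cfsg.Statements.S2840
import Cfsg.Agent.Lib.H13.Residual

set_option autoImplicit false
open Cfsg

namespace Cfsg.Agent.S2840

open Cfsg.Agent.H13

/-- Let Q be a nontrivial p-subgroup of the finite group H that is a weakly closed subgroup and K a subgroup containing Q; let K° be the weak closure of Q in K (generated by the H-conjugates of Q inside K). Then K° is generated by the K-conjugates of Q, and K° is the subnormal closure of Q in K. -/
theorem result {H : Type*} [Group H] [Finite H] {p : ℕ} [Fact p.Prime] (Q : Subgroup H) (hQp : IsPGroup p ↥Q) (hQ1 : Q ≠ ⊥) (hwc : Cfsg.IsWeaklyClosedSubgroup p Q) (K : Subgroup H) (hQK : Q ≤ K) (Kc : Subgroup H) (hKc : Kc = Cfsg.weakClosure Q K) : Kc = ⨆ k : ↥K, ((Q : Subgroup H).map (MulAut.conj ((k : H) : H)).toMonoidHom) ∧ Kc = (Cfsg.subnormalClosure (Q.subgroupOf K)).map K.subtype := by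
  have h1 : Kc = ⨆ k : ↥K, ((Q : Subgroup H).map (MulAut.conj ((k : H) : H)).toMonoidHom) := by
    rw [hKc]
    apply le_antisymm
    · refine iSup_le ?_
      rintro ⟨g, hg⟩
      obtain ⟨k, hk, hgk⟩ := exists_conj_in hwc hQp hQK hg
      simp only
      rw [hgk]
      exact le_iSup (fun k : K => Q.map (MulAut.conj (k : H)).toMonoidHom) ⟨k, hk⟩
    · refine iSup_le ?_
      rintro ⟨k, hk⟩
      have hle : Q.map (MulAut.conj k).toMonoidHom ≤ K := by
        rintro _ ⟨q, hq, rfl⟩
        exact K.mul_mem (K.mul_mem hk (hQK hq)) (K.inv_mem hk)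
      exact le_iSup (fun g : {g : H // Q.map (MulAut.conj g).toMonoidHom ≤ K} =>
        Q.map (MulAut.conj (g : H)).toMonoidHom) ⟨k, hle⟩
  refine ⟨h1, ?_⟩
  rw [h1]
  have hmapQ : (Q.subgroupOf K).map K.subtype = Q := Subgroup.map_subgroupOf_eq_of_le hQK
  -- Every subnormal subgroup containing Q contains all its conjugates.
  have key : ∀ S : Subgroup K, S.IsSubnormal → Q.subgroupOf K ≤ S → ∀ k : K,
      Q.map (MulAut.conj (k : H)).toMonoidHom ≤ S.map K.subtype := by
    intro S hS
    induction hS with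
    | top =>
      intro _ k
      rintro _ ⟨q, hq, rfl⟩
      refine ⟨k * ⟨q, hQK hq⟩ * k⁻¹, trivial, ?_⟩
      simp [MulAut.conj_apply]
    | step S S' hle hS' hN ih =>
      intro hQS k
      have h2 := ih (hQS.trans hle) k
      have h3 : Q ≤ S'.map K.subtype := by
        rw [← hmapQ]
        exact Subgroup.map_mono (hQS.trans hle)
      obtain ⟨s, hs, hsk⟩ := exists_conj_in hwc hQp h3 h2
      rw [hsk]
      obtain ⟨s', hs', rfl⟩ := hs
      rintro _ ⟨q, hq, rfl⟩
      have hqS : (⟨q, hQK hq⟩ : K) ∈ S := hQS hq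
      have h5 : (⟨⟨q, hQK hq⟩, hle hqS⟩ : S') ∈ S.subgroupOf S' := hqS
      have h6 := hN.conj_mem _ h5 ⟨s', hs'⟩
      refine ⟨_, h6, ?_⟩
      simp [MulAut.conj_apply]
  apply le_antisymm
  · refine iSup_le fun k => ?_
    intro y hy
    have hyK : y ∈ K := by
      obtain ⟨q, hq, rfl⟩ := hy
      exact K.mul_mem (K.mul_mem k.2 (hQK hq)) (K.inv_mem k.2)
    refine ⟨⟨y, hyK⟩, ?_, rfl⟩
    show (⟨y, hyK⟩ : K) ∈ Cfsg.subnormalClosure (Q.subgroupOf K)
    unfold Cfsg.subnormalClosure
    rw [Subgroup.mem_sInf]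
    rintro S ⟨hQS, hS⟩
    obtain ⟨x, hx, hxy⟩ := key S hS hQS k hy
    have : x = ⟨y, hyK⟩ := Subtype.ext hxy
    exact this ▸ hx
  · set W : Subgroup H := ⨆ k : ↥K, ((Q : Subgroup H).map (MulAut.conj ((k : H) : H)).toMonoidHom) with hW
    have hWK : W ≤ K := by
      refine iSup_le ?_
      rintro k _ ⟨q, hq, rfl⟩
      exact K.mul_mem (K.mul_mem k.2 (hQK hq)) (K.inv_mem k.2)
    have hnorm : K ≤ Subgroup.normalizer (W : Set H) := by
      intro k₀ hk₀
      apply mem_normalizer_of_map_conj_le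
      rw [hW, Subgroup.map_iSup]
      refine iSup_le fun k => ?_
      rw [map_conj_mul]
      exact le_iSup (fun k : K => Q.map (MulAut.conj (k : H)).toMonoidHom) ⟨k₀ * k, K.mul_mem hk₀ k.2⟩
    have hN : (W.subgroupOf K).Normal := by
      constructor
      intro x hx y
      rw [Subgroup.mem_subgroupOf] at hx ⊢
      have hy := hnorm y.2
      rw [Subgroup.mem_normalizer_iff] at hy
      have := (hy (x : H)).mp hx
      simpa using this
    have hQW : Q.subgroupOf K ≤ W.subgroupOf K := by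
      intro x hx
      rw [Subgroup.mem_subgroupOf] at hx ⊢
      have h1 : Q ≤ W := by
        have := le_iSup (fun k : K => Q.map (MulAut.conj (k : H)).toMonoidHom) 1
        simp only [OneMemClass.coe_one] at this
        rwa [map_conj_one] at this
      exact h1 hx
    have hle : Cfsg.subnormalClosure (Q.subgroupOf K) ≤ W.subgroupOf K :=
      sInf_le ⟨hQW, hN.isSubnormal⟩
    have h2 := Subgroup.map_mono (f := K.subtype) hle
    rwa [Subgroup.map_subgroupOf_eq_of_le hWK] at h2

end Cfsg.Agent.S2840
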