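import Cfsg.Statements.S2843
import Cfsg.Agent.Lib.H13.LargeChar2

set_option autoImplicit false
open Cfsg

namespace Cfsg.Agent.S2843

open Cfsg.Agent.H13
open scoped commutatorElement Pointwise

theorem result {H : Type*} [Group H] [Finite H] {p : ℕ} [Fact p.Prime] (Q : Subgroup H) (hQp : IsPGroup p ↥Q) (hQ1 : Q ≠ ⊥) (hL : Cfsg.IsLarge Q) (L : Subgroup H) (hQL : Q ≤ L) (Y : Subgroup H) (hYp : IsPGroup p ↥Y) (hY1 : Y ≠ ⊥) (hLY : L ≤ Subgroup.normalizer ((Y : Subgroup H) : Set H)) : Cfsg.weakClosure Q L = Cfsg.weakClosure Q (L ⊔ Subgroup.centralizer ((Y : Subgroup H) : Set H)) ∧ ⁅Cfsg.weakClosure Q L, Subgroup.centralizer ((Y : Subgroup H) : Set H)⁆ ≤ (Cfsg.pCoreOf p (Cfsg.weakClosure Q L)) ∧ Subgroup.centralizer ((Y : Subgroup H) : Set H) ≤ Subgroup.normalizer (((Cfsg.weakClosure Q L) : Subgroup H) : Set H) := by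
  set C := Subgroup.centralizer ((Y : Subgroup H) : Set H) with hC
  have hLC : L ≤ Subgroup.normalizer (C : Set H) := hLY.trans (H01.normalizer_le_normalizer_centralizer Y)
  have hF1 : ∀ g : H, Q.map (MulAut.conj g).toMonoidHom ≤ L →
      C ≤ Subgroup.normalizer ((Q.map (MulAut.conj g).toMonoidHom : Subgroup H) : Set H) := fun g hg =>
    large_centralizer_le_normalizer (isPGroup_map_conj hQp) (isLarge_map_conj hL g) hYp hY1 (hg.trans hLY)
  have hCQ : C ≤ Subgroup.normalizer (Q : Set H) := by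
    have := hF1 1 (by rw [map_conj_one]; exact hQL)
    rwa [map_conj_one] at this
  set F : {g : H // Q.map (MulAut.conj g).toMonoidHom ≤ L} → Subgroup H :=
    fun g => Q.map (MulAut.conj (g : H)).toMonoidHom with hF
  have hW : weakClosure Q L = ⨆ g, F g := rfl
  have hFW : ∀ g : {g : H // Q.map (MulAut.conj g).toMonoidHom ≤ L}, F g ≤ weakClosure Q L := fun g =>
    le_iSup F g
  have hWL : weakClosure Q L ≤ L := iSup_le (fun g => g.2)
  have hCW : C ≤ Subgroup.normalizer (((weakClosure Q L) : Subgroup H) : Set H) :=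
    le_normalizer_iSup F C (fun g => hF1 g g.2)
  refine ⟨?_, ?_, hCW⟩
  · apply le_antisymm
    · apply iSup_le
      rintro ⟨g, hg⟩
      exact le_iSup (fun g : {g : H // Q.map (MulAut.conj g).toMonoidHom ≤ L ⊔ C} => Q.map (MulAut.conj (g : H)).toMonoidHom)
        ⟨g, hg.trans le_sup_left⟩
    · apply iSup_le
      rintro ⟨g, hg⟩
      obtain ⟨k, hk, hQk⟩ := exists_conj_in (isWeaklyClosedSubgroup_of_isLarge hQp hQ1 hL) hQp
        (hQL.trans (le_sup_left : L ≤ L ⊔ C)) hg
      have hk' : k ∈ ((L ⊔ C : Subgroup H) : Set H) := hk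
      rw [Subgroup.coe_mul_of_left_le_normalizer_right L C hLC] at hk'
      obtain ⟨l, hl, c, hc, rfl⟩ := Set.mem_mul.mp hk'
      have h2 : Q.map (MulAut.conj (l * c)).toMonoidHom = Q.map (MulAut.conj l).toMonoidHom := by
        rw [← map_conj_mul, map_conj_eq_of_mem_normalizer (hCQ hc)]
      have h3 : Q.map (MulAut.conj l).toMonoidHom ≤ L := by
        rintro _ ⟨q, hq, rfl⟩
        exact L.mul_mem (L.mul_mem hl (hQL hq)) (L.inv_mem hl)
      show Q.map (MulAut.conj g).toMonoidHom ≤ weakClosure Q L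
      rw [hQk, h2]
      exact hFW ⟨l, h3⟩
  · set F₀ : {g : H // Q.map (MulAut.conj g).toMonoidHom ≤ L} → Subgroup H := fun g => F g ⊓ C with hF₀
    set K₀ : Subgroup H := ⨆ g, F₀ g with hK₀
    have hF₀C : ∀ g, F₀ g ≤ C := fun g => inf_le_right
    have hK₀p : IsPGroup p K₀ := by
      apply isPGroup_iSup_of_pairwise_normalize
      · intro g
        exact (isPGroup_map_conj hQp).to_le inf_le_left
      · intro g h x hx
        exact mem_normalizer_inf (hF1 h h.2 (hF₀C g hx)) (Subgroup.le_normalizer (hF₀C g hx))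
    have hK₀W : K₀ ≤ weakClosure Q L := iSup_le (fun g => inf_le_left.trans (hFW g))
    have hLK₀ : L ≤ Subgroup.normalizer (K₀ : Set H) := by
      intro l hl
      apply mem_normalizer_of_map_conj_le
      rw [hK₀, Subgroup.map_iSup]
      apply iSup_le
      rintro ⟨g, hg⟩
      have h3 : Q.map (MulAut.conj (l * g)).toMonoidHom ≤ L := by
        rw [← map_conj_mul]
        rintro _ ⟨_, ⟨q, hq, rfl⟩, rfl⟩
        exact L.mul_mem (L.mul_mem hl (hg ⟨q, hq, rfl⟩)) (L.inv_mem hl)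
      refine le_trans ?_ (le_iSup F₀ ⟨l * g, h3⟩)
      show ((Q.map (MulAut.conj g).toMonoidHom) ⊓ C).map (MulAut.conj l).toMonoidHom ≤ (Q.map (MulAut.conj (l * g)).toMonoidHom) ⊓ C
      rw [map_conj_inf, map_conj_mul, map_conj_eq_of_mem_normalizer (hLC hl)]
    have hK₀O : K₀ ≤ pCoreOf p (weakClosure Q L) := le_pCoreOf hK₀W hK₀p (hWL.trans hLK₀)
    refine le_trans ?_ hK₀O
    rw [Subgroup.commutator_le]
    intro a ha c hc
    have key : a ∈ L ∧ ⁅a, c⁆ ∈ K₀ := by
      rw [hW] at ha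
      refine Subgroup.iSup_induction F (C := fun a => a ∈ L ∧ ⁅a, c⁆ ∈ K₀) ha ?_ ?_ ?_
      · intro g x hx
        refine ⟨g.2 hx, ?_⟩
        apply le_iSup F₀ g
        refine ⟨?_, ?_⟩
        · exact commutator_le_left_of_le_normalizer (hF1 g g.2) (Subgroup.commutator_mem_commutator hx hc)
        · exact commutator_le_right_of_le_normalizer (g.2.trans hLC) (Subgroup.commutator_mem_commutator hx hc)
      · simp
      · intro x y hx hy
        refine ⟨L.mul_mem hx.1 hy.1, ?_⟩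
        have h1 : ⁅x * y, c⁆ = (x * ⁅y, c⁆ * x⁻¹) * ⁅x, c⁆ := by
          simp only [commutatorElement_def]
          group
        rw [h1]
        exact K₀.mul_mem ((Subgroup.mem_normalizer_iff.mp (hLK₀ hx.1) _).mp hy.2) hx.2
    exact key.2

end Cfsg.Agent.S2843
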