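import Cfsg.Statements.S2845
import Cfsg.Agent.Lib.H13.LargeChar

set_option autoImplicit false
open Cfsg

namespace Cfsg.Agent.S2845

open Cfsg.Agent.H13

theorem result {H : Type*} [Group H] [Finite H] {p : ℕ} [Fact p.Prime] (Q : Subgroup H) (hQp : IsPGroup p ↥Q) (hQ1 : Q ≠ ⊥) (hL : Cfsg.IsLarge Q) : (∀ L : Subgroup H, Q ≤ L → Cfsg.pCore p ↥L ≠ ⊥ → IsPGroup p ↥(Subgroup.centralizer (((Cfsg.pCoreOf p L) : Subgroup H) : Set H)) ∧ Subgroup.centralizer (Cfsg.pCore p ↥L : Set ↥L) ≤ Cfsg.pCore p ↥L ∧ (Cfsg.weakClosure Q L = Q ∨ Subgroup.centralizer (((Cfsg.weakClosure Q L) : Subgroup H) : Set H) = ⊥)) ∧ (∀ R : Subgroup H, Cfsg.IsParabolic p R → Cfsg.pCore p ↥R ≠ ⊥ → Subgroup.centralizer (((Cfsg.pCoreOf p R) : Subgroup H) : Set H) ≤ (Cfsg.pCoreOf p R)) ∧ Cfsg.IsOfParabolicCharacteristic p H := by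
  have hpart2 : ∀ R : Subgroup H, Cfsg.IsParabolic p R → Cfsg.pCore p ↥R ≠ ⊥ →
      Subgroup.centralizer (((Cfsg.pCoreOf p R) : Subgroup H) : Set H) ≤ (Cfsg.pCoreOf p R) := by
    rintro R ⟨T, hT⟩ hO
    obtain ⟨T₀, hT₀⟩ := hQp.exists_le_sylow
    obtain ⟨g, hg⟩ := sylow_conj T₀ T
    have hQ' : Q.map (MulAut.conj g).toMonoidHom ≤ R := by
      refine le_trans ?_ hT
      rw [hg]
      exact Subgroup.map_mono hT₀
    have hQ'1 : Q.map (MulAut.conj g).toMonoidHom ≠ ⊥ := by
      intro h0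
      rw [Subgroup.map_eq_bot_iff_of_injective _ (MulAut.conj g).injective] at h0
      exact hQ1 h0
    obtain ⟨h1, h2⟩ := large_overgroup (isPGroup_map_conj hQp) hQ'1 (isLarge_map_conj hL g) hQ' hO
    have hTC : (T : Subgroup H) ≤ Subgroup.normalizer ((Subgroup.centralizer ((pCoreOf p R : Subgroup H) : Set H) : Subgroup H) : Set H) :=
      hT.trans ((pCoreOf_normalized R).trans (H01.normalizer_le_normalizer_centralizer _))
    have hsup : IsPGroup p ((T : Subgroup H) ⊔ Subgroup.centralizer ((pCoreOf p R : Subgroup H) : Set H) : Subgroup H) :=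
      IsPGroup.to_sup_of_normal_right' T.2 h1 hTC
    have hCT : Subgroup.centralizer ((pCoreOf p R : Subgroup H) : Set H) ≤ (T : Subgroup H) :=
      (T.is_maximal' hsup le_sup_left) ▸ le_sup_right
    exact (le_inf (hCT.trans hT) le_rfl).trans ((isCharP_subgroup_iff R).mp h2)
  refine ⟨?_, hpart2, ?_⟩
  · intro L hQL hO
    obtain ⟨h1, h2⟩ := large_overgroup hQp hQ1 hL hQL hO
    refine ⟨h1, h2, ?_⟩
    by_cases h0 : Subgroup.centralizer (((Cfsg.weakClosure Q L) : Subgroup H) : Set H) = ⊥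
    · exact Or.inr h0
    · left
      have hle : Q ≤ weakClosure Q L := by
        have h3 : Q.map (MulAut.conj (1 : H)).toMonoidHom ≤ weakClosure Q L :=
          le_iSup (fun g : {g : H // Q.map (MulAut.conj g).toMonoidHom ≤ L} => Q.map (MulAut.conj (g : H)).toMonoidHom)
            ⟨1, by rw [map_conj_one]; exact hQL⟩
        rwa [map_conj_one] at h3
      apply le_antisymm _ hle
      apply iSup_le
      rintro ⟨g, hg⟩
      have hgN : g ∈ Subgroup.normalizer (Q : Set H) := by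
        by_contra hgN
        have h3 := large_centralizer_inf_eq_bot hQp hQ1 hL hgN
        apply h0
        rw [eq_bot_iff, ← h3]
        refine le_inf (Subgroup.centralizer_le hle) (Subgroup.centralizer_le ?_)
        exact le_iSup (fun g : {g : H // Q.map (MulAut.conj g).toMonoidHom ≤ L} => Q.map (MulAut.conj (g : H)).toMonoidHom) ⟨g, hg⟩
      exact (map_conj_eq_of_mem_normalizer hgN).le
  · intro R hRp hR1 hpar
    have hRO : R ≤ pCoreOf p (Subgroup.normalizer (R : Set H)) :=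
      le_pCoreOf Subgroup.le_normalizer hRp le_rfl
    have hne : pCore p ↥(Subgroup.normalizer (R : Set H)) ≠ ⊥ := by
      intro h0
      apply hR1
      rw [eq_bot_iff]
      refine hRO.trans ?_
      unfold pCoreOf
      rw [h0, Subgroup.map_bot]
    have h1 := hpart2 _ hpar hne
    exact (isCharP_subgroup_iff _).mpr (inf_le_right.trans h1)

end Cfsg.Agent.S2845
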