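import Cfsg.Statements.S2846
import Cfsg.Agent.Lib.H13.FrakMExist
import Cfsg.Agent.Lib.H13.WeakFact

set_option autoImplicit false
open Cfsg

namespace Cfsg.Agent.S2846

open Cfsg.Agent.H13

/-- Let Q be a nontrivial large p-subgroup of the finite group H, S a Sylow p-subgroup containing Q, and L a subgroup containing S with O_p(L) ≠ 1 and C_H(O_p(L)) ≤ O_p(L). Then there are a subgroup M containing S having the basic property (M ∈ 𝔐_H, writing Y_X for the largest p-reduced normal subgroup of X and 𝓛_H for the set of subgroups X with O_p(X) ≠ 1 and C_H(O_p(X)) ≤ O_p(X): M ∈ 𝓛_H, M·C_H(Y_M) is the only maximal member of 𝓛_H containing M and its largest p-reduced normal subgroup is again Y_M, C_M(Y_M) is p-closed, and the image of C_M(Y_M) in M/O_p(M) lies in the Frattini subgroup of M/O_p(M)) and a subgroup L* with S ≤ L* ≤ M, O_p(L*) ≠ 1, C_H(O_p(L*)) ≤ O_p(L*), such that L·C_H(Y_L) = L*·C_H(Y_L), the weak closures of Q in L and in L* agree and lie in that of M, and Y_L = Y_{L*}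 ≤ Y_M. If moreover Q is not normal in L, then Q is normal in neither L* nor M. -/
theorem result {H : Type*} [Group H] [Finite H] {p : ℕ} [Fact p.Prime] (Q : Subgroup H) (hQp : IsPGroup p ↥Q) (hQ1 : Q ≠ ⊥) (hLg : Cfsg.IsLarge Q) (S : Sylow p H) (hQS : Q ≤ (S : Subgroup H)) (L : Subgroup H) (hSL : (S : Subgroup H) ≤ L) (hL : L ∈ Cfsg.charPSubgroups p H) : ∃ M Ls : Subgroup H, (S : Subgroup H) ≤ M ∧ Cfsg.IsInFrakM p M ∧ (S : Subgroup H) ≤ Ls ∧ Ls ≤ M ∧ Ls ∈ Cfsg.charPSubgroups p H ∧ L ⊔ Subgroup.centralizer (((Cfsg.largestPReducedOf p L) : Subgroup H) : Set H) = Ls ⊔ Subgroup.centralizer (((Cfsg.largestPReducedOf p L) : Subgroup H) : Set H) ∧ Cfsg.weakClosure Q L = Cfsg.weakClosure Q Ls ∧ Cfsg.weakClosure Q Ls ≤ Cfsg.weakClosure Q M ∧ (Cfsg.largestPReducedOf p L) = (Cfsg.largestPReducedOf p Ls) ∧ (Cfsg.largestPReducedOf p Ls) ≤ (Cfsg.largestPReducedOf p M) ∧ (¬ L ≤ Subgroup.normalizer ((Q : Subgroup H) : Set H) → ¬ Ls ≤ Subgroup.normalizer ((Q : Subgroup H) : Set H) ∧ ¬ M ≤ Subgroup.normalizer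 ((Q : Subgroup H) : Set H)) := by
  have hP : ∀ R : Subgroup H, (S : Subgroup H) ≤ R → pCore p ↥R ≠ ⊥ → R ∈ charPSubgroups p H := by
    intro R hSR hR1
    refine ⟨hR1, ?_⟩
    obtain ⟨h1, h2⟩ := large_overgroup hQp hQ1 hLg (hQS.trans hSR) hR1
    have hSC : (S : Subgroup H) ≤ Subgroup.normalizer ((Subgroup.centralizer ((pCoreOf p R : Subgroup H) : Set H) : Subgroup H) : Set H) :=
      (hSR.trans (pCoreOf_normalized R)).trans (H01.normalizer_le_normalizer_centralizer _)
    have hsup : IsPGroup p ((S : Subgroup H) ⊔ Subgroup.centralizer ((pCoreOf p R : Subgroup H) : Set H) : Subgroup H) :=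
      IsPGroup.to_sup_of_normal_right' S.2 h1 hSC
    have hCS : Subgroup.centralizer ((pCoreOf p R : Subgroup H) : Set H) ≤ (S : Subgroup H) :=
      (S.is_maximal' hsup le_sup_left) ▸ le_sup_right
    exact (le_inf (hCS.trans hSR) le_rfl).trans ((isCharP_subgroup_iff R).mp h2)
  obtain ⟨M, Ls, hSM, hM, hSLs, hLsM, hLsL, hsup, hYeq, hYle⟩ := exists_frakM S hP L hSL hL
  have hQLs := hQS.trans hSLs
  have hQL := hQS.trans hSL
  -- centralizer of `Y_L` normalizes `Q`
  have hY1 : largestPReducedOf p L ≠ ⊥ := largestPReducedOf_ne_bot hL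
  have hYp : IsPGroup p (largestPReducedOf p L : Subgroup H) :=
    H12.isPGroup_of_elementary (isElementaryAbelian_largestPReducedOf L)
  have hCN : Subgroup.centralizer ((largestPReducedOf p L : Subgroup H) : Set H) ≤ Subgroup.normalizer (Q : Set H) :=
    large_centralizer_le_normalizer hQp hLg hYp hY1 (hQL.trans H12.le_normalizer_largestPReducedOf)
  have hw := isWeaklyClosedSubgroup_of_isLarge hQp hQ1 hLg
  have hLNC : L ≤ Subgroup.normalizer ((Subgroup.centralizer ((largestPReducedOf p L : Subgroup H) : Set H) : Subgroup H) : Set H) :=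
    H12.le_normalizer_largestPReducedOf.trans (H01.normalizer_le_normalizer_centralizer _)
  have hLsNC : Ls ≤ Subgroup.normalizer ((Subgroup.centralizer ((largestPReducedOf p L : Subgroup H) : Set H) : Subgroup H) : Set H) := by
    rw [hYeq]
    exact H12.le_normalizer_largestPReducedOf.trans (H01.normalizer_le_normalizer_centralizer _)
  -- comparison of the weak closures
  have key : ∀ {A B : Subgroup H}, Q ≤ A → Q ≤ B →
      B ≤ Subgroup.normalizer ((Subgroup.centralizer ((largestPReducedOf p L : Subgroup H) : Set H) : Subgroup H) : Set H) →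
      A ≤ B ⊔ Subgroup.centralizer ((largestPReducedOf p L : Subgroup H) : Set H) →
      weakClosure Q A ≤ weakClosure Q B := by
    intro A B hQA hQB hBC hAB
    apply iSup_le
    rintro ⟨g, hg⟩
    obtain ⟨a, ha, e⟩ := exists_conj_in hw hQp hQA hg
    have ha' : a ∈ B ⊔ Subgroup.centralizer ((largestPReducedOf p L : Subgroup H) : Set H) := hAB ha
    rw [← SetLike.mem_coe, Subgroup.coe_mul_of_left_le_normalizer_right _ _ hBC, Set.mem_mul] at ha'
    obtain ⟨b, hb, c, hc, rfl⟩ := ha'
    change Q.map (MulAut.conj g).toMonoidHom ≤ _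
    rw [e, ← map_conj_mul, map_conj_eq_of_mem_normalizer (hCN hc)]
    apply conj_le_weakClosure
    rw [← map_conj_eq_of_mem_normalizer ((Subgroup.le_normalizer (H := B)) hb)]
    exact Subgroup.map_mono hQB
  refine ⟨M, Ls, hSM, hM, hSLs, hLsM, hLsL, hsup, ?_, ?_, hYeq, hYle, ?_⟩
  · apply le_antisymm
    · apply key hQL hQLs hLsNC
      rw [← hsup]
      exact le_sup_left
    · apply key hQLs hQL hLNC
      rw [hsup]
      exact le_sup_left
  · apply iSup_le
    rintro ⟨g, hg⟩
    exact conj_le_weakClosure (hg.trans hLsM)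
  · intro hLQ
    have hLs' : ¬ Ls ≤ Subgroup.normalizer (Q : Set H) := by
      intro h
      apply hLQ
      have h2 : Ls ⊔ Subgroup.centralizer ((largestPReducedOf p L : Subgroup H) : Set H) ≤ Subgroup.normalizer (Q : Set H) :=
        sup_le h hCN
      rw [← hsup] at h2
      exact le_sup_left.trans h2
    exact ⟨hLs', fun h => hLs' (hLsM.trans h)⟩

end Cfsg.Agent.S2846
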