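import Cfsg.Statements.S2847
import Cfsg.Agent.Lib.H13.FrakMExist

set_option autoImplicit false
open Cfsg

namespace Cfsg.Agent.S2847

open Cfsg.Agent.H13

/-- Let H be a finite group of parabolic characteristic p, T a Sylow p-subgroup and L a subgroup containing T with O_p(L) ≠ 1 and C_H(O_p(L)) ≤ O_p(L). Then there are M ≥ T with the basic property (M ∈ 𝔐_H) and L* with T ≤ L* ≤ M, O_p(L*) ≠ 1, C_H(O_p(L*)) ≤ O_p(L*), such that Y_L = Y_{L*} ≤ Y_M and L·C_H(Y_L) = L*·C_H(Y_L), Y denoting largest p-reduced normal subgroups. -/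
theorem result {H : Type*} [Group H] [Finite H] {p : ℕ} [Fact p.Prime] (hH : Cfsg.IsOfParabolicCharacteristic p H) (T : Sylow p H) (L : Subgroup H) (hTL : (T : Subgroup H) ≤ L) (hL : L ∈ Cfsg.charPSubgroups p H) : ∃ M Ls : Subgroup H, (T : Subgroup H) ≤ M ∧ Cfsg.IsInFrakM p M ∧ (T : Subgroup H) ≤ Ls ∧ Ls ≤ M ∧ Ls ∈ Cfsg.charPSubgroups p H ∧ (Cfsg.largestPReducedOf p L) = (Cfsg.largestPReducedOf p Ls) ∧ (Cfsg.largestPReducedOf p L) ≤ (Cfsg.largestPReducedOf p M) ∧ L ⊔ Subgroup.centralizer (((Cfsg.largestPReducedOf p L) : Subgroup H) : Set H) = Ls ⊔ Subgroup.centralizer (((Cfsg.largestPReducedOf p L) : Subgroup H) : Set H) := by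
  have hP : ∀ R : Subgroup H, (T : Subgroup H) ≤ R → pCore p ↥R ≠ ⊥ → R ∈ charPSubgroups p H := by
    intro R hTR hR1
    refine ⟨hR1, ?_⟩
    have hW : pCoreOf p R ≠ ⊥ := pCoreOf_ne_bot hR1
    have hRN : R ≤ Subgroup.normalizer ((pCoreOf p R : Subgroup H) : Set H) := pCoreOf_normalized R
    have hTN := hTR.trans hRN
    have hchar := hH (pCoreOf p R) (isPGroup_pCoreOf R) hW ⟨T, hTN⟩
    set N := Subgroup.normalizer ((pCoreOf p R : Subgroup H) : Set H) with hN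
    have h1 : pCoreOf p N ≤ pCoreOf p R :=
      le_pCoreOf ((H12.pCoreOf_le_sylow T hTN).trans hTR) (isPGroup_pCoreOf N)
        (hRN.trans (pCoreOf_normalized N))
    have h2 : pCoreOf p R ≤ pCoreOf p N :=
      le_pCoreOf ((pCoreOf_le R).trans hRN) (isPGroup_pCoreOf R) le_rfl
    have h3 : pCoreOf p N = pCoreOf p R := le_antisymm h1 h2
    have h4 := (isCharP_subgroup_iff N).1 hchar
    intro c hc
    have hcN : c ∈ N := centralizer_le_normalizer_of_le _ hc
    have h5 : c ∈ pCoreOf p N := by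
      apply h4
      refine ⟨hcN, ?_⟩
      rw [h3]
      exact hc
    rw [h3] at h5
    exact h5
  obtain ⟨M, Ls, hTM, hM, hTLs, hLsM, hLsL, hsup, hYeq, hYle⟩ := exists_frakM T hP L hTL hL
  exact ⟨M, Ls, hTM, hM, hTLs, hLsM, hLsL, hYeq, hYeq.le.trans hYle, hsup⟩

end Cfsg.Agent.S2847
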