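import Cfsg.Statements.S2848
import Cfsg.Agent.Lib.H13.PReduced

set_option autoImplicit false
open Cfsg

namespace Cfsg.Agent.S2848

open Cfsg.Agent.H13

/-- Standing hypotheses: G a finite group, S a Sylow p-subgroup, Q a nontrivial large p-subgroup of G contained in S (C_G(Q) ≤ Q and N_G(U) ≤ N_G(Q) for all nontrivial U ≤ C_G(Q)), and M a subgroup containing S with the basic property (M ∈ 𝔐_G(S)); Y_M denotes the largest p-reduced normal subgroup of M and M† = M·C_G(Y_M). Then O_p(M) is a weakly closed subgroup of M† (for p): it is the only M†-conjugate of itself inside some Sylow p-subgroup of M† containing it. -/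
theorem result {G : Type*} [Group G] [Finite G] {p : ℕ} [Fact p.Prime] (S : Sylow p G) (Q : Subgroup G) (hQp : IsPGroup p ↥Q) (hQ1 : Q ≠ ⊥) (hQS : Q ≤ (S : Subgroup G)) (hQ : Cfsg.IsLarge Q) (M : Subgroup G) (hSM : (S : Subgroup G) ≤ M) (hM : Cfsg.IsInFrakM p M) : Cfsg.IsWeaklyClosedSubgroup p (((Cfsg.pCoreOf p M)).subgroupOf (M ⊔ Subgroup.centralizer (((Cfsg.largestPReducedOf p M) : Subgroup G) : Set G))) := by
  set Y := largestPReducedOf p M with hY
  set D := M ⊔ Subgroup.centralizer ((Y : Subgroup G) : Set G) with hD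
  set P := pCoreOf p M with hP
  have hPp : IsPGroup p P := isPGroup_pCoreOf M
  have hMN : M ≤ Subgroup.normalizer (P : Set G) := pCoreOf_normalized M
  have hPS : P ≤ (S : Subgroup G) := by
    have hsup : IsPGroup p ((S : Subgroup G) ⊔ P : Subgroup G) :=
      IsPGroup.to_sup_of_normal_right' S.2 hPp (hSM.trans hMN)
    exact (S.is_maximal' hsup le_sup_left) ▸ le_sup_right
  have hPC : P ≤ Subgroup.centralizer ((Y : Subgroup G) : Set G) :=
    pCoreOf_le_centralizer_largestPReducedOf M
  have hDN : D ≤ Subgroup.normalizer ((Subgroup.centralizer ((Y : Subgroup G) : Set G) : Subgroup G) : Set G) :=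
    dagger_le_normalizer_centralizer_Y M
  have hSD : (S : Subgroup G) ≤ D := hSM.trans le_sup_left
  set A := M ⊓ Subgroup.centralizer ((Y : Subgroup G) : Set G) with hA
  have hclosed : IsPClosed p ↥A := hM.2.2.2.2.1
  -- every p-subgroup of A lies in the normal Sylow subgroup
  obtain ⟨R⟩ : Nonempty (Sylow p ↥A) := inferInstance
  set R₀ : Subgroup G := (R : Subgroup ↥A).map A.subtype with hR₀
  have hR₀p : IsPGroup p R₀ := isPGroup_map_subtype R
  have hR₀A : R₀ ≤ A := by
    rintro _ ⟨x, -, rfl⟩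
    exact x.2
  have hsub : ∀ B : Subgroup G, B ≤ A → IsPGroup p B → B ≤ R₀ := by
    intro B hBA hB
    obtain ⟨T, hT⟩ := exists_sylow_subgroup_le (K := A) hBA hB
    haveI : ((T : Subgroup ↥A)).Normal := hclosed T
    have h1 : (T : Subgroup ↥A) ≤ R := T.2.le_sylow_of_normal R
    exact hT.trans (Subgroup.map_mono h1)
  have hMA : M ≤ Subgroup.normalizer (A : Set G) := by
    intro m hm
    apply mem_normalizer_of_map_conj_eq
    rw [hA, map_conj_inf, map_conj_centralizer,
      map_conj_eq_of_mem_normalizer (Subgroup.le_normalizer hm),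
      map_conj_eq_of_mem_normalizer (le_normalizer_largestPReducedOf M hm)]
  have hR₀P : R₀ ≤ P := by
    apply le_pCoreOf (hR₀A.trans inf_le_left) hR₀p
    intro m hm
    apply mem_normalizer_of_map_conj_le
    apply hsub _ _ (isPGroup_map_conj hR₀p)
    have h2 := Subgroup.map_mono (f := (MulAut.conj m).toMonoidHom) hR₀A
    rwa [map_conj_eq_of_mem_normalizer (hMA hm)] at h2
  have hSA : (S : Subgroup G) ⊓ A ≤ P :=
    (hsub _ inf_le_right (S.2.to_le inf_le_left)).trans hR₀P
  refine ⟨S.subtype hSD, ?_, ?_⟩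
  · intro x hx
    exact hPS hx
  · intro g hg
    apply Subgroup.eq_of_le_of_card_ge
    · rintro _ ⟨x, hx, rfl⟩
      rw [Subgroup.mem_subgroupOf]
      have hxP : (x : G) ∈ P := hx
      have h3 : (g : G) * x * (g : G)⁻¹ ∈ (S : Subgroup G) := by
        have h4 := hg ⟨x, hx, rfl⟩
        have h5 : ((g * x * g⁻¹ : D) : G) ∈ (S : Subgroup G) := h4
        simpa using h5
      have h6 : (g : G) * x * (g : G)⁻¹ ∈ Subgroup.centralizer ((Y : Subgroup G) : Set G) :=
        (Subgroup.mem_normalizer_iff.mp (hDN g.2) _).mp (hPC hxP)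
      have h7 := hSA ⟨h3, ⟨hSM h3, h6⟩⟩
      simpa using h7
    · rw [card_map_conj]

end Cfsg.Agent.S2848
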