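import Cfsg.Statements.S2849
import Cfsg.Agent.Lib.H13.PReduced

set_option autoImplicit false
open Cfsg

namespace Cfsg.Agent.S2849

open Cfsg.Agent.H13
open scoped commutatorElement

/-- Standing hypotheses: G a finite group, S a Sylow p-subgroup, Q a nontrivial large p-subgroup of G contained in S (C_G(Q) ≤ Q and N_G(U) ≤ N_G(Q) for all nontrivial U ≤ C_G(Q)), and M a subgroup containing S with the basic property (M ∈ 𝔐_G(S)); Y_M denotes the largest p-reduced normal subgroup of M and M† = M·C_G(Y_M). Suppose Y_M is asymmetric in G. Then for every subgroup R with Y_M ≤ R ≤ M†, the normal closure of Y_M in N_G(R) is elementary abelian. -/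
theorem result {G : Type*} [Group G] [Finite G] {p : ℕ} [Fact p.Prime] (S : Sylow p G) (Q : Subgroup G) (hQp : IsPGroup p ↥Q) (hQ1 : Q ≠ ⊥) (hQS : Q ≤ (S : Subgroup G)) (hQ : Cfsg.IsLarge Q) (M : Subgroup G) (hSM : (S : Subgroup G) ≤ M) (hM : Cfsg.IsInFrakM p M) (hasym : ¬ Cfsg.IsSymmetricIn (Cfsg.largestPReducedOf p M)) (R : Subgroup G) (hYR : (Cfsg.largestPReducedOf p M) ≤ R) (hRM : R ≤ (M ⊔ Subgroup.centralizer (((Cfsg.largestPReducedOf p M) : Subgroup G) : Set G))) : Cfsg.IsElementaryAbelian p ((Subgroup.normalClosure ((((Cfsg.largestPReducedOf p M)).subgroupOf (Subgroup.normalizer ((R : Subgroup G) : Set G)) : Subgroup ↥(Subgroup.normalizer ((R : Subgroup G) : Set G))) : Set ↥(Subgroup.normalizer ((R : Subgroup G) : Set G)))).map (Subgroup.normalizer ((R : Subgroup G) : Set G)).subtype) := by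
  set Y := largestPReducedOf p M with hY
  set N := Subgroup.normalizer ((R : Subgroup G) : Set G) with hN
  have hYe : IsElementaryAbelian p Y := isElementaryAbelian_largestPReducedOf M
  have hRNY : R ≤ Subgroup.normalizer ((Y : Subgroup G) : Set G) :=
    hRM.trans (dagger_le_normalizer_Y M)
  have hYN : Y ≤ N := hYR.trans Subgroup.le_normalizer
  -- Y and Y^g commute for g ∈ N(R)
  have hcomm : ∀ g ∈ N, Y.map (MulAut.conj g).toMonoidHom ≤ Subgroup.centralizer ((Y : Subgroup G) : Set G) := by
    intro g hg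
    have hRg : R.map (MulAut.conj g).toMonoidHom = R := map_conj_eq_of_mem_normalizer hg
    have hYgR : Y.map (MulAut.conj g).toMonoidHom ≤ R := by
      have := Subgroup.map_mono (f := (MulAut.conj g).toMonoidHom) hYR
      rwa [hRg] at this
    have h1 : Y.map (MulAut.conj g).toMonoidHom ≤ Subgroup.normalizer ((Y : Subgroup G) : Set G) :=
      hYgR.trans hRNY
    have h2 : Y ≤ Subgroup.normalizer ((Y.map (MulAut.conj g).toMonoidHom : Subgroup G) : Set G) := by
      rw [← map_conj_normalizer]
      have h3 := Subgroup.map_mono (f := (MulAut.conj g).toMonoidHom) hRNY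
      rw [hRg] at h3
      exact hYR.trans h3
    have h4 := commutator_le_inf_of_normalize h2 h1
    have h5 : ⁅Y, Y.map (MulAut.conj g).toMonoidHom⁆ = ⊥ := by
      by_contra hne
      exact hasym ⟨g, hne, h4⟩
    intro y hy
    rw [Subgroup.mem_centralizer_iff]
    intro u hu
    have h6 : ⁅u, y⁆ ∈ ⁅Y, Y.map (MulAut.conj g).toMonoidHom⁆ :=
      Subgroup.commutator_mem_commutator hu hy
    rw [h5, Subgroup.mem_bot] at h6
    exact commutatorElement_eq_one_iff_mul_comm.mp h6
  let F : Set (Subgroup G) := {W | ∃ g ∈ N, W = Y.map (MulAut.conj g).toMonoidHom}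
  have hFe : IsElementaryAbelian p (sSup F) := by
    apply isElementaryAbelian_sSup
    · rintro _ ⟨g, -, rfl⟩
      exact isElementaryAbelian_map_conj hYe g
    · rintro _ ⟨a, ha, rfl⟩ _ ⟨b, hb, rfl⟩
      have h1 := hcomm (a⁻¹ * b) (N.mul_mem (N.inv_mem ha) hb)
      have h2 := Subgroup.map_mono (f := (MulAut.conj a).toMonoidHom) h1
      rwa [map_conj_centralizer, map_conj_mul, mul_inv_cancel_left] at h2
  apply isElementaryAbelian_of_le hFe
  set W := sSup F with hW
  have hWn : (W.subgroupOf N).Normal := by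
    constructor
    intro x hx n
    rw [Subgroup.mem_subgroupOf] at hx ⊢
    have h1 : (n : G) ∈ Subgroup.normalizer (W : Set G) := by
      apply mem_normalizer_of_map_conj_le
      rw [Subgroup.map_le_iff_le_comap]
      apply sSup_le
      rintro _ ⟨g, hg, rfl⟩
      rw [← Subgroup.map_le_iff_le_comap, map_conj_mul]
      exact le_sSup ⟨_, N.mul_mem n.2 hg, rfl⟩
    have := (Subgroup.mem_normalizer_iff.mp h1 _).mp hx
    simpa using this
  have hle : Subgroup.normalClosure ((Y.subgroupOf N : Subgroup N) : Set N) ≤ W.subgroupOf N := by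
    apply Subgroup.normalClosure_le_normal
    intro y hy
    have hyY : (y : G) ∈ Y := hy
    show (y : G) ∈ W
    apply (le_sSup (show Y ∈ F from ⟨1, N.one_mem, by rw [map_conj_one]⟩)) hyY
  intro z hz
  obtain ⟨w, hw, rfl⟩ := hz
  exact hle hw

end Cfsg.Agent.S2849
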