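import Cfsg.Statements.S2854
import Cfsg.Agent.Lib.H13.AsymH2

set_option autoImplicit false
open Cfsg

namespace Cfsg.Agent.S2854

open Cfsg.Agent.H13

/-- Standing hypotheses: G a finite group, S a Sylow p-subgroup, Q a nontrivial large p-subgroup of G contained in S, M a subgroup containing S with the basic property (M ∈ 𝔐_G(S)); Y_M the largest p-reduced normal subgroup of M and M† = M·C_G(Y_M). Suppose Y_M is asymmetric in G, H ∈ ℌ_G(O_p(M)), and H ≤ N_G(gQg⁻¹) for some g ∈ G. Then gQg⁻¹ ≤ O_p(H·gQg⁻¹) ≤ N_G(O_p(M)) ≤ N_G(Y_M) = M†; H is normal in H·gQg⁻¹ with O^p(H) = O^p(H·gQg⁻¹); and H·gQg⁻¹ is p-irreducible. -/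
theorem result {G : Type*} [Group G] [Finite G] {p : ℕ} [Fact p.Prime] (S : Sylow p G) (Q : Subgroup G) (hQp : IsPGroup p ↥Q) (hQ1 : Q ≠ ⊥) (hQS : Q ≤ (S : Subgroup G)) (hQ : Cfsg.IsLarge Q) (M : Subgroup G) (hSM : (S : Subgroup G) ≤ M) (hM : Cfsg.IsInFrakM p M) (hasym : ¬ Cfsg.IsSymmetricIn (Cfsg.largestPReducedOf p M)) (H : Subgroup G) (hH : Cfsg.IsInFrakH p M H) (g : G) (hHQ : H ≤ Subgroup.normalizer ((((Q : Subgroup G).map (MulAut.conj (g : G)).toMonoidHom) : Subgroup G) : Set G)) : ((Q : Subgroup G).map (MulAut.conj (g : G)).toMonoidHom) ≤ Cfsg.pCoreOf p (H ⊔ ((Q : Subgroup G).map (MulAut.conj (g : G)).toMonoidHom)) ∧ Cfsg.pCoreOf p (H ⊔ ((Q : Subgroup G).map (MulAut.conj (g : G)).toMonoidHom)) ≤ Subgroup.normalizer (((Cfsg.pCoreOf p M) : Subgroup G) : Set G) ∧ Subgroup.normalizer (((Cfsg.pCoreOf p M) : Subgroup G) : Set G) ≤ Subgroup.normalizer (((Cfsg.largestPReducedOf p M) : Subgroup G) : Set G)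 ∧ Subgroup.normalizer (((Cfsg.largestPReducedOf p M) : Subgroup G) : Set G) = (M ⊔ Subgroup.centralizer (((Cfsg.largestPReducedOf p M) : Subgroup G) : Set G)) ∧ (H.subgroupOf (H ⊔ ((Q : Subgroup G).map (MulAut.conj (g : G)).toMonoidHom))).Normal ∧ (Cfsg.pResidual p ↥H).map H.subtype = (Cfsg.pResidual p ↥(H ⊔ ((Q : Subgroup G).map (MulAut.conj (g : G)).toMonoidHom))).map (H ⊔ ((Q : Subgroup G).map (MulAut.conj (g : G)).toMonoidHom)).subtype ∧ Cfsg.IsPIrreducible p ↥(H ⊔ ((Q : Subgroup G).map (MulAut.conj (g : G)).toMonoidHom)) := by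
  have h : BasicSetup p S Q M := ⟨hQp, hQ1, hQS, hQ, hSM, hM⟩
  set Q' := (Q : Subgroup G).map (MulAut.conj (g : G)).toMonoidHom with hQ'
  have hQ'p : IsPGroup p Q' := isPGroup_map_conj hQp
  have hHX : H ≤ H ⊔ Q' := le_sup_left
  have h1 : Q' ≤ pCoreOf p (H ⊔ Q') :=
    le_pCoreOf le_sup_right hQ'p (sup_le hHQ Subgroup.le_normalizer)
  have hAH := h.pCoreOf_le_normalizer_frakH hasym hH hHX
  have hX : H ⊔ Q' = pCoreOf p (H ⊔ Q') ⊔ H :=
    le_antisymm (sup_le le_sup_right (h1.trans le_sup_left)) (sup_le (pCoreOf_le _) le_sup_left)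
  refine ⟨h1, h.pCoreOf_le_normalizer_of_le hasym (hH.2.1.trans hHX), h.normalizer_pCore_le_normalizer_Y,
    le_antisymm (normalizer_le_dagger hQp hQ1 hQ (hQS.trans hSM) hM h.Y_ne_bot
      ((isPGroup_pCoreOf M).to_le (largestPReducedOf_le_pCoreOf M)) (le_normalizer_largestPReducedOf M))
      (dagger_le_normalizer_Y M), ?_, BasicSetup.resG_eq_of_sup (isPGroup_pCoreOf _) hAH hX,
    h.isPIrreducible_frakH hasym hH hHX hX⟩
  exact (Subgroup.normal_subgroupOf_iff_le_normalizer hHX).2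
    (sup_le Subgroup.le_normalizer (h1.trans hAH))

end Cfsg.Agent.S2854
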