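import Cfsg.Statements.S2859
import Cfsg.Agent.Lib.H13.WeakFact2

set_option autoImplicit false

open Cfsg

namespace Cfsg.Agent.S2859

open Cfsg.Agent.H13
open scoped commutatorElement Pointwise

theorem result {G : Type*} [Group G] [Finite G] {p : ℕ} [Fact p.Prime] (Q : Subgroup G) (hQp : IsPGroup p ↥Q) (hQ1 : Q ≠ ⊥) (hwc : Cfsg.IsWeaklyClosedSubgroup p Q) (Hc : Subgroup G) (hHc : Hc = Cfsg.weakClosure Q ⊤) (H₁ H₂ : Subgroup G) (hn₁ : H₁ ≤ Hc ∧ Hc ≤ Subgroup.normalizer ((H₁ : Subgroup G) : Set G)) (hn₂ : H₂ ≤ Hc ∧ Hc ≤ Subgroup.normalizer ((H₂ : Subgroup G) : Set G)) (hprod : H₁ ⊔ H₂ = Hc) (hcomm : ⁅H₁, H₂⁆ ≤ Subgroup.normalizer ((Q : Subgroup G) : Set G)) (K₁ K₂ : Subgroup G) (hK₁ : K₁ = ((Cfsg.pResidual p ↥(Cfsg.weakClosure Q (H₁ ⊔ Q))).map ((Cfsg.weakClosure Q (H₁ ⊔ Q))).subtype)) (hK₂ : K₂ = ((Cfsg.pResidual p ↥(Cfsg.weakClosure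 Q (H₂ ⊔ Q))).map ((Cfsg.weakClosure Q (H₂ ⊔ Q))).subtype)) : (⁅K₁, Q⁆ = K₁ ∧ ⁅K₁, H₁⁆ = K₁ ∧ K₁ ≤ ⁅H₁, H₁⁆ ∧ Hc ≤ Subgroup.normalizer ((K₁ : Subgroup G) : Set G)) ∧ (⁅K₂, Q⁆ = K₂ ∧ ⁅K₂, H₂⁆ = K₂ ∧ K₂ ≤ ⁅H₂, H₂⁆ ∧ Hc ≤ Subgroup.normalizer ((K₂ : Subgroup G) : Set G)) ∧ K₁ ⊔ K₂ = ((Cfsg.pResidual p ↥Hc).map (Hc).subtype) ∧ ⁅K₁, K₂⁆ ≤ (Cfsg.pCoreOf p Hc) := by
  rw [pResidual_map_eq_ppGen] at hK₁ hK₂
  rw [pResidual_map_eq_ppGen]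
  have hQHc : Q ≤ Hc := by
    rw [hHc]
    exact le_weakClosure le_top
  obtain ⟨a1, a2, a3, a4, a5, a6, a7⟩ := wc_side hQp hwc hHc hn₁ hn₂ hprod hcomm
  have hcomm' : ⁅H₂, H₁⁆ ≤ Subgroup.normalizer ((Q : Subgroup G) : Set G) := by
    rw [Subgroup.commutator_comm]
    exact hcomm
  obtain ⟨b1, b2, b3, b4, b5, b6, b7⟩ := wc_side hQp hwc hHc hn₂ hn₁ (by rw [sup_comm]; exact hprod) hcomm'
  rw [← hK₁] at a1 a2 a3 a4 a5 a6 a7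
  rw [← hK₂] at b1 b2 b3 b4 b5 b6 b7
  refine ⟨⟨a1, a2, a3, a4⟩, ⟨b1, b2, b3, b4⟩, ?_, ?_⟩
  · apply le_antisymm
    · apply sup_le
      · rw [hK₁]
        exact ppGen_mono ((weakClosure_le _ _).trans (sup_le hn₁.1 hQHc))
      · rw [hK₂]
        exact ppGen_mono ((weakClosure_le _ _).trans (sup_le hn₂.1 hQHc))
    · have hY : Hc ≤ Subgroup.normalizer ((K₁ ⊔ K₂ : Subgroup G) : Set G) :=
        fun g hg => mem_normalizer_sup (a4 hg) (b4 hg)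
      have hstep : ∀ H K : Subgroup G, H ≤ Hc → K ≤ K₁ ⊔ K₂ → weakClosure Q (H ⊔ Q) = K ⊔ Q →
          H ≤ Subgroup.normalizer ((K₁ ⊔ K₂ ⊔ Q : Subgroup G) : Set G) := by
        intro H K hH hK e h hh
        apply mem_normalizer_of_map_conj_le
        rw [map_conj_sup, map_conj_eq_of_mem_normalizer (hY (hH hh))]
        apply sup_le le_sup_left
        have h1 : Q.map (MulAut.conj h).toMonoidHom ≤ H ⊔ Q := by
          rintro _ ⟨q, hq, rfl⟩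
          have hh' : h ∈ H ⊔ Q := Subgroup.mem_sup_left hh
          have hq' : q ∈ H ⊔ Q := Subgroup.mem_sup_right hq
          exact Subgroup.mul_mem _ (Subgroup.mul_mem _ hh' hq') (Subgroup.inv_mem _ hh')
        have h2 := conj_le_weakClosure h1
        rw [e] at h2
        exact h2.trans (sup_le (hK.trans le_sup_left) le_sup_right)
      have hHcY : Hc ≤ K₁ ⊔ K₂ ⊔ Q := by
        have h1 : Hc ≤ Subgroup.normalizer ((K₁ ⊔ K₂ ⊔ Q : Subgroup G) : Set G) := by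
          rw [← hprod]
          exact sup_le (hstep H₁ K₁ hn₁.1 le_sup_left a7) (hstep H₂ K₂ hn₂.1 le_sup_right b7)
        rw [hHc] at h1 ⊢
        exact weakClosure_le_of_normalized hQp hwc le_top le_sup_right h1
      calc ppGen p Hc ≤ ppGen p (K₁ ⊔ K₂ ⊔ Q) := ppGen_mono hHcY
        _ ≤ K₁ ⊔ K₂ := ppGen_sup_le hQp (hQHc.trans hY)
  · exact (Subgroup.commutator_mono le_rfl b5).trans a6

end Cfsg.Agent.S2859
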