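import Cfsg.Statements.S2860
import Cfsg.Agent.Lib.H13.QsAct
import Cfsg.Agent.S2843

set_option autoImplicit false
set_option linter.style.haveILetI false

open Cfsg

namespace Cfsg.Agent.S2860

open Cfsg.Agent.H13
open scoped commutatorElement Pointwise

theorem pResidual_map_le' {X Y : Type*} [Group X] [Group Y] {p : ℕ} (f : X →* Y) :
    (pResidual p X).map f ≤ pResidual p Y := by
  unfold pResidual
  rw [MonoidHom.map_closure]
  apply Subgroup.closure_mono
  rintro _ ⟨g, hg, rfl⟩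
  exact Nat.Coprime.coprime_dvd_left (orderOf_map_dvd f g) hg

theorem commutator_eq_top_of_surjective {X Y : Type*} [Group X] [Group Y] (f : X →* Y)
    (hf : Function.Surjective f) (h : commutator X = ⊤) : commutator Y = ⊤ := by
  have h1 : (commutator X).map f = commutator Y := by
    rw [commutator_def, commutator_def, Subgroup.map_commutator, ← MonoidHom.range_eq_map,
      MonoidHom.range_eq_top.2 hf]
  rw [← h1, h, ← MonoidHom.range_eq_map, MonoidHom.range_eq_top.2 hf]

theorem commutator_type_eq_top {G : Type*} [Group G] {R : Subgroup G} (h : ⁅R, R⁆ = R) :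
    commutator ↥R = ⊤ := by
  have h0 : (⊤ : Subgroup R).map R.subtype = R := by
    rw [← MonoidHom.range_eq_map, Subgroup.range_subtype]
  have h2 : (commutator R).map R.subtype = ⁅R, R⁆ := by
    rw [commutator_def, Subgroup.map_commutator, h0]
  rw [eq_top_iff]
  rintro ⟨x, hx⟩ -
  have h3 : x ∈ (commutator R).map R.subtype := by rw [h2, h]; exact hx
  obtain ⟨y, hy, rfl⟩ := h3
  exact hy

theorem result {G : Type*} [Group G] [Finite G] {p : ℕ} [Fact p.Prime] (Q : Subgroup G) (hQp : IsPGroup p ↥Q) (hQ1 : Q ≠ ⊥) (hQ : Cfsg.IsLarge Q) (U : Subgroup G) (hU : Cfsg.IsElementaryAbelian p U) (hU1 : U ≠ ⊥) (E : Subgroup G) (hQE : Q ≤ E) (hEU : E ≤ Subgroup.normalizer ((U : Subgroup G) : Set G)) (hQn : ¬ E ≤ Subgroup.normalizer ((Q : Subgroup G) : Set G)) [hn : ((Subgroup.centralizer ((U : Subgroup G) : Set G)).subgroupOf E).Normal] (hred : Cfsg.pCore p (↥E ⧸ (Subgroup.centralizer ((U : Subgroup G) : Set G)).subgroupOf E) = ⊥) (hqs : Cfsg.IsQuasisimple ↥(((Cfsg.pResidual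 p ↥E) ⊔ (Subgroup.centralizer ((U : Subgroup G) : Set G)).subgroupOf E).map (QuotientGroup.mk' ((Subgroup.centralizer ((U : Subgroup G) : Set G)).subgroupOf E)))) (Er : Subgroup G) (hEr : Er = ((Cfsg.pResidual p ↥(Cfsg.weakClosure Q E)).map ((Cfsg.weakClosure Q E)).subtype)) [hn2 : ((Subgroup.centralizer ((U : Subgroup G) : Set G)).subgroupOf Er).Normal] : ((Cfsg.pResidual p ↥E).map (E).subtype) ⊔ (E ⊓ Subgroup.centralizer ((U : Subgroup G) : Set G)) = Er ⊔ (E ⊓ Subgroup.centralizer ((U : Subgroup G) : Set G)) ∧ ⁅Er, Er⁆ = Er ∧ ((Cfsg.pResidual p ↥Er).map (Er).subtype) = Er ∧ Cfsg.IsQuasisimple (↥Er ⧸ (Subgroup.centralizer ((U : Subgroup G) : Set G)).subgroupOf Er) ∧ Cfsg.IsQuasisimple (↥Er ⧸ Cfsg.pCore p ↥Er) ∧ ∀ Y : Subgroup G, Y ≤ E → IsPGroup p ↥Y → ¬ Y ≤ Subgroup.centralizer ((U : Subgroup G) : Set G) → ⁅Er, Y⁆ = Er := by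
  classical
  set CU := Subgroup.centralizer ((U : Subgroup G) : Set G) with hCU
  set C' := CU.subgroupOf E with hC'
  set π := QuotientGroup.mk' C' with hπ
  have hπs : Function.Surjective π := QuotientGroup.mk'_surjective C'
  have hπk : ∀ e : E, π e = 1 ↔ (e : G) ∈ CU := by
    intro e
    change ((e : E) : E ⧸ C') = 1 ↔ _
    rw [QuotientGroup.eq_one_iff, hC', Subgroup.mem_subgroupOf]
  have hUp : IsPGroup p U := by
    intro x
    refine ⟨1, Subtype.ext ?_⟩
    simpa using hU.2 x x.2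
  set W := weakClosure Q E with hW
  have hWE : W ≤ E := weakClosure_le Q E
  have hQW : Q ≤ W := le_weakClosure hQE
  have hErv : Er = ppGen p W := by rw [hEr, pResidual_map_eq_ppGen]
  have hErW : Er ≤ W := by rw [hErv]; exact ppGen_le W
  have hErE : Er ≤ E := hErW.trans hWE
  have hB : ((pResidual p ↥E) ⊔ C').map π = pResidual p (↥E ⧸ C') := by
    have h1 : C'.map π = ⊥ := by
      rw [eq_bot_iff]
      rintro _ ⟨c, hc, rfl⟩
      exact (QuotientGroup.eq_one_iff c).2 hc
    rw [Subgroup.map_sup, h1, sup_bot_eq]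
    exact pResidual_map_surj π hπs
  rw [hB] at hqs
  set Rb := pResidual p (↥E ⧸ C') with hRb
  -- normalizers
  have hEWn : E ≤ Subgroup.normalizer ((W : Subgroup G) : Set G) :=
    le_trans Subgroup.le_normalizer (normalizer_le_normalizer_weakClosure Q E)
  have hEErn : E ≤ Subgroup.normalizer ((Er : Subgroup G) : Set G) := by
    rw [hErv]
    exact hEWn.trans (normalizer_le_normalizer_ppGen W)
  -- the image of `W`
  haveI hWn : (W.subgroupOf E).Normal := (Subgroup.normal_subgroupOf_iff_le_normalizer hWE).2 hEWn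
  haveI hNb : ((W.subgroupOf E).map π).Normal := Subgroup.Normal.map hWn π hπs
  have hQb : (Q.subgroupOf E).map π ≠ ⊥ := by
    intro h
    apply hQn
    have h1 : Q ≤ CU := by
      intro x hx
      have hxE := hQE hx
      have h2 : π ⟨x, hxE⟩ ∈ (Q.subgroupOf E).map π :=
        Subgroup.mem_map_of_mem π (show (⟨x, hxE⟩ : E) ∈ Q.subgroupOf E from hx)
      rw [h] at h2
      exact (hπk ⟨x, hxE⟩).1 h2
    have h3 : U ≤ Subgroup.centralizer (Q : Set G) := by
      intro u hu
      refine Subgroup.mem_centralizer_iff.2 ?_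
      intro x hx
      have h4 := Subgroup.mem_centralizer_iff.1 (h1 hx) u hu
      exact h4.symm
    exact hEU.trans (hQ.2 U h3 hU1)
  have hRbN : Rb ≤ (W.subgroupOf E).map π := by
    apply res_le_of_normal hred hqs (Q := (Q.subgroupOf E).map π)
    · exact (isPGroup_subgroupOf hQp).map _
    · exact hQb
    · exact Subgroup.map_mono (Subgroup.comap_mono hQW)
  let φ : ↥W →* ↥E ⧸ C' := π.comp (Subgroup.inclusion hWE)
  have hφrange : φ.range = (W.subgroupOf E).map π := by
    ext x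
    constructor
    · rintro ⟨w, rfl⟩
      exact ⟨Subgroup.inclusion hWE w, w.2, rfl⟩
    · rintro ⟨e, he, rfl⟩
      exact ⟨⟨e, he⟩, rfl⟩
  have hAeq : (pResidual p ↥W).map φ = Rb := by
    apply le_antisymm (pResidual_map_le' φ)
    conv_lhs => unfold pResidual
    rw [Subgroup.closure_le]
    intro x hx
    apply mem_map_pResidual_of_coprime φ _ hx
    rw [hφrange]
    exact hRbN (Subgroup.subset_closure hx)
  let ψ : ↥Er →* ↥E ⧸ C' := π.comp (Subgroup.inclusion hErE)
  have hψrange : ψ.range = Rb := by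
    rw [← hAeq]
    ext x
    constructor
    · rintro ⟨⟨r, hr⟩, rfl⟩
      have hr' := hr
      rw [hEr] at hr'
      obtain ⟨w, hw, rfl⟩ := hr'
      exact ⟨w, hw, rfl⟩
    · rintro ⟨w, hw, rfl⟩
      have hw' : (w : G) ∈ Er := by
        rw [hEr]; exact ⟨w, hw, rfl⟩
      exact ⟨⟨w, hw'⟩, rfl⟩
  have hψker : ψ.ker = CU.subgroupOf Er := by
    ext r
    rw [MonoidHom.mem_ker, Subgroup.mem_subgroupOf]
    exact hπk (Subgroup.inclusion hErE r)
  -- `S2843`
  have hS := (Cfsg.Agent.S2843.result Q hQp hQ1 hQ E hQE U hUp hU1 hEU).2.1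
  have hWCU : ∀ x ∈ W, ∀ k ∈ CU, x * k * x⁻¹ * k⁻¹ ∈ pCoreOf p W := by
    intro x hx k hk
    apply hS
    have := Subgroup.commutator_mem_commutator hx hk
    simpa [commutatorElement_def] using this
  -- perfectness
  have hperf : ⁅Er, Er⁆ = Er := by
    let F : {g : G // Q.map (MulAut.conj g).toMonoidHom ≤ E} → Subgroup ↥W :=
      fun g => (Q.map (MulAut.conj (g : G)).toMonoidHom).subgroupOf W
    have hF : ∀ g, IsPGroup p (F g) := fun g => isPGroup_subgroupOf (isPGroup_map_conj hQp)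
    have hle : ∀ g : {g : G // Q.map (MulAut.conj g).toMonoidHom ≤ E},
        Q.map (MulAut.conj (g : G)).toMonoidHom ≤ W := fun g => conj_le_weakClosure g.2
    have hgen : ⨆ g, F g = ⊤ := by
      rw [eq_top_iff]
      rintro ⟨x, hx⟩ -
      have h1 : (⨆ g : {g : G // Q.map (MulAut.conj g).toMonoidHom ≤ E},
          Q.map (MulAut.conj (g : G)).toMonoidHom) ≤ (⨆ g, F g).map W.subtype := by
        apply iSup_le
        intro g
        have h2 : (F g).map W.subtype = Q.map (MulAut.conj (g : G)).toMonoidHom :=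
          Subgroup.map_subgroupOf_eq_of_le (hle g)
        rw [← h2]
        exact Subgroup.map_mono (le_iSup F g)
      obtain ⟨y, hy, hy2⟩ := h1 hx
      have : y = ⟨x, hx⟩ := Subtype.ext hy2
      rwa [← this]
    have h1 := perfect_residual F hF hgen φ (CU.subgroupOf W)
      (by
        intro w hw
        rw [MonoidHom.mem_ker] at hw
        exact (hπk (Subgroup.inclusion hWE w)).1 hw)
      (by
        intro x k hk
        obtain ⟨y, hy, hy2⟩ := hWCU x x.2 k hk
        have : y = x * k * x⁻¹ * k⁻¹ := Subtype.ext hy2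
        rwa [← this])
      (by rw [hAeq]; exact H12.qs_perfect_at hqs)
    have h2 : (pResidual p ↥W).map W.subtype = Er := hEr.symm
    rw [← h2, ← Subgroup.map_commutator, h1]
  have hres : (pResidual p ↥Er).map Er.subtype = Er := by
    rw [pResidual_map_eq_ppGen]
    conv_lhs => rw [hErv]
    rw [ppGen_idem, ← hErv]
  have hrestop : pResidual p ↥Er = ⊤ := by
    rw [eq_top_iff]
    rintro ⟨x, hx⟩ -
    have h1 : x ∈ (pResidual p ↥Er).map Er.subtype := by rw [hres]; exact hx
    obtain ⟨y, hy, hy2⟩ := h1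
    have : y = ⟨x, hx⟩ := Subtype.ext hy2
    rwa [← this]
  have hptop : commutator ↥Er = ⊤ := commutator_type_eq_top hperf
  -- the `O_p` of `Er`
  have hOker : pCore p ↥Er ≤ ψ.ker := by
    intro o ho
    have hT : (pCore p ↥Er).map ψ ≤ pCore p (↥E ⧸ C') := by
      apply le_pCore
      · refine ⟨?_⟩
        rintro _ ⟨o', ho', rfl⟩ z
        obtain ⟨e, rfl⟩ := hπs z
        have h1 : (e : G) * o' * (e : G)⁻¹ ∈ pCoreOf p Er := by
          have h2 := (hEErn.trans (normalizer_le_normalizer_pCoreOf (p := p) Er)) e.2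
          exact (Subgroup.mem_normalizer_iff.1 h2 _).1 ⟨o', ho', rfl⟩
        obtain ⟨o'', ho'', h3⟩ := h1
        refine ⟨o'', ho'', ?_⟩
        have h4 : Subgroup.inclusion hErE o'' = e * Subgroup.inclusion hErE o' * e⁻¹ := by
          apply Subtype.ext
          exact h3
        change π (Subgroup.inclusion hErE o'') = π e * π (Subgroup.inclusion hErE o') * (π e)⁻¹
        rw [h4, map_mul, map_mul, map_inv]
      · exact (isPGroup_pCore (p := p) (G := ↥Er)).map _
    rw [hred] at hT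
    have h5 : ψ o ∈ (pCore p ↥Er).map ψ := Subgroup.mem_map_of_mem ψ ho
    exact hT h5
  have hcomO : ∀ x : ↥Er, ∀ k : ↥Er, (k : G) ∈ CU → x * k * x⁻¹ * k⁻¹ ∈ pCore p ↥Er := by
    intro x k hk
    have h1 : ((pCoreOf p W) ⊓ Er).subgroupOf Er ≤ pCore p ↥Er := by
      apply le_pCore
      · apply (Subgroup.normal_subgroupOf_iff_le_normalizer inf_le_right).2
        intro r hr
        have hr1 := (hErW.trans (pCoreOf_normalized (p := p) W)) hr
        have hr2 : r ∈ Subgroup.normalizer ((Er : Subgroup G) : Set G) := Subgroup.le_normalizer hr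
        exact mem_normalizer_inf hr1 hr2
      · exact isPGroup_subgroupOf ((isPGroup_pCoreOf W).to_le inf_le_left)
    apply h1
    rw [Subgroup.mem_subgroupOf]
    refine ⟨hWCU x (hErW x.2) k hk, (x * k * x⁻¹ * k⁻¹).2⟩
  refine ⟨?_, hperf, hres, ?_, ?_, ?_⟩
  · -- (1)
    apply le_antisymm
    · apply sup_le _ le_sup_right
      rintro _ ⟨e, he, rfl⟩
      have h1 : π e ∈ Rb := pResidual_map_le' π (Subgroup.mem_map_of_mem π he)
      rw [← hψrange] at h1
      obtain ⟨r, hr⟩ := h1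
      have h2 : Subgroup.inclusion hErE r⁻¹ * e ∈ C' := by
        rw [← QuotientGroup.eq_one_iff]
        have h3 : π (Subgroup.inclusion hErE r) = π e := hr
        change π (Subgroup.inclusion hErE r⁻¹ * e) = 1
        rw [map_mul, map_inv, map_inv, h3, inv_mul_cancel]
      have h3 : (e : G) = (r : G) * ((r : G)⁻¹ * e) := by group
      change (e : G) ∈ _
      rw [h3]
      refine Subgroup.mul_mem _ ((le_sup_left : Er ≤ _) r.2) ((le_sup_right : _ ≤ Er ⊔ (E ⊓ CU)) ⟨?_, ?_⟩)
      · exact E.mul_mem (E.inv_mem (hErE r.2)) e.2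
      · exact h2
    · apply sup_le _ le_sup_right
      apply le_sup_of_le_left
      rw [pResidual_map_eq_ppGen, hErv]
      exact ppGen_mono hWE
  · -- (4)
    have e : ↥Er ⧸ CU.subgroupOf Er ≃* ↥Rb := by
      haveI : ψ.ker.Normal := inferInstance
      exact (QuotientGroup.quotientMulEquivOfEq hψker.symm).trans
        ((QuotientGroup.quotientKerEquivRange ψ).trans (MulEquiv.subgroupCongr hψrange))
    exact Cfsg.Agent.H07.isQuasisimple_of_mulEquiv e.symm hqs
  · -- (5)
    haveI hOn : (pCore p ↥Er).Normal := Cfsg.Agent.H01.pCore_normal p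
    let ψ' : ↥Er →* ↥Rb := ψ.codRestrict Rb (fun r => by rw [← hψrange]; exact ⟨r, rfl⟩)
    have hψ's : Function.Surjective ψ' := by
      rintro ⟨x, hx⟩
      rw [← hψrange] at hx
      obtain ⟨r, rfl⟩ := hx
      exact ⟨r, rfl⟩
    have hψ'k : ∀ r, ψ' r = 1 ↔ ψ r = 1 := by
      intro r
      rw [Subtype.ext_iff]
      rfl
    let fbar : ↥Er ⧸ pCore p ↥Er →* ↥Rb := QuotientGroup.lift (pCore p ↥Er) ψ' (fun o ho => by
      rw [MonoidHom.mem_ker, hψ'k]; exact hOker ho)
    have hfbars : Function.Surjective fbar := by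
      intro x
      obtain ⟨r, rfl⟩ := hψ's x
      exact ⟨(r : ↥Er ⧸ pCore p ↥Er), rfl⟩
    refine isQuasisimple_of_central_ext ⟨commutator_eq_top_of_surjective (QuotientGroup.mk' (pCore p ↥Er))
      (QuotientGroup.mk'_surjective _) hptop⟩ fbar hfbars ?_ hqs
    intro a ha
    obtain ⟨k, rfl⟩ := QuotientGroup.mk_surjective a
    have hk : (k : G) ∈ CU := by
      have h1 : ψ' k = 1 := ha
      rw [hψ'k] at h1
      exact (hπk (Subgroup.inclusion hErE k)).1 h1
    rw [Subgroup.mem_center_iff]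
    intro z
    obtain ⟨x, rfl⟩ := QuotientGroup.mk_surjective z
    have h2 := hcomO x k hk
    rw [← QuotientGroup.eq_one_iff] at h2
    have h3 : ((x * k * x⁻¹ * k⁻¹ : ↥Er) : ↥Er ⧸ pCore p ↥Er) =
      (x : ↥Er ⧸ pCore p ↥Er) * k * (x : ↥Er ⧸ pCore p ↥Er)⁻¹ * (k : ↥Er ⧸ pCore p ↥Er)⁻¹ := rfl
    rw [h3] at h2
    have h5 := mul_inv_eq_one.1 h2
    exact mul_inv_eq_iff_eq_mul.1 h5
  · -- (6)
    intro Y hYE hYp hYC
    have hYb : (Y.subgroupOf E).map π ≠ ⊥ := by
      intro h
      apply hYC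
      intro y hy
      have hyE := hYE hy
      have h2 : π ⟨y, hyE⟩ ∈ (Y.subgroupOf E).map π :=
        Subgroup.mem_map_of_mem π (show (⟨y, hyE⟩ : E) ∈ Y.subgroupOf E from hy)
      rw [h] at h2
      exact (hπk ⟨y, hyE⟩).1 h2
    have hc := comm_res_eq hred hqs (Y := (Y.subgroupOf E).map π) ((isPGroup_subgroupOf hYp).map _) hYb
    set S := ⁅Er, Y⁆ with hS'
    have hSle : S ≤ Er := by
      rw [hS', Subgroup.commutator_le]
      intro x hx y hy
      have h1 : y * x⁻¹ * y⁻¹ ∈ Er :=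
        (Subgroup.mem_normalizer_iff.1 (hEErn (hYE hy)) _).1 (Er.inv_mem hx)
      have h2 : ⁅x, y⁆ = x * (y * x⁻¹ * y⁻¹) := by
        rw [commutatorElement_def]; group
      rw [h2]
      exact Er.mul_mem hx h1
    -- covering
    have hcov : ∀ r ∈ Er, ∃ s ∈ S, s⁻¹ * r ∈ CU := by
      intro r hr
      have hrE := hErE hr
      have h1 : π ⟨r, hrE⟩ ∈ Rb := by
        rw [← hψrange]
        exact ⟨⟨r, hr⟩, rfl⟩
      have hRbv : Rb = (Er.subgroupOf E).map π := by
        rw [← hψrange]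
        ext x
        constructor
        · rintro ⟨r', rfl⟩
          exact ⟨Subgroup.inclusion hErE r', r'.2, rfl⟩
        · rintro ⟨e, he, rfl⟩
          exact ⟨⟨e, he⟩, rfl⟩
      have hc' : ⁅Rb, (Y.subgroupOf E).map π⁆ = Rb := hc
      rw [← hc'] at h1
      nth_rewrite 1 [hRbv] at h1
      rw [← Subgroup.map_commutator] at h1
      obtain ⟨ŝ, hŝ, hŝ2⟩ := h1
      have hŝS : (ŝ : G) ∈ S := by
        have h3 : (⁅Er.subgroupOf E, Y.subgroupOf E⁆).map E.subtype = S := by
          rw [Subgroup.map_commutator, Subgroup.map_subgroupOf_eq_of_le hErE,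
            Subgroup.map_subgroupOf_eq_of_le hYE]
        rw [← h3]
        exact ⟨ŝ, hŝ, rfl⟩
      refine ⟨ŝ, hŝS, ?_⟩
      have h4 := (hπk (ŝ⁻¹ * ⟨r, hrE⟩)).1 (by rw [map_mul, map_inv, hŝ2, inv_mul_cancel])
      exact h4
    -- normality
    haveI hS0n : (S.subgroupOf Er).Normal :=
      (Subgroup.normal_subgroupOf_iff_le_normalizer hSle).2
        (fun a ha => H12.conj_left_mem_normalizer_commutator ha)
    -- the quotient
    have hcT : commutator (↥Er ⧸ S.subgroupOf Er) = ⊤ :=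
      commutator_eq_top_of_surjective (QuotientGroup.mk' (S.subgroupOf Er)) (QuotientGroup.mk'_surjective _) hptop
    have hdec : ∀ a : ↥Er, ∃ k : ↥Er, (k : G) ∈ CU ∧
        ((a : ↥Er) : ↥Er ⧸ S.subgroupOf Er) = ((k : ↥Er) : ↥Er ⧸ S.subgroupOf Er) := by
      intro a
      obtain ⟨s, hs, hsk⟩ := hcov a a.2
      refine ⟨⟨s⁻¹ * a, Er.mul_mem (Er.inv_mem (hSle hs)) a.2⟩, hsk, ?_⟩
      rw [QuotientGroup.eq, Subgroup.mem_subgroupOf]
      have : (((a : ↥Er)⁻¹ * (⟨s⁻¹ * a, Er.mul_mem (Er.inv_mem (hSle hs)) a.2⟩ : ↥Er) : ↥Er) : G) =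
          (a : G)⁻¹ * (s⁻¹ * a) := rfl
      rw [this]
      have h7 : (a : G)⁻¹ * (s⁻¹ * a) = ((a : G)⁻¹ * s * a)⁻¹ := by group
      rw [h7]
      apply S.inv_mem
      have h8 := (hSle.trans (le_refl _)) hs
      have h9 := (Subgroup.mem_normalizer_iff.1
        (H12.conj_left_mem_normalizer_commutator (A := Er) (B := Y) (Er.inv_mem a.2)) s).1 hs
      simpa using h9
    have hcomm_le : commutator (↥Er ⧸ S.subgroupOf Er) ≤
        (pCore p ↥Er).map (QuotientGroup.mk' (S.subgroupOf Er)) := by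
      rw [commutator_def, Subgroup.commutator_le]
      intro a _ b _
      obtain ⟨a', rfl⟩ := QuotientGroup.mk_surjective a
      obtain ⟨b', rfl⟩ := QuotientGroup.mk_surjective b
      obtain ⟨k₁, hk₁, he₁⟩ := hdec a'
      obtain ⟨k₂, hk₂, he₂⟩ := hdec b'
      rw [he₁, he₂]
      have h1 := hcomO k₁ k₂ hk₂
      refine ⟨_, h1, ?_⟩
      simp [commutatorElement_def]
    have hpT : IsPGroup p (↥Er ⧸ S.subgroupOf Er) := by
      intro t
      have h1 : t ∈ (pCore p ↥Er).map (QuotientGroup.mk' (S.subgroupOf Er)) :=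
        hcomm_le (by rw [hcT]; trivial)
      obtain ⟨o, ho, rfl⟩ := h1
      obtain ⟨k, hk⟩ := (isPGroup_pCore (p := p) (G := ↥Er)) ⟨o, ho⟩
      refine ⟨k, ?_⟩
      have h2 : o ^ p ^ k = 1 := congrArg Subtype.val hk
      rw [← map_pow, h2, map_one]
    have h1 := H12.pResidual_le_of_isPGroup_quotient (S.subgroupOf Er) hpT
    rw [hrestop] at h1
    apply le_antisymm hSle
    intro x hx
    have h2 := h1 (Subgroup.mem_top (⟨x, hx⟩ : ↥Er))
    exact h2

end Cfsg.Agent.S2860
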