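import Cfsg.Statements.S2864
import Cfsg.Agent.Lib.H13.BasicProp

set_option autoImplicit false

open Cfsg

namespace Cfsg.Agent.S2864

open Cfsg.Agent.H13
open scoped commutatorElement Pointwise

theorem result {G : Type*} [Group G] [Finite G] {p : ℕ} [Fact p.Prime] (S : Sylow p G) (Q : Subgroup G) (hQp : IsPGroup p ↥Q) (hQ1 : Q ≠ ⊥) (hQS : Q ≤ (S : Subgroup G)) (hQ : Cfsg.IsLarge Q) (M : Subgroup G) (hSM : (S : Subgroup G) ≤ M) (hM : Cfsg.IsInFrakM p M) (I : Subgroup G) (hI1 : I ≠ ⊥) (hIp : IsPGroup p ↥I) (hIM : I ≤ M ∧ M ≤ Subgroup.normalizer ((I : Subgroup G) : Set G)) (Y : Subgroup G) (hY : Y ≤ (Cfsg.pCoreOf p (M ⊔ Subgroup.centralizer (((Cfsg.largestPReducedOf p M) : Subgroup G) : Set G)))) (L : Subgroup G) (hYL : Y ≤ L) (A : Subgroup G) (hAp : IsPGroup p ↥A) (hAL : A ≤ L ∧ L ≤ Subgroup.normalizer ((A : Subgroup G) : Set G)) (hIA : I ≤ A) (hAM : A ≤ M) (hc : ⁅Y, A⁆ ≤ ⁅I, A⁆) :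 Y ≤ (Cfsg.pCoreOf p L) := by
  have hdag := normalizer_le_dagger hQp hQ1 hQ (hQS.trans hSM) hM hI1 hIp hIM.2
  apply le_pCoreOf_of_comm_le hAp hAL.2 hYL (hc.trans (Subgroup.commutator_mono hIA le_rfl)) hY
    (isPGroup_pCoreOf _)
  intro g hg
  have h1 : g ∈ Subgroup.centralizer (I : Set G) := centralizer_antitone hIA (Subgroup.mem_inf.1 hg).2
  have h2 := hdag (centralizer_le_normalizer_of_le I h1)
  exact pCoreOf_normalized _ h2

end Cfsg.Agent.S2864
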