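import Cfsg.Statements.S2872
import Cfsg.Agent.Lib.H13.TransferInv

set_option autoImplicit false
open Cfsg

namespace Cfsg.Agent.S2872

open Cfsg.Agent.H13

theorem result {G : Type*} [Group G] [Finite G] (S : Sylow 2 G) : Cfsg.pResidual 2 G ≠ ⊤ ∨ Cfsg.omegaOne 2 ((S : Subgroup G) ⊓ Subgroup.centralizer ((S : Subgroup G) : Set G)) ≤ (frattini ↥(S : Subgroup G)).map (S : Subgroup G).subtype ∨ ∃ g ∈ Subgroup.normalizer ((S : Subgroup G) : Set G), ∃ z ∈ Cfsg.omegaOne 2 ((S : Subgroup G) ⊓ Subgroup.centralizer ((S : Subgroup G) : Set G)), g * z * g⁻¹ ≠ z := by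
  by_contra hcon
  push Not at hcon
  obtain ⟨hres, hnot, hall⟩ := hcon
  obtain ⟨t, ⟨htS, htC⟩, ht2, htΦ⟩ : ∃ t, t ∈ (S : Subgroup G) ⊓ Subgroup.centralizer ((S : Subgroup G) : Set G) ∧ t ^ 2 = 1 ∧ t ∉ (frattini ↥(S : Subgroup G)).map (S : Subgroup G).subtype := by
    by_contra hno
    push Not at hno
    apply hnot
    rw [Cfsg.omegaOne, Subgroup.closure_le]
    rintro t ⟨h1, h2⟩
    exact hno t h1 h2
  have htF : (⟨t, htS⟩ : (S : Subgroup G)) ∉ frattini ↥(S : Subgroup G) := fun h => htΦ ⟨_, h, rfl⟩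
  rw [H01.mem_frattini_iff] at htF
  push Not at htF
  obtain ⟨M, hM, htM⟩ := htF
  obtain ⟨hMn, hMi⟩ := H01.isCoatom_normal_index S.2 hM
  haveI := hMn
  obtain ⟨K, hKn, hKi⟩ := exists_index_two_of_central_involution (S : Subgroup G) S.2 S.not_dvd_index M hMi htS
    (fun u hu => Subgroup.mem_centralizer_iff.mp htC u hu) ht2 htM
    (fun g hg => hall g hg t (Subgroup.subset_closure ⟨⟨htS, htC⟩, ht2⟩))
  have hle : Cfsg.pResidual 2 G ≤ K := by
    rw [Cfsg.pResidual, Subgroup.closure_le]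
    intro g hg
    have h1 : Nat.card (G ⧸ K) = 2 := hKi
    have h2 : orderOf (g : G ⧸ K) ∣ 2 := h1 ▸ orderOf_dvd_natCard _
    have h3 : orderOf (g : G ⧸ K) ∣ orderOf g := orderOf_map_dvd (QuotientGroup.mk' K) g
    have h4 : orderOf (g : G ⧸ K) = 1 := Nat.Coprime.eq_one_of_dvd (Nat.Coprime.coprime_dvd_left h3 hg) h2
    exact (QuotientGroup.eq_one_iff g).mp (orderOf_eq_one_iff.mp h4)
  rw [hres, top_le_iff] at hle
  rw [hle, Subgroup.index_top] at hKi
  exact absurd hKi (by norm_num)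

end Cfsg.Agent.S2872
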