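import Cfsg.Statements.S2873
import Cfsg.Agent.Lib.H13.Basic

set_option autoImplicit false

open Cfsg

namespace Cfsg.Agent.S2873

open Cfsg.Agent.H13

section aux

variable {G : Type*} [Group G] [Finite G]

theorem exists_conj_of_coset_aux (Q : Subgroup G) [hQ : Q.Normal] (x : G)
    (hx : ∀ q ∈ Q, q * x = x * q → q = 1) (u : G) (hu : u * x⁻¹ ∈ Q) :
    ∃ q ∈ Q, q * x * q⁻¹ = u := by
  let φ : Q → Q := fun q => ⟨q * x * (q:G)⁻¹ * x⁻¹, by
    have h : (q:G) * x * (q:G)⁻¹ * x⁻¹ = q * (x * (q:G)⁻¹ * x⁻¹) := by group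
    rw [h]
    exact Q.mul_mem q.2 (hQ.conj_mem _ (Q.inv_mem q.2) x)⟩
  have hφ : Function.Injective φ := by
    intro q₁ q₂ h
    have h' : (q₁:G) * x * (q₁:G)⁻¹ * x⁻¹ = q₂ * x * (q₂:G)⁻¹ * x⁻¹ := congrArg Subtype.val h
    have h2 : (q₁:G) * x * (q₁:G)⁻¹ = q₂ * x * (q₂:G)⁻¹ := mul_right_cancel h'
    have h3 : (q₂:G)⁻¹ * q₁ = 1 := by
      apply hx _ (Q.mul_mem (Q.inv_mem q₂.2) q₁.2)
      have h4 : (q₁:G) * x = q₂ * x * (q₂:G)⁻¹ * q₁ := by
        rw [← h2]; group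
      calc (q₂:G)⁻¹ * q₁ * x = (q₂:G)⁻¹ * ((q₁:G) * x) := by group
        _ = (q₂:G)⁻¹ * (q₂ * x * (q₂:G)⁻¹ * q₁) := by rw [h4]
        _ = x * ((q₂:G)⁻¹ * q₁) := by group
    apply Subtype.ext
    have h5 : (q₁:G) = q₂ := by
      calc (q₁:G) = q₂ * ((q₂:G)⁻¹ * q₁) := by group
        _ = q₂ := by rw [h3, mul_one]
    exact h5
  obtain ⟨q, hq⟩ := (Finite.injective_iff_surjective.1 hφ) ⟨u * x⁻¹, hu⟩
  have hq' : (q:G) * x * (q:G)⁻¹ * x⁻¹ = u * x⁻¹ := congrArg Subtype.val hq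
  exact ⟨q, q.2, mul_right_cancel hq'⟩

/-- Involutions in the coset `Qa`. -/
def invCoset (Q : Subgroup G) (a : G) : Type _ := {b : G // b * a⁻¹ ∈ Q ∧ b * b = 1}

instance (Q : Subgroup G) (a : G) : Finite (invCoset Q a) := Subtype.finite

theorem orbit_inj_aux (Q : Subgroup G) [hQ : Q.Normal] (a : G) (ha : a * a = 1) :
    ∃ ψ : (Q ⧸ (Q ⊓ Subgroup.centralizer ({a} : Set G)).subgroupOf Q) → invCoset Q a,
      Function.Injective ψ ∧ ∀ q : Q, (ψ (q : Q ⧸ (Q ⊓ Subgroup.centralizer ({a} : Set G)).subgroupOf Q)).1 = q * a * (q:G)⁻¹ := by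
  have hmem : ∀ (q : Q), ((q:G) * a * (q:G)⁻¹) * a⁻¹ ∈ Q ∧ ((q:G) * a * (q:G)⁻¹) * ((q:G) * a * (q:G)⁻¹) = 1 := by
    intro q
    constructor
    · have h : ((q:G) * a * (q:G)⁻¹) * a⁻¹ = q * (a * (q:G)⁻¹ * a⁻¹) := by group
      rw [h]
      exact Q.mul_mem q.2 (hQ.conj_mem _ (Q.inv_mem q.2) a)
    · calc ((q:G) * a * (q:G)⁻¹) * ((q:G) * a * (q:G)⁻¹) = q * (a * a) * (q:G)⁻¹ := by group
        _ = 1 := by rw [ha]; group
  have hcomm : ∀ (q₁ q₂ : Q), (q₁:G) * a * (q₁:G)⁻¹ = q₂ * a * (q₂:G)⁻¹ ↔ (q₁⁻¹ * q₂) ∈ (Q ⊓ Subgroup.centralizer ({a} : Set G)).subgroupOf Q := by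
    intro q₁ q₂
    rw [Subgroup.mem_subgroupOf, Subgroup.mem_inf, Subgroup.mem_centralizer_iff]
    constructor
    · intro h
      refine ⟨(q₁⁻¹ * q₂).2, ?_⟩
      intro w hw
      rw [Set.mem_singleton_iff.1 hw]
      push_cast
      have h4 : (q₁:G) * a = q₂ * a * (q₂:G)⁻¹ * q₁ := by
        rw [← h]; group
      have h5 : (q₂:G) * a = q₁ * a * (q₁:G)⁻¹ * q₂ := by
        rw [h]; group
      calc a * ((q₁:G)⁻¹ * q₂) = (q₁:G)⁻¹ * (q₁ * a * (q₁:G)⁻¹ * q₂) := by group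
        _ = (q₁:G)⁻¹ * ((q₂:G) * a) := by rw [h5]
        _ = (q₁:G)⁻¹ * q₂ * a := by group
    · rintro ⟨-, h⟩
      have h1 := h a (Set.mem_singleton a)
      push_cast at h1
      have h2 : (q₂:G) * a = q₁ * (a * ((q₁:G)⁻¹ * q₂)) := by
        rw [h1]; group
      calc (q₁:G) * a * (q₁:G)⁻¹ = q₁ * (a * ((q₁:G)⁻¹ * q₂)) * (q₂:G)⁻¹ := by group
        _ = q₂ * a * (q₂:G)⁻¹ := by rw [← h2]
  refine ⟨fun z => Quotient.liftOn' z (fun q => ⟨(q:G) * a * (q:G)⁻¹, hmem q⟩) ?_, ?_, ?_⟩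
  · intro q₁ q₂ h
    apply Subtype.ext
    exact (hcomm q₁ q₂).2 (QuotientGroup.leftRel_apply.1 h)
  · intro z₁ z₂
    induction z₁ using Quotient.inductionOn' with
    | h q₁ =>
      induction z₂ using Quotient.inductionOn' with
      | h q₂ =>
        intro h
        apply QuotientGroup.eq.2
        exact (hcomm q₁ q₂).1 (congrArg Subtype.val h)
  · intro q
    rfl

theorem count_aux (Q : Subgroup G) [hQ : Q.Normal] (a y x : G) (ha : a * a = 1)
    (hax : a * (y * a * y⁻¹) = x)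
    (hC : ∀ u, u * x⁻¹ ∈ Q → ∀ q ∈ Q, q * u = u * q → q = 1) :
    Nat.card ↥(Q ⊓ Subgroup.centralizer ({a} : Set G)) ^ 2 = Nat.card Q ∧
      ∀ b, b * a⁻¹ ∈ Q → b * b = 1 → ∃ q ∈ Q, q * a * q⁻¹ = b := by
  classical
  set a' := y * a * y⁻¹ with ha'def
  have ha' : a' * a' = 1 := by
    calc a' * a' = y * (a * a) * y⁻¹ := by rw [ha'def]; group
      _ = 1 := by rw [ha]; group
  -- the injection of pairs into Q
  have hpair : Nat.card (invCoset Q a) * Nat.card (invCoset Q a') ≤ Nat.card Q := by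
    rw [← Nat.card_prod]
    let F : invCoset Q a × invCoset Q a' → Q := fun p => ⟨p.1.1 * p.2.1 * x⁻¹, by
      have h : p.1.1 * p.2.1 * x⁻¹ = (p.1.1 * a⁻¹) * (a * (p.2.1 * a'⁻¹) * a⁻¹) := by
        rw [← hax]; group
      rw [h]
      exact Q.mul_mem p.1.2.1 (hQ.conj_mem _ p.2.2.1 a)⟩
    refine Nat.card_le_card_of_injective F ?_
    rintro ⟨⟨b, hb1, hb⟩, ⟨c, hc1, hc⟩⟩ ⟨⟨b', hb1', hb'⟩, ⟨c', hc1', hc'⟩⟩ h
    have hE : b * c = b' * c' := mul_right_cancel (congrArg Subtype.val h)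
    have hw : b' * b = c' * c := by
      calc b' * b = b' * b * (c * c) := by rw [hc, mul_one]
        _ = b' * (b * c) * c := by simp only [mul_assoc]
        _ = b' * (b' * c') * c := by rw [hE]
        _ = (b' * b') * (c' * c) := by simp only [mul_assoc]
        _ = c' * c := by rw [hb', one_mul]
    have hwQ : b' * b ∈ Q := by
      have h1 : b' * b = (b' * a⁻¹) * (a * (b * a⁻¹) * a⁻¹) * (a * a) := by group
      rw [h1, ha, mul_one]
      exact Q.mul_mem hb1' (hQ.conj_mem _ hb1 a)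
    have hbc : (b * c) * x⁻¹ ∈ Q := by
      have h : b * c * x⁻¹ = (b * a⁻¹) * (a * (c * a'⁻¹) * a⁻¹) := by
        rw [← hax]; group
      rw [h]
      exact Q.mul_mem hb1 (hQ.conj_mem _ hc1 a)
    have hcomm : (b' * b) * (b * c) = (b * c) * (b' * b) := by
      calc (b' * b) * (b * c) = b' * (b * b) * c := by simp only [mul_assoc]
        _ = b' * c := by rw [hb, mul_one]
        _ = b' * (c' * c') * c := by rw [hc', mul_one]
        _ = (b' * c') * (c' * c) := by simp only [mul_assoc]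
        _ = (b * c) * (b' * b) := by rw [hE, hw]
    have hw1 : b' * b = 1 := hC _ hbc _ hwQ hcomm
    have hbb : b = b' := by
      calc b = b' * b' * b := by rw [hb', one_mul]
        _ = b' * (b' * b) := by rw [mul_assoc]
        _ = b' := by rw [hw1, mul_one]
    have hcc : c = c' := by
      have hw2 : c' * c = 1 := hw ▸ hw1
      calc c = c' * c' * c := by rw [hc', one_mul]
        _ = c' * (c' * c) := by rw [mul_assoc]
        _ = c' := by rw [hw2, mul_one]
    subst hbb; subst hcc; rfl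
  -- product of centralizers
  set C := Q ⊓ Subgroup.centralizer ({a} : Set G) with hCdef
  set C' := Q ⊓ Subgroup.centralizer ({a'} : Set G) with hC'def
  have hcc' : Nat.card C * Nat.card C' ≤ Nat.card Q := by
    rw [← Nat.card_prod]
    let F : C × C' → Q := fun p => ⟨p.1.1 * p.2.1, Q.mul_mem p.1.2.1 p.2.2.1⟩
    refine Nat.card_le_card_of_injective F ?_
    rintro ⟨u, v⟩ ⟨u', v'⟩ h
    have h1 : (u:G) * v = u' * v' := congrArg Subtype.val h
    have h2 : (u':G)⁻¹ * u = v' * (v:G)⁻¹ := by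
      calc (u':G)⁻¹ * u = (u':G)⁻¹ * (u * v) * (v:G)⁻¹ := by group
        _ = (u':G)⁻¹ * (u' * v') * (v:G)⁻¹ := by rw [h1]
        _ = v' * (v:G)⁻¹ := by group
    -- the element commutes with x
    have hua : ((u':G)⁻¹ * u) ∈ C := C.mul_mem (C.inv_mem u'.2) u.2
    have hva : ((u':G)⁻¹ * u) ∈ C' := by
      rw [h2]; exact C'.mul_mem v'.2 (C'.inv_mem v.2)
    have h3 : (u':G)⁻¹ * u = 1 := by
      have hx : x * x⁻¹ ∈ Q := by rw [mul_inv_cancel]; exact Q.one_mem
      refine hC x hx _ hua.1 ?_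
      rw [← hax]
      have e1 := (Subgroup.mem_centralizer_iff.1 hua.2) a (Set.mem_singleton a)
      have e2 := (Subgroup.mem_centralizer_iff.1 hva.2) a' (Set.mem_singleton a')
      calc (u':G)⁻¹ * u * (a * a') = ((u':G)⁻¹ * u * a) * a' := by group
        _ = (a * ((u':G)⁻¹ * u)) * a' := by rw [e1]
        _ = a * (((u':G)⁻¹ * u) * a') := by group
        _ = a * (a' * ((u':G)⁻¹ * u)) := by rw [e2]
        _ = a * a' * ((u':G)⁻¹ * u) := by group
    have h4 : (u:G) = u' := by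
      calc (u:G) = u' * ((u':G)⁻¹ * u) := by group
        _ = u' := by rw [h3, mul_one]
    have h5 : (v:G) = v' := by
      rw [h4] at h1
      exact mul_left_cancel h1
    have h7 : u = u' := Subtype.ext h4
    have h8 : v = v' := Subtype.ext h5
    rw [h7, h8]
  -- conjugate centralizers have the same order
  have hceq : Nat.card C' = Nat.card C := by
    have hmap : C' = C.map (MulAut.conj y).toMonoidHom := by
      ext w
      simp only [Subgroup.mem_map, MulEquiv.coe_toMonoidHom, MulAut.conj_apply]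
      constructor
      · intro hw
        refine ⟨y⁻¹ * w * y, ⟨?_, ?_⟩, by group⟩
        · have := hQ.conj_mem w hw.1 y⁻¹
          simpa using this
        · refine Subgroup.mem_centralizer_iff.2 ?_
          intro t ht
          rw [Set.mem_singleton_iff.1 ht]
          have e := (Subgroup.mem_centralizer_iff.1 hw.2) a' (Set.mem_singleton a')
          rw [ha'def] at e
          calc a * (y⁻¹ * w * y) = y⁻¹ * ((y * a * y⁻¹) * w) * y := by group
            _ = y⁻¹ * (w * (y * a * y⁻¹)) * y := by rw [e]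
            _ = y⁻¹ * w * y * a := by group
      · rintro ⟨t, ht, rfl⟩
        refine ⟨hQ.conj_mem t ht.1 y, ?_⟩
        refine Subgroup.mem_centralizer_iff.2 ?_
        intro s hs
        rw [Set.mem_singleton_iff.1 hs]
        have e := (Subgroup.mem_centralizer_iff.1 ht.2) a (Set.mem_singleton a)
        rw [ha'def]
        calc y * a * y⁻¹ * (y * t * y⁻¹) = y * (a * t) * y⁻¹ := by group
          _ = y * (t * a) * y⁻¹ := by rw [e]
          _ = y * t * y⁻¹ * (y * a * y⁻¹) := by group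
    rw [hmap]
    exact Subgroup.card_map_of_injective (MulAut.conj y).injective
  -- orbit maps
  obtain ⟨ψ, hψ, hψv⟩ := orbit_inj_aux Q a ha
  obtain ⟨ψ', hψ', -⟩ := orbit_inj_aux Q a' ha'
  have hz : Nat.card Q = Nat.card (Q ⧸ (C.subgroupOf Q)) * Nat.card C := by
    have := Subgroup.card_eq_card_quotient_mul_card_subgroup (C.subgroupOf Q)
    rwa [Nat.card_congr (Subgroup.subgroupOfEquivOfLe (inf_le_left : C ≤ Q)).toEquiv] at this
  have hz' : Nat.card Q = Nat.card (Q ⧸ (C'.subgroupOf Q)) * Nat.card C' := by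
    have := Subgroup.card_eq_card_quotient_mul_card_subgroup (C'.subgroupOf Q)
    rwa [Nat.card_congr (Subgroup.subgroupOfEquivOfLe (inf_le_left : C' ≤ Q)).toEquiv] at this
  have ht : Nat.card (Q ⧸ (C.subgroupOf Q)) ≤ Nat.card (invCoset Q a) :=
    Nat.card_le_card_of_injective ψ hψ
  have ht' : Nat.card (Q ⧸ (C'.subgroupOf Q)) ≤ Nat.card (invCoset Q a') :=
    Nat.card_le_card_of_injective ψ' hψ'
  set z := Nat.card Q with hzdef
  set c := Nat.card C with hcdef
  set c' := Nat.card C' with hc'def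
  set t := Nat.card (Q ⧸ (C.subgroupOf Q)) with htdef
  set t' := Nat.card (Q ⧸ (C'.subgroupOf Q)) with ht'def
  set i := Nat.card (invCoset Q a) with hidef
  set i' := Nat.card (invCoset Q a') with hi'def
  have hzpos : 0 < z := Nat.card_pos
  have hcc2 : c * c' = z := by
    by_contra hne
    have hlt : c * c' < z := lt_of_le_of_ne hcc' hne
    have h1 : z * z = (t * c) * (t' * c') := by rw [← hz, ← hz']
    have h2 : (t * t') ≤ z := le_trans (Nat.mul_le_mul ht ht') hpair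
    have h3 : z * z = (t * t') * (c * c') := by rw [h1]; ring
    have h4 : (t * t') * (c * c') ≤ z * (c * c') := Nat.mul_le_mul_right _ h2
    have h5 : z * (c * c') < z * z := Nat.mul_lt_mul_of_pos_left hlt hzpos
    omega
  have hcc3 : c * c = z := by rw [hceq] at hcc2; exact hcc2
  have hcsq : c ^ 2 = z := by
    rw [sq]; exact hcc3
  refine ⟨hcsq, ?_⟩
  -- bijectivity of ψ
  have hcpos : 0 < c := Nat.card_pos
  have htc : t = c := by
    have h1 : t * c = c * c := by rw [← hz, hcc3]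
    exact Nat.eq_of_mul_eq_mul_right hcpos h1
  have ht'c : t' = c := by
    have h1 : t' * c = c * c := by
      have h2 : z = t' * c := by rw [hz', hceq]
      rw [← h2, hcc3]
    exact Nat.eq_of_mul_eq_mul_right hcpos h1
  have hti : i = t := by
    by_contra hne
    have hlt : t < i := lt_of_le_of_ne ht (Ne.symm hne)
    have h1 : t * t' < i * t' := Nat.mul_lt_mul_of_pos_right hlt (by rw [ht'c]; exact hcpos)
    have h2 : i * t' ≤ i * i' := Nat.mul_le_mul_left _ ht'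
    have h3 : z = t * t' := by rw [htc, ht'c, ← sq, hcsq]
    omega
  have hbij := (Nat.bijective_iff_injective_and_card ψ).2 ⟨hψ, hti.symm⟩
  intro b hb1 hb2
  obtain ⟨z₀, hz₀⟩ := hbij.2 ⟨b, hb1, hb2⟩
  induction z₀ using Quotient.inductionOn' with
  | h q =>
    refine ⟨q, q.2, ?_⟩
    have := hψv q
    have h' : (ψ ((q : Q ⧸ (C.subgroupOf Q)))).1 = b := congrArg Subtype.val hz₀
    rw [← this]; exact h'

end aux

section dihedral

open DihedralGroup

variable {r : ℕ} [hr0 : Fact r.Prime]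

theorem two_ne_zero_aux (hr : r ≠ 2) : (2 : ZMod r) ≠ 0 := by
  intro h
  have h' : ((2:ℕ) : ZMod r) = 0 := by exact_mod_cast h
  rw [ZMod.natCast_eq_zero_iff] at h'
  have := (Nat.prime_dvd_prime_iff_eq hr0.out Nat.prime_two).1 h'
  exact hr this

theorem inv_reflection_aux (hr : r ≠ 2) (d : DihedralGroup r) (hd : d * d = 1) (hd1 : d ≠ 1) :
    ∃ i, d = sr i := by
  haveI : NeZero r := ⟨hr0.out.ne_zero⟩
  cases d with
  | r j =>
    exfalso
    apply hd1
    rw [r_mul_r, one_def] at hd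
    have h1 : j + j = 0 := DihedralGroup.r.inj hd
    have h2 : (2 : ZMod r) * j = 0 := by rw [two_mul]; exact h1
    have h3 := (mul_eq_zero.1 h2).resolve_left (two_ne_zero_aux hr)
    rw [h3]; rfl
  | sr j => exact ⟨j, rfl⟩

theorem reflection_conj_aux (hr : r ≠ 2) (i j : ZMod r) : ∃ d : DihedralGroup r, d * sr i * d⁻¹ = sr j := by
  have h2 := two_ne_zero_aux hr
  refine ⟨DihedralGroup.r ((i - j) / 2), ?_⟩
  rw [r_mul_sr, inv_r, sr_mul_r]
  congr 1
  field_simp
  ring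

end dihedral

theorem result {G : Type*} [Group G] [Finite G] {r : ℕ} [Fact r.Prime] (hr : r ≠ 2) [hN : (Cfsg.pCore 2 G).Normal] (hquot : Nonempty (G ⧸ Cfsg.pCore 2 G ≃* DihedralGroup r)) (R : Sylow r G) (hC : Cfsg.pCore 2 G ⊓ Subgroup.centralizer ((R : Subgroup G) : Set G) = ⊥) : Nonempty (↥(Subgroup.normalizer ((R : Subgroup G) : Set G)) ≃* DihedralGroup r) ∧ ∀ a : G, a ∈ Subgroup.normalizer ((R : Subgroup G) : Set G) → orderOf a = 2 → (∀ b : G, orderOf b = 2 → b ∉ Cfsg.pCore 2 G → ∃ g : G, g * a * g⁻¹ = b) ∧ Nat.card ↥(Cfsg.pCore 2 G ⊓ Subgroup.centralizer ({a} : Set G)) ^ 2 = Nat.card ↥(Cfsg.pCore 2 G) := by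
  classical
  obtain ⟨e⟩ := hquot
  haveI : Fact (Nat.Prime 2) := ⟨Nat.prime_two⟩
  haveI : NeZero r := ⟨(Fact.out : r.Prime).ne_zero⟩
  have hrp : r.Prime := Fact.out
  set Q := Cfsg.pCore 2 G with hQdef
  have hQp : IsPGroup 2 Q := isPGroup_pCore
  let f : G →* DihedralGroup r := e.toMonoidHom.comp (QuotientGroup.mk' Q)
  have hfs : Function.Surjective f :=
    e.surjective.comp (QuotientGroup.mk'_surjective Q)
  have hfk : ∀ g, f g = 1 ↔ g ∈ Q := by
    intro g
    change e (QuotientGroup.mk g) = 1 ↔ _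
    rw [map_eq_one_iff e e.injective, QuotientGroup.eq_one_iff]
  have hfv : ∀ g h, f g = f h → g * h⁻¹ ∈ Q := by
    intro g h he
    rw [← hfk, map_mul, map_inv, he, mul_inv_cancel]
  have hRp : IsPGroup r R := R.isPGroup'
  have hRQ : ∀ x ∈ (R : Subgroup G), x ∈ Q → x = 1 := by
    intro x hx hxQ
    have hd : Disjoint (R : Subgroup G) Q :=
      IsPGroup.disjoint_of_ne r 2 hr _ _ hRp hQp
    exact Subgroup.disjoint_def.1 hd hx hxQ
  -- elements of `R` map to rotations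
  have hRot : ∀ x ∈ (R : Subgroup G), ∃ i, f x = DihedralGroup.r i := by
    intro x hx
    rcases h : f x with i | i
    · exact ⟨i, rfl⟩
    · exfalso
      obtain ⟨k, hk⟩ := hRp ⟨x, hx⟩
      have hk' : x ^ (r ^ k) = 1 := by
        have := congrArg Subtype.val hk
        simpa using this
      have h2 : orderOf (f x) ∣ r ^ k := orderOf_dvd_of_pow_eq_one (by rw [← map_pow, hk', map_one])
      rw [h, DihedralGroup.orderOf_sr] at h2
      have := (Nat.prime_dvd_prime_iff_eq Nat.prime_two hrp).1 (Nat.Prime.dvd_of_dvd_pow Nat.prime_two h2)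
      exact hr this.symm
  -- `R` is nontrivial
  have hrdvd : r ∣ Nat.card G := by
    have h1 : Nat.card (DihedralGroup r) ∣ Nat.card G := Subgroup.card_dvd_of_surjective f hfs
    rw [DihedralGroup.nat_card] at h1
    exact dvd_trans (Dvd.intro_left 2 rfl) h1
  have hRne : (R : Subgroup G) ≠ ⊥ := R.ne_bot_of_dvd_card hrdvd
  obtain ⟨⟨y, hyR⟩, hy1'⟩ := Subgroup.ne_bot_iff_exists_ne_one.1 hRne
  have hy1 : y ≠ 1 := fun h => hy1' (Subtype.ext h)
  -- any nontrivial element of `R` generates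
  have hgen : ∀ t ∈ (R : Subgroup G), t ≠ 1 → ∀ u ∈ (R : Subgroup G), u ∈ Subgroup.zpowers t := by
    intro t ht ht1 u hu
    obtain ⟨j, hj⟩ := hRot t ht
    obtain ⟨i, hi⟩ := hRot u hu
    have hj0 : j ≠ 0 := by
      rintro rfl
      apply ht1
      apply hRQ t ht
      rw [← hfk, hj]; rfl
    set k : ℕ := (i / j).val with hk
    have hf : f (u * (t ^ k)⁻¹) = 1 := by
      rw [map_mul, map_inv, map_pow, hi, hj, DihedralGroup.r_pow, hk, ZMod.natCast_zmod_val]
      have : j * (i / j) = i := by field_simp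
      rw [this, mul_inv_cancel]
    have h1 : u * (t ^ k)⁻¹ = 1 :=
      hRQ _ (R.1.mul_mem hu (R.1.inv_mem (R.1.pow_mem ht k))) ((hfk _).1 hf)
    have h2 : u = t ^ k := mul_inv_eq_one.1 h1
    rw [h2]
    exact Subgroup.pow_mem _ (Subgroup.mem_zpowers t) k
  -- normalizer meets `Q` trivially
  set N := Subgroup.normalizer ((R : Subgroup G) : Set G) with hNdef
  have hNQ : ∀ n ∈ N, n ∈ Q → n = 1 := by
    intro n hn hnQ
    have hcen : n ∈ Subgroup.centralizer ((R : Subgroup G) : Set G) := by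
      refine Subgroup.mem_centralizer_iff.2 ?_
      intro u hu
      have h1 : n * u * n⁻¹ ∈ (R : Subgroup G) := (Subgroup.mem_normalizer_iff.1 hn u).1 hu
      have h2 : u⁻¹ * (n * u * n⁻¹) ∈ (R : Subgroup G) := R.1.mul_mem (R.1.inv_mem hu) h1
      have h3 : u⁻¹ * (n * u * n⁻¹) ∈ Q := by
        have h4 : u⁻¹ * (n * u * n⁻¹) = (u⁻¹ * n * u) * n⁻¹ := by group
        rw [h4]
        have h5 := hN.conj_mem n hnQ u⁻¹
        rw [inv_inv] at h5
        exact Q.mul_mem h5 (Q.inv_mem hnQ)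
      have h6 := hRQ _ h2 h3
      have h7 : n * u * n⁻¹ = u := by
        exact (inv_mul_eq_one.1 h6).symm
      calc u * n = n * u * n⁻¹ * n := by rw [h7]
        _ = n * u := by group
    have : n ∈ Q ⊓ Subgroup.centralizer ((R : Subgroup G) : Set G) := ⟨hnQ, hcen⟩
    rw [hC] at this
    exact this
  have hR_N : (R : Subgroup G) ≤ N := Subgroup.le_normalizer
  -- rotations are covered by `R`
  have hRrot : ∀ i : ZMod r, ∃ u ∈ (R : Subgroup G), f u = DihedralGroup.r i := by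
    intro i
    obtain ⟨j, hj⟩ := hRot y hyR
    have hj0 : j ≠ 0 := by
      rintro rfl
      apply hy1
      apply hRQ y hyR
      rw [← hfk, hj]; rfl
    refine ⟨y ^ (i / j).val, R.1.pow_mem hyR _, ?_⟩
    rw [map_pow, hj, DihedralGroup.r_pow, ZMod.natCast_zmod_val]
    have : j * (i / j) = i := by field_simp
    rw [this]
  -- Frattini argument
  let K : Subgroup G :=
    { carrier := {g | ∃ i, f g = DihedralGroup.r i}
      mul_mem' := by
        rintro a b ⟨i, hi⟩ ⟨j, hj⟩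
        exact ⟨i + j, by rw [map_mul, hi, hj, DihedralGroup.r_mul_r]⟩
      one_mem' := ⟨0, by rw [map_one]; rfl⟩
      inv_mem' := by
        rintro a ⟨i, hi⟩
        exact ⟨-i, by rw [map_inv, hi, DihedralGroup.inv_r]⟩ }
  haveI hKn : K.Normal := by
    refine ⟨?_⟩
    rintro k ⟨i, hi⟩ g
    change ∃ i', f (g * k * g⁻¹) = DihedralGroup.r i'
    rw [map_mul, map_mul, map_inv, hi]
    rcases f g with j | j
    · exact ⟨i, by simp [DihedralGroup.r_mul_r, DihedralGroup.inv_r]⟩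
    · exact ⟨-i, by simp [DihedralGroup.sr_mul_r, DihedralGroup.r_mul_sr, DihedralGroup.sr_mul_sr, DihedralGroup.inv_sr]⟩
  have hRK : (R : Subgroup G) ≤ K := fun x hx => hRot x hx
  have hfr := Sylow.normalizer_sup_eq_top (R.subtype hRK)
  rw [Sylow.coe_subtype, Subgroup.map_subgroupOf_eq_of_le hRK] at hfr
  have hsurj : ∀ d : DihedralGroup r, ∃ n ∈ N, f n = d := by
    intro d
    obtain ⟨g, rfl⟩ := hfs d
    have hg : g ∈ N ⊔ K := by
      rw [hfr]; exact Subgroup.mem_top g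
    rw [← SetLike.mem_coe, Subgroup.mul_normal] at hg
    obtain ⟨n, hn, k, ⟨i, hi⟩, rfl⟩ := Set.mem_mul.1 hg
    obtain ⟨u, huR, hu⟩ := hRrot i
    exact ⟨n * u, N.mul_mem hn (hR_N huR), by rw [map_mul, map_mul, hu, hi]⟩
  have hinj : ∀ n ∈ N, ∀ n' ∈ N, f n = f n' → n = n' := by
    intro n hn n' hn' h
    have h1 : n * n'⁻¹ = 1 := hNQ _ (N.mul_mem hn (N.inv_mem hn')) (hfv _ _ h)
    exact mul_inv_eq_one.1 h1
  refine ⟨⟨MulEquiv.ofBijective (f.comp N.subtype) ⟨?_, ?_⟩⟩, ?_⟩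
  · intro n n' h
    exact Subtype.ext (hinj _ n.2 _ n'.2 h)
  · intro d
    obtain ⟨n, hn, hd⟩ := hsurj d
    exact ⟨⟨n, hn⟩, hd⟩
  intro a haN ha2
  have ha : a * a = 1 := by
    rw [← sq, ← ha2]; exact pow_orderOf_eq_one a
  have ha1 : a ≠ 1 := by
    rintro rfl
    rw [orderOf_one] at ha2
    omega
  obtain ⟨i, hi⟩ := inv_reflection_aux hr (f a) (by rw [← map_mul, ha, map_one]) (fun h =>
    ha1 (hNQ a haN ((hfk a).1 h)))
  have haa : a⁻¹ = a := inv_eq_of_mul_eq_one_left ha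
  have hinv : ∀ u ∈ (R : Subgroup G), a * u * a⁻¹ = u⁻¹ := by
    intro u hu
    obtain ⟨j, hj⟩ := hRot u hu
    have h1 : a * u * a⁻¹ ∈ (R : Subgroup G) := (Subgroup.mem_normalizer_iff.1 haN u).1 hu
    have h2 : (a * u * a⁻¹) * u ∈ (R : Subgroup G) := R.1.mul_mem h1 hu
    have h3 : (a * u * a⁻¹) * u ∈ Q := by
      rw [← hfk, map_mul, map_mul, map_mul, map_inv, hi, hj, DihedralGroup.sr_mul_r, DihedralGroup.inv_sr,
        DihedralGroup.sr_mul_sr, DihedralGroup.r_mul_r]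
      have : i - (i + j) + j = 0 := by ring
      rw [this]; rfl
    have h4 := hRQ _ h2 h3
    exact eq_inv_of_mul_eq_one_left h4
  set x := a * (y * a * y⁻¹) with hxdef
  have hxval : x = y⁻¹ * y⁻¹ := by
    have h1 := hinv y hyR
    calc x = (a * y * a⁻¹) * (a * a) * y⁻¹ := by rw [hxdef]; group
      _ = y⁻¹ * y⁻¹ := by rw [h1, ha, mul_one]
  have hxR : x ∈ (R : Subgroup G) := by
    rw [hxval]; exact R.1.mul_mem (R.1.inv_mem hyR) (R.1.inv_mem hyR)
  have hx1 : x ≠ 1 := by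
    intro h
    obtain ⟨j, hj⟩ := hRot y hyR
    rw [hxval] at h
    have h1 : f (y⁻¹ * y⁻¹) = 1 := by rw [h, map_one]
    rw [map_mul, map_inv, hj, DihedralGroup.inv_r, DihedralGroup.r_mul_r] at h1
    have h2 : -j + -j = 0 := DihedralGroup.r.inj h1
    have h3 : (2 : ZMod r) * j = 0 := by
      have : (2 : ZMod r) * j = -(-j + -j) := by ring
      rw [this, h2, neg_zero]
    have h4 := (mul_eq_zero.1 h3).resolve_left (two_ne_zero_aux hr)
    apply hy1
    apply hRQ y hyR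
    rw [← hfk, hj, h4]; rfl
  have hxC : ∀ q ∈ Q, q * x = x * q → q = 1 := by
    intro q hq hqx
    have hcen : q ∈ Subgroup.centralizer ((R : Subgroup G) : Set G) := by
      refine Subgroup.mem_centralizer_iff.2 ?_
      intro u hu
      have h1 := hgen x hxR hx1 u hu
      obtain ⟨k, rfl⟩ := Subgroup.mem_zpowers_iff.1 h1
      have hcomm : Commute q x := hqx
      exact ((hcomm.zpow_right k).eq).symm
    have : q ∈ Q ⊓ Subgroup.centralizer ((R : Subgroup G) : Set G) := ⟨hq, hcen⟩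
    rw [hC] at this
    exact this
  have hCu : ∀ u, u * x⁻¹ ∈ Q → ∀ q ∈ Q, q * u = u * q → q = 1 := by
    intro u hu q hq hqu
    obtain ⟨q₀, hq₀, rfl⟩ := exists_conj_of_coset_aux Q x hxC u hu
    have h1 : q₀⁻¹ * q * q₀ = 1 := by
      apply hxC
      · have := hN.conj_mem q hq q₀⁻¹
        rw [inv_inv] at this
        exact this
      · calc q₀⁻¹ * q * q₀ * x = q₀⁻¹ * (q * (q₀ * x * q₀⁻¹)) * q₀ := by group
          _ = q₀⁻¹ * ((q₀ * x * q₀⁻¹) * q) * q₀ := by rw [hqu]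
          _ = x * (q₀⁻¹ * q * q₀) := by group
    calc q = q₀ * (q₀⁻¹ * q * q₀) * q₀⁻¹ := by group
      _ = 1 := by rw [h1]; group
  obtain ⟨hcount, hconj⟩ := count_aux Q a y x ha hxdef.symm hCu
  refine ⟨?_, hcount⟩
  intro b hb2 hbQ
  have hb : b * b = 1 := by
    rw [← sq, ← hb2]; exact pow_orderOf_eq_one b
  obtain ⟨k, hk⟩ := inv_reflection_aux hr (f b) (by rw [← map_mul, hb, map_one]) (fun h =>
    hbQ ((hfk b).1 h))
  obtain ⟨d, hd⟩ := reflection_conj_aux hr i k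
  obtain ⟨g₀, rfl⟩ := hfs d
  have h1 : f (g₀⁻¹ * b * g₀) = f a := by
    rw [map_mul, map_mul, map_inv, hk, ← hd, hi]
    group
  have h2 : (g₀⁻¹ * b * g₀) * a⁻¹ ∈ Q := hfv _ _ h1
  have h3 : (g₀⁻¹ * b * g₀) * (g₀⁻¹ * b * g₀) = 1 := by
    calc (g₀⁻¹ * b * g₀) * (g₀⁻¹ * b * g₀) = g₀⁻¹ * (b * b) * g₀ := by group
      _ = 1 := by rw [hb]; group
  obtain ⟨q, hq, hqe⟩ := hconj _ h2 h3
  refine ⟨g₀ * q, ?_⟩
  calc g₀ * q * a * (g₀ * q)⁻¹ = g₀ * (q * a * q⁻¹) * g₀⁻¹ := by group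
    _ = g₀ * (g₀⁻¹ * b * g₀) * g₀⁻¹ := by rw [hqe]
    _ = b := by group

end Cfsg.Agent.S2873
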