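import Mathlib
import Cfsg.Statements.S2874
import Cfsg.Agent.Lib.H13.Basic

set_option autoImplicit false

open Cfsg

namespace Cfsg.Agent.S2874

open Matrix Cfsg.Agent.H13

abbrev M2 := Matrix (Fin 2) (Fin 2) (ZMod 2)

def Cb : M2 := !![0, 1; 1, 1]
def Cbi : M2 := !![1, 1; 1, 0]

set_option maxRecDepth 100000 in
lemma F1 : ∀ u : M2, u * u = 1 → u * (Cb * u * Cbi) = (Cb * u * Cbi) * u →
    u * (Cb * u * Cbi) = Cb * (Cb * u * Cbi) * Cbi → u = 1 := by decide +kernel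

set_option maxRecDepth 100000 in
lemma F2 : ∀ x : M2, x + x * x = 0 → x * (Cb * x * Cbi) - (Cb * x * Cbi) * x = 0 →
    x + (Cb * x * Cbi) - Cb * (Cb * x * Cbi) * Cbi = 0 → x = 0 := by decide +kernel

set_option maxRecDepth 100000 in
lemma F3 : ∀ x₁ x₂ : M2, x₁ ≠ 0 → x₂ ≠ 0 →
    x₁ + (Cb * x₁ * Cbi) - Cb * (Cb * x₁ * Cbi) * Cbi = 0 →
    x₂ + (Cb * x₂ * Cbi) - Cb * (Cb * x₂ * Cbi) * Cbi = 0 →
    x₂ = x₁ ∨ x₂ = Cb * x₁ * Cbi ∨ x₂ = Cb * (Cb * x₁ * Cbi) * Cbi := by decide +kernel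

set_option maxRecDepth 100000 in
lemma F4 : ∀ y : M2, y * y * y = 1 → y ≠ 1 → (y - 1).det ≠ 0 ∧ y 1 0 ≠ 0 := by decide +kernel

section

variable {k : ℕ}

local notation "R" => ZMod (2 ^ k)
local notation "MR" => Matrix (Fin 2) (Fin 2) (ZMod (2 ^ k))
local notation "t" => (2 : ZMod (2 ^ k))

/-- reduction mod 2 -/
def rho (hk : k ≠ 0) : ZMod (2 ^ k) →+* ZMod 2 := ZMod.castHom (dvd_pow_self 2 hk) (ZMod 2)

def rhoM (hk : k ≠ 0) : Matrix (Fin 2) (Fin 2) (ZMod (2 ^ k)) →+* M2 := (rho hk).mapMatrix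

lemma rhoM_apply (hk : k ≠ 0) (W : MR) (i j : Fin 2) : rhoM hk W i j = rho hk (W i j) := rfl

lemma rho_two (hk : k ≠ 0) : rho hk t = 0 := by
  have : t = ((2 : ℕ) : R) := by norm_cast
  rw [this, map_natCast]
  rfl

lemma rho_pow_mul_eq_zero (hk : k ≠ 0) {m : ℕ} (hm : m < k) {a : R} (h : t ^ m * a = 0) :
    rho hk a = 0 := by
  haveI : NeZero (2 ^ k) := ⟨by positivity⟩
  rw [← ZMod.natCast_zmod_val a] at h ⊢
  set n := a.val
  have h1 : ((2 ^ m * n : ℕ) : R) = 0 := by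
    push_cast
    exact h
  rw [ZMod.natCast_eq_zero_iff] at h1
  obtain ⟨l, rfl⟩ : ∃ l, k = m + (l + 1) := ⟨k - m - 1, by omega⟩
  rw [pow_add] at h1
  have h2 : 2 ^ (l + 1) ∣ n := Nat.dvd_of_mul_dvd_mul_left (by positivity) h1
  have h3 : 2 ∣ n := (dvd_pow_self 2 (by omega)).trans h2
  rw [map_natCast]
  exact (ZMod.natCast_eq_zero_iff n 2).2 h3

lemma exists_two_mul_of_rho (hk : k ≠ 0) {a : R} (h : rho hk a = 0) : ∃ b : R, a = t * b := by
  haveI : NeZero (2 ^ k) := ⟨by positivity⟩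
  rw [← ZMod.natCast_zmod_val a] at h ⊢
  rw [map_natCast, ZMod.natCast_eq_zero_iff] at h
  obtain ⟨c, hc⟩ := h
  refine ⟨(c : R), ?_⟩
  rw [hc]
  push_cast
  rfl

lemma isUnit_of_rho (hk : k ≠ 0) {a : R} (h : rho hk a ≠ 0) : IsUnit a := by
  haveI : NeZero (2 ^ k) := ⟨by positivity⟩
  rw [← ZMod.natCast_zmod_val a] at h ⊢
  rw [map_natCast] at h
  rw [ZMod.isUnit_iff_coprime]
  apply Nat.Coprime.pow_right
  rw [Nat.coprime_two_right]
  by_contra hodd
  rw [Nat.not_odd_iff_even] at hodd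
  exact h ((ZMod.natCast_eq_zero_iff _ 2).2 hodd.two_dvd)

lemma rhoM_smul (hk : k ≠ 0) (c : R) (W : MR) : rhoM hk (c • W) = rho hk c • rhoM hk W := by
  ext i j
  simp [rhoM_apply]

lemma rhoM_pow_smul_eq_zero (hk : k ≠ 0) {m : ℕ} (hm : m < k) {W : MR} (h : t ^ m • W = 0) :
    rhoM hk W = 0 := by
  ext i j
  rw [rhoM_apply]
  apply rho_pow_mul_eq_zero hk hm
  have := congrFun (congrFun h i) j
  simpa using this

lemma exists_two_smul_of_rhoM (hk : k ≠ 0) {W : MR} (h : rhoM hk W = 0) :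
    ∃ W' : MR, W = t • W' := by
  have h1 : ∀ i j, ∃ b : R, W i j = t * b := fun i j =>
    exists_two_mul_of_rho hk (by
      have := congrFun (congrFun h i) j
      simpa [rhoM_apply] using this)
  choose f hf using h1
  refine ⟨Matrix.of f, ?_⟩
  ext i j
  simp [hf]

lemma isUnit_of_rhoM_det (hk : k ≠ 0) {W : MR} (h : (rhoM hk W).det ≠ 0) : IsUnit W := by
  rw [Matrix.isUnit_iff_isUnit_det]
  apply isUnit_of_rho hk
  have : rho hk W.det = (rhoM hk W).det := RingHom.map_det _ _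
  rw [this]
  exact h

lemma two_pow_k : t ^ k = 0 := by
  have : t = ((2 : ℕ) : R) := by norm_cast
  rw [this, ← Nat.cast_pow]
  exact ZMod.natCast_self _

def Cm : MR := !![0, -1; 1, -1]
def Cmi : MR := !![-1, 1; -1, 0]

lemma Cm_mul_Cmi : (Cm : MR) * Cmi = 1 := by
  ext i j
  fin_cases i <;> fin_cases j <;> simp [Cm, Cmi, Matrix.mul_apply, Fin.sum_univ_two]

lemma Cmi_mul_Cm : (Cmi : MR) * Cm = 1 := by
  ext i j
  fin_cases i <;> fin_cases j <;> simp [Cm, Cmi, Matrix.mul_apply, Fin.sum_univ_two]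

lemma rhoM_Cm (hk : k ≠ 0) : rhoM hk (Cm : MR) = Cb := by
  have h1 : rho hk (-1) = 1 := by rw [map_neg, map_one]; rfl
  ext i j
  fin_cases i <;> fin_cases j <;> simp [rhoM_apply, Cm, Cb, h1]

lemma rhoM_Cmi (hk : k ≠ 0) : rhoM hk (Cmi : MR) = Cbi := by
  have h1 : rho hk (-1) = 1 := by rw [map_neg, map_one]; rfl
  ext i j
  fin_cases i <;> fin_cases j <;> simp [rhoM_apply, Cmi, Cbi, h1]

/-- Conjugation by `C`. -/
def cj (X : MR) : MR := Cm * X * Cmi

lemma rhoM_cj (hk : k ≠ 0) (X : MR) : rhoM hk (cj X) = Cb * rhoM hk X * Cbi := by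
  rw [cj, map_mul, map_mul, rhoM_Cm, rhoM_Cmi]

lemma cj_one : cj (1 : MR) = 1 := by
  rw [cj, mul_one, Cm_mul_Cmi]

lemma cj_add (X Y : MR) : cj (X + Y) = cj X + cj Y := by
  simp [cj, mul_add, add_mul]

lemma cj_smul (c : R) (X : MR) : cj (c • X) = c • cj X := by
  simp [cj, mul_smul_comm, smul_mul_assoc]

lemma cj_mul (X Y : MR) : cj (X * Y) = cj X * cj Y := by
  calc cj (X * Y) = Cm * X * 1 * Y * Cmi := by simp [cj, mul_assoc]
    _ = Cm * X * (Cmi * Cm) * Y * Cmi := by rw [Cmi_mul_Cm]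
    _ = cj X * cj Y := by simp [cj, mul_assoc]

lemma mul_expand (a : R) (X Y : MR) :
    (1 + a • X) * (1 + a • Y) = 1 + a • X + a • Y + (a * a) • (X * Y) := by
  simp only [mul_add, add_mul, one_mul, mul_one, smul_mul_assoc, mul_smul_comm, smul_smul, smul_add]
  abel

lemma rhoM_e3 (hk0 : k ≠ 0) (X : MR) : rhoM hk0 (X + cj X - cj (cj X) + t • (X * cj X)) =
    rhoM hk0 X + (Cb * rhoM hk0 X * Cbi) - Cb * (Cb * rhoM hk0 X * Cbi) * Cbi := by
  have h : rhoM hk0 (t • (X * cj X)) = 0 := by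
    rw [rhoM_smul, rho_two, zero_smul]
  rw [map_add, h, add_zero, map_sub, map_add, rhoM_cj, rhoM_cj, rhoM_cj]

lemma rhoM_e4 (hk0 : k ≠ 0) (X : MR) : rhoM hk0 (X + cj X - cj (cj X)) =
    rhoM hk0 X + (Cb * rhoM hk0 X * Cbi) - Cb * (Cb * rhoM hk0 X * Cbi) * Cbi := by
  rw [map_sub, map_add, rhoM_cj, rhoM_cj, rhoM_cj]

lemma rhoM_e5 (hk0 : k ≠ 0) (X : MR) : rhoM hk0 (X * cj X - cj X * X) =
    rhoM hk0 X * (Cb * rhoM hk0 X * Cbi) - (Cb * rhoM hk0 X * Cbi) * rhoM hk0 X := by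
  rw [map_sub, map_mul, map_mul, rhoM_cj]

set_option maxHeartbeats 1000000 in
/-- The key computation. -/
theorem core (hk : 2 ≤ k) (u : MR) (hu2 : u * u = 1) (hu1 : u ≠ 1)
    (hcomm : u * cj u = cj u * u) (hprod : u * cj u = cj (cj u)) :
    ∃ X : MR, u = 1 + t ^ (k - 1) • X ∧ rhoM (by omega) X ≠ 0 ∧
      rhoM (by omega) X + (Cb * rhoM (by omega) X * Cbi) -
        Cb * (Cb * rhoM (by omega) X * Cbi) * Cbi = 0 := by
  have hk0 : k ≠ 0 := by omega
  -- base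
  have hbase : rhoM hk0 u = 1 := by
    apply F1
    · rw [← map_mul, hu2, map_one]
    · have h1 := congrArg (rhoM hk0) hcomm
      simpa [rhoM_cj] using h1
    · have h1 := congrArg (rhoM hk0) hprod
      simpa [rhoM_cj] using h1
  obtain ⟨W₀, hW₀⟩ := exists_two_smul_of_rhoM hk0 (W := u - 1) (by rw [map_sub, map_one, hbase, sub_self])
  have hstep : ∀ j, 1 ≤ j → j ≤ k - 1 → ∃ X : MR, u = 1 + t ^ j • X := by
    intro j hj1
    induction j, hj1 using Nat.le_induction with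
    | base =>
      intro _
      exact ⟨W₀, by rw [pow_one, ← hW₀]; abel⟩
    | succ j hj1 ih =>
      intro hj2
      obtain ⟨X, hX⟩ := ih (by omega)
      have hcu : cj u = 1 + t ^ j • cj X := by rw [hX, cj_add, cj_one, cj_smul]
      have hccu : cj (cj u) = 1 + t ^ j • cj (cj X) := by rw [hcu, cj_add, cj_one, cj_smul]
      -- the square
      have e1 : t ^ (j + 1) • (X + t ^ (j - 1) • (X * X)) = 0 := by
        have h1 : u * u = 1 + t ^ (j + 1) • (X + t ^ (j - 1) • (X * X)) := by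
          rw [hX]
          have hp : t ^ (j + 1) * t ^ (j - 1) = t ^ j * t ^ j := by
            rw [← pow_add, ← pow_add]; congr 1; omega
          have hp2 : t ^ (j + 1) = t ^ j + t ^ j := by
            rw [pow_succ, mul_two]
          rw [mul_expand, smul_add, smul_smul, hp, hp2, add_smul]
          abel
        rw [hu2] at h1
        exact (add_eq_left.1 h1.symm)
      have hX0 : rhoM hk0 X = 0 := by
        have h1 := rhoM_pow_smul_eq_zero hk0 (m := j + 1) (by omega) e1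
        rcases Nat.lt_or_ge 1 j with hj | hj
        · -- `j ≥ 2`
          have h2 : rho hk0 (t ^ (j - 1)) = 0 := by
            rw [map_pow, rho_two, zero_pow (by omega)]
          rw [map_add, rhoM_smul, h2, zero_smul, add_zero] at h1
          exact h1
        · -- `j = 1`
          have hj1' : j = 1 := by omega
          subst hj1'
          have h2 : rhoM hk0 X + rhoM hk0 X * rhoM hk0 X = 0 := by
            rw [← map_mul, ← map_add]
            simpa using h1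
          rw [pow_one] at hX hcu hccu
          have h3 : u * cj u = 1 + t • X + t • cj X + (t * t) • (X * cj X) := by
            rw [hcu, hX, mul_expand]
          have h4 : cj u * u = 1 + t • cj X + t • X + (t * t) • (cj X * X) := by
            rw [hcu, hX, mul_expand]
          have e2 : t ^ 2 • (X * cj X - cj X * X) = 0 := by
            have e : (t * t) • (X * cj X) - (t * t) • (cj X * X) = (u * cj u) - (cj u * u) := by
              rw [h3, h4]; abel
            rw [hcomm, sub_self] at e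
            rw [sq, smul_sub]
            exact e
          have h5 := rhoM_pow_smul_eq_zero hk0 (m := 2) (by omega) e2
          have h5' : rhoM hk0 X * (Cb * rhoM hk0 X * Cbi) - (Cb * rhoM hk0 X * Cbi) * rhoM hk0 X = 0 :=
            (rhoM_e5 hk0 X).symm.trans h5
          have e3 : t ^ 1 • (X + cj X - cj (cj X) + t • (X * cj X)) = 0 := by
            have e : t • X + t • cj X - t • cj (cj X) + (t * t) • (X * cj X) =
                (u * cj u) - cj (cj u) := by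
              rw [h3, hccu]; abel
            rw [hprod, sub_self] at e
            rw [pow_one, smul_add, smul_sub, smul_add, smul_smul]
            exact e
          have h6 := rhoM_pow_smul_eq_zero hk0 (m := 1) (by omega) e3
          have h6' : rhoM hk0 X + (Cb * rhoM hk0 X * Cbi) - Cb * (Cb * rhoM hk0 X * Cbi) * Cbi = 0 :=
            (rhoM_e3 hk0 X).symm.trans h6
          exact F2 _ h2 h5' h6'
      obtain ⟨W, hW⟩ := exists_two_smul_of_rhoM hk0 hX0
      refine ⟨W, ?_⟩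
      rw [hX, hW, smul_smul, pow_succ]
  obtain ⟨X, hX⟩ := hstep (k - 1) (by omega) le_rfl
  have hcu : cj u = 1 + t ^ (k - 1) • cj X := by rw [hX, cj_add, cj_one, cj_smul]
  have hccu : cj (cj u) = 1 + t ^ (k - 1) • cj (cj X) := by rw [hcu, cj_add, cj_one, cj_smul]
  refine ⟨X, hX, ?_, ?_⟩
  · intro h0
    obtain ⟨W, hW⟩ := exists_two_smul_of_rhoM hk0 h0
    apply hu1
    rw [hX, hW, smul_smul, ← pow_succ]
    have : k - 1 + 1 = k := by omega
    rw [this, two_pow_k, zero_smul, add_zero]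
  · have hsq : t ^ (k - 1) * t ^ (k - 1) = 0 := by
      rw [← pow_add]
      have : k - 1 + (k - 1) = k + (k - 2) := by omega
      rw [this, pow_add, two_pow_k, zero_mul]
    have e3 : t ^ (k - 1) • (X + cj X - cj (cj X)) = 0 := by
      have h3 : u * cj u = 1 + t ^ (k - 1) • X + t ^ (k - 1) • cj X := by
        rw [hcu, hX, mul_expand, hsq, zero_smul, add_zero]
      have e : t ^ (k - 1) • X + t ^ (k - 1) • cj X - t ^ (k - 1) • cj (cj X) =
          (u * cj u) - cj (cj u) := by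
        rw [h3, hccu]; abel
      rw [hprod, sub_self] at e
      rw [smul_sub, smul_add]
      exact e
    have h6 := rhoM_pow_smul_eq_zero hk0 (m := k - 1) (by omega) e3
    exact (rhoM_e4 hk0 X).symm.trans h6

/-- An element of order three is conjugate to `Cm`. -/
theorem exists_conj_Cm (hk : k ≠ 0) (y : MR) (hy3 : y * y * y = 1) (hy1 : y ≠ 1) :
    ∃ P : MR, IsUnit P ∧ y * P = P * Cm := by
  set W := y * y + y + 1 with hW
  have hYW : (y - 1) * W = 0 := by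
    have : (y - 1) * W = y * y * y - 1 := by rw [hW]; noncomm_ring
    rw [this, hy3, sub_self]
  have hb3 : rhoM hk y * rhoM hk y * rhoM hk y = 1 := by
    rw [← map_mul, ← map_mul, hy3, map_one]
  have hb1 : rhoM hk y ≠ 1 := by
    intro h
    have hW1 : rhoM hk W = 1 := by
      rw [hW, map_add, map_add, map_mul, h, map_one]
      decide
    have hWu : IsUnit W := isUnit_of_rhoM_det hk (by rw [hW1]; simp)
    have h0 : y - 1 = 0 := (hWu.mul_left_eq_zero).1 hYW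
    exact hy1 (sub_eq_zero.1 h0)
  obtain ⟨hdet, h10⟩ := F4 _ hb3 hb1
  have hYu : IsUnit (y - 1) := isUnit_of_rhoM_det hk (by
    rw [map_sub, map_one]; exact hdet)
  have hW0 : W = 0 := (hYu.mul_right_eq_zero).1 hYW
  have hc : IsUnit (y 1 0) := isUnit_of_rho hk h10
  have e00 : y 0 0 * y 0 0 + y 0 1 * y 1 0 + y 0 0 + 1 = 0 := by
    have := congrFun (congrFun hW0 0) 0
    simpa [hW, Matrix.mul_apply, Fin.sum_univ_two] using this
  have e10 : y 1 0 * y 0 0 + y 1 1 * y 1 0 + y 1 0 = 0 := by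
    have := congrFun (congrFun hW0 1) 0
    simpa [hW, Matrix.mul_apply, Fin.sum_univ_two] using this
  refine ⟨!![1, y 0 0; 0, y 1 0], ?_, ?_⟩
  · rw [Matrix.isUnit_iff_isUnit_det, Matrix.det_fin_two_of]
    simpa using hc
  · ext i j
    fin_cases i <;> fin_cases j <;> simp [Cm, Matrix.mul_apply, Fin.sum_univ_two]
    · linear_combination e00
    · linear_combination e10

lemma pow_smul_eq_of_rhoM (hk : k ≠ 0) {A B : MR} (h : rhoM hk A = rhoM hk B) :
    t ^ (k - 1) • A = t ^ (k - 1) • B := by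
  obtain ⟨W, hW⟩ := exists_two_smul_of_rhoM hk (W := A - B) (by rw [map_sub, h, sub_self])
  have h1 : t ^ (k - 1) • (A - B) = 0 := by
    rw [hW, smul_smul, ← pow_succ]
    have : k - 1 + 1 = k := by omega
    rw [this, two_pow_k, zero_smul]
  rw [smul_sub, sub_eq_zero] at h1
  exact h1

/-- `C` as an invertible matrix. -/
def CG : GL (Fin 2) (ZMod (2 ^ k)) := ⟨Cm, Cmi, Cm_mul_Cmi, Cmi_mul_Cm⟩

/-- The relations of `A₄`. -/
structure A4Rel {X : Type*} [Group X] (y u : X) : Prop where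
  y3 : y ^ 3 = 1
  y1 : y ≠ 1
  u2 : u ^ 2 = 1
  u1 : u ≠ 1
  comm : u * (y * u * y⁻¹) = (y * u * y⁻¹) * u
  prod : u * (y * u * y⁻¹) = y * (y * u * y⁻¹) * y⁻¹

theorem A4Rel.conj {X : Type*} [Group X] {y u : X} (h : A4Rel y u) (g : X) :
    A4Rel (g * y * g⁻¹) (g * u * g⁻¹) := by
  have hc : ∀ a b : X, (g * a * g⁻¹) * (g * b * g⁻¹) = g * (a * b) * g⁻¹ := by intros; group
  have hci : ∀ a : X, (g * a * g⁻¹)⁻¹ = g * a⁻¹ * g⁻¹ := by intros; group
  constructor
  · rw [conj_pow, h.y3]; group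
  · intro h1
    apply h.y1
    have h2 : y = g⁻¹ * (g * y * g⁻¹) * g := by group
    rw [h2, h1]; group
  · rw [conj_pow, h.u2]; group
  · intro h1
    apply h.u1
    have h2 : u = g⁻¹ * (g * u * g⁻¹) * g := by group
    rw [h2, h1]; group
  · simp only [hc, hci]; rw [h.comm]
  · simp only [hc, hci]; rw [h.prod]

theorem closure_le_of_rel (hk : 2 ≤ k) {v₁ v₂ : GL (Fin 2) (ZMod (2 ^ k))}
    (h₁ : A4Rel (CG : GL (Fin 2) (ZMod (2 ^ k))) v₁) (h₂ : A4Rel (CG : GL (Fin 2) (ZMod (2 ^ k))) v₂) :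
    Subgroup.closure ({CG, v₂} : Set (GL (Fin 2) (ZMod (2 ^ k)))) ≤
      Subgroup.closure ({CG, v₁} : Set (GL (Fin 2) (ZMod (2 ^ k)))) := by
  have hk0 : k ≠ 0 := by omega
  have key : ∀ v : GL (Fin 2) (ZMod (2 ^ k)), A4Rel (CG : GL (Fin 2) (ZMod (2 ^ k))) v →
      ∃ X : MR, (v : MR) = 1 + t ^ (k - 1) • X ∧ rhoM hk0 X ≠ 0 ∧
      rhoM hk0 X + (Cb * rhoM hk0 X * Cbi) - Cb * (Cb * rhoM hk0 X * Cbi) * Cbi = 0 := by
    intro v hv
    have hv' : ∀ w : GL (Fin 2) (ZMod (2 ^ k)), ((CG * w * CG⁻¹ : GL (Fin 2) (ZMod (2 ^ k))) : MR) = cj (w : MR) := by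
      intro w; rfl
    apply core hk (v : MR)
    · have := congrArg Units.val h₁.u2
      have h3 := congrArg Units.val hv.u2
      simpa [sq] using h3
    · intro h
      exact hv.u1 (Units.ext h)
    · exact congrArg Units.val hv.comm
    · exact congrArg Units.val hv.prod
  obtain ⟨X₁, hX₁, hn₁, hr₁⟩ := key v₁ h₁
  obtain ⟨X₂, hX₂, hn₂, hr₂⟩ := key v₂ h₂
  have hCmem : (CG : GL (Fin 2) (ZMod (2 ^ k))) ∈ Subgroup.closure ({CG, v₁} : Set (GL (Fin 2) (ZMod (2 ^ k)))) :=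
    Subgroup.subset_closure (by simp)
  have hvmem : v₁ ∈ Subgroup.closure ({CG, v₁} : Set (GL (Fin 2) (ZMod (2 ^ k)))) :=
    Subgroup.subset_closure (by simp)
  set K := Subgroup.closure ({CG, v₁} : Set (GL (Fin 2) (ZMod (2 ^ k)))) with hK
  have hcjmem : CG * v₁ * CG⁻¹ ∈ K := K.mul_mem (K.mul_mem hCmem hvmem) (K.inv_mem hCmem)
  have hcjmem2 : CG * (CG * v₁ * CG⁻¹) * CG⁻¹ ∈ K := K.mul_mem (K.mul_mem hCmem hcjmem) (K.inv_mem hCmem)
  have hcj1 : ((CG * v₁ * CG⁻¹ : GL (Fin 2) (ZMod (2 ^ k))) : MR) = 1 + t ^ (k - 1) • cj X₁ := by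
    change cj (v₁ : MR) = _
    rw [hX₁, cj_add, cj_one, cj_smul]
  have hcj2 : ((CG * (CG * v₁ * CG⁻¹) * CG⁻¹ : GL (Fin 2) (ZMod (2 ^ k))) : MR) =
      1 + t ^ (k - 1) • cj (cj X₁) := by
    change cj ((CG * v₁ * CG⁻¹ : GL (Fin 2) (ZMod (2 ^ k))) : MR) = _
    rw [hcj1, cj_add, cj_one, cj_smul]
  have hv₂ : v₂ ∈ K := by
    rcases F3 _ _ hn₁ hn₂ hr₁ hr₂ with h | h | h
    · have h1 := pow_smul_eq_of_rhoM hk0 h
      have : v₂ = v₁ := Units.ext (by rw [hX₂, hX₁, h1])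
      rw [this]; exact hvmem
    · have h1 := pow_smul_eq_of_rhoM hk0 (A := X₂) (B := cj X₁) (by rw [h, rhoM_cj])
      have : v₂ = CG * v₁ * CG⁻¹ := Units.ext (by rw [hX₂, hcj1, h1])
      rw [this]; exact hcjmem
    · have h1 := pow_smul_eq_of_rhoM hk0 (A := X₂) (B := cj (cj X₁)) (by rw [h, rhoM_cj, rhoM_cj])
      have : v₂ = CG * (CG * v₁ * CG⁻¹) * CG⁻¹ := Units.ext (by rw [hX₂, hcj2, h1])
      rw [this]; exact hcjmem2
  rw [Subgroup.closure_le]
  intro x hx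
  rcases hx with hx | hx
  · rw [hx]; exact hCmem
  · rw [Set.mem_singleton_iff.1 hx]; exact hv₂

end

section A4

abbrev A4 := alternatingGroup (Fin 4)

def y₀ : A4 := ⟨Equiv.swap 0 1 * Equiv.swap 1 2, by
  rw [Equiv.Perm.mem_alternatingGroup, map_mul, Equiv.Perm.sign_swap (by decide),
    Equiv.Perm.sign_swap (by decide)]; rfl⟩
def u₀ : A4 := ⟨Equiv.swap 0 1 * Equiv.swap 2 3, by
  rw [Equiv.Perm.mem_alternatingGroup, map_mul, Equiv.Perm.sign_swap (by decide),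
    Equiv.Perm.sign_swap (by decide)]; rfl⟩

set_option maxRecDepth 100000 in
lemma a4_nf : ∀ g : A4, ∃ a : Fin 3, ∃ b : Fin 2, ∃ c : Fin 2,
    g = y₀ ^ a.val * u₀ ^ b.val * (y₀ * u₀ * y₀⁻¹) ^ c.val := by decide +kernel

set_option maxRecDepth 100000 in
lemma a4_rel : A4Rel y₀ u₀ := by
  constructor <;> decide +kernel

lemma a4_closure : Subgroup.closure ({y₀, u₀} : Set A4) = ⊤ := by
  rw [eq_top_iff]
  intro g _
  obtain ⟨a, b, c, rfl⟩ := a4_nf g
  have hy : y₀ ∈ Subgroup.closure ({y₀, u₀} : Set A4) := Subgroup.subset_closure (by simp)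
  have hu : u₀ ∈ Subgroup.closure ({y₀, u₀} : Set A4) := Subgroup.subset_closure (by simp)
  set K := Subgroup.closure ({y₀, u₀} : Set A4)
  exact K.mul_mem (K.mul_mem (K.pow_mem hy _) (K.pow_mem hu _))
    (K.pow_mem (K.mul_mem (K.mul_mem hy hu) (K.inv_mem hy)) _)

theorem exists_gens {X : Type*} [Group X] (H : Subgroup X) (e : H ≃* A4) :
    ∃ y u : X, A4Rel y u ∧ H = Subgroup.closure ({y, u} : Set X) := by
  let f : A4 →* X := H.subtype.comp e.symm.toMonoidHom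
  have hf : Function.Injective f := Subtype.val_injective.comp e.symm.injective
  refine ⟨f y₀, f u₀, ?_, ?_⟩
  · have h := a4_rel
    constructor
    · rw [← map_pow, h.y3, map_one]
    · intro h1; exact h.y1 (hf (by rw [h1, map_one]))
    · rw [← map_pow, h.u2, map_one]
    · intro h1; exact h.u1 (hf (by rw [h1, map_one]))
    · have := congrArg f h.comm
      simpa using this
    · have := congrArg f h.prod
      simpa using this
  · have h1 : (Subgroup.closure ({y₀, u₀} : Set A4)).map f = H := by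
      rw [a4_closure, ← MonoidHom.range_eq_map]
      ext x
      constructor
      · rintro ⟨a, rfl⟩
        exact (e.symm a).2
      · intro hx
        exact ⟨e ⟨x, hx⟩, by simp [f]⟩
    rw [← h1, MonoidHom.map_closure]
    congr 1
    simp only [Set.image_insert_eq, Set.image_singleton]

end A4

theorem normal_form {k : ℕ} (hk : 2 ≤ k) (H : Subgroup (GL (Fin 2) (ZMod (2 ^ k))))
    (h : Nonempty (↥H ≃* ↥(alternatingGroup (Fin 4)))) :
    ∃ (g v : GL (Fin 2) (ZMod (2 ^ k))), A4Rel (CG : GL (Fin 2) (ZMod (2 ^ k))) v ∧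
      H.map (MulAut.conj g).toMonoidHom = Subgroup.closure ({CG, v} : Set (GL (Fin 2) (ZMod (2 ^ k)))) := by
  obtain ⟨e⟩ := h
  obtain ⟨y, u, hrel, rfl⟩ := exists_gens H e
  have hk0 : k ≠ 0 := by omega
  obtain ⟨P, hPu, hP⟩ := exists_conj_Cm hk0 (y : Matrix (Fin 2) (Fin 2) (ZMod (2 ^ k)))
    (by
      have := congrArg Units.val hrel.y3
      simpa [pow_succ, mul_assoc] using this)
    (fun h1 => hrel.y1 (Units.ext h1))
  obtain ⟨Pu, rfl⟩ := hPu
  have hconj : Pu⁻¹ * y * Pu⁻¹⁻¹ = CG := by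
    rw [inv_inv]
    apply Units.ext
    change ((Pu⁻¹ : GL _ _) : Matrix (Fin 2) (Fin 2) (ZMod (2 ^ k))) * (y : Matrix (Fin 2) (Fin 2) (ZMod (2 ^ k))) * (Pu : Matrix (Fin 2) (Fin 2) (ZMod (2 ^ k))) = Cm
    rw [mul_assoc, hP, ← mul_assoc, Units.inv_mul, one_mul]
  refine ⟨Pu⁻¹, Pu⁻¹ * u * Pu⁻¹⁻¹, ?_, ?_⟩
  · have := hrel.conj Pu⁻¹
    rw [hconj] at this
    exact this
  · rw [MonoidHom.map_closure]
    congr 1
    simp only [Set.image_insert_eq, Set.image_singleton]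
    change {Pu⁻¹ * y * Pu⁻¹⁻¹, Pu⁻¹ * u * Pu⁻¹⁻¹} = _
    rw [hconj]

theorem result (k : ℕ) (hk : 2 ≤ k) (H₁ H₂ : Subgroup (GL (Fin 2) (ZMod (2 ^ k)))) (h₁ : Nonempty (↥H₁ ≃* ↥(alternatingGroup (Fin 4)))) (h₂ : Nonempty (↥H₂ ≃* ↥(alternatingGroup (Fin 4)))) : ∃ g : GL (Fin 2) (ZMod (2 ^ k)), H₂ = H₁.map (MulAut.conj g).toMonoidHom := by
  obtain ⟨g₁, v₁, hv₁, he₁⟩ := normal_form hk H₁ h₁
  obtain ⟨g₂, v₂, hv₂, he₂⟩ := normal_form hk H₂ h₂
  have heq : Subgroup.closure ({CG, v₁} : Set (GL (Fin 2) (ZMod (2 ^ k)))) =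
      Subgroup.closure ({CG, v₂} : Set (GL (Fin 2) (ZMod (2 ^ k)))) :=
    le_antisymm (closure_le_of_rel hk hv₂ hv₁) (closure_le_of_rel hk hv₁ hv₂)
  refine ⟨g₂⁻¹ * g₁, ?_⟩
  rw [← map_conj_mul, he₁, heq, ← he₂, map_conj_inv_map_conj]

end Cfsg.Agent.S2874
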