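import Cfsg.Statements.S2879
import Cfsg.Agent.Lib.H13.Q8Act2
import Cfsg.Agent.Lib.H08.HallHigman
import Cfsg.Agent.Lib.H06.PSolvable
import Cfsg.Agent.Lib.H01.Fitting

set_option autoImplicit false

open Cfsg

namespace Cfsg.Agent.S2879

open Cfsg.Agent.H13 Subgroup

section aux

variable {G : Type*} [Group G] [Finite G]

theorem rel_cases {c y : G} (hy3 : y ^ 3 = 1) (hodd : Odd (orderOf y)) (hc4 : c ^ 4 = 1)
    (hS : ¬ (y * c = c * y)) (hjj : (y * c * y⁻¹) * (y * c * y⁻¹) = c * c)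
    (i : Fin 4) (b : Fin 2) (h : y * (y * c * y⁻¹) * y⁻¹ = c ^ i.val * (y * c * y⁻¹) ^ b.val) :
    y * (y * c * y⁻¹) * y⁻¹ = c * (y * c * y⁻¹) ∨ y * (y * c * y⁻¹) * y⁻¹ = c⁻¹ * (y * c * y⁻¹) := by
  set j := y * c * y⁻¹ with hj
  have hc3 : c ^ 3 = c⁻¹ := (eq_inv_of_mul_eq_one_left (by rw [← pow_succ]; exact hc4))
  have hj4 : j ^ 4 = 1 := by
    rw [hj, conj_pow, hc4]; group
  have hcommj : ¬ (y * j = j * y) := by
    intro h1
    apply hS
    have h0 : j * y = y * c := by rw [hj]; group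
    have h3 : j = c := mul_left_cancel (a := y) (h1.trans h0)
    rw [← h0, h3]
  have hyinv : y * y = y⁻¹ := by
    apply eq_inv_of_mul_eq_one_left
    rw [← hy3]; simp only [pow_succ, pow_zero, one_mul]
  have hbz : ∀ i' : ℕ, y * j * y⁻¹ ≠ c ^ i' := by
    intro i' h1
    have h2 : y⁻¹ * c * y⁻¹⁻¹ ∈ zpowers c := by
      have h3 : y⁻¹ * c * y⁻¹⁻¹ = y * j * y⁻¹ := by
        rw [hj]
        calc y⁻¹ * c * y⁻¹⁻¹ = (y * y) * c * (y * y)⁻¹ := by rw [hyinv]
          _ = y * (y * c * y⁻¹) * y⁻¹ := by group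
      rw [h3, h1]
      exact (zpowers c).pow_mem (mem_zpowers c) _
    have h4 := odd_comm_of_conj_mem_zpowers (h := y⁻¹) (w := c) (e := 2)
      (by rw [orderOf_inv]; exact hodd) (by simpa using hc4) h2
    apply hS
    have h5 : y⁻¹ * c * y = c := by
      have : y⁻¹ * c * y = (y⁻¹ * c) * y := rfl
      rw [this, h4]; group
    have h6 : y * (y⁻¹ * c * y) = c * y := by group
    rw [h5] at h6
    exact h6
  fin_cases i <;> fin_cases b
  · exact absurd h (hbz 0 |> fun h' h'' => h' (by simpa using h''))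
  · exfalso
    apply hcommj
    have h1 : y * j * y⁻¹ = j := by simpa using h
    calc y * j = y * j * y⁻¹ * y := by group
      _ = j * y := by rw [h1]
  · exact absurd h (hbz 1 |> fun h' h'' => h' (by simpa using h''))
  · left; simpa using h
  · exact absurd h (hbz 2 |> fun h' h'' => h' (by simpa using h''))
  · exfalso
    apply hcommj
    have h1 : y * j * y⁻¹ = j⁻¹ := by
      have h2 : y * j * y⁻¹ = c ^ 2 * j := by simpa using h
      rw [h2, sq, ← hjj]
      have h3 : j * j * j * j = 1 := by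
        rw [← hj4]; simp only [pow_succ, pow_zero, one_mul]
      exact eq_inv_of_mul_eq_one_left h3
    apply odd_comm_of_conj_mem_zpowers hodd (e := 2) (by simpa using hj4)
    rw [h1]
    exact (zpowers j).inv_mem (mem_zpowers j)
  · exact absurd h (hbz 3 |> fun h' h'' => h' (by simpa using h''))
  · right
    rw [← hc3]
    simpa using h

end aux

theorem result {G : Type*} [Group G] [Finite G] (hsol : IsSolvable G) (hO : Cfsg.oddCore G = ⊥) (T : Sylow 2 G) (hT : (∃ n : ℕ, 4 ≤ n ∧ Nonempty (↥(T : Subgroup G) ≃* DihedralGroup n)) ∨ Cfsg.IsQuasiDihedral ↥(T : Subgroup G)) (hne : (T : Subgroup G) ≠ ⊤) (hZ : ((T : Subgroup G) ⊓ Subgroup.centralizer ((T : Subgroup G) : Set G)).Normal) : ∃ U : Subgroup G, U.Normal ∧ Nonempty (↥U ≃* Matrix.SpecialLinearGroup (Fin 2) (ZMod 3)) := by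
  classical
  haveI : Fact (Nat.Prime 2) := ⟨Nat.prime_two⟩
  haveI : Group.IsSolvable G := hsol
  set F := pCore 2 G with hFdef
  haveI hFn : F.Normal := Cfsg.Agent.H01.pCore_normal 2
  have hF2 : IsPGroup 2 F := isPGroup_pCore
  have hCF : centralizer (F : Set G) ≤ F :=
    Cfsg.Agent.H08.hall_higman (Cfsg.Agent.H06.isPSolvable_of_isSolvable 2 G) hO
  have hFT : F ≤ T := pCore_le_sylow T
  have hTp : IsPGroup 2 (T : Subgroup G) := T.isPGroup'
  have hFmax : ∀ N : Subgroup G, N.Normal → IsPGroup 2 N → N ≤ F := fun N h1 h2 => le_pCore h1 h2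
  -- the abstract shape
  obtain ⟨a, haT, ha⟩ : ∃ a ∈ (T : Subgroup G), TwoMaxCyc (T : Subgroup G) a := by
    rcases hT with ⟨n, hn, ⟨e⟩⟩ | hq
    · have h2 : IsPGroup 2 (DihedralGroup n) := hTp.of_equiv e
      exact ⟨_, Subtype.coe_prop _, (TwoMaxCyc.of_mulEquiv e (twoMaxCyc_dihedral hn h2)).of_subgroup⟩
    · obtain ⟨x, hx⟩ := twoMaxCyc_quasi hq
      exact ⟨_, x.2, hx.of_subgroup⟩
  obtain ⟨c₄, hc₄, hc₄2, hc₄4⟩ := ha.c4
  have hc₄T : c₄ ∈ (T : Subgroup G) := by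
    obtain ⟨k, rfl⟩ := mem_zpowers_iff.1 hc₄
    exact T.1.zpow_mem haT k
  -- the centre of T
  set Z₀ := (T : Subgroup G) ⊓ centralizer ((T : Subgroup G) : Set G) with hZ₀
  have hZ2 : IsPGroup 2 Z₀ := hTp.to_le inf_le_left
  have hZF : Z₀ ≤ F := hFmax _ hZ hZ2
  have hZ1 : Z₀ ≠ ⊥ := by
    haveI : Nontrivial (T : Subgroup G) := by
      refine ⟨⟨c₄, hc₄T⟩, 1, ?_⟩
      intro h
      apply hc₄2
      have : c₄ = 1 := congrArg Subtype.val h
      rw [this, one_pow]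
    haveI := hTp.center_nontrivial
    obtain ⟨⟨z, hz⟩, hz1⟩ := exists_ne (1 : center (T : Subgroup G))
    have hz1' : (z : G) ≠ 1 := fun h => hz1 (Subtype.ext (Subtype.ext h))
    apply Subgroup.ne_bot_iff_exists_ne_one.2
    refine ⟨⟨(z : G), z.2, ?_⟩, fun h => hz1' (congrArg Subtype.val h)⟩
    refine mem_centralizer_iff.2 ?_
    intro u hu
    have := (mem_center_iff.1 hz) ⟨u, hu⟩
    exact congrArg Subtype.val this
  have hZA : Z₀ ≤ zpowers a := by
    intro z hz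
    by_contra hzA
    have h1 := ha.inv z hz.1 hzA c₄ hc₄ hc₄4
    have h2 := mem_centralizer_iff.1 hz.2 c₄ hc₄T
    have h3 : c₄⁻¹ = c₄ := by
      rw [← h1, ← h2]; group
    apply hc₄2
    rw [sq]
    nth_rewrite 1 [← h3]
    group
  -- an odd prime
  obtain ⟨r, hr, hr2, hrG⟩ : ∃ r : ℕ, r.Prime ∧ r ≠ 2 ∧ r ∣ Nat.card G := by
    have h1 : (T : Subgroup G).index ≠ 1 := fun h => hne (Subgroup.index_eq_one.1 h)
    obtain ⟨r, hr, hr1⟩ := Nat.exists_prime_and_dvd h1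
    refine ⟨r, hr, ?_, hr1.trans (Subgroup.index_dvd_card _)⟩
    rintro rfl
    exact T.not_dvd_index hr1
  haveI : Fact r.Prime := ⟨hr⟩
  obtain ⟨y, hy⟩ := exists_prime_orderOf_dvd_card' (G := G) r hrG
  have hodd : Odd (orderOf y) := by rw [hy]; exact hr.odd_of_ne_two hr2
  have hyF : y ∉ F := by
    intro h
    obtain ⟨e, he⟩ := hF2 ⟨y, h⟩
    have he' : y ^ 2 ^ e = 1 := congrArg Subtype.val he
    have h1 := orderOf_dvd_of_pow_eq_one he'
    rw [hy] at h1
    exact hr2 ((Nat.prime_dvd_prime_iff_eq hr Nat.prime_two).1 (hr.dvd_of_dvd_pow h1))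
  have hnc : ∃ f ∈ F, y * f ≠ f * y := by
    by_contra hcon
    push Not at hcon
    exact hyF (hCF (mem_centralizer_iff.2 fun f hf => (hcon f hf).symm))
  obtain ⟨c, hcF, htA, hcA, hc4, hc2, htt, htc, hNF, hS⟩ := q8_of_noncentral ha hFT hodd
    (fun f hf => hFn.conj_mem f hf y) hnc Z₀ hZF hZA hZ1 (fun z hz => hZ.conj_mem z hz y)
  have hjF : y * c * y⁻¹ ∈ F := hFn.conj_mem c hcF y
  have h6 : F.index ∣ 6 := index_dvd_six_of_q8 hF2 hFmax hCF hcF hjF hc4 hc2 htt htc hNF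
  set j := y * c * y⁻¹ with hj
  -- `|F| = 8`
  have hordc : orderOf c = 4 :=
    orderOf_eq_prime_pow (p := 2) (n := 1) (by simpa using hc2) (by simpa using hc4)
  have hFle : Nat.card F ≤ 8 := by
    let f : Fin 4 × Fin 2 → F := fun p =>
      ⟨c ^ p.1.val * j ^ p.2.val, F.mul_mem (F.pow_mem hcF _) (F.pow_mem hjF _)⟩
    have hf : Function.Surjective f := by
      rintro ⟨w, hw⟩
      obtain ⟨i, b, rfl⟩ := hNF w hw
      exact ⟨(i, b), rfl⟩
    have := Nat.card_le_card_of_surjective f hf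
    simpa using this
  have hzc : zpowers c ≤ F := by
    rw [zpowers_le]; exact hcF
  have h4F : 4 ∣ Nat.card F := by
    have := Subgroup.card_dvd_of_le hzc
    rwa [Nat.card_zpowers, hordc] at this
  have hzcA : zpowers c ≤ zpowers a := by
    rw [zpowers_le]; exact hcA
  have hF8 : Nat.card F = 8 := by
    obtain ⟨q, hq⟩ := h4F
    have hq2 : q ≤ 2 := by omega
    have hq0 : 1 ≤ q := by
      have : 0 < Nat.card F := Nat.card_pos
      omega
    interval_cases q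
    · exfalso
      have h1 : zpowers c = F := Subgroup.eq_of_le_of_card_ge hzc (by
        rw [Nat.card_zpowers, hordc, hq])
      apply htA
      apply hzcA
      rw [h1]
      exact hjF
    · rw [hq]
  -- `r = 3`
  have hG : Nat.card G = 8 * F.index := by
    rw [← F.card_mul_index, hF8]
  have hr3 : r = 3 := by
    have h1 : r ∣ 8 * 6 := by
      rw [hG] at hrG
      exact hrG.trans (Nat.mul_dvd_mul_left 8 h6)
    have h2 : r ∣ 2 ^ 4 * 3 := by simpa using h1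
    rcases (Nat.Prime.dvd_mul hr).1 h2 with h3 | h3
    · exact absurd ((Nat.prime_dvd_prime_iff_eq hr Nat.prime_two).1 (hr.dvd_of_dvd_pow h3)) hr2
    · exact (Nat.prime_dvd_prime_iff_eq hr Nat.prime_three).1 h3
  have hy3 : y ^ 3 = 1 := by
    rw [← hr3, ← hy]; exact pow_orderOf_eq_one y
  -- the relations
  have hkF : y * j * y⁻¹ ∈ F := hFn.conj_mem j hjF y
  obtain ⟨i, b, hib⟩ := hNF _ hkF
  have hcases := rel_cases hy3 hodd hc4 hS htt i b hib
  have hjcomm : j⁻¹ * c = c⁻¹ * j⁻¹ := by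
    have h1 : j * c⁻¹ * j⁻¹ = c := by
      have : j * c⁻¹ * j⁻¹ = (j * c * j⁻¹)⁻¹ := by group
      rw [this, htc, inv_inv]
    calc j⁻¹ * c = j⁻¹ * (j * c⁻¹ * j⁻¹) := by rw [h1]
      _ = c⁻¹ * j⁻¹ := by group
  obtain ⟨i₁, j₁, hi₁F, hj₁F, hi4, hj2, hji, hyi, hyj, hcU, hjU⟩ :
      ∃ i₁ j₁ : G, i₁ ∈ F ∧ j₁ ∈ F ∧ i₁ ^ 4 = 1 ∧ j₁ * j₁ = i₁ * i₁ ∧ j₁ * i₁ * j₁⁻¹ = i₁⁻¹ ∧
        y * i₁ * y⁻¹ = j₁ ∧ y * j₁ * y⁻¹ = i₁ * j₁ ∧
        c ∈ Subgroup.closure ({i₁, j₁, y} : Set G) ∧ j ∈ Subgroup.closure ({i₁, j₁, y} : Set G) := by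
    rcases hcases with h1 | h1
    · exact ⟨c, j, hcF, hjF, hc4, htt, htc, rfl, h1,
        Subgroup.subset_closure (by simp), Subgroup.subset_closure (by simp)⟩
    · refine ⟨c⁻¹, j⁻¹, F.inv_mem hcF, F.inv_mem hjF, by rw [inv_pow, hc4, inv_one], ?_, ?_, ?_, ?_,
        ?_, ?_⟩
      · have : j⁻¹ * j⁻¹ = (j * j)⁻¹ := by group
        rw [this, htt]; group
      · have : j⁻¹ * c⁻¹ * j⁻¹⁻¹ = (j⁻¹ * c * j)⁻¹ := by group
        rw [this, hjcomm]; group
      · have : y * c⁻¹ * y⁻¹ = (y * c * y⁻¹)⁻¹ := by group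
        rw [this]
      · have : y * j⁻¹ * y⁻¹ = (y * j * y⁻¹)⁻¹ := by group
        rw [this, h1, mul_inv_rev, inv_inv, hjcomm]
      · have h2 : c⁻¹ ∈ Subgroup.closure ({c⁻¹, j⁻¹, y} : Set G) :=
          Subgroup.subset_closure (by simp)
        simpa using Subgroup.inv_mem _ h2
      · have h2 : j⁻¹ ∈ Subgroup.closure ({c⁻¹, j⁻¹, y} : Set G) :=
          Subgroup.subset_closure (by simp)
        simpa using Subgroup.inv_mem _ h2
  set U := Subgroup.closure ({i₁, j₁, y} : Set G) with hU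
  have hUle : Nat.card U ≤ 24 := card_closure_three_le hi4 hj2 hji hy3 hyi hyj
  have hFU : F ≤ U := by
    intro f hf
    obtain ⟨i', b', rfl⟩ := hNF f hf
    exact U.mul_mem (U.pow_mem hcU _) (U.pow_mem hjU _)
  have hyU : y ∈ U := Subgroup.subset_closure (by simp)
  have h8U : 8 ∣ Nat.card U := by
    rw [← hF8]; exact Subgroup.card_dvd_of_le hFU
  have h3U : 3 ∣ Nat.card U := by
    have := U.orderOf_dvd_natCard hyU
    rwa [hy, hr3] at this
  have hU24 : Nat.card U = 24 := by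
    have h1 : 8 * 3 ∣ Nat.card U := Nat.Coprime.mul_dvd_of_dvd_of_dvd (by norm_num) h8U h3U
    have h2 : 0 < Nat.card U := Nat.card_pos
    have h3 := Nat.le_of_dvd h2 h1
    omega
  -- normality
  have hUidx : U.index = 1 ∨ U.index = 2 := by
    have h1 : 24 * U.index = 8 * F.index := by
      rw [← hU24, U.card_mul_index, hG]
    have h2 : 3 * U.index = F.index := by omega
    have h3 : U.index ∣ 2 := by
      have h4 : 3 * U.index ∣ 3 * 2 := by rw [h2]; exact h6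
      exact Nat.dvd_of_mul_dvd_mul_left (by norm_num) h4
    have := (Nat.dvd_prime Nat.prime_two).1 h3
    exact this
  have hUn : U.Normal := by
    rcases hUidx with h1 | h1
    · rw [Subgroup.index_eq_one.1 h1]; infer_instance
    · exact Subgroup.normal_of_index_eq_two h1
  exact ⟨U, hUn, closure_mulEquiv_slThree hi4 hj2 hji hy3 hyi hyj hU24⟩

end Cfsg.Agent.S2879
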