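import Cfsg.Statements.S2881
import Cfsg.Agent.Lib.H13.Extra

set_option autoImplicit false

open Cfsg

namespace Cfsg.Agent.S2881

open Cfsg.Agent.H13

theorem result {E : Type*} [Group E] [Finite E] (m : ℕ) (hm : 1 ≤ m) (hE : Cfsg.IsExtraspecial 2 E) (hcard : Nat.card E = 2 ^ (2 * m + 1)) (hplus : ∃ A : Subgroup E, Cfsg.IsElementaryAbelian 2 A ∧ Nat.card A = 2 ^ (m + 1)) (ω : E ≃* E) (hω : orderOf ω = 5) (hfix : ∀ x : E, ω x = x ↔ x ∈ Subgroup.center E) : 4 ∣ m := by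
  classical
  obtain ⟨A, hA, hAc⟩ := hplus
  have hT := extraspecial_two_count m hE hcard A hA hAc
  obtain ⟨z, hz1, hz2, hzc, hsq, hcm, hcen⟩ := extraspecial_two_setup hE
  have hord := extraspecial_two_orderOf_eq_four hz1 hz2 hsq
  haveI : Fintype {x : E // orderOf x = 4} := Fintype.ofFinite _
  let f : Function.End {x : E // orderOf x = 4} := fun x =>
    ⟨ω x.1, by rw [MulEquiv.orderOf_eq]; exact x.2⟩
  have hfp : ∀ k : ℕ, ∀ x, (f ^ k) x = ⟨(ω ^ k) x.1, by
      rw [MulEquiv.orderOf_eq]; exact x.2⟩ := by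
    intro k
    induction k with
    | zero => intro x; rfl
    | succ n ih =>
      intro x
      rw [pow_succ', pow_succ']
      show f ((f ^ n) x) = _
      rw [ih]
      rfl
  have hf5 : f ^ (5 : ℕ) ^ 1 = 1 := by
    funext x
    rw [hfp]
    apply Subtype.ext
    have : ω ^ (5 ^ 1) = 1 := by rw [pow_one, ← hω]; exact pow_orderOf_eq_one ω
    rw [this]
    rfl
  haveI : Fact (Nat.Prime 5) := ⟨by norm_num⟩
  have hmod := Equiv.Perm.card_fixedPoints_modEq (p := 5) (n := 1) hf5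
  have hnofix : Fintype.card f.fixedPoints = 0 := by
    rw [Fintype.card_eq_zero_iff]
    refine ⟨fun x => ?_⟩
    have hx : f x.1 = x.1 := x.2
    have h1 : ω x.1.1 = x.1.1 := congrArg Subtype.val hx
    have h2 := (hcen x.1.1).1 ((hfix _).1 h1)
    have h3 := (hord x.1.1).1 x.1.2
    rcases h2 with h | h
    · rw [h, one_pow] at h3
      exact hz1 h3.symm
    · rw [h, hz2] at h3
      exact hz1 h3.symm
  rw [hnofix, ← Nat.card_eq_fintype_card, hT] at hmod
  have hdvd : 5 ∣ 2 ^ (2 * m) - 2 ^ m := (Nat.modEq_zero_iff_dvd).1 hmod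
  have hfac : 2 ^ (2 * m) - 2 ^ m = 2 ^ m * (2 ^ m - 1) := by
    rw [Nat.mul_sub, mul_one]
    congr 1
    ring
  rw [hfac] at hdvd
  have h5 : Nat.Prime 5 := by norm_num
  have hne : ¬ 5 ∣ 2 ^ m := fun h => by
    have := h5.dvd_of_dvd_pow h
    omega
  have hd2 := (h5.dvd_mul.1 hdvd).resolve_left hne
  have hpos : 1 ≤ 2 ^ m := Nat.one_le_two_pow
  have hmodm : 2 ^ m % 5 = 1 := by omega
  have hkey : 2 ^ m % 5 = 2 ^ (m % 4) % 5 := by
    conv_lhs => rw [← Nat.div_add_mod m 4, pow_add, pow_mul]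
    rw [Nat.mul_mod, Nat.pow_mod]
    norm_num
  rw [hkey] at hmodm
  have hlt : m % 4 < 4 := Nat.mod_lt _ (by norm_num)
  apply Nat.dvd_of_mod_eq_zero
  interval_cases h : m % 4
  · rfl
  · norm_num at hmodm
  · norm_num at hmodm
  · norm_num at hmodm

end Cfsg.Agent.S2881
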