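import Cfsg.Statements.S4231
import Cfsg.Agent.Lib.H09.AltAut3
import Mathlib

set_option autoImplicit false
set_option linter.unusedVariables false
set_option linter.style.haveILetI false
set_option linter.unusedSectionVars false
open Cfsg

namespace Cfsg.Agent.S4231

open Equiv Equiv.Perm Cfsg.Agent.H09

section surj

variable {α : Type*} [DecidableEq α]

theorem conjNormal_surj' [Fintype α] {p₀ p₁ p₂ p₃ : α}
    (h2 : D3 p₀ p₁ p₂) (h3 : D3 p₀ p₁ p₃) (h23 : p₂ ≠ p₃) (f : MulAut (alternatingGroup α))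
    (hpres : ∀ g : alternatingGroup α, (g : Perm α).IsThreeCycle →
      ((f g : alternatingGroup α) : Perm α).IsThreeCycle) :
    ∃ σ : Perm α, MulAut.conjNormal σ = f := by
  classical
  have hpq := h2.ab
  let c : ∀ k, D3 p₀ p₁ k → alternatingGroup α := fun k hk =>
    ⟨t3 p₀ p₁ k, (isThreeCycle_t3 hk).mem_alternatingGroup⟩
  let d : ∀ k, D3 p₀ p₁ k → Perm α := fun k hk => ((f (c k hk) : alternatingGroup α) : Perm α)
  have hd3 : ∀ k hk, ∃ a b e, D3 a b e ∧ d k hk = t3 a b e := fun k hk =>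
    exists_t3 (hpres _ (isThreeCycle_t3 hk))
  have hrel : ∀ j k (hj : D3 p₀ p₁ j) (hk : D3 p₀ p₁ k), j ≠ k →
      ∀ t, d j hj (d k hk (d j hj (d k hk t))) = t := by
    intro j k hj hk hjk t
    have h0 : (c j hj * c k hk) * (c j hj * c k hk) = 1 := Subtype.ext (t3_rel hj hk hjk)
    have h1 := congrArg f h0
    simp only [map_mul, map_one] at h1
    have h2 := congrArg (fun x : alternatingGroup α => (x : Perm α) t) h1
    simpa using h2
  have hne1 : ∀ j k (hj : D3 p₀ p₁ j) (hk : D3 p₀ p₁ k), j ≠ k → d j hj ≠ d k hk := by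
    intro j k hj hk hjk e
    have h0 : c j hj = c k hk := f.injective (Subtype.ext e)
    have h1 : t3 p₀ p₁ j = t3 p₀ p₁ k := congrArg Subtype.val h0
    have h2 := congrArg (fun x : Perm α => x p₁) h1
    simp only [t3_apply hj, t3_apply hk, if_neg hj.ab.symm, if_neg hk.ab.symm, if_true] at h2
    exact hjk h2
  have hne2 : ∀ j k (hj : D3 p₀ p₁ j) (hk : D3 p₀ p₁ k), j ≠ k → d j hj ≠ (d k hk)⁻¹ := by
    intro j k hj hk hjk e
    have h0 : c j hj = (c k hk)⁻¹ := f.injective (Subtype.ext (by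
      rw [map_inv]
      exact e))
    have h1 : t3 p₀ p₁ j = (t3 p₀ p₁ k)⁻¹ := congrArg Subtype.val h0
    rw [t3_inv] at h1
    have h2 := congrArg (fun x : Perm α => x p₀) h1
    have hk' : D3 k p₁ p₀ := ⟨hk.bc.symm, hpq.symm, hk.ac.symm⟩
    simp only [t3_apply hj, t3_apply hk', if_true, if_neg hk.ac] at h2
    simp only [if_neg hpq] at h2
    exact hk.bc (by simpa using h2)
  obtain ⟨a₂, b₂, e₂, d₂, he₂⟩ := hd3 p₂ h2
  obtain ⟨a₃, b₃, e₃, d₃, he₃⟩ := hd3 p₃ h3
  have hrel23 := hrel p₂ p₃ h2 h3 h23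
  have hne123 := hne1 p₂ p₃ h2 h3 h23
  have hne223 := hne2 p₂ p₃ h2 h3 h23
  rw [he₂, he₃] at hrel23 hne123 hne223
  obtain ⟨a, b, r, s, hr, hs, hrs, e₁', e₂'⟩ := lemC d₂ d₃ hrel23 hne123 hne223
  rw [e₁'] at he₂
  rw [e₂'] at he₃
  have hall : ∀ k (hk : D3 p₀ p₁ k), ∃ g, D3 a b g ∧ d k hk = t3 a b g := by
    intro k hk
    by_cases hk2 : k = p₂
    · subst hk2
      exact ⟨r, hr, he₂⟩
    by_cases hk3 : k = p₃
    · subst hk3
      exact ⟨s, hs, he₃⟩
    obtain ⟨u, v, w, huvw, he⟩ := hd3 k hk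
    have rel2 := hrel p₂ k h2 hk (Ne.symm hk2)
    have rel3 := hrel p₃ k h3 hk (Ne.symm hk3)
    have n1 := hne1 p₂ k h2 hk (Ne.symm hk2)
    have n2 := hne2 p₂ k h2 hk (Ne.symm hk2)
    rw [he₂, he] at rel2 n1 n2
    rw [he₃, he] at rel3
    obtain ⟨g, hg, hgg⟩ := lemD hr hs hrs huvw rel2 rel3 n1 n2
    exact ⟨g, hg, he.trans hgg⟩
  choose g hg hgg using hall
  let σ' : α → α := fun x => if h : D3 p₀ p₁ x then g x h else if x = p₀ then a else b
  have hσ0 : σ' p₀ = a := by
    have : ¬ D3 p₀ p₁ p₀ := fun h => h.ac rfl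
    simp [σ', this]
  have hσ1 : σ' p₁ = b := by
    have : ¬ D3 p₀ p₁ p₁ := fun h => h.bc rfl
    simp [σ', this, hpq.symm]
  have hσk : ∀ k (hk : D3 p₀ p₁ k), σ' k = g k hk := by
    intro k hk
    simp [σ', hk]
  have hcases : ∀ x, x = p₀ ∨ x = p₁ ∨ D3 p₀ p₁ x := by
    intro x
    by_cases h0 : x = p₀
    · exact Or.inl h0
    by_cases h1 : x = p₁
    · exact Or.inr (Or.inl h1)
    exact Or.inr (Or.inr ⟨hpq, fun e => h1 e.symm, fun e => h0 e.symm⟩)
  have hinj : Function.Injective σ' := by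
    intro x y hxy
    have hab := hr.ab
    rcases hcases x with rfl | rfl | hx <;> rcases hcases y with rfl | rfl | hy
    · rfl
    · rw [hσ0, hσ1] at hxy; exact absurd hxy hab
    · rw [hσ0, hσk y hy] at hxy; exact absurd hxy (hg y hy).ac
    · rw [hσ0, hσ1] at hxy; exact absurd hxy.symm hab
    · rfl
    · rw [hσ1, hσk y hy] at hxy; exact absurd hxy (hg y hy).bc
    · rw [hσ0, hσk x hx] at hxy; exact absurd hxy.symm (hg x hx).ac
    · rw [hσ1, hσk x hx] at hxy; exact absurd hxy.symm (hg x hx).bc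
    · rw [hσk x hx, hσk y hy] at hxy
      by_contra hne
      apply hne1 x y hx hy hne
      rw [hgg x hx, hgg y hy, hxy]
  let σ : Perm α := Equiv.ofBijective σ' (Finite.injective_iff_bijective.1 hinj)
  have hσ : ∀ x, σ x = σ' x := fun x => rfl
  refine ⟨σ, ?_⟩
  have key : ∀ k (hk : D3 p₀ p₁ k), MulAut.conjNormal σ (c k hk) = f (c k hk) := by
    intro k hk
    apply Subtype.ext
    rw [MulAut.conjNormal_apply]
    show σ * t3 p₀ p₁ k * σ⁻¹ = d k hk
    rw [t3_conj, hgg k hk, hσ, hσ, hσ, hσ0, hσ1, hσk k hk]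
  let E : Subgroup (alternatingGroup α) :=
    MonoidHom.eqLocus (MulAut.conjNormal σ).toMonoidHom f.toMonoidHom
  let H : Subgroup (Perm α) := E.map (alternatingGroup α).subtype
  have hH : ∀ k, D3 p₀ p₁ k → t3 p₀ p₁ k ∈ H := by
    intro k hk
    exact ⟨c k hk, key k hk, rfl⟩
  have hall3 := gen_t3 H hpq hH
  have hle : alternatingGroup α ≤ H := by
    rw [← closure_three_cycles_eq_alternating, Subgroup.closure_le]
    intro x hx
    obtain ⟨u, v, w, huvw, rfl⟩ := exists_t3 hx
    exact hall3 u v w huvw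
  ext x
  obtain ⟨y, hy, hyx⟩ := hle x.2
  have : y = x := Subtype.ext hyx
  subst this
  have h1 : MulAut.conjNormal σ y = f y := hy
  rw [h1]


end surj

section small

theorem comm_of_small {n r : ℕ} [Fact r.Prime] (R : Subgroup (Perm (Fin n))) (hR : IsPGroup r R)
    (hn : n < r ^ 2) : ∀ a ∈ R, ∀ b ∈ R, a * b = b * a := by
  intro a ha b hb
  have hr := (Fact.out : r.Prime)
  ext1 x
  set K : Subgroup R := MulAction.stabilizer R x with hK
  have hidx : K.index = (MulAction.orbit R x).ncard := MulAction.index_stabilizer R x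
  have hle : K.index ≤ n := by
    rw [hidx]
    calc (MulAction.orbit R x).ncard ≤ Nat.card (Fin n) := by
          apply Set.ncard_le_card
      _ = n := by simp
  obtain ⟨N, hN⟩ := (IsPGroup.iff_card (p := r)).mp hR
  have hdvd : K.index ∣ r ^ N := by
    rw [← hN]
    exact Subgroup.index_dvd_card K
  obtain ⟨j, hj, hjN⟩ := (Nat.dvd_prime_pow hr).mp hdvd
  have hj1 : j ≤ 1 := by
    by_contra hlt
    have h2 : r ^ 2 ≤ r ^ j := Nat.pow_le_pow_right hr.pos (by omega)
    omega
  have hfix : ∀ y : R, y ∈ K → (y : Perm (Fin n)) x = x := fun y hy => hy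
  interval_cases j
  · have htop : K = ⊤ := Subgroup.index_eq_one.mp (by simpa using hjN)
    have h1 := hfix ⟨a, ha⟩ (by rw [htop]; trivial)
    have h2 := hfix ⟨b, hb⟩ (by rw [htop]; trivial)
    simp only at h1 h2
    simp [Perm.mul_apply, h1, h2]
  · have hidx1 : K.index = r := by simpa using hjN
    haveI : Finite R := inferInstance
    have hN0 : N ≠ 0 := by
      rintro rfl
      have h1 : K.index ∣ 1 := by
        have := Subgroup.index_dvd_card K
        rwa [hN, pow_zero] at this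
      rw [hidx1] at h1
      exact hr.one_lt.ne' (Nat.dvd_one.mp h1)
    have hmin : K.index = (Nat.card R).minFac := by
      rw [hN, hidx1, Nat.Prime.pow_minFac hr hN0]
    haveI hnormal : K.Normal := Subgroup.normal_of_index_eq_minFac_card hmin
    haveI : Fact (Nat.card (R ⧸ K)).Prime := ⟨by
      have : Nat.card (R ⧸ K) = r := hidx1
      rw [this]; exact hr⟩
    have hcomm : ∀ u v : R ⧸ K, u * v = v * u := by
      intro u v
      haveI : IsCyclic (R ⧸ K) := isCyclic_of_prime_card rfl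
      obtain ⟨g, hg⟩ := IsCyclic.exists_generator (α := R ⧸ K)
      obtain ⟨i, hi⟩ := Subgroup.mem_zpowers_iff.mp (hg u)
      obtain ⟨k, hk⟩ := Subgroup.mem_zpowers_iff.mp (hg v)
      rw [← hi, ← hk]
      exact zpow_mul_comm g i k
    set A : R := ⟨a, ha⟩
    set B : R := ⟨b, hb⟩
    have h3 : ((B * A : R) : R ⧸ K) = ((A * B : R) : R ⧸ K) := by
      rw [QuotientGroup.mk_mul, QuotientGroup.mk_mul]
      exact hcomm _ _
    have h4 : (B * A)⁻¹ * (A * B) ∈ K := QuotientGroup.eq.mp h3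
    have h5 := hfix _ h4
    have h6 : (((B * A)⁻¹ * (A * B) : R) : Perm (Fin n)) = (b * a)⁻¹ * (a * b) := rfl
    rw [h6, Perm.mul_apply] at h5
    exact Equiv.Perm.inv_eq_iff_eq.mp h5

end small

section six

abbrev A6 := alternatingGroup (Fin 6)

theorem card_T : (Finset.univ.filter (fun g : Perm (Fin 6) => g.support.card = 3)).card = 40 := by
  decide +kernel

theorem card_U : (Finset.univ.filter (fun g : Perm (Fin 6) =>
    g * g * g = 1 ∧ g ≠ 1 ∧ g.support.card ≠ 3)).card = 40 := by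
  decide +kernel

def TT : Set A6 := {x | (x : Perm (Fin 6)).IsThreeCycle}
def UU : Set A6 := {x | x * x * x = 1 ∧ x ≠ 1 ∧ ¬ (x : Perm (Fin 6)).IsThreeCycle}

theorem ncard_TT : TT.ncard = 40 := by
  have h : (Subtype.val '' TT : Set (Perm (Fin 6))) =
      ↑(Finset.univ.filter (fun g : Perm (Fin 6) => g.support.card = 3)) := by
    ext g
    simp only [Set.mem_image, Finset.coe_filter, Finset.mem_univ, true_and, Set.mem_ofPred_eq]
    constructor
    · rintro ⟨x, hx, rfl⟩
      exact card_support_eq_three_iff.mpr hx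
    · intro hg
      have h3 := card_support_eq_three_iff.mp hg
      exact ⟨⟨g, h3.mem_alternatingGroup⟩, h3, rfl⟩
  rw [← Set.ncard_image_of_injective TT Subtype.val_injective, h, Set.ncard_coe_finset]
  exact card_T

theorem ncard_UU : UU.ncard = 40 := by
  have h : (Subtype.val '' UU : Set (Perm (Fin 6))) =
      ↑(Finset.univ.filter (fun g : Perm (Fin 6) => g * g * g = 1 ∧ g ≠ 1 ∧ g.support.card ≠ 3)) := by
    ext g
    simp only [Set.mem_image, Finset.coe_filter, Finset.mem_univ, true_and, Set.mem_ofPred_eq]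
    constructor
    · rintro ⟨x, ⟨h1, h2, h3⟩, rfl⟩
      refine ⟨congrArg Subtype.val h1, fun h => h2 (Subtype.ext h), fun h => h3 ?_⟩
      exact card_support_eq_three_iff.mp h
    · rintro ⟨h1, h2, h3⟩
      have hs : sign g = 1 := by
        have h4 : sign g * sign g * sign g = 1 := by
          rw [← map_mul, ← map_mul, h1, map_one]
        rcases Int.units_eq_one_or (sign g) with h5 | h5
        · exact h5
        · rw [h5] at h4
          exact absurd h4 (by decide)
      refine ⟨⟨g, Equiv.Perm.mem_alternatingGroup.mpr hs⟩, ⟨Subtype.ext h1, ?_, ?_⟩, rfl⟩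
      · intro h
        exact h2 (congrArg Subtype.val h)
      · intro h
        exact h3 (card_support_eq_three_iff.mpr h)
  rw [← Set.ncard_image_of_injective UU Subtype.val_injective, h, Set.ncard_coe_finset]
  exact card_U

theorem pres_six (f : MulAut A6) (hf : Odd (orderOf f)) (g : A6)
    (hg : (g : Perm (Fin 6)).IsThreeCycle) : ((f g : A6) : Perm (Fin 6)).IsThreeCycle := by
  by_contra hng
  have hall : ∀ x ∈ TT, f x ∉ TT := by
    intro x hx hfx
    have hc : IsConj (x : Perm (Fin 6)) (g : Perm (Fin 6)) :=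
      isConj_of_cycleType_eq ((show (x : Perm (Fin 6)).IsThreeCycle from hx).trans hg.symm)
    have hc2 : IsConj x g := alternatingGroup.isConj_of hc (by
      rw [(show (x : Perm (Fin 6)).IsThreeCycle from hx).card_support]
      simp)
    obtain ⟨c, hc3⟩ := isConj_iff.mp hc2
    apply hng
    have h1 : f g = f c * f x * (f c)⁻¹ := by
      rw [← hc3, map_mul, map_mul, map_inv]
    rw [h1]
    show ((f c : Perm (Fin 6)) * (f x : Perm (Fin 6)) * (f c : Perm (Fin 6))⁻¹).IsThreeCycle
    rw [IsThreeCycle, cycleType_conj]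
    exact hfx
  have hT3 : ∀ x ∈ TT, x * x * x = 1 ∧ x ≠ 1 := by
    intro x hx
    have h3 : (x : Perm (Fin 6)).IsThreeCycle := hx
    have h4 : x ^ 3 = 1 := by
      apply Subtype.ext
      have : (x : Perm (Fin 6)) ^ 3 = 1 := by
        rw [← h3.orderOf]
        exact pow_orderOf_eq_one _
      simpa using this
    refine ⟨by rw [← pow_three']; exact h4, ?_⟩
    rintro rfl
    exact absurd (congrArg Multiset.card h3) (by simp)
  have hmem : ∀ x : A6, x * x * x = 1 → x ≠ 1 → f x * f x * f x = 1 ∧ f x ≠ 1 := by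
    intro x h1 h2
    refine ⟨by rw [← map_mul, ← map_mul, h1, map_one], ?_⟩
    intro h
    exact h2 (f.injective (by rw [h, map_one]))
  have hsub : f '' TT ⊆ UU := by
    rintro _ ⟨x, hx, rfl⟩
    obtain ⟨h1, h2⟩ := hT3 x hx
    obtain ⟨h3, h4⟩ := hmem x h1 h2
    exact ⟨h3, h4, hall x hx⟩
  have hEq : f '' TT = UU := by
    apply Set.eq_of_subset_of_ncard_le hsub
    rw [Set.ncard_image_of_injective _ f.injective, ncard_TT, ncard_UU]
  have hUT : ∀ y ∈ UU, f y ∈ TT := by
    intro y hy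
    by_contra hn
    obtain ⟨h1, h2⟩ := hmem y hy.1 hy.2.1
    have h3 : f y ∈ UU := ⟨h1, h2, hn⟩
    rw [← hEq] at h3
    obtain ⟨x, hx, hxy⟩ := h3
    have h4 : x = y := f.injective hxy
    subst h4
    exact hy.2.2 hx
  have hind : ∀ k : ℕ, (f ^ (2 * k)) g ∈ TT ∧ (f ^ (2 * k + 1)) g ∈ UU := by
    intro k
    have hs : ∀ m (z : A6), (f ^ (m + 1)) z = f ((f ^ m) z) := by
      intro m z
      rw [pow_succ', MulAut.mul_apply]
    induction k with
    | zero =>
      have h1 : (f ^ (2 * 0)) g = g := by simp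
      rw [h1]
      refine ⟨hg, ?_⟩
      have h2 : (f ^ (2 * 0 + 1)) g = f g := by simp
      rw [h2, ← hEq]
      exact ⟨g, hg, rfl⟩
    | succ k ih =>
      have h1 : (f ^ (2 * (k + 1))) g = f ((f ^ (2 * k + 1)) g) := by
        rw [show 2 * (k + 1) = (2 * k + 1) + 1 by ring, hs]
      have h2 : (f ^ (2 * (k + 1) + 1)) g = f ((f ^ (2 * (k + 1))) g) := hs _ _
      have h3 := hUT _ ih.2
      rw [← h1] at h3
      refine ⟨h3, ?_⟩
      rw [h2, ← hEq]
      exact ⟨_, h3, rfl⟩
  obtain ⟨j, hj⟩ := hf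
  have h1 := (hind j).2
  have h2 : f ^ (2 * j + 1) = 1 := by
    rw [← hj]
    exact pow_orderOf_eq_one f
  rw [h2] at h1
  exact h1.2.2 hg

end six

section elements

theorem order_two_cycles {n p q : ℕ} (hp : p.Prime) (hq : q.Prime) (hpq : p ≠ q) (hp2 : p ≠ 2)
    (hq2 : q ≠ 2) (hn : p + q ≤ n) : ∃ a : alternatingGroup (Fin n), orderOf a = p * q := by
  obtain ⟨g, hg⟩ := (exists_with_cycleType_iff (Fin n) (m := {p, q})).mpr (by
    constructor
    · simpa using hn
    · intro a ha
      simp only [Multiset.insert_eq_cons, Multiset.mem_cons, Multiset.mem_singleton] at ha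
      rcases ha with rfl | rfl
      · exact hp.two_le
      · exact hq.two_le)
  have ho : orderOf g = p * q := by
    rw [← lcm_cycleType, hg]
    simp only [Multiset.insert_eq_cons, Multiset.lcm_cons, Multiset.lcm_singleton, normalize_eq]
    exact ((Nat.coprime_primes hp hq).mpr hpq).lcm_eq_mul
  have hs : sign g = 1 := by
    rw [sign_of_cycleType, hg]
    have h1 : Even (p + q + 2) := by
      have := hp.odd_of_ne_two hp2
      have := hq.odd_of_ne_two hq2
      grind
    simpa using h1.neg_one_pow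
  refine ⟨⟨g, Equiv.Perm.mem_alternatingGroup.mpr hs⟩, ?_⟩
  rw [Subgroup.orderOf_mk, ho]

theorem order_two_mul {n q : ℕ} (hq : q.Prime) (hq2 : q ≠ 2) (hn : 4 + q ≤ n) :
    ∃ a : alternatingGroup (Fin n), orderOf a = 2 * q := by
  obtain ⟨g, hg⟩ := (exists_with_cycleType_iff (Fin n) (m := {2, 2, q})).mpr (by
    constructor
    · simp only [Multiset.insert_eq_cons, Multiset.sum_cons, Multiset.sum_singleton, Fintype.card_fin]
      omega
    · intro a ha
      simp only [Multiset.insert_eq_cons, Multiset.mem_cons, Multiset.mem_singleton] at ha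
      rcases ha with rfl | rfl | rfl
      · exact le_rfl
      · exact le_rfl
      · exact hq.two_le)
  have ho : orderOf g = 2 * q := by
    rw [← lcm_cycleType, hg]
    simp only [Multiset.insert_eq_cons, Multiset.lcm_cons, Multiset.lcm_singleton, normalize_eq]
    have h1 : Nat.Coprime 2 q := (Nat.coprime_primes Nat.prime_two hq).mpr (Ne.symm hq2)
    rw [show GCDMonoid.lcm 2 q = Nat.lcm 2 q from rfl, h1.lcm_eq_mul]
    rw [show GCDMonoid.lcm 2 (2 * q) = Nat.lcm 2 (2 * q) from rfl]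
    exact Nat.lcm_eq_right (Dvd.intro _ rfl)
  have hs : sign g = 1 := by
    rw [sign_of_cycleType, hg]
    have h1 : Even (2 + (2 + q) + 3) := by
      have := hq.odd_of_ne_two hq2
      grind
    simpa using h1.neg_one_pow
  refine ⟨⟨g, Equiv.Perm.mem_alternatingGroup.mpr hs⟩, ?_⟩
  rw [Subgroup.orderOf_mk, ho]

end elements

section main

theorem surj_all (n : ℕ) (hn : 5 ≤ n) (f : MulAut (alternatingGroup (Fin n)))
    (hf : Odd (orderOf f)) : ∃ σ : Perm (Fin n), MulAut.conjNormal σ = f := by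
  have hD2 : H09.D3 (⟨0, by omega⟩ : Fin n) ⟨1, by omega⟩ ⟨2, by omega⟩ :=
    ⟨by simp [Fin.ext_iff], by simp [Fin.ext_iff], by simp [Fin.ext_iff]⟩
  have hD3 : H09.D3 (⟨0, by omega⟩ : Fin n) ⟨1, by omega⟩ ⟨3, by omega⟩ :=
    ⟨by simp [Fin.ext_iff], by simp [Fin.ext_iff], by simp [Fin.ext_iff]⟩
  have h23 : (⟨2, by omega⟩ : Fin n) ≠ ⟨3, by omega⟩ := by simp [Fin.ext_iff]
  by_cases h6 : n = 6
  · subst h6
    exact conjNormal_surj' hD2 hD3 h23 f (fun g hg => pres_six f hf g hg)
  · exact H09.conjNormal_surj (by simpa using h6) hD2 hD3 h23 f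

theorem inj_all (n : ℕ) (hn : 5 ≤ n) :
    Function.Injective (MulAut.conjNormal : Perm (Fin n) →* MulAut (alternatingGroup (Fin n))) := by
  have hD2 : H09.D3 (⟨0, by omega⟩ : Fin n) ⟨1, by omega⟩ ⟨2, by omega⟩ :=
    ⟨by simp [Fin.ext_iff], by simp [Fin.ext_iff], by simp [Fin.ext_iff]⟩
  have hD3 : H09.D3 (⟨0, by omega⟩ : Fin n) ⟨1, by omega⟩ ⟨3, by omega⟩ :=
    ⟨by simp [Fin.ext_iff], by simp [Fin.ext_iff], by simp [Fin.ext_iff]⟩
  have h23 : (⟨2, by omega⟩ : Fin n) ≠ ⟨3, by omega⟩ := by simp [Fin.ext_iff]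
  exact H09.conjNormal_inj hD2 hD3 h23

theorem sylow_comm (n : ℕ) (hn : 5 ≤ n) (G : Subgroup (MulAut (alternatingGroup (Fin n))))
    (r : ℕ) [Fact r.Prime] (hr : r ≠ 2) (hnr : n < r ^ 2) (S : Sylow r G) :
    IsMulCommutative (S : Subgroup G) := by
  have hrp := (Fact.out : r.Prime)
  have hinj := inj_all n hn
  set R : Subgroup (Perm (Fin n)) :=
    ((S : Subgroup G).map G.subtype).comap MulAut.conjNormal with hR
  have hordS : ∀ x ∈ (S : Subgroup G), ∃ k, orderOf ((x : G) : MulAut (alternatingGroup (Fin n))) = r ^ k := by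
    intro x hx
    obtain ⟨k, hk⟩ := (IsPGroup.iff_orderOf (p := r)).mp S.isPGroup' ⟨x, hx⟩
    refine ⟨k, ?_⟩
    rw [← hk, Subgroup.orderOf_mk, Subgroup.orderOf_coe]
  have hRp : IsPGroup r R := by
    rw [IsPGroup.iff_orderOf]
    rintro ⟨g, hg⟩
    have hg' := hg
    obtain ⟨x, hx, hxg⟩ := hg'
    obtain ⟨k, hk⟩ := hordS x hx
    refine ⟨k, ?_⟩
    rw [Subgroup.orderOf_mk, ← orderOf_injective _ hinj g, ← hxg]
    exact hk
  have hc := comm_of_small R hRp hnr
  have hodd : ∀ x ∈ (S : Subgroup G), ∃ σ, MulAut.conjNormal σ = ((x : G) : MulAut (alternatingGroup (Fin n))) := by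
    intro x hx
    obtain ⟨k, hk⟩ := hordS x hx
    apply surj_all n hn
    rw [hk]
    exact (hrp.odd_of_ne_two hr).pow
  refine ⟨⟨fun a b => ?_⟩⟩
  obtain ⟨σ, hσ⟩ := hodd a a.2
  obtain ⟨τ, hτ⟩ := hodd b b.2
  have hσR : σ ∈ R := ⟨a, a.2, hσ.symm⟩
  have hτR : τ ∈ R := ⟨b, b.2, hτ.symm⟩
  have h1 := hc σ hσR τ hτR
  apply Subtype.ext
  apply Subtype.ext
  show ((a : G) : MulAut (alternatingGroup (Fin n))) * ((b : G) : MulAut (alternatingGroup (Fin n))) =
    ((b : G) : MulAut (alternatingGroup (Fin n))) * ((a : G) : MulAut (alternatingGroup (Fin n)))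
  rw [← hσ, ← hτ, ← map_mul, ← map_mul, h1]

/-- Let n ≥ 5 and let G be a group of automorphisms of the alternating group of degree n containing all inner automorphisms. If p ≠ q are primes and G has no element of order pq, then every Sylow p-subgroup of G is abelian or every Sylow q-subgroup of G is abelian. -/
theorem result (n : ℕ) (hn : 5 ≤ n) (G : Subgroup (MulAut (alternatingGroup (Fin n))))
    (hG : (MulAut.conj : alternatingGroup (Fin n) →* MulAut (alternatingGroup (Fin n))).range ≤ G)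
    (p q : ℕ) [Fact p.Prime] [Fact q.Prime] (hpq : p ≠ q) (h : ∀ g : G, orderOf g ≠ p * q) :
    (∀ P : Sylow p G, IsMulCommutative (P : Subgroup G)) ∨ (∀ Q : Sylow q G, IsMulCommutative (Q : Subgroup G)) := by
  have hp := (Fact.out : p.Prime)
  have hq := (Fact.out : q.Prime)
  by_cases hp' : p ≠ 2 ∧ n < p ^ 2
  · exact Or.inl (fun P => sylow_comm n hn G p hp'.1 hp'.2 P)
  by_cases hq' : q ≠ 2 ∧ n < q ^ 2
  · exact Or.inr (fun Q => sylow_comm n hn G q hq'.1 hq'.2 Q)
  exfalso
  have hconj : Function.Injective (MulAut.conj : alternatingGroup (Fin n) →* MulAut (alternatingGroup (Fin n))) := by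
    rw [injective_iff_map_eq_one]
    intro a ha
    have hc : a ∈ Subgroup.center (alternatingGroup (Fin n)) := by
      refine Subgroup.mem_center_iff.mpr (fun x => ?_)
      have h1 := congrArg (fun t : MulAut (alternatingGroup (Fin n)) => t x) ha
      simp only [MulAut.conj_apply, MulAut.one_apply] at h1
      have h2 : a * x * a⁻¹ * a = x * a := by rw [h1]
      rw [inv_mul_cancel_right] at h2
      exact h2.symm
    rw [alternatingGroup.center_eq_bot (by simpa using (by omega : 4 ≤ n))] at hc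
    exact Subgroup.mem_bot.mp hc
  have key : ∀ a : alternatingGroup (Fin n), orderOf a ≠ p * q := by
    intro a ha
    apply h ⟨MulAut.conj a, hG ⟨a, rfl⟩⟩
    rw [Subgroup.orderOf_mk, orderOf_injective _ hconj a, ha]
  have hp2 : p = 2 ∨ p ^ 2 ≤ n := by
    by_contra hc
    push Not at hc
    exact hp' ⟨hc.1, hc.2⟩
  have hq2 : q = 2 ∨ q ^ 2 ≤ n := by
    by_contra hc
    push Not at hc
    exact hq' ⟨hc.1, hc.2⟩
  have h3q : q ≠ 2 → 3 ≤ q := fun hne => by
    have := hq.two_le
    omega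
  have h3p : p ≠ 2 → 3 ≤ p := fun hne => by
    have := hp.two_le
    omega
  rcases hp2 with rfl | hp2
  · rcases hq2 with rfl | hq2
    · exact hpq rfl
    · have hq3 := h3q (Ne.symm hpq)
      obtain ⟨a, ha⟩ := order_two_mul (n := n) hq (Ne.symm hpq) (by nlinarith)
      exact key a ha
  · by_cases hp22 : p = 2
    · subst hp22
      rcases hq2 with rfl | hq2
      · exact hpq rfl
      · have hq3 := h3q (Ne.symm hpq)
        obtain ⟨a, ha⟩ := order_two_mul (n := n) hq (Ne.symm hpq) (by nlinarith)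
        exact key a ha
    rcases hq2 with rfl | hq2
    · have hp3 := h3p hp22
      obtain ⟨a, ha⟩ := order_two_mul (n := n) hp hp22 (by nlinarith)
      exact key a (by rw [ha, mul_comm])
    · by_cases hq22 : q = 2
      · subst hq22
        have hp3 := h3p hp22
        obtain ⟨a, ha⟩ := order_two_mul (n := n) hp hp22 (by nlinarith)
        exact key a (by rw [ha, mul_comm])
      have hp3 := h3p hp22
      have hq3 := h3q hq22
      have hsum : p + q ≤ n := by
        rcases lt_or_gt_of_ne hpq with hlt | hlt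
        · nlinarith
        · nlinarith
      obtain ⟨a, ha⟩ := order_two_cycles (n := n) hp hq hpq hp22 hq22 hsum
      exact key a ha

end main

end Cfsg.Agent.S4231
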