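import Cfsg.Statements.S2930
import Cfsg.Agent.Lib.H11.HallZ2
import Cfsg.Agent.S4231
import Cfsg.Agent.S1265
import Cfsg.Agent.Lib.H07.FStar

set_option autoImplicit false
open Cfsg

namespace Cfsg.Agent.S2930

open Equiv Equiv.Perm

/-- Elements of `3`-power order lie in a normal subgroup isomorphic to `A_n`
with self-centralising property. -/
lemma three_elt_mem {X : Type*} [Group X] (F : Subgroup X) [F.Normal]
    (hC : Subgroup.centralizer (F : Set X) ≤ F) (n : ℕ) (hn : 5 ≤ n)
    (e : F ≃* alternatingGroup (Fin n)) (x : X) (k : ℕ) (hx : x ^ (3 ^ k) = 1) : x ∈ F := by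
  classical
  let f : MulAut (alternatingGroup (Fin n)) := MulAut.congr e (MulAut.conjNormal x)
  have hf : f ^ (3 ^ k) = 1 := by
    have h1 : (MulAut.conjNormal x : MulAut F) ^ (3 ^ k) = 1 := by
      rw [← map_pow, hx, map_one]
    show (MulAut.congr e (MulAut.conjNormal x)) ^ (3 ^ k) = 1
    rw [← map_pow, h1, map_one]
  have hodd3 : Odd (3 ^ k) := Odd.pow (by decide)
  have hodd : Odd (orderOf f) := Odd.of_dvd_nat hodd3 (orderOf_dvd_of_pow_eq_one hf)
  obtain ⟨σ, hσ⟩ := Cfsg.Agent.S4231.surj_all n hn f hodd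
  have hσ3 : σ ^ (3 ^ k) = 1 := by
    apply Cfsg.Agent.S4231.inj_all n hn
    rw [map_pow, hσ, hf, map_one]
  have hsign : Perm.sign σ = 1 := by
    have h1 : (Perm.sign σ) ^ (3 ^ k) = 1 := by rw [← map_pow, hσ3, map_one]
    rcases Int.units_eq_one_or (Perm.sign σ) with h | h
    · exact h
    · rw [h, hodd3.neg_one_pow] at h1
      exact absurd h1 (by decide)
  let a : alternatingGroup (Fin n) := ⟨σ, Equiv.Perm.mem_alternatingGroup.2 hsign⟩
  let y : F := e.symm a
  have hw : ∀ w : F, (y : X) * w * (y : X)⁻¹ = x * w * x⁻¹ := by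
    intro w
    have h1 : (MulAut.conjNormal σ) (e w) = f (e w) := by rw [hσ]
    have h2 : f (e w) = e (MulAut.conjNormal x w) := by
      show e ((MulAut.conjNormal x) (e.symm (e w))) = _
      rw [e.symm_apply_apply]
    have h3 : (MulAut.conjNormal σ) (e w) = a * e w * a⁻¹ := by
      apply Subtype.ext
      rw [MulAut.conjNormal_apply]
      rfl
    rw [h2, h3] at h1
    have h4 : y * w * y⁻¹ = MulAut.conjNormal x w := by
      apply e.injective
      rw [← h1, map_mul, map_mul, map_inv]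
      simp [y]
    have h5 := congrArg (Subtype.val) h4
    rw [MulAut.conjNormal_apply] at h5
    simpa using h5
  have hcen : (y : X)⁻¹ * x ∈ Subgroup.centralizer (F : Set X) := by
    rw [Subgroup.mem_centralizer_iff]
    intro w hw'
    have h1 := hw ⟨w, hw'⟩
    simp only at h1
    have h2 : (y : X) * w * (y : X)⁻¹ * x = x * w := by rw [h1]; group
    calc w * ((y : X)⁻¹ * x) = (y : X)⁻¹ * ((y : X) * w * (y : X)⁻¹ * x) := by group
      _ = (y : X)⁻¹ * x * w := by rw [h2]; group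
  have h6 := hC hcen
  have h7 : x = (y : X) * ((y : X)⁻¹ * x) := by group
  rw [h7]
  exact F.mul_mem y.2 h6

/-- The main statement. -/
theorem result {X : Type*} [Group X] [Finite X] (hX : Cfsg.IsPMinimal 3 X) (n : ℕ) (hn : 5 ≤ n) (hF : Nonempty (↥(Cfsg.generalizedFittingSubgroup X) ≃* ↥(alternatingGroup (Fin n)))) : Cfsg.generalizedFittingSubgroup X = ⊤ ∧ (n = 6 ∨ n = 9 ∨ ∃ a : ℕ, 2 ≤ a ∧ n = 3 ^ a + 1) := by
  classical
  haveI : Fact (Nat.Prime 3) := ⟨Nat.prime_three⟩
  obtain ⟨e⟩ := hF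
  haveI hFn : (generalizedFittingSubgroup X).Normal := Cfsg.Agent.H07.generalizedFitting_normal X
  have hC := Cfsg.Agent.S1265.result (G := X)
  obtain ⟨S⟩ : Nonempty (Sylow 3 X) := inferInstance
  obtain ⟨hSn, M, ⟨hMc, hSM⟩, hMu⟩ := hX S
  have hSF : (S : Subgroup X) ≤ generalizedFittingSubgroup X := by
    intro s hs
    obtain ⟨k, hk⟩ := IsPGroup.iff_orderOf.1 S.isPGroup' ⟨s, hs⟩
    refine three_elt_mem _ hC n hn e s k ?_
    rw [Subgroup.orderOf_mk] at hk
    rw [← hk, pow_orderOf_eq_one]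
  have hSup := Sylow.normalizer_sup_eq_top' (P := S) hSF
  have habove : ∀ L : Subgroup X, L ≠ ⊤ → (S : Subgroup X) ≤ L → L ≤ M := by
    intro L hL hSL
    rcases eq_top_or_exists_le_coatom L with h | ⟨M₁, hM₁, hLM₁⟩
    · exact absurd h hL
    · have := hMu M₁ ⟨hM₁, hSL.trans hLM₁⟩
      rw [← this]
      exact hLM₁
  have hFtop : generalizedFittingSubgroup X = ⊤ := by
    by_contra hne
    have h1 := habove _ hne hSF
    have h2 : Subgroup.normalizer ((S : Subgroup X) : Set X) ≠ ⊤ := by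
      intro h
      exact hSn (Subgroup.normalizer_eq_top_iff.1 h)
    have h3 := habove _ h2 Subgroup.le_normalizer
    have h4 : (⊤ : Subgroup X) ≤ M := by
      rw [← hSup]
      exact sup_le h3 h1
    exact hMc.1 (top_le_iff.1 h4)
  refine ⟨hFtop, ?_⟩
  let e' : X ≃* alternatingGroup (Fin n) :=
    Subgroup.topEquiv.symm.trans ((MulEquiv.subgroupCongr hFtop.symm).trans e)
  let A : Subgroup (Perm (Fin n)) := alternatingGroup (Fin n)
  let R' : Subgroup (Perm (Fin n)) := ((S : Subgroup X).map e'.toMonoidHom).map A.subtype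
  let Mp : Subgroup (Perm (Fin n)) := (M.map e'.toMonoidHom).map A.subtype
  have hmemM : ∀ x : X, ((e' x : alternatingGroup (Fin n)) : Perm (Fin n)) ∈ Mp → x ∈ M := by
    rintro x ⟨a, ⟨m, hm, rfl⟩, ha⟩
    have h1 : e' m = e' x := Subtype.ext ha
    rw [← e'.injective h1]
    exact hm
  have hR3 : IsPGroup 3 R' := (S.isPGroup'.map _).map _
  have hR1 : R' ≠ ⊥ := by
    intro h
    have h1 := (Subgroup.map_eq_bot_iff_of_injective _ (Subgroup.subtype_injective _)).1 h
    have h2 := (Subgroup.map_eq_bot_iff_of_injective _ e'.injective).1 h1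
    apply hSn
    rw [h2]
    infer_instance
  have hRA : R' ≤ alternatingGroup (Fin n) := Subgroup.map_subtype_le _
  have hMn : ¬ alternatingGroup (Fin n) ≤ Mp := by
    intro h
    apply hMc.1
    rw [eq_top_iff]
    intro x _
    exact hmemM x (h (e' x).2)
  have huniq : ∀ M' : Subgroup (Perm (Fin n)), M' ≤ alternatingGroup (Fin n) →
      ¬ alternatingGroup (Fin n) ≤ M' → R' ≤ M' → M' ≤ Mp := by
    intro M' hM'A hM'n hRM'
    let L : Subgroup X := (M'.subgroupOf A).comap e'.toMonoidHom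
    have hLmem : ∀ x : X, x ∈ L ↔ ((e' x : alternatingGroup (Fin n)) : Perm (Fin n)) ∈ M' := by
      intro x
      rw [Subgroup.mem_comap, Subgroup.mem_subgroupOf]
      rfl
    have hLt : L ≠ ⊤ := by
      intro h
      apply hM'n
      intro g hg
      have h1 : e'.symm ⟨g, hg⟩ ∈ L := by rw [h]; trivial
      have h2 := (hLmem _).1 h1
      rw [e'.apply_symm_apply] at h2
      exact h2
    have hSL : (S : Subgroup X) ≤ L := by
      intro s hs
      rw [hLmem]
      apply hRM'
      exact ⟨e' s, ⟨s, hs, rfl⟩, rfl⟩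
    have hLM := habove L hLt hSL
    intro g hg
    have hgA := hM'A hg
    have h1 : e'.symm ⟨g, hgA⟩ ∈ L := by
      rw [hLmem, e'.apply_symm_apply]
      exact hg
    have h2 := hLM h1
    refine ⟨⟨g, hgA⟩, ⟨_, h2, ?_⟩, rfl⟩
    show e' (e'.symm ⟨g, hgA⟩) = _
    rw [e'.apply_symm_apply]
  have hmain := Cfsg.Agent.H11.MinA.perm_main (Ω := Fin n) (R := R') (M := Mp)
    (by rw [Fintype.card_fin]; exact hn) hR3 hR1 hRA hMn huniq
  simpa [Fintype.card_fin] using hmain

end Cfsg.Agent.S2930
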