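import Cfsg.Statements.S2933
import Cfsg.Agent.Lib.H29.FpfInvol
import Cfsg.Agent.S1896
import Cfsg.Agent.S3315
import Cfsg.Agent.S1141
-- import your own Cfsg.Agent.* helpers here

set_option autoImplicit false
open Cfsg

namespace Cfsg.Agent.S2933


open Cfsg.Agent.H29.Ord64
open Cfsg.Agent.S3315
open Cfsg.Agent.S1141
open scoped commutatorElement

section model

variable {F : Type*} [Field F] [Fintype F] [CharP F 2]

theorem mod_pframe (hF : Fintype.card F = 4 ^ 2) {P : Type*} [Group P] [Finite P] (M : Mod P F 4) :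
    Nat.card P = 64 ∧ ∃ (σ : P ≃* P) (e f : P), PFrame σ e f := by
  classical
  have h2z : ∀ w : F, w + w = 0 := fun w => CharTwo.add_self_eq_zero w
  have hq0 : (4 : ℕ) ≠ 0 := by norm_num
  have hcard : Nat.card P = 64 := by
    rw [M.card_eq hF]; norm_num
  haveI : Fact (Nat.Prime 3) := ⟨Nat.prime_three⟩
  have hFu : Nat.card Fˣ = 15 := by
    rw [Nat.card_eq_fintype_card, Fintype.card_units, hF]
    norm_num
  obtain ⟨u, hu⟩ := exists_prime_orderOf_dvd_card' (G := Fˣ) 3 (by rw [hFu]; norm_num)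
  have hu3 : u ^ 3 = 1 := by rw [← hu]; exact pow_orderOf_eq_one u
  have hu1 : u ≠ 1 := by
    rintro rfl
    simp at hu
  set l : F := (u : F) with hl
  have hl3 : l ^ 3 = 1 := by
    rw [hl, ← Units.val_pow_eq_pow_val, hu3, Units.val_one]
  have hl1 : l ≠ 1 := by
    intro h
    exact hu1 (Units.ext h)
  have hl0 : l ≠ 0 := u.ne_zero
  have hl4 : l ^ 4 = l := by rw [pow_succ, hl3, one_mul]
  have hl2 : (l ^ 2) ^ 4 = l ^ 2 := by
    rw [← pow_mul, show 2 * 4 = 2 * 3 + 2 by norm_num, pow_add, pow_mul', hl3, one_pow, one_mul]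
  have hm1 : ∀ g, act hF M (l ^ 2) hl2 (act hF M l hl4 g) = g := by
    intro g
    apply M.ext'
    · rw [act_pa, act_pa]
      linear_combination (M.pa g) * hl3
    · rw [act_ps, act_ps]
      have : (l ^ 2) ^ 2 * (l ^ 2 * M.ps g) = (l ^ 3) ^ 2 * M.ps g := by ring
      rw [this, hl3]
      ring
  have hm2 : ∀ g, act hF M l hl4 (act hF M (l ^ 2) hl2 g) = g := by
    intro g
    apply M.ext'
    · rw [act_pa, act_pa]
      linear_combination (M.pa g) * hl3
    · rw [act_ps, act_ps]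
      have : l ^ 2 * ((l ^ 2) ^ 2 * M.ps g) = (l ^ 3) ^ 2 * M.ps g := by ring
      rw [this, hl3]
      ring
  let σ : P ≃* P :=
    { toFun := act hF M l hl4
      invFun := act hF M (l ^ 2) hl2
      left_inv := hm1
      right_inv := hm2
      map_mul' := act_mul hF M l hl4 }
  have hσ : ∀ g, σ g = act hF M l hl4 g := fun _ => rfl
  have hps1 : M.ps 1 = 0 := by
    have h1 := M.ps_mul 1 1
    rw [mul_one, M.pa_one, zero_pow hq0, zero_mul, add_zero] at h1
    linear_combination -h1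
  have h3 : ∀ y, σ (σ (σ y)) = y := by
    intro g
    apply M.ext'
    · simp only [hσ, act_pa]
      linear_combination (M.pa g) * hl3
    · simp only [hσ, act_ps]
      have : l ^ 2 * (l ^ 2 * (l ^ 2 * M.ps g)) = (l ^ 3) ^ 2 * M.ps g := by ring
      rw [this, hl3]
      ring
  have hl21 : l ^ 2 ≠ 1 := by
    intro h
    apply hl1
    have : l ^ 3 = l ^ 2 * l := by ring
    rw [this, h, one_mul] at hl3
    exact hl3
  have hf : ∀ y, σ y = y → y = 1 := by
    intro g hg
    apply M.ext'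
    · rw [M.pa_one]
      have h1 := congrArg M.pa hg
      rw [hσ, act_pa] at h1
      have h4 : (l - 1) * M.pa g = 0 := by linear_combination h1
      rcases mul_eq_zero.1 h4 with h5 | h5
      · exact absurd (sub_eq_zero.1 h5) hl1
      · exact h5
    · rw [hps1]
      have h1 := congrArg M.ps hg
      rw [hσ, act_ps] at h1
      have h4 : (l ^ 2 - 1) * M.ps g = 0 := by linear_combination h1
      rcases mul_eq_zero.1 h4 with h5 | h5
      · exact absurd (sub_eq_zero.1 h5) hl21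
      · exact h5
  have hP : IsPGroup 2 P := (IsPGroup.iff_card).2 ⟨6, by rw [hcard]; norm_num⟩
  haveI : Group.IsNilpotent P := hP.isNilpotent
  have D : FpfData σ := FpfData.of_fin σ h3 hf
  have hna : ¬ IsMulCommutative P := by
    intro hc
    obtain ⟨s, hs⟩ := exists_tr hF h2z 1 (one_pow _)
    obtain ⟨g, hg1, -⟩ := M.surj 1 s (by rw [hs]; simp)
    have h1 := M.pa_of_central hF h2z g (fun y => (hc.is_comm.comm g y))
    rw [hg1] at h1
    exact one_ne_zero h1
  have hZ := center_card_four D hcard hna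
  have hQ : ∀ y : P, y * y = 1 → y ∈ Subgroup.center P := by
    intro y hy
    have h1 := M.ps_mul y y
    rw [hy, hps1, h2z, zero_add] at h1
    have h4 : M.pa y = 0 := by
      have h5 : M.pa y ^ 5 = 0 := by rw [pow_succ]; exact h1.symm
      exact pow_eq_zero_iff (by norm_num) |>.1 h5
    exact Subgroup.mem_center_iff.2 (fun x => (M.central_of_pa hq0 y h4 x).symm)
  obtain ⟨e, f, R⟩ := exists_pframe D hZ hna hQ
  exact ⟨hcard, σ, e, f, R⟩

theorem pframe_sylow {T : Type*} [Group T] [Finite T] (hT : Nat.card T = 64) {σ : T ≃* T} {e f : T}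
    (R : PFrame σ e f) {F : Type} [Field F] [Fintype F] (hF : Fintype.card F = 16)
    (P : Sylow 2 (Cfsg.PSU 3 F 4)) : Nonempty (T ≃* ↥(P : Subgroup (Cfsg.PSU 3 F 4))) := by
  classical
  have hF' : Fintype.card F = 4 ^ 2 := by rw [hF]; norm_num
  haveI : CharP F 2 := charP_of_card (n := 2) (by rw [hF]; norm_num) (le_refl 2)
  haveI : Fact (Nat.Prime 2) := ⟨Nat.prime_two⟩
  have hcen : Subgroup.center (Cfsg.SU 3 F 4) = ⊥ := by
    have h1 := Lead.card_center_SU (n := 3) (F := F) (q := 4) hF' (by norm_num)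
    rw [show Nat.gcd 3 (4 + 1) = 1 by norm_num] at h1
    exact Subgroup.card_eq_one.1 h1
  let ι : Cfsg.PSU 3 F 4 ≃* ↥(Cfsg.SU 3 F 4) :=
    (QuotientGroup.quotientMulEquivOfEq hcen).trans QuotientGroup.quotientBot
  have hcardG : Nat.card ↥(Cfsg.SU 3 F 4) = 2 ^ 6 * 975 := by
    have h1 := Lead.card_GU_eq hF' (n := 3) (by norm_num)
    have h2 := Lead.card_GU (n := 3) hF'
    rw [h1] at h2
    generalize Nat.card ↥(Cfsg.SU 3 F 4) = k at h2 ⊢
    simp only [Finset.prod_range_succ, Finset.prod_range_zero] at h2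
    norm_num at h2
    omega
  have hcardP : Nat.card (Cfsg.PSU 3 F 4) = 2 ^ 6 * 975 := by
    rw [Nat.card_congr ι.toEquiv, hcardG]
  have hfact : (Nat.card (Cfsg.PSU 3 F 4)).factorization 2 = 6 := by
    rw [hcardP, Nat.factorization_mul (by norm_num) (by norm_num), Finsupp.add_apply,
      Nat.factorization_eq_zero_of_not_dvd (by norm_num : ¬ 2 ∣ 975), add_zero,
      Nat.Prime.factorization_pow Nat.prime_two]
    simp
  let P₁ : Subgroup (Cfsg.PSU 3 F 4) := (P0 (q := 4) hF').map ι.symm.toMonoidHom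
  have hP₁ : Nat.card P₁ = 2 ^ (Nat.card (Cfsg.PSU 3 F 4)).factorization 2 := by
    rw [hfact, Subgroup.card_map_of_injective ι.symm.injective, (modP0 hF').card_eq hF']
    norm_num
  let Q0 : Sylow 2 (Cfsg.PSU 3 F 4) := Sylow.ofCard P₁ hP₁
  let e₂ : ↥(P0 (q := 4) hF') ≃* ↥P₁ := Subgroup.equivMapOfInjective _ _ ι.symm.injective
  obtain ⟨hc0, σ₀, e₀, f₀, R₀⟩ := mod_pframe hF' (modP0 hF')
  obtain ⟨φ⟩ := iso_of_pframes R R₀ hT hc0
  exact ⟨φ.trans (e₂.trans (Sylow.equiv Q0 P))⟩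

end model

section reduce

variable {X : Type*} [Group X] [Finite X]

theorem card_fix_mod2 (f : Equiv.Perm X) (hf : f ^ 2 = 1) :
    Nat.card X ≡ Nat.card {x // f x = x} [MOD 2] := by
  classical
  haveI := Fintype.ofFinite X
  haveI : Fact (Nat.Prime 2) := ⟨Nat.prime_two⟩
  let f' : Function.End X := (f : X → X)
  have hpow : ∀ n x, (f' ^ n) x = (f ^ n) x := by
    intro n
    induction n with
    | zero => intro x; rfl
    | succ n ih =>
      intro x
      rw [pow_succ, pow_succ]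
      show (f' ^ n) (f' x) = (f ^ n) (f x)
      rw [ih]
  have hf' : f' ^ 2 ^ 1 = 1 := by
    funext x
    rw [pow_one, hpow, hf]
    rfl
  have h := Equiv.Perm.card_fixedPoints_modEq (f := f') (p := 2) (n := 1) hf'
  rw [← Nat.card_eq_fintype_card, ← Nat.card_eq_fintype_card] at h
  exact h

/-- An involutory automorphism of a nontrivial 2-group fixes a nonidentity element. -/
theorem exists_fix {Y : Subgroup X} (hP : IsPGroup 2 Y) (τ : X ≃* X) (ht : ∀ y, τ (τ y) = y)
    (hY : ∀ y ∈ Y, τ y ∈ Y) {y : X} (hy : y ∈ Y) (hy1 : y ≠ 1) :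
    ∃ x ∈ Y, x ≠ 1 ∧ τ x = x := by
  classical
  let f : Equiv.Perm Y :=
    { toFun := fun z => ⟨τ z.1, hY _ z.2⟩
      invFun := fun z => ⟨τ z.1, hY _ z.2⟩
      left_inv := fun z => Subtype.ext (ht z.1)
      right_inv := fun z => Subtype.ext (ht z.1) }
  have hf2 : f ^ 2 = 1 := by
    ext z
    show τ (τ z.1) = z.1
    exact ht z.1
  have h1 := card_fix_mod2 f hf2
  obtain ⟨m, hm⟩ := (IsPGroup.iff_card (p := 2)).1 hP
  have hm0 : m ≠ 0 := by
    rintro rfl
    rw [pow_zero] at hm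
    have := Subgroup.card_eq_one.1 hm
    rw [this] at hy
    exact hy1 (Subgroup.mem_bot.1 hy)
  have hev : Even (Nat.card Y) := by
    rw [hm]
    exact (Nat.even_pow.2 ⟨even_two, hm0⟩)
  have hev2 : Nat.card {x // f x = x} % 2 = 0 := by
    have h2 : Nat.card Y % 2 = 0 := Nat.even_iff.1 hev
    unfold Nat.ModEq at h1
    omega
  by_contra hcon
  push Not at hcon
  have h3 : Nat.card {x // f x = x} = 1 := by
    rw [Nat.card_eq_one_iff_unique]
    refine ⟨⟨?_⟩, ⟨⟨1, ?_⟩⟩⟩
    · rintro ⟨a, ha⟩ ⟨b, hb⟩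
      have h4 : ∀ c : Y, f c = c → c = 1 := by
        intro c hc
        by_contra hc1
        exact hcon c.1 c.2 (fun h => hc1 (Subtype.ext h)) (congrArg Subtype.val hc)
      exact Subtype.ext ((h4 a ha).trans (h4 b hb).symm)
    · apply Subtype.ext
      show τ 1 = 1
      exact map_one τ
  omega

theorem ab_final (hcomm : ∀ a b : X, a * b = b * a) (hP : IsPGroup 2 X) {σ τ : X ≃* X}
    (h3 : ∀ y, σ (σ (σ y)) = y) (hf : ∀ y, σ y = y → y = 1)
    (ht : ∀ y, τ (τ y) = y) (hc : ∀ y, τ (σ y) = σ (τ y)) (hV : Nat.card (Fx τ) = 4) :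
    (Nat.card X = 16 ∧ ∀ x : X, x * x = 1) ∨ ∃ y : X, ∃ H : Subgroup X, H = Subgroup.closure {y, σ y} ∧ H = ⊤ := by
  let _ : CommGroup X := { (inferInstance : Group X) with mul_comm := hcomm }
  have D : AbData σ τ := ⟨hP, h3, hf, ht, hc⟩
  rcases ab_class D hV with h | ⟨y, hy⟩
  · exact Or.inl h
  · exact Or.inr ⟨y, _, rfl, hy⟩

theorem ab_iso (hcomm : ∀ a b : X, a * b = b * a) (hP : IsPGroup 2 X) {σ : X ≃* X}
    (h3 : ∀ y, σ (σ (σ y)) = y) (hf : ∀ y, σ y = y → y = 1) {y : X}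
    (hy : Subgroup.closure {y, σ y} = ⊤) {w : X} (hw : w ≠ 1) :
    ∃ n : ℕ, 1 ≤ n ∧ Nonempty (X ≃* Multiplicative (ZMod (2 ^ n)) × Multiplicative (ZMod (2 ^ n))) := by
  classical
  let N : Subgroup X := Subgroup.zpowers y
  haveI hN : N.Normal := ⟨fun n hn g => by
    have : g * n * g⁻¹ = n := by rw [hcomm g n]; group
    rw [this]; exact hn⟩
  have hNc : IsCyclic N := inferInstance
  have hQ : IsCyclic (X ⧸ N) := by
    refine ⟨⟨((σ y : X) : X ⧸ N), ?_⟩⟩
    intro q
    obtain ⟨x, rfl⟩ := QuotientGroup.mk_surjective q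
    let H : Subgroup X := (Subgroup.zpowers ((σ y : X) : X ⧸ N)).comap (QuotientGroup.mk' N)
    have hle : Subgroup.closure {y, σ y} ≤ H := by
      rw [Subgroup.closure_le]
      intro z hz
      simp only [Set.mem_insert_iff, Set.mem_singleton_iff] at hz
      rcases hz with hz | hz
      · rw [hz]
        show ((y : X) : X ⧸ N) ∈ Subgroup.zpowers ((σ y : X) : X ⧸ N)
        have : ((y : X) : X ⧸ N) = 1 := (QuotientGroup.eq_one_iff _).2 (Subgroup.mem_zpowers y)
        rw [this]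
        exact Subgroup.one_mem _
      · rw [hz]
        exact Subgroup.mem_zpowers _
    rw [hy] at hle
    exact hle (Subgroup.mem_top x)
  let α : MulAut X := σ
  have hα3 : α ^ 3 = 1 := by
    ext g
    exact h3 g
  have hodd : Odd (orderOf α) := by
    have h1 : orderOf α ∣ 3 := orderOf_dvd_of_pow_eq_one hα3
    rcases (Nat.dvd_prime Nat.prime_three).1 h1 with h | h <;> rw [h] <;> decide
  have hne : α ≠ 1 := by
    intro h
    apply hw
    apply hf
    have := congrArg (fun g : MulAut X => g w) h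
    exact this
  rcases Cfsg.Agent.S1896.core hP N hNc hQ α hodd hne with ⟨⟨e⟩⟩ | ⟨n, ⟨e⟩⟩
  · exfalso
    have h1 : e.symm (QuaternionGroup.a 1) * e.symm (QuaternionGroup.xa 0) =
        e.symm (QuaternionGroup.xa 0) * e.symm (QuaternionGroup.a 1) := hcomm _ _
    rw [← map_mul, ← map_mul] at h1
    have h2 := e.symm.injective h1
    exact absurd h2 (by decide)
  · refine ⟨n, ?_, ⟨e⟩⟩
    by_contra hn
    have hn0 : n = 0 := by omega
    subst hn0
    apply hw
    apply e.injective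
    rw [map_one]
    have hs : ∀ a b : Multiplicative (ZMod (2 ^ 0)), a = b := fun a b =>
      @Subsingleton.elim (ZMod 1) _ a b
    apply Prod.ext <;> exact hs _ _

end reduce

section main

variable {G : Type*} [Group G]

/-- Conjugation on a normalized subgroup. -/
def cj (T : Subgroup G) (g : G) (hg : ∀ h, h ∈ T ↔ g * h * g⁻¹ ∈ T) : T ≃* T where
  toFun y := ⟨g * y.1 * g⁻¹, (hg y.1).1 y.2⟩
  invFun y := ⟨g⁻¹ * y.1 * g, (hg _).2 (by
    have : g * (g⁻¹ * y.1 * g) * g⁻¹ = y.1 := by group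
    rw [this]; exact y.2)⟩
  left_inv y := Subtype.ext (by show g⁻¹ * (g * y.1 * g⁻¹) * g = y.1; group)
  right_inv y := Subtype.ext (by show g * (g⁻¹ * y.1 * g) * g⁻¹ = y.1; group)
  map_mul' a b := Subtype.ext (by
    show g * (a.1 * b.1) * g⁻¹ = g * a.1 * g⁻¹ * (g * b.1 * g⁻¹); group)

end main



/-- Let T be a 2-subgroup of a finite group G, V ≤ Z(T) a four-group, and t, ρ ∈ N_G(V) ∩ N_G(T) elements of order 2 and 3 with t commuting with ρ and with V. If [V, ρ] = V and C_T(t) = V, then T is elementary abelian of order 16, or homocyclic of rank 2 (ℤ/2ⁿ × ℤ/2ⁿ for some n ≥ 1), or isomorphic to a Sylow 2-subgroup of PSL₃(4) or of PSU₃(4). -/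
theorem result {G : Type*} [Group G] [Finite G] (T V : Subgroup G) (hT : IsPGroup 2 ↥T) (hVT : V ≤ T ⊓ Subgroup.centralizer (T : Set G)) (hV : Nat.card ↥V = 4 ∧ ∀ v ∈ V, v ^ 2 = 1) (t ρ : G) (ht : orderOf t = 2) (hρ : orderOf ρ = 3) (htn : t ∈ Subgroup.normalizer (V : Set G) ⊓ Subgroup.normalizer (T : Set G)) (hρn : ρ ∈ Subgroup.normalizer (V : Set G) ⊓ Subgroup.normalizer (T : Set G)) (htρ : t * ρ = ρ * t) (htV : t ∈ Subgroup.centralizer (V : Set G)) (hVρ : ⁅V, Subgroup.zpowers ρ⁆ = V) (hCt : T ⊓ Subgroup.centralizer ({t} : Set G) = V) : (Nat.card ↥T = 16 ∧ ∀ x ∈ T, x ^ 2 = 1) ∨ (∃ n : ℕ, 1 ≤ n ∧ Nonempty (↥T ≃* Multiplicative (ZMod (2 ^ n)) × Multiplicative (ZMod (2 ^ n)))) ∨ (∃ (F : Type) (_ : Field F) (_ : Fintype F), Fintype.card F = 4 ∧ ∀ P : Sylow 2 (Matrix.ProjectiveSpecialLinearGroup (Fin 3) F), Nonempty (↥T ≃* ↥(P : Subgroup (Matrix.ProjectiveSpecialLinearGroup (Fin 3) F)))) ∨ (∃ (F : Type) (_ : Field F) (_ : Fintype F), Fintype.card F = 16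 ∧ ∀ P : Sylow 2 (Cfsg.PSU 3 F 4), Nonempty (↥T ≃* ↥(P : Subgroup (Cfsg.PSU 3 F 4)))) := by
  classical
  haveI : Fact (Nat.Prime 2) := ⟨Nat.prime_two⟩
  haveI : Finite T := inferInstance
  have hnT : ∀ h, h ∈ T ↔ ρ * h * ρ⁻¹ ∈ T := fun h => Subgroup.mem_normalizer_iff.1 hρn.2 h
  have hnT' : ∀ h, h ∈ T ↔ t * h * t⁻¹ ∈ T := fun h => Subgroup.mem_normalizer_iff.1 htn.2 h
  let σ : T ≃* T := cj T ρ hnT
  let τ : T ≃* T := cj T t hnT'
  have hσ : ∀ y : T, ((σ y : T) : G) = ρ * y.1 * ρ⁻¹ := fun _ => rfl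
  have hτ : ∀ y : T, ((τ y : T) : G) = t * y.1 * t⁻¹ := fun _ => rfl
  have hρ3 : ρ ^ 3 = 1 := by rw [← hρ]; exact pow_orderOf_eq_one ρ
  have ht2 : t ^ 2 = 1 := by rw [← ht]; exact pow_orderOf_eq_one t
  have hρ3' : ρ * ρ * ρ = 1 := by
    rw [← hρ3]; simp only [pow_succ, pow_zero, one_mul]
  have ht2' : t * t = 1 := by
    rw [← ht2]; simp only [pow_succ, pow_zero, one_mul]
  have h3 : ∀ y, σ (σ (σ y)) = y := by
    intro y
    apply Subtype.ext
    rw [hσ, hσ, hσ]
    have e1 : ρ * (ρ * (ρ * y.1 * ρ⁻¹) * ρ⁻¹) * ρ⁻¹ = (ρ * ρ * ρ) * y.1 * (ρ * ρ * ρ)⁻¹ := by group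
    rw [e1, hρ3']; simp
  have htt : ∀ y, τ (τ y) = y := by
    intro y
    apply Subtype.ext
    rw [hτ, hτ]
    have e1 : t * (t * y.1 * t⁻¹) * t⁻¹ = (t * t) * y.1 * (t * t)⁻¹ := by group
    rw [e1, ht2']; simp
  have hc : ∀ y, τ (σ y) = σ (τ y) := by
    intro y
    apply Subtype.ext
    rw [hτ, hσ, hσ, hτ]
    have e1 : t * (ρ * y.1 * ρ⁻¹) * t⁻¹ = (t * ρ) * y.1 * (t * ρ)⁻¹ := by group
    have e2 : ρ * (t * y.1 * t⁻¹) * ρ⁻¹ = (ρ * t) * y.1 * (ρ * t)⁻¹ := by group
    rw [e1, e2, htρ]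
  have hVT1 : V ≤ T := fun v hv => (hVT hv).1
  have hFx : (Fx τ).map T.subtype = V := by
    ext g
    constructor
    · rintro ⟨y, hy, rfl⟩
      rw [← hCt]
      refine ⟨y.2, ?_⟩
      show y.1 ∈ Subgroup.centralizer {t}
      rw [Subgroup.mem_centralizer_singleton_iff]
      have h1 : t * y.1 * t⁻¹ = y.1 := congrArg Subtype.val hy
      calc y.1 * t = t * y.1 * t⁻¹ * t := by rw [h1]
        _ = t * y.1 := by group
    · intro hg
      have hg' := hg
      rw [← hCt] at hg'
      refine ⟨⟨g, hg'.1⟩, ?_, rfl⟩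
      apply Subtype.ext
      show t * g * t⁻¹ = g
      have h1 := Subgroup.mem_centralizer_singleton_iff.1 hg'.2
      rw [← h1]
      group
  have hV4 : Nat.card (Fx τ) = 4 := by
    rw [← hV.1, ← hFx, Subgroup.card_map_of_injective T.subtype_injective]
  -- the action on the fixed points of `τ`
  have hVinv : ∀ x ∈ Fx τ, σ x ∈ Fx τ := by
    intro x hx
    show τ (σ x) = σ x
    rw [hc, mem_Fx.1 hx]
  have hstepa : ∀ v : T, v ∈ Fx τ → σ v = v → v = 1 := by
    intro v hv hvσ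
    by_contra hv1
    let f : Equiv.Perm (Fx τ) :=
      { toFun := fun z => ⟨σ z.1, hVinv _ z.2⟩
        invFun := fun z => ⟨σ (σ z.1), hVinv _ (hVinv _ z.2)⟩
        left_inv := fun z => Subtype.ext (h3 z.1)
        right_inv := fun z => Subtype.ext (h3 z.1) }
    have hf3 : f ^ 3 = 1 := by
      ext z
      show ((σ (σ (σ z.1)) : T) : G) = z.1
      rw [h3]
    have hm := card_fix_mod3 f hf3
    let S : Subgroup (Fx τ) :=
      { carrier := {z | f z = z}
        one_mem' := Subtype.ext (map_one σ)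
        mul_mem' := by
          intro a b ha hb
          have ha' : σ a.1 = a.1 := congrArg Subtype.val ha
          have hb' : σ b.1 = b.1 := congrArg Subtype.val hb
          apply Subtype.ext
          show σ (a.1 * b.1) = a.1 * b.1
          rw [map_mul, ha', hb']
        inv_mem' := by
          intro a ha
          have ha' : σ a.1 = a.1 := congrArg Subtype.val ha
          apply Subtype.ext
          show σ (a.1)⁻¹ = (a.1)⁻¹
          rw [map_inv, ha'] }
    have hScard : Nat.card S = Nat.card {x // f x = x} := rfl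
    rw [← hScard, hV4] at hm
    have hSd : Nat.card S ∣ 4 := by
      rw [← hV4]; exact Subgroup.card_subgroup_dvd_card S
    have hS1 : Nat.card S ≠ 1 := by
      intro h1
      have h2 := Subgroup.card_eq_one.1 h1
      have h4 : (⟨v, hv⟩ : Fx τ) ∈ S := Subtype.ext hvσ
      rw [h2] at h4
      exact hv1 (congrArg Subtype.val (Subgroup.mem_bot.1 h4))
    have hS4 : Nat.card S = 4 := by
      have h5 : Nat.card S ≤ 4 := Nat.le_of_dvd (by norm_num) hSd
      have h6 : 0 < Nat.card S := Nat.card_pos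
      unfold Nat.ModEq at hm
      omega
    have hStop : S = ⊤ := by
      apply Subgroup.eq_top_of_card_eq
      rw [hS4, hV4]
    have hall : ∀ x : T, x ∈ Fx τ → σ x = x := by
      intro x hx
      have h1 : (⟨x, hx⟩ : Fx τ) ∈ S := by rw [hStop]; trivial
      exact congrArg Subtype.val h1
    have hbot : ⁅V, Subgroup.zpowers ρ⁆ = ⊥ := by
      rw [Subgroup.commutator_eq_bot_iff_le_centralizer]
      intro v' hv'
      rw [Subgroup.mem_centralizer_iff]
      intro h hh
      obtain ⟨k, rfl⟩ := Subgroup.mem_zpowers_iff.1 hh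
      have hv'T : v' ∈ T := hVT1 hv'
      have h1 : (⟨v', hv'T⟩ : T) ∈ Fx τ := by
        rw [← hFx] at hv'
        obtain ⟨y, hy, hyv⟩ := hv'
        have : y = ⟨v', hv'T⟩ := Subtype.ext hyv
        rw [← this]
        exact hy
      have h2 : ρ * v' * ρ⁻¹ = v' := congrArg Subtype.val (hall _ h1)
      have h4 : Commute ρ v' := by
        show ρ * v' = v' * ρ
        calc ρ * v' = ρ * v' * ρ⁻¹ * ρ := by group
          _ = v' * ρ := by rw [h2]
      exact (h4.zpow_left k)
    rw [hVρ] at hbot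
    have := hV.1
    rw [hbot, Subgroup.card_bot] at this
    omega
  have hf : ∀ y, σ y = y → y = 1 := by
    intro y hy
    by_contra hy1
    obtain ⟨x, hx, hx1, hxt⟩ := exists_fix (Y := Fx σ) (hT.to_subgroup _) τ htt
      (by
        intro z hz
        show σ (τ z) = τ z
        rw [← hc, mem_Fx.1 hz]) hy hy1
    exact hx1 (hstepa x hxt hx)
  by_cases hcomm : ∀ a b : T, a * b = b * a
  · rcases ab_final hcomm hT h3 hf htt hc hV4 with ⟨h1, h2⟩ | ⟨y, H, hH, hy⟩
    · left
      refine ⟨h1, ?_⟩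
      intro x hx
      have := h2 ⟨x, hx⟩
      rw [pow_two]
      exact congrArg Subtype.val this
    · right; left
      rw [hH] at hy
      obtain ⟨w, hw, hw1⟩ : ∃ w ∈ Fx τ, w ≠ 1 := by
        by_contra hcon
        push Not at hcon
        have h1 : Fx τ = ⊥ := (Subgroup.eq_bot_iff_forall _).2 hcon
        rw [h1, Subgroup.card_bot] at hV4
        omega
      exact ab_iso hcomm hT h3 hf hy hw1
  · have hna : ¬ IsMulCommutative T := by
      intro h
      exact hcomm (fun a b => h.is_comm.comm a b)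
    have h64 := nonab_card hT h3 hf htt hc hV4 hna
    haveI : Group.IsNilpotent T := IsPGroup.isNilpotent hT
    have D : FpfData σ := FpfData.of_fin σ h3 hf
    have hZ := center_card_four D h64 hna
    by_cases hQ : ∀ y : T, y * y = 1 → y ∈ Subgroup.center T
    · right; right; right
      obtain ⟨e, f, R⟩ := exists_pframe D hZ hna hQ
      letI fK : Fintype (GaloisField 2 4) := Fintype.ofFinite _
      have hcK : Fintype.card (GaloisField 2 4) = 16 := by
        rw [← Nat.card_eq_fintype_card, GaloisField.card 2 4 (by norm_num)]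
        norm_num
      exact ⟨GaloisField 2 4, inferInstance, fK, hcK, fun P => pframe_sylow h64 R hcK P⟩
    · right; right; left
      push Not at hQ
      obtain ⟨v, hvv, hv⟩ := hQ
      obtain ⟨e, f, R⟩ := exists_frame_of_inv D hZ hv hvv
      obtain ⟨S, ⟨hS⟩⟩ := sylow_of_frame R h64
      exact ⟨F4, inferInstance, inferInstance, F4.card_eq, fun P => ⟨hS.trans (Sylow.equiv S P)⟩⟩

end Cfsg.Agent.S2933
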