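import Cfsg.Statements.S2934
import Cfsg.Agent.Lib.H13.OneInv3
import Cfsg.Agent.Lib.H18.ExtraCard

set_option autoImplicit false
set_option linter.style.haveILetI false

open Cfsg

namespace Cfsg.Agent.S2934

open Cfsg.Agent.H13

theorem core {W : Type*} [Group W] [Finite W] (hW : IsPGroup 2 W) {p : ℕ} [Fact p.Prime] (hp : p ≠ 2)
    (E : Subgroup (MulAut W)) (hE : IsPGroup p ↥E) (hab : IsMulCommutative ↥E) (hnc : ¬ IsCyclic ↥E)
    (hfix : ∀ e ∈ E, e ≠ 1 → ∀ x y : W, orderOf x = 2 → orderOf y = 2 → e x = x → e y = y → x = y)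
    {G : Type*} [Group G] [Finite G] (inl : W →* G) (inr : MulAut W →* G)
    (hinl : Function.Injective inl) (hinr : Function.Injective inr)
    (hact : ∀ (ε : MulAut W) (u : W), inr ε * inl u * (inr ε)⁻¹ = inl (ε u)) :
    Nat.card ↥E = 9 ∧ Cfsg.IsExtraspecial 2 W ∧
      (Nat.card W = 2 ^ 5 ∨ Nat.card W = 2 ^ 7 ∨ Nat.card W = 2 ^ 9) ∧
      {x : W | ∀ e ∈ E, e x = x} = (Subgroup.center W : Set W) := by
  classical
  haveI : Fact (Nat.Prime 2) := ⟨Nat.prime_two⟩
  have hpp : p.Prime := Fact.out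
  have hcomm : ∀ x y : E, x * y = y * x := fun x y => mul_comm' x y
  obtain ⟨a, b, hao, hbo, hnot⟩ : ∃ a b : E, orderOf a = p ∧ orderOf b = p ∧ b ∉ Subgroup.zpowers a := by
    by_contra hcon
    push Not at hcon
    exact hnc (H14.isCyclic_of_comm_uniqueP hE hcomm hcon)
  have hact2 : ∀ (ε : MulAut W) (u : W), inr ε * inl u = inl (ε u) * inr ε := by
    intro ε u
    rw [← hact]
    group
  have hfixed : ∀ (ε : MulAut W) (u : W), inl u * inr ε = inr ε * inl u ↔ ε u = u := by
    intro ε u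
    rw [hact2]
    constructor
    · intro h1
      exact (hinl (mul_right_cancel h1)).symm
    · intro h1
      rw [h1]
  let W' : Subgroup G := inl.range
  let E' : Subgroup G := E.map inr
  have hW'mem : ∀ w : W, inl w ∈ W' := fun w => ⟨w, rfl⟩
  have hE'mem : ∀ ε ∈ E, inr ε ∈ E' := fun ε hε => ⟨ε, hε, rfl⟩
  have hi : OneInv p W' E' (inr a) (inr b) := by
    refine
      { two := ?_, pg := ?_, odd := hp, comm := ?_, norm := ?_, faith := ?_, fix := ?_
        ha := hE'mem _ a.2, hb := hE'mem _ b.2, hap := ?_, hbp := ?_, ind := ?_ }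
    · show IsPGroup 2 ↥(inl.range)
      rw [MonoidHom.range_eq_map]
      exact IsPGroup.map (hW.to_subgroup ⊤) inl
    · exact IsPGroup.map hE inr
    · rintro _ ⟨x, hx, rfl⟩ _ ⟨y, hy, rfl⟩
      rw [← map_mul, ← map_mul]
      exact congrArg inr (congrArg Subtype.val (hcomm ⟨x, hx⟩ ⟨y, hy⟩))
    · rintro _ ⟨ε, hε, rfl⟩
      apply mem_normalizer_of_map_conj_le
      rintro _ ⟨_, ⟨u, rfl⟩, rfl⟩
      show inr ε * inl u * (inr ε)⁻¹ ∈ W'
      rw [hact]
      exact hW'mem _
    · rintro _ ⟨ε, hε, rfl⟩ hc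
      have : ε = 1 := by
        ext u
        exact (hfixed ε u).1 (hc _ (hW'mem u)).symm
      rw [this, map_one]
    · rintro _ ⟨ε, hε, rfl⟩ he _ ⟨u, rfl⟩ _ ⟨v, rfl⟩ hu hv hcu hcv
      have he' : ε ≠ 1 := fun h1 => he (by rw [h1, map_one])
      rw [orderOf_injective inl hinl] at hu hv
      have := hfix ε hε he' u v hu hv ((hfixed ε u).1 hcu.symm) ((hfixed ε v).1 hcv.symm)
      rw [this]
    · rw [← map_pow, ← Subgroup.coe_pow, ← hao, pow_orderOf_eq_one]
      simp
    · rw [← map_pow, ← Subgroup.coe_pow, ← hbo, pow_orderOf_eq_one]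
      simp
    · intro i j hij h1
      rw [← map_pow, ← map_pow, ← map_mul, map_eq_one_iff _ hinr, ← Subgroup.coe_pow, ← Subgroup.coe_pow,
        ← Subgroup.coe_mul] at h1
      have h2 : a ^ i * b ^ j = 1 := Subtype.ext h1
      by_cases hj : p ∣ j
      · apply hij
        refine ⟨?_, hj⟩
        have h3 : b ^ j = 1 := by
          rw [← hbo] at hj
          exact orderOf_dvd_iff_pow_eq_one.1 hj
        rw [h3, mul_one] at h2
        rw [← hao]
        exact orderOf_dvd_of_pow_eq_one h2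
      · apply hnot
        have hcop : Nat.Coprime j p := ((Nat.Prime.coprime_iff_not_dvd hpp).2 hj).symm
        have h4 : b ^ j = (a ^ i)⁻¹ := eq_inv_of_mul_eq_one_right h2
        have h5 : b ^ j ∈ Subgroup.zpowers a := by
          rw [h4]
          exact Subgroup.inv_mem _ (Subgroup.pow_mem _ (Subgroup.mem_zpowers a) i)
        have hbp : b ^ p = 1 := by rw [← hbo, pow_orderOf_eq_one]
        obtain ⟨k, hk⟩ : ∃ k : ℕ, (j * k) % p = 1 := by
          have := Nat.exists_mul_mod_eq_one_of_coprime hcop hpp.one_lt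
          obtain ⟨m, hm⟩ := this
          exact ⟨m, hm.2⟩
        have h6 : b = (b ^ j) ^ k := by
          rw [← pow_mul, pow_eq_pow_mod (j * k) hbp, hk, pow_one]
        rw [h6]
        exact Subgroup.pow_mem _ h5 k
  have hncE : ¬ IsCyclic E' := by
    intro hc
    apply hnc
    have e := E.equivMapOfInjective inr hinr
    exact isCyclic_of_injective e.toMonoidHom e.injective
  obtain ⟨z, ⟨z₀, rfl⟩, hz2, hcE, hc1, hc2, hc3, hc4, hc5, hc6, hnab, hle, hne⟩ := hi.main hncE
  have hz₀ : orderOf z₀ = 2 := by rwa [orderOf_injective inl hinl] at hz2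
  have hmap : ∀ w, inl w ∈ Subgroup.zpowers (inl z₀) → w ∈ Subgroup.zpowers z₀ := by
    rintro w ⟨k, hk⟩
    refine ⟨k, hinl ?_⟩
    simpa using hk
  have hz₀c : ∀ w : W, z₀ * w = w * z₀ := by
    intro w
    apply hinl
    rw [map_mul, map_mul]
    exact hc6 _ (hW'mem w)
  have hz₀cen : z₀ ∈ Subgroup.center W := Subgroup.mem_center_iff.2 fun w => (hz₀c w).symm
  have hcen : ∀ w : W, w ∈ Subgroup.center W ↔ w ∈ Subgroup.zpowers z₀ := by
    intro w
    constructor
    · intro hw
      apply hmap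
      apply hc3 _ (hW'mem w)
      rintro _ ⟨v, rfl⟩
      rw [← map_mul, ← map_mul, (Subgroup.mem_center_iff.1 hw v).symm]
    · intro hw
      exact (Subgroup.zpowers_le.2 hz₀cen) hw
  have hes : IsExtraspecial 2 W := by
    apply isExtraspecial_of hW hz₀
    · intro u v
      apply hmap
      have := hc1 _ (hW'mem u) _ (hW'mem v)
      simpa using this
    · intro u
      apply hmap
      have := hc2 _ (hW'mem u)
      simpa using this
    · exact hcen
    · obtain ⟨_, ⟨u, rfl⟩, _, ⟨v, rfl⟩, huv⟩ := hnab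
      refine ⟨u, v, hinl ?_⟩
      simpa using huv
  have hcardW : Nat.card W' = Nat.card W := by
    have e : W ≃ W' := (inl.ofInjective hinl).toEquiv
    exact (Nat.card_congr e).symm
  have hcardE : Nat.card E' = Nat.card E := by
    exact (Nat.card_congr (E.equivMapOfInjective inr hinr).toEquiv).symm
  rw [hcardW] at hle hne
  rw [hcardE] at hcE
  refine ⟨hcE, hes, ?_, ?_⟩
  · obtain ⟨m, hm1, hm⟩ := H18.extraspecial_card hes
    rw [hm] at hle hne ⊢
    have hm4 : m ≤ 4 := by
      by_contra hcc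
      have : 2 ^ 11 ≤ 2 ^ (2 * m + 1) := Nat.pow_le_pow_right (by norm_num) (by omega)
      omega
    have hm1' : m ≠ 1 := by
      rintro rfl
      exact hne (by norm_num)
    interval_cases m
    · exact absurd rfl hm1'
    · left; norm_num
    · right; left; norm_num
    · right; right; norm_num
  · ext x
    rw [Set.mem_setOf_eq, SetLike.mem_coe]
    constructor
    · intro hx
      rw [hcen]
      apply hmap
      apply hc4 _ (hW'mem x)
      rintro _ ⟨ε, hε, rfl⟩
      exact (hfixed ε x).2 (hx ε hε)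
    · intro hx ε hε
      have hx' := (hcen x).1 hx
      have hz₀E : ε z₀ = z₀ := (hfixed ε z₀).1 (hc5 _ (hE'mem ε hε))
      obtain ⟨k, rfl⟩ := hx'
      simp [map_zpow, hz₀E]

/-- Let p be an odd prime, W a finite 2-group and E a non-cyclic abelian p-subgroup of Aut(W) such that, for every nontrivial e ∈ E, the fixed points of e in W contain at most one involution. Then E has order 9, W is extraspecial of order 2⁵, 2⁷ or 2⁹, and the common fixed points of E in W form exactly the centre Z(W). -/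
theorem result {W : Type*} [Group W] [Finite W] (hW : IsPGroup 2 W) {p : ℕ} [Fact p.Prime] (hp : p ≠ 2) (E : Subgroup (MulAut W)) (hE : IsPGroup p ↥E) (hab : IsMulCommutative ↥E) (hnc : ¬ IsCyclic ↥E) (hfix : ∀ e ∈ E, e ≠ 1 → ∀ x y : W, orderOf x = 2 → orderOf y = 2 → e x = x → e y = y → x = y) : Nat.card ↥E = 9 ∧ Cfsg.IsExtraspecial 2 W ∧ (Nat.card W = 2 ^ 5 ∨ Nat.card W = 2 ^ 7 ∨ Nat.card W = 2 ^ 9) ∧ {x : W | ∀ e ∈ E, e x = x} = (Subgroup.center W : Set W) := by
  haveI : Finite (MulAut W) := Finite.of_injective (fun e : MulAut W => (e : W → W))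
    (fun e e' h => MulEquiv.ext (fun x => congrFun h x))
  let φ : MulAut W →* MulAut W := MonoidHom.id _
  haveI : Finite (SemidirectProduct W (MulAut W) φ) :=
    Finite.of_equiv _ (SemidirectProduct.equivProd).symm
  refine core hW hp E hE hab hnc hfix (G := SemidirectProduct W (MulAut W) φ)
    SemidirectProduct.inl SemidirectProduct.inr SemidirectProduct.inl_injective
    SemidirectProduct.inr_injective ?_
  intro ε u
  rw [← map_inv]
  exact (SemidirectProduct.inl_aut (φ := φ) ε u).symm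

end Cfsg.Agent.S2934
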