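import Cfsg.Statements.S2968
import Cfsg.Agent.Lib.H13.Isolated

set_option autoImplicit false
open Cfsg

namespace Cfsg.Agent.S2968

open Cfsg.Agent.H13

/-- Let G be a finite group, p a prime, P a Sylow p-subgroup of G and x ∈ P an element of p-power order which is isolated in G (the only conjugate of x commuting with x is x itself). Then x lies in the centre of P, and the subgroup generated by x is both strongly closed and weakly closed in P with respect to G. -/
theorem result {G : Type*} [Group G] [Finite G] {p : ℕ} [Fact p.Prime] (P : Sylow p G) (x : G) (hxP : x ∈ (P : Subgroup G)) (hx : ∃ k : ℕ, orderOf x = p ^ k) (hiso : Cfsg.IsIsolated x) : x ∈ (P : Subgroup G) ⊓ Subgroup.centralizer ((P : Subgroup G) : Set G) ∧ Cfsg.IsStronglyClosed (Subgroup.zpowers x) (P : Subgroup G) ∧ Cfsg.IsWeaklyClosed (Subgroup.zpowers x) (P : Subgroup G) := by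
  have hcen : (P : Subgroup G) ≤ Subgroup.centralizer ({x} : Set G) :=
    isolated_central_of_pgroup hiso P P.2 hxP
  have hle : Subgroup.zpowers x ≤ (P : Subgroup G) := Subgroup.zpowers_le.mpr hxP
  -- conjugates of powers of x lying in P are fixed.
  have key : ∀ (k : ℤ) (g : G), g * x ^ k * g⁻¹ ∈ (P : Subgroup G) → g * x ^ k * g⁻¹ = x ^ k := by
    intro k g hg
    set y' := g * x ^ k * g⁻¹ with hy'
    set x' := g * x * g⁻¹ with hx'
    have hy'x' : y' = x' ^ k := by
      rw [hy', hx', conj_zpow]
    -- x' is central in g P g⁻¹ which contains y'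
    have hP' : g * x * g⁻¹ ∈ (P : Subgroup G).map (MulAut.conj g).toMonoidHom :=
      conj_mem_map_conj hxP
    have h1 : Commute y' x := by
      have := hcen hg
      rw [Subgroup.mem_centralizer_iff] at this
      exact (this x rfl).symm
    have h2 : Commute y' x' := by
      rw [hy'x']
      exact (Commute.refl x').zpow_left k
    let H : Subgroup G := Subgroup.centralizer ({y'} : Set G)
    have hxH : x ∈ H := by
      rw [Subgroup.mem_centralizer_iff]
      rintro _ rfl
      exact h1
    have hx'H : x' ∈ H := by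
      rw [Subgroup.mem_centralizer_iff]
      rintro _ rfl
      exact h2
    have hzp : IsPGroup p (Subgroup.zpowers x) := isPGroup_zpowers_of_orderOf hx
    have hzp' : IsPGroup p (Subgroup.zpowers x') := by
      have : Subgroup.zpowers x' = (Subgroup.zpowers x).map (MulAut.conj g).toMonoidHom := by
        rw [MonoidHom.map_zpowers]
        rfl
      rw [this]
      exact isPGroup_map_conj hzp
    obtain ⟨T, hT⟩ := exists_sylow_subgroup_le (K := H) (Subgroup.zpowers_le.mpr hxH) hzp
    obtain ⟨T', hT'⟩ := exists_sylow_subgroup_le (K := H) (Subgroup.zpowers_le.mpr hx'H) hzp'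
    obtain ⟨h, hh⟩ := MulAction.exists_smul_eq H T' T
    have hmem : (h : G) * x' * (h : G)⁻¹ ∈ (T : Subgroup H).map H.subtype := by
      have h3 : x' ∈ (T' : Subgroup H).map H.subtype := hT' (Subgroup.mem_zpowers _)
      obtain ⟨t, ht, htx⟩ := h3
      rw [← hh, ← htx]
      refine ⟨h * t * h⁻¹, ?_, by simp⟩
      rw [Sylow.coe_subgroup_smul]
      exact ⟨_, ht, rfl⟩
    have hxT : x ∈ (T : Subgroup H).map H.subtype := hT (Subgroup.mem_zpowers _)
    have heq : ((h : G) * g) * x * ((h : G) * g)⁻¹ = x := by
      apply isolated_conj_eq hiso _ (isPGroup_map_subtype T) hxT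
      have : ((h : G) * g) * x * ((h : G) * g)⁻¹ = (h : G) * x' * (h : G)⁻¹ := by
        rw [hx']; group
      rw [this]
      exact hmem
    have heq2 : (h : G) * x' * (h : G)⁻¹ = x := by
      rw [← heq, hx']; group
    have hhy : (h : G) * y' * (h : G)⁻¹ = y' := by
      have := h.2
      rw [Subgroup.mem_centralizer_iff] at this
      have h5 := this y' rfl
      rw [← h5]; group
    calc y' = (h : G) * y' * (h : G)⁻¹ := hhy.symm
      _ = (h : G) * x' ^ k * (h : G)⁻¹ := by rw [← hy'x']
      _ = ((h : G) * x' * (h : G)⁻¹) ^ k := (conj_zpow).symm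
      _ = x ^ k := by rw [heq2]
  refine ⟨⟨hxP, ?_⟩, ⟨hle, ?_⟩, ⟨hle, ?_⟩⟩
  · show x ∈ Subgroup.centralizer ((P : Subgroup G) : Set G)
    rw [Subgroup.mem_centralizer_iff]
    intro u hu
    have := hcen hu
    rw [Subgroup.mem_centralizer_iff] at this
    exact (this x rfl).symm
  · rintro y ⟨k, rfl⟩ g hg
    have := key k g hg
    simp only at hg this ⊢
    rw [this]
    exact Subgroup.zpow_mem_zpowers _ _
  · intro g hg
    have h1 : g * x * g⁻¹ ∈ (P : Subgroup G) := hg (conj_mem_map_conj (Subgroup.mem_zpowers x))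
    have h2 : g * x * g⁻¹ = x := isolated_conj_eq hiso P P.2 hxP h1
    have h3 : Subgroup.zpowers x = (Subgroup.zpowers x).map (MulAut.conj g).toMonoidHom := by
      rw [MonoidHom.map_zpowers]
      congr 1
      exact h2.symm
    exact h3.symm

end Cfsg.Agent.S2968
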