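import Cfsg.Statements.S2969
import Cfsg.Agent.Lib.H13.Isolated

set_option autoImplicit false
open Cfsg

namespace Cfsg.Agent.S2969

open Cfsg.Agent.H13

/-- Let G be a finite group, p a prime and x ∈ G an element of p-power order which is isolated in G. If R is a p-subgroup of G containing x, then N_G(R) ≤ C_G(x); in particular x lies in the centre of R. Moreover, if x lies in a normal subgroup N of a subgroup H of G, then H = N·C_H(x). -/
theorem result {G : Type*} [Group G] [Finite G] {p : ℕ} [Fact p.Prime] (x : G) (hx : ∃ k : ℕ, orderOf x = p ^ k) (hiso : Cfsg.IsIsolated x) : (∀ R : Subgroup G, IsPGroup p ↥R → x ∈ R → Subgroup.normalizer (R : Set G) ≤ Subgroup.centralizer ({x} : Set G)) ∧ (∀ H N : Subgroup G, N ≤ H → H ≤ Subgroup.normalizer (N : Set G) → x ∈ N → N ⊔ (H ⊓ Subgroup.centralizer ({x} : Set G)) = H) := by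
  have hcomm : ∀ g : G, g * x * g⁻¹ = x → g ∈ Subgroup.centralizer ({x} : Set G) := by
    intro g hg
    rw [Subgroup.mem_centralizer_iff]
    rintro y rfl
    calc y * g = (g * y * g⁻¹) * g := by rw [hg]
      _ = g * y := by group
  refine ⟨?_, ?_⟩
  · intro R hR hxR g hg
    apply hcomm
    exact isolated_conj_eq hiso R hR hxR ((Subgroup.mem_normalizer_iff.mp hg x).mp hxR)
  · intro H N hNH hHN hxN
    apply le_antisymm
    · exact sup_le hNH inf_le_left
    · intro h hh
      have hzp : IsPGroup p (Subgroup.zpowers x) := isPGroup_zpowers_of_orderOf hx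
      obtain ⟨T, hT⟩ := exists_sylow_subgroup_le (K := N) (Subgroup.zpowers_le.mpr hxN) hzp
      have hxT : x ∈ (T : Subgroup N).map N.subtype := hT (Subgroup.mem_zpowers _)
      set z := h * x * h⁻¹ with hz
      have hzN : z ∈ N := (Subgroup.mem_normalizer_iff.mp (hHN hh) x).mp hxN
      have hzp' : IsPGroup p (Subgroup.zpowers z) := by
        have : Subgroup.zpowers z = (Subgroup.zpowers x).map (MulAut.conj h).toMonoidHom := by
          rw [MonoidHom.map_zpowers]
          rfl
        rw [this]
        exact isPGroup_map_conj hzp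
      obtain ⟨T', hT'⟩ := exists_sylow_subgroup_le (K := N) (Subgroup.zpowers_le.mpr hzN) hzp'
      obtain ⟨n, hn⟩ := MulAction.exists_smul_eq N T' T
      have hmem : (n : G) * z * (n : G)⁻¹ ∈ (T : Subgroup N).map N.subtype := by
        have h3 : z ∈ (T' : Subgroup N).map N.subtype := hT' (Subgroup.mem_zpowers _)
        obtain ⟨t, ht, htz⟩ := h3
        rw [← hn, ← htz]
        refine ⟨n * t * n⁻¹, ?_, by simp⟩
        rw [Sylow.coe_subgroup_smul]
        exact ⟨_, ht, rfl⟩
      have heq : ((n : G) * h) * x * ((n : G) * h)⁻¹ = x := by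
        apply isolated_conj_eq hiso _ (isPGroup_map_subtype T) hxT
        have : ((n : G) * h) * x * ((n : G) * h)⁻¹ = (n : G) * z * (n : G)⁻¹ := by
          rw [hz]; group
        rw [this]
        exact hmem
      have hw : (n : G) * h ∈ H ⊓ Subgroup.centralizer ({x} : Set G) :=
        ⟨H.mul_mem (hNH n.2) hh, hcomm _ heq⟩
      have h5 : h = (n : G)⁻¹ * ((n : G) * h) := by group
      rw [h5]
      exact Subgroup.mul_mem _ (Subgroup.mem_sup_left (N.inv_mem n.2)) (Subgroup.mem_sup_right hw)

end Cfsg.Agent.S2969
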