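import Cfsg.Statements.S2970
import Cfsg.Agent.Lib.H13.Isolated

set_option autoImplicit false
open Cfsg

namespace Cfsg.Agent.S2970

open Cfsg.Agent.H13

/-- Let G be a finite group, p a prime and x ∈ G an element of p-power order which is isolated in G. Then the image of x in any quotient G ⧸ N is isolated in G ⧸ N; and if x ≠ 1 and the Sylow p-subgroups of G are cyclic, then G has a normal p-complement. -/
theorem result {G : Type*} [Group G] [Finite G] {p : ℕ} [Fact p.Prime] (x : G) (hx : ∃ k : ℕ, orderOf x = p ^ k) (hiso : Cfsg.IsIsolated x) : (∀ (N : Subgroup G) [N.Normal], Cfsg.IsIsolated (QuotientGroup.mk x : G ⧸ N)) ∧ (x ≠ 1 → (∀ P : Sylow p G, IsCyclic ↥(P : Subgroup G)) → Cfsg.HasNormalPComplement p G) := by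
  have hzp : IsPGroup p (Subgroup.zpowers x) := isPGroup_zpowers_of_orderOf hx
  obtain ⟨P, hP⟩ := hzp.exists_le_sylow
  have hxP : x ∈ (P : Subgroup G) := hP (Subgroup.mem_zpowers _)
  have hcen : (P : Subgroup G) ≤ Subgroup.centralizer ({x} : Set G) :=
    isolated_central_of_pgroup hiso P P.2 hxP
  refine ⟨?_, ?_⟩
  · intro N _ gb hcomm
    obtain ⟨g, rfl⟩ := QuotientGroup.mk_surjective gb
    set qq : G →* G ⧸ N := QuotientGroup.mk' N with hqq
    have hqqsurj : Function.Surjective qq := QuotientGroup.mk'_surjective N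
    let xb : G ⧸ N := qq x
    let Pb : Sylow p (G ⧸ N) := P.mapSurjective hqqsurj
    have hPb : (Pb : Subgroup (G ⧸ N)) = (P : Subgroup G).map qq := rfl
    set x' := g * x * g⁻¹ with hx'
    have hx'bar : ((g : G ⧸ N) * (x : G ⧸ N) * (g : G ⧸ N)⁻¹) = qq x' := by
      rw [hx']; simp [hqq]
    rw [hx'bar] at hcomm ⊢
    let Cb : Subgroup (G ⧸ N) := Subgroup.centralizer ({xb} : Set (G ⧸ N))
    have hPbC : (Pb : Subgroup (G ⧸ N)) ≤ Cb := by
      rw [hPb]
      rintro _ ⟨u, hu, rfl⟩
      have := hcen hu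
      rw [Subgroup.mem_centralizer_iff] at this
      show qq u ∈ Cb
      rw [Subgroup.mem_centralizer_iff]
      rintro _ rfl
      have h2 := this x rfl
      show xb * qq u = qq u * xb
      simp only [xb, ← map_mul, h2]
    have hxb'C : qq x' ∈ Cb := by
      rw [Subgroup.mem_centralizer_iff]
      rintro _ rfl
      exact hcomm
    have hzx' : IsPGroup p (Subgroup.zpowers x') := by
      have : Subgroup.zpowers x' = (Subgroup.zpowers x).map (MulAut.conj g).toMonoidHom := by
        rw [MonoidHom.map_zpowers]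
        rfl
      rw [this]
      exact isPGroup_map_conj hzp
    have hzxb' : IsPGroup p (Subgroup.zpowers (qq x')) := by
      have : Subgroup.zpowers (qq x') = (Subgroup.zpowers x').map qq := by
        rw [MonoidHom.map_zpowers]
      rw [this]
      exact hzx'.map _
    obtain ⟨T, hT⟩ := exists_sylow_subgroup_le (K := Cb) (Subgroup.zpowers_le.mpr hxb'C) hzxb'
    obtain ⟨c, hc⟩ := MulAction.exists_smul_eq Cb T (Pb.subtype hPbC)
    have hmem : (c : G ⧸ N) * qq x' * (c : G ⧸ N)⁻¹ ∈ (Pb : Subgroup (G ⧸ N)) := by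
      have h3 : qq x' ∈ (T : Subgroup Cb).map Cb.subtype := hT (Subgroup.mem_zpowers _)
      obtain ⟨t, ht, htz⟩ := h3
      have h4 : c * t * c⁻¹ ∈ ((Pb.subtype hPbC : Sylow p Cb) : Subgroup Cb) := by
        rw [← hc, Sylow.coe_subgroup_smul]
        exact ⟨_, ht, rfl⟩
      have h5 : ((c * t * c⁻¹ : Cb) : G ⧸ N) ∈ (Pb : Subgroup (G ⧸ N)) := h4
      rw [← htz]
      simpa using h5
    obtain ⟨c₀, hc₀⟩ := hqqsurj (c : G ⧸ N)
    have hmem2 : c₀ * x' * c₀⁻¹ ∈ (P : Subgroup G) ⊔ N := by
      have h6 : qq (c₀ * x' * c₀⁻¹) ∈ (P : Subgroup G).map qq := by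
        rw [map_mul, map_mul, map_inv, hc₀]
        exact hmem
      obtain ⟨u, hu, huq⟩ := h6
      have h7 : u⁻¹ * (c₀ * x' * c₀⁻¹) ∈ N := by
        have : qq (u⁻¹ * (c₀ * x' * c₀⁻¹)) = 1 := by
          rw [map_mul, map_inv, huq, inv_mul_cancel]
        rwa [← QuotientGroup.ker_mk' N, MonoidHom.mem_ker]
      have h8 : c₀ * x' * c₀⁻¹ = u * (u⁻¹ * (c₀ * x' * c₀⁻¹)) := by group
      rw [h8]
      exact Subgroup.mul_mem _ (Subgroup.mem_sup_left hu) (Subgroup.mem_sup_right h7)
    have hAp : IsPGroup p (Subgroup.zpowers (c₀ * x' * c₀⁻¹)) := by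
      have : Subgroup.zpowers (c₀ * x' * c₀⁻¹) = (Subgroup.zpowers x').map (MulAut.conj c₀).toMonoidHom := by
        rw [MonoidHom.map_zpowers]
        rfl
      rw [this]
      exact isPGroup_map_conj hzx'
    obtain ⟨n, hn, hnA⟩ := exists_normal_conj_into_sylow P N _ hAp (Subgroup.zpowers_le.mpr hmem2)
    have h9 : n * (c₀ * x' * c₀⁻¹) * n⁻¹ ∈ (P : Subgroup G) :=
      hnA (conj_mem_map_conj (Subgroup.mem_zpowers _))
    have heq : (n * c₀ * g) * x * (n * c₀ * g)⁻¹ = x := by
      apply isolated_conj_eq hiso P P.2 hxP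
      have : (n * c₀ * g) * x * (n * c₀ * g)⁻¹ = n * (c₀ * x' * c₀⁻¹) * n⁻¹ := by
        rw [hx']; group
      rw [this]
      exact h9
    -- pass to the quotient
    have h10 : qq n = 1 := by
      rw [← MonoidHom.mem_ker, QuotientGroup.ker_mk']
      exact hn
    have h11 : (c : G ⧸ N) * qq x' * (c : G ⧸ N)⁻¹ = xb := by
      have := congrArg qq heq
      rw [map_mul, map_mul, map_inv, map_mul, map_mul, h10, one_mul, hc₀] at this
      rw [hx', map_mul, map_mul, map_inv]
      show _ = qq x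
      calc (c : G ⧸ N) * (qq g * qq x * (qq g)⁻¹) * (c : G ⧸ N)⁻¹
          = (c : G ⧸ N) * qq g * qq x * ((c : G ⧸ N) * qq g)⁻¹ := by group
        _ = qq x := this
    have h12 : (c : G ⧸ N) * xb = xb * (c : G ⧸ N) := by
      have := c.2
      rw [Subgroup.mem_centralizer_iff] at this
      exact (this xb rfl).symm
    -- so qq x' = xb
    have h13 : qq x' = xb := by
      have h14 : (c : G ⧸ N) * qq x' = xb * (c : G ⧸ N) := by
        rw [← h11]; group
      rw [← h12] at h14
      exact mul_left_cancel h14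
    exact h13
  · intro hx1 hcyc
    have hNC : Subgroup.normalizer ((P : Subgroup G) : Set G) ≤ Subgroup.centralizer ((P : Subgroup G) : Set G) := by
      intro g hg
      apply normalizer_centralizes_cyclic P (hcyc P) hxP hx1 _ hg
      have : g * x * g⁻¹ = x := isolated_conj_eq hiso P P.2 hxP ((Subgroup.mem_normalizer_iff.mp hg x).mp hxP)
      show g * x = x * g
      calc g * x = (g * x * g⁻¹) * g := by group
        _ = x * g := by rw [this]
    refine ⟨P, _, inferInstance, MonoidHom.ker_transferSylow_isComplement' P hNC⟩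

end Cfsg.Agent.S2970
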