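import Cfsg.Statements.S2971
import Cfsg.Agent.S2970
import Cfsg.Agent.Lib.H13.CycOdd

set_option autoImplicit false
open Cfsg

namespace Cfsg.Agent.S2971

open Cfsg.Agent.H13

theorem result {G : Type*} [Group G] [Finite G] {p : ℕ} [Fact p.Prime] (hp : p ≠ 2) (hrk : Cfsg.PRankLE p 1 G) (x : G) (hx : orderOf x = p) (hiso : Cfsg.IsIsolated x) : Cfsg.InZStar p x := by
  have hpp : p.Prime := Fact.out
  have hcyc : ∀ P : Sylow p G, IsCyclic ↥(P : Subgroup G) := fun P =>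
    isCyclic_of_pRankLE_one hp P.2 (PRankLE.subgroup hrk P)
  have hx1 : x ≠ 1 := by
    rintro rfl
    rw [orderOf_one] at hx
    exact hpp.one_lt.ne hx
  obtain ⟨T, N, hN, hc⟩ := (Cfsg.Agent.S2970.result x ⟨1, by rw [hx, pow_one]⟩ hiso).2 hx1 hcyc
  have hNc : (Nat.card N).Coprime p := by
    rw [Nat.coprime_comm, Nat.Prime.coprime_iff_not_dvd hpp]
    intro hd
    have h1 : (T : Subgroup G).index = Nat.card N := hc.index_eq_card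
    exact T.not_dvd_index (h1 ▸ hd)
  have hNle : N ≤ pPrimeCore p G := H05.le_pp hN hNc
  haveI := hcyc T
  have hcomm : ∀ a b : G, (a : G ⧸ N) * (b : G ⧸ N) = (b : G ⧸ N) * (a : G ⧸ N) := by
    intro a b
    obtain ⟨⟨⟨n₁, hn₁⟩, ⟨t₁, ht₁⟩⟩, rfl⟩ := hc.2 a
    obtain ⟨⟨⟨n₂, hn₂⟩, ⟨t₂, ht₂⟩⟩, rfl⟩ := hc.2 b
    show ((n₁ * t₁ : G) : G ⧸ N) * ((n₂ * t₂ : G) : G ⧸ N) = ((n₂ * t₂ : G) : G ⧸ N) * ((n₁ * t₁ : G) : G ⧸ N)
    rw [QuotientGroup.mk_mul, QuotientGroup.mk_mul, (QuotientGroup.eq_one_iff n₁).mpr hn₁,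
      (QuotientGroup.eq_one_iff n₂).mpr hn₂, one_mul, one_mul, ← QuotientGroup.mk_mul, ← QuotientGroup.mk_mul]
    have h1 : (⟨t₁, ht₁⟩ : (T : Subgroup G)) * ⟨t₂, ht₂⟩ = ⟨t₂, ht₂⟩ * ⟨t₁, ht₁⟩ :=
      (inferInstance : IsMulCommutative (T : Subgroup G)).is_comm.comm _ _
    have h2 : t₁ * t₂ = t₂ * t₁ := congrArg Subtype.val h1
    rw [h2]
  intro g
  apply hNle
  rw [← QuotientGroup.eq_one_iff, QuotientGroup.mk_mul, QuotientGroup.mk_mul, QuotientGroup.mk_mul,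
    QuotientGroup.mk_inv, QuotientGroup.mk_inv, hcomm g x]
  group

end Cfsg.Agent.S2971
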