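import Cfsg.Statements.S3003
import Cfsg.Agent.Lib.H13.CoprimeGen2
import Cfsg.Agent.Lib.H13.LargeChar

set_option autoImplicit false
open Cfsg

namespace Cfsg.Agent.S3003

open Cfsg.Agent.H13
open scoped commutatorElement

variable {G : Type*} [Group G] [Finite G] {p : ℕ} [Fact p.Prime]

theorem key_fix {Q R : Subgroup G} (hQp : IsPGroup p Q) (hlarge : IsLarge Q) (hR : (Nat.card R).Coprime p)
    (hQR : Q ≤ Subgroup.normalizer (R : Set G)) {y : G} (hy1 : y ≠ 1)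
    (hy : y ∈ Subgroup.centralizer (Q : Set G)) : R ⊓ Subgroup.centralizer ({y} : Set G) = ⊥ := by
  set T := R ⊓ Subgroup.centralizer ({y} : Set G) with hT
  have hz : Subgroup.zpowers y ≠ ⊥ := by
    intro h0
    rw [Subgroup.zpowers_eq_bot] at h0
    exact hy1 h0
  have h1 := hlarge.2 (Subgroup.zpowers y) (by
    rw [Subgroup.zpowers_le]
    exact hy) hz
  have hCz : Subgroup.centralizer ({y} : Set G) ≤ Subgroup.normalizer ((Subgroup.zpowers y : Subgroup G) : Set G) := by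
    intro c hc
    apply centralizer_le_normalizer_of_le
    rw [Subgroup.mem_centralizer_iff]
    intro w hw
    obtain ⟨k, rfl⟩ := hw
    have h2 : Commute y c := Subgroup.mem_centralizer_iff.mp hc y rfl
    exact (h2.zpow_left k)
  have hTQ : T ≤ Subgroup.normalizer (Q : Set G) := (inf_le_right.trans hCz).trans h1
  have hQT : Q ≤ Subgroup.normalizer (T : Set G) := by
    intro q hq
    apply mem_normalizer_inf (hQR hq)
    apply Subgroup.le_normalizer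
    rw [Subgroup.mem_centralizer_iff]
    intro w hw
    rw [Set.mem_singleton_iff.mp hw]
    exact (Subgroup.mem_centralizer_iff.mp hy q hq).symm
  have hTc : (Nat.card T).Coprime p :=
    Nat.Coprime.coprime_dvd_left (Subgroup.card_dvd_of_le inf_le_left) hR
  have h2 : ⁅T, Q⁆ ≤ T ⊓ Q := commutator_le_inf_of_normalize hTQ hQT
  have h3 : T ⊓ Q = ⊥ := by
    apply eq_bot_of_isPGroup_of_coprime (hQp.to_le inf_le_right)
    exact Nat.Coprime.coprime_dvd_left (Subgroup.card_dvd_of_le inf_le_left) hTc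
  have h4 : ⁅T, Q⁆ = ⊥ := le_bot_iff.mp (h2.trans h3.le)
  rw [Subgroup.commutator_eq_bot_iff_le_centralizer] at h4
  exact eq_bot_of_isPGroup_of_coprime (hQp.to_le (h4.trans hlarge.1)) hTc

theorem part1 {Q G₁ R U : Subgroup G} (hQp : IsPGroup p Q) (hlarge : IsLarge Q) (hQG : Q ≤ G₁)
    (hR : (Nat.card R).Coprime p) (hGR : G₁ ≤ Subgroup.normalizer (R : Set G))
    (h : ∃ x ∈ U, x ≠ 1 ∧ ∃ g ∈ G₁, g * x * g⁻¹ ∈ Q ⊓ Subgroup.centralizer (Q : Set G)) :
    R ⊓ Subgroup.centralizer (U : Set G) = ⊥ := by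
  obtain ⟨x, hxU, hx1, g, hg, hy, hyC⟩ := h
  have hy1 : g * x * g⁻¹ ≠ 1 := by
    intro h0
    apply hx1
    have : x = g⁻¹ * (g * x * g⁻¹) * g := by group
    rw [this, h0]
    group
  have h1 := key_fix hQp hlarge hR (hQG.trans hGR) hy1 hyC
  rw [eq_bot_iff]
  rintro r ⟨hrR, hrC⟩
  replace hrC : r ∈ Subgroup.centralizer (U : Set G) := hrC
  have h2 : g * r * g⁻¹ ∈ R ⊓ Subgroup.centralizer ({g * x * g⁻¹} : Set G) := by
    refine ⟨(Subgroup.mem_normalizer_iff.mp (hGR hg) r).mp hrR, ?_⟩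
    show g * r * g⁻¹ ∈ Subgroup.centralizer ({g * x * g⁻¹} : Set G)
    rw [Subgroup.mem_centralizer_iff]
    intro w hw
    rw [Set.mem_singleton_iff.mp hw]
    have h3 : x * r = r * x := Subgroup.mem_centralizer_iff.mp hrC x hxU
    calc g * x * g⁻¹ * (g * r * g⁻¹) = g * (x * r) * g⁻¹ := by group
      _ = g * (r * x) * g⁻¹ := by rw [h3]
      _ = _ := by group
  rw [h1, Subgroup.mem_bot] at h2
  rw [Subgroup.mem_bot]
  have : r = g⁻¹ * (g * r * g⁻¹) * g := by group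
  rw [this, h2]
  group

theorem result {G : Type*} [Group G] [Finite G] {p : ℕ} [Fact p.Prime] (Q : Subgroup G) (hQp : IsPGroup p ↥Q) (hlarge : Cfsg.IsLarge Q) (G₁ : Subgroup G) (hQG : Q ≤ G₁) (R : Subgroup G) (hR : (Nat.card ↥R).Coprime p) (hGR : G₁ ≤ Subgroup.normalizer (R : Set G)) (U : Subgroup G) (hUG : U ≤ G₁) (hUp : IsPGroup p ↥U) : ((∃ x ∈ U, x ≠ 1 ∧ ∃ g ∈ G₁, g * x * g⁻¹ ∈ Q ⊓ Subgroup.centralizer (Q : Set G)) → R ⊓ Subgroup.centralizer (U : Set G) = ⊥) ∧ (Cfsg.IsElementaryAbelian p U → p ^ 2 ≤ Nat.card ↥U → (∀ U₀ : Subgroup G, U₀ ≤ U → IsCoatom (U₀.subgroupOf U) → ∃ x ∈ U₀, x ≠ 1 ∧ ∃ g ∈ G₁, g * x * g⁻¹ ∈ Q ⊓ Subgroup.centralizer (Q : Set G)) → R = ⊥) := by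
  have hpp : p.Prime := Fact.out
  refine ⟨part1 hQp hlarge hQG hR hGR, ?_⟩
  intro hU hcard hmax
  by_contra hR1
  have hU1 : U ≠ ⊥ := by
    rintro rfl
    rw [Subgroup.card_bot] at hcard
    have := hpp.two_le
    nlinarith
  obtain ⟨U₀, h1, h2, h3⟩ := exists_coatom_fixed hU hU1 hR1 hR (hUG.trans hGR)
  exact h3 (part1 hQp hlarge hQG hR hGR (hmax U₀ h1 h2))

end Cfsg.Agent.S3003
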