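import Mathlib
import Cfsg.Statements.S3049
import Cfsg.Agent.Lib.H13.StrongP2
import Cfsg.Agent.Lib.H14.NPC
import Cfsg.Agent.Lib.H14.ES6
import Cfsg.Agent.Lib.H06.OddPGroup
import Cfsg.Agent.Lib.H08.Basic
import Cfsg.Agent.Lib.H12.SylowJoin
import Cfsg.Agent.Lib.H05.Comp2
-- import your own Cfsg.Agent.* helpers here

set_option autoImplicit false
open Cfsg

namespace Cfsg.Agent.S3049

section Helpers

variable {G : Type*} [Group G] [Finite G] {p : ℕ} [hp : Fact p.Prime]

theorem central_of_isolated {x : G} (hiso : IsIsolated x) (R : Subgroup G) (hR : IsPGroup p R) (hx : x ∈ R) :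
    ∀ y ∈ R, x * y = y * x := by
  classical
  haveI : Group.IsNilpotent R := hR.isNilpotent
  obtain ⟨C, hC⟩ : ∃ C : Subgroup R, C = Subgroup.centralizer {(⟨x, hx⟩ : R)} := ⟨_, rfl⟩
  by_contra hcon
  push Not at hcon
  obtain ⟨y, hy, hxy⟩ := hcon
  have hlt : C < ⊤ := by
    rw [lt_top_iff_ne_top]
    intro h
    have h1 : (⟨y, hy⟩ : R) ∈ C := by
      rw [h]
      trivial
    rw [hC, Subgroup.mem_centralizer_singleton_iff] at h1
    apply hxy
    exact (congrArg Subtype.val h1).symm
  have hN := Group.normalizerCondition_of_isNilpotent C hlt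
  obtain ⟨q, hq, hqC⟩ := SetLike.exists_of_lt hN
  have h1 : (⟨x, hx⟩ : R) ∈ C := by
    rw [hC, Subgroup.mem_centralizer_singleton_iff]
  have h2 := (Subgroup.mem_normalizer_iff.mp hq _).mp h1
  rw [hC, Subgroup.mem_centralizer_singleton_iff] at h2
  have h3 : ((q : G) * x * (q : G)⁻¹) * x = x * ((q : G) * x * (q : G)⁻¹) := congrArg Subtype.val h2
  have h4 := hiso q h3.symm
  apply hqC
  rw [hC, Subgroup.mem_centralizer_singleton_iff]
  apply Subtype.ext
  show (q : G) * x = x * q
  calc (q : G) * x = ((q : G) * x * (q : G)⁻¹) * q := by group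
    _ = x * q := by rw [h4]

theorem card_step {A B : Subgroup G} (hAB : A ≤ B) (hne : A ≠ B) (hB : IsPGroup p B) :
    p * Nat.card A ≤ Nat.card B := by
  obtain ⟨n, hn⟩ := IsPGroup.iff_card.mp hB
  have hd := Subgroup.card_dvd_of_le hAB
  rw [hn] at hd
  obtain ⟨m, hm, hA⟩ := (Nat.dvd_prime_pow hp.out).mp hd
  have hlt : m < n := by
    apply lt_of_le_of_ne hm
    rintro rfl
    exact hne (Subgroup.eq_of_le_of_card_ge hAB (by rw [hA, hn]))
  rw [hA, hn, ← pow_succ']
  exact Nat.pow_le_pow_right hp.out.pos hlt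

theorem rank_decomp (hrank : PRankLE p 2 G) {x e y : G} (hxp : x ^ p = 1) (hep : e ^ p = 1) (hyp : y ^ p = 1)
    (hxe : x * e = e * x) (hxy : x * y = y * x) (hey : e * y = y * e) (hy1 : y ≠ 1)
    (he : e ∉ Subgroup.zpowers y) : ∃ a b : ℕ, x = e ^ a * y ^ b := by
  classical
  by_contra hcon
  push Not at hcon
  have hS : ∀ a ∈ ({x, e, y} : Set G), ∀ b ∈ ({x, e, y} : Set G), a * b = b * a := by
    intro a ha b hb
    simp only [Set.mem_insert_iff, Set.mem_singleton_iff] at ha hb
    rcases ha with rfl | rfl | rfl <;> rcases hb with rfl | rfl | rfl <;> first | rfl | assumption | (symm; assumption)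
  obtain ⟨A, hA⟩ : ∃ A, A = Subgroup.closure ({x, e, y} : Set G) := ⟨_, rfl⟩
  have hAc : IsMulCommutative A := by
    rw [hA]
    exact Subgroup.isMulCommutative_closure hS
  have hAcomm : ∀ a ∈ A, ∀ b ∈ A, a * b = b * a := by
    intro a ha b hb
    have := hAc.is_comm.comm ⟨a, ha⟩ ⟨b, hb⟩
    exact congrArg Subtype.val this
  have hAe' : ∀ a ∈ Subgroup.closure ({x, e, y} : Set G), a ^ p = 1 := by
    intro a hax
    induction hax using Subgroup.closure_induction with
    | mem a ha =>
      simp only [Set.mem_insert_iff, Set.mem_singleton_iff] at ha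
      rcases ha with rfl | rfl | rfl <;> assumption
    | one => simp
    | mul a b ha' hb' iha ihb =>
      have ha2 : a ∈ A := hA ▸ ha'
      have hb2 : b ∈ A := hA ▸ hb'
      rw [(show Commute a b from hAcomm a ha2 b hb2).mul_pow, iha, ihb, one_mul]
    | inv a ha' iha =>
      rw [inv_pow, iha, inv_one]
  have hAe : ∀ a ∈ A, a ^ p = 1 := fun a ha => hAe' a (hA ▸ ha)
  have hxA : x ∈ A := by
    rw [hA]
    exact Subgroup.subset_closure (by simp)
  have heA : e ∈ A := by
    rw [hA]
    exact Subgroup.subset_closure (by simp)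
  have hyA : y ∈ A := by
    rw [hA]
    exact Subgroup.subset_closure (by simp)
  have hAp : IsPGroup p A := by
    intro a
    refine ⟨1, ?_⟩
    apply Subtype.ext
    simpa using hAe a a.2
  obtain ⟨B, hB⟩ : ∃ B, B = H14.ES.zvGroup e y hey hep hyp := ⟨_, rfl⟩
  have hBmem : ∀ z, z ∈ B ↔ ∃ i j : ℕ, z = e ^ i * y ^ j := by
    intro z
    rw [hB]
    rfl
  have hBA : B ≤ A := by
    intro z hz
    obtain ⟨i, j, rfl⟩ := (hBmem z).mp hz
    exact A.mul_mem (A.pow_mem heA i) (A.pow_mem hyA j)
  have hBne : B ≠ A := by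
    intro h
    have : x ∈ B := h ▸ hxA
    obtain ⟨i, j, hij⟩ := (hBmem x).mp this
    exact hcon i j hij
  have hBp : IsPGroup p B := hAp.to_le hBA
  have hCB : Subgroup.zpowers y ≤ B := by
    rw [Subgroup.zpowers_le]
    exact (hBmem y).mpr ⟨0, 1, by simp⟩
  have hCne : Subgroup.zpowers y ≠ B := by
    intro h
    apply he
    rw [h]
    exact (hBmem e).mpr ⟨1, 0, by simp⟩
  have h1 := card_step hCB hCne hBp
  have h2 := card_step hBA hBne hAp
  have h3 := hrank A hAc hAe
  rw [Nat.card_zpowers, orderOf_eq_prime hyp hy1] at h1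
  have hp2 := hp.out.two_le
  nlinarith

theorem fc_of_sylow (P : Sylow p G) {K : Subgroup G} (hK : K.IsSubnormal)
    (h : ∀ T : Subgroup G, T ≤ P → T ≤ K → IsPGroup p T → ∀ g ∈ K, g ∈ Subgroup.normalizer (T : Set G) →
      (orderOf g).Coprime p → g ∈ Subgroup.centralizer (T : Set G)) : H14.FC p K := by
  intro T hT hTK g hgK hgN hgc
  have hS1 : IsPGroup p ((P : Subgroup G).subgroupOf K) := P.isPGroup'.comap_subtype
  obtain ⟨S, hS⟩ : ∃ S : Sylow p K, (S : Subgroup K) = (P : Subgroup G).subgroupOf K :=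
    ⟨hS1.toSylow (H02.sylow_subgroupOf_index p P hK), IsPGroup.toSylow_coe hS1 _⟩
  obtain ⟨c, hc, hcT⟩ := H08.exists_conj_into_sylow_subtype K S T hT hTK
  have hT'P : T.map (MulAut.conj c).toMonoidHom ≤ P := by
    rintro _ ⟨t, ht, rfl⟩
    obtain ⟨h1, h2⟩ := hcT t ht
    have h3 : (⟨c * t * c⁻¹, h1⟩ : K) ∈ (P : Subgroup G).subgroupOf K := by
      rw [← hS]
      exact h2
    exact Subgroup.mem_subgroupOf.mp h3
  have hT'K : T.map (MulAut.conj c).toMonoidHom ≤ K := by
    rintro _ ⟨t, ht, rfl⟩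
    exact (hcT t ht).1
  have h1 := h _ hT'P hT'K (hT.map _) (c * g * c⁻¹) (K.mul_mem (K.mul_mem hc hgK) (K.inv_mem hc))
    (Subgroup.le_normalizer_map (MulAut.conj c).toMonoidHom ⟨g, hgN, rfl⟩)
    (by rwa [H14.orderOf_conj_eq])
  rw [Subgroup.mem_centralizer_iff] at h1 ⊢
  intro t ht
  have h2 := h1 (c * t * c⁻¹) ⟨t, ht, rfl⟩
  have h3 : c * (t * g) * c⁻¹ = c * (g * t) * c⁻¹ := by
    calc c * (t * g) * c⁻¹ = (c * t * c⁻¹) * (c * g * c⁻¹) := by group
      _ = (c * g * c⁻¹) * (c * t * c⁻¹) := h2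
      _ = c * (g * t) * c⁻¹ := by group
  exact mul_left_cancel (mul_right_cancel h3)

theorem key_fc (P : Sylow p G) {K : Subgroup G} (hK : K.IsSubnormal) (hp2 : p ≠ 2)
    (hrank : PRankLE p 2 G) {x y₂ : G} (hiso : IsIsolated x) (hxp : x ^ p = 1)
    (hxc : ∀ y ∈ (P : Subgroup G), x * y = y * x) (hnK : ∃ k ∈ K, x * k ≠ k * x)
    (hy₂P : y₂ ∈ (P : Subgroup G)) (hy₂K : ∀ k ∈ K, y₂ * k = k * y₂) (hy₂1 : y₂ ≠ 1) (hy₂p : y₂ ^ p = 1) :
    H14.FC p K := by
  apply fc_of_sylow P hK
  intro T hTP hTK hT g hgK hgN hgc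
  have hinv : ∀ t ∈ T, g * t * g⁻¹ ∈ T := fun t ht => (Subgroup.mem_normalizer_iff.mp hgN t).mp ht
  have hfix : ∀ e ∈ T, e ^ p = 1 → g * e = e * g := by
    intro e heT hep
    by_cases hez : ∀ k ∈ K, e * k = k * e
    · exact (hez g hgK).symm
    · push Not at hez
      obtain ⟨k₀, hk₀, hek⟩ := hez
      have heP := hTP heT
      have hey : e * y₂ = y₂ * e := (hy₂K e (hTK heT)).symm
      have hez' : e ∉ Subgroup.zpowers y₂ := by
        intro h
        obtain ⟨n, rfl⟩ := Subgroup.mem_zpowers_iff.mp h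
        apply hek
        exact (Commute.zpow_left (show Commute y₂ k₀ from hy₂K k₀ hk₀) n).eq
      obtain ⟨a, b, hab⟩ := rank_decomp hrank hxp hep hy₂p (hxc e heP) (hxc y₂ hy₂P) hey hy₂1 hez'
      have ha : ¬ p ∣ a := by
        rintro ⟨q, rfl⟩
        obtain ⟨k, hk, hxk⟩ := hnK
        apply hxk
        rw [hab, pow_mul, hep, one_pow, one_mul]
        exact (Commute.pow_left (show Commute y₂ k from hy₂K k hk) b).eq
      have hgy : g * y₂ * g⁻¹ = y₂ := by
        rw [← hy₂K g hgK]
        group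
      have hx' : g * x * g⁻¹ = (g * e * g⁻¹) ^ a * y₂ ^ b := by
        have h1 : g * y₂ ^ b * g⁻¹ = y₂ ^ b := by
          rw [← conj_pow, hgy]
        rw [hab, conj_pow]
        calc g * (e ^ a * y₂ ^ b) * g⁻¹ = (g * e ^ a * g⁻¹) * (g * y₂ ^ b * g⁻¹) := by group
          _ = g * e ^ a * g⁻¹ * y₂ ^ b := by rw [h1]
      have hx'P : g * x * g⁻¹ ∈ (P : Subgroup G) := by
        rw [hx']
        exact mul_mem (pow_mem (hTP (hinv e heT)) a) (pow_mem hy₂P b)
      have hiso' := hiso g (hxc _ hx'P)
      have h1 : (g * e * g⁻¹) ^ a = e ^ a := by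
        have h2 : (g * e * g⁻¹) ^ a * y₂ ^ b = e ^ a * y₂ ^ b := by rw [← hx', hiso', ← hab]
        exact mul_right_cancel h2
      have hco : a.Coprime (orderOf e) := by
        have h2 : a.Coprime p := ((Nat.Prime.coprime_iff_not_dvd hp.out).mpr ha).symm
        exact Nat.Coprime.coprime_dvd_right (orderOf_dvd_of_pow_eq_one hep) h2
      obtain ⟨u, hu⟩ := exists_pow_eq_self_of_coprime hco
      have h2 : g * e * g⁻¹ = e := by
        calc g * e * g⁻¹ = g * (e ^ a) ^ u * g⁻¹ := by rw [hu]
          _ = (g * e ^ a * g⁻¹) ^ u := by rw [conj_pow]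
          _ = ((g * e * g⁻¹) ^ a) ^ u := by rw [← conj_pow]
          _ = (e ^ a) ^ u := by rw [h1]
          _ = e := hu
      calc g * e = (g * e * g⁻¹) * g := by group
        _ = e * g := by rw [h2]
  have h3 := H06.centralizes_of_fix_omega hp2 hgc _ T rfl hT hinv hfix
  rw [Subgroup.mem_centralizer_iff]
  intro t ht
  exact (h3 t ht).symm

theorem frobCond_perfect_false {X : Type*} [Group X] [Finite X] (hX : commutator X = ⊤)
    (hd : p ∣ Nat.card X) (hF : H13.FrobCond p X) : False := by
  obtain ⟨N, hN, hNt, k, hk⟩ := H13.exists_normal_pquotient hF hd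
  have hQ : IsPGroup p (X ⧸ N) := IsPGroup.of_card (n := k) hk
  haveI : Group.IsNilpotent (X ⧸ N) := hQ.isNilpotent
  haveI : Nontrivial (X ⧸ N) := QuotientGroup.nontrivial_iff.mpr hNt
  have h1 := Group.IsSolvable.commutator_lt_top_of_nontrivial (X ⧸ N)
  have h2 : (commutator X).map (QuotientGroup.mk' N) = commutator (X ⧸ N) := by
    rw [commutator_def, commutator_def, Subgroup.map_commutator, ← MonoidHom.range_eq_map,
      MonoidHom.range_eq_top.mpr (QuotientGroup.mk'_surjective N)]
  rw [← h2, hX, ← MonoidHom.range_eq_map, MonoidHom.range_eq_top.mpr (QuotientGroup.mk'_surjective N)] at h1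
  exact lt_irrefl _ h1

end Helpers

/-- Let G be a finite group and p an odd prime with O_{p'}(G) = 1. Suppose that G has p-rank at most 2 (no elementary abelian subgroup of order p³) and that some element x of order p is isolated in G (no G-conjugate of x other than x commutes with x) and not central. Then the generalized Fitting subgroup F*(G) is a non-abelian simple group. Since O_{p'}(G) = 1, such an x is not central modulo O_{p'}(G): the hypotheses describe a counterexample to the Z*_p statement in p-rank at most 2. -/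
theorem result {G : Type*} [Group G] [Finite G] {p : ℕ} [Fact p.Prime] (hp : p ≠ 2) (hcore : Cfsg.pPrimeCore p G = ⊥)
    (hrank : Cfsg.PRankLE p 2 G) (x : G) (hx : orderOf x = p) (hiso : Cfsg.IsIsolated x) (hnc : x ∉ Subgroup.center G) :
    IsSimpleGroup ↥(Cfsg.generalizedFittingSubgroup G) ∧ ¬ IsMulCommutative ↥(Cfsg.generalizedFittingSubgroup G) := by
  classical
  have hpp : p.Prime := Fact.out
  have hxp : x ^ p = 1 := by
    rw [← hx]
    exact pow_orderOf_eq_one x
  have hzp : IsPGroup p (Subgroup.zpowers x) := IsPGroup.of_card (n := 1) (by rw [Nat.card_zpowers, hx, pow_one])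
  obtain ⟨P, hP⟩ := hzp.exists_le_sylow
  have hxP : x ∈ (P : Subgroup G) := hP (Subgroup.mem_zpowers x)
  have hxc : ∀ y ∈ (P : Subgroup G), x * y = y * x := central_of_isolated hiso P P.isPGroup' hxP
  have hFp := H12.isPGroup_fitting hcore
  haveI hFn : (fittingSubgroup G).Normal := H01.fitting_normal
  have hFP : fittingSubgroup G ≤ P := hFp.le_sylow_of_normal P
  have hcomp_dvd : ∀ K : Subgroup G, IsComponent K → p ∣ Nat.card K := by
    intro K hK
    by_contra hnd
    have hc : (Nat.card K).Coprime p := ((Nat.Prime.coprime_iff_not_dvd hpp).mpr hnd).symm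
    have h1 := H05.sn_coprime_le_pp hK.1 hc
    rw [hcore, le_bot_iff] at h1
    have h2 := hK.2
    rw [h1] at h2
    haveI := H05.qs_nontrivial h2
    exact not_subsingleton (⊥ : Subgroup G) inferInstance
  have hex : ∃ K : Subgroup G, IsComponent K ∧ ∃ k ∈ K, x * k ≠ k * x := by
    by_contra hno
    push Not at hno
    have h1 : layer G ≤ Subgroup.centralizer {x} := sSup_le (fun K hK k hk => by
      rw [Subgroup.mem_centralizer_singleton_iff]
      exact (hno K hK k hk).symm)
    have h2 : fittingSubgroup G ≤ Subgroup.centralizer {x} := fun k hk => by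
      rw [Subgroup.mem_centralizer_singleton_iff]
      exact (hxc k (hFP hk)).symm
    have h3 : generalizedFittingSubgroup G ≤ Subgroup.centralizer {x} := sup_le h1 h2
    have h4 : x ∈ Subgroup.centralizer (generalizedFittingSubgroup G : Set G) := by
      rw [Subgroup.mem_centralizer_iff]
      intro h hh
      exact Subgroup.mem_centralizer_singleton_iff.mp (h3 hh)
    have h5 := H05.centralizer_fstar_le h4
    apply hnc
    rw [Subgroup.mem_center_iff]
    intro g
    haveI hFs : (generalizedFittingSubgroup G).Normal := H07.generalizedFitting_normal G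
    have h6 : g * x * g⁻¹ ∈ Subgroup.centralizer (generalizedFittingSubgroup G : Set G) :=
      (inferInstance : (Subgroup.centralizer (generalizedFittingSubgroup G : Set G)).Normal).conj_mem x h4 g
    have h7 : x * (g * x * g⁻¹) = (g * x * g⁻¹) * x := Subgroup.mem_centralizer_iff.mp h6 x h5
    have h8 := hiso g h7
    calc g * x = (g * x * g⁻¹) * g := by group
      _ = x * g := by rw [h8]
  obtain ⟨K, hK, hnK⟩ := hex
  have hY : ∀ y ∈ (P : Subgroup G), (∀ k ∈ K, y * k = k * y) → y = 1 := by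
    intro y hyP hyK
    by_contra hy1
    have hd : p ∣ orderOf y := by
      obtain ⟨n, hn⟩ := P.isPGroup' ⟨y, hyP⟩
      have h1 : y ^ p ^ n = 1 := by
        have := congrArg Subtype.val hn
        simpa using this
      have h2 := orderOf_dvd_of_pow_eq_one h1
      obtain ⟨m, -, hm⟩ := (Nat.dvd_prime_pow hpp).mp h2
      rw [hm]
      refine dvd_pow_self p ?_
      rintro rfl
      apply hy1
      rw [pow_zero] at hm
      exact orderOf_eq_one_iff.mp hm
    have hpos : orderOf y ≠ 0 := (orderOf_pos y).ne'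
    have ho := orderOf_pow_orderOf_div hpos hd
    have hy₂1 : y ^ (orderOf y / p) ≠ 1 := by
      intro h
      rw [h, orderOf_one] at ho
      exact hpp.one_lt.ne ho
    have hy₂p : (y ^ (orderOf y / p)) ^ p = 1 := by
      have h := pow_orderOf_eq_one (y ^ (orderOf y / p))
      rwa [ho] at h
    have hy₂K : ∀ k ∈ K, y ^ (orderOf y / p) * k = k * y ^ (orderOf y / p) := fun k hk =>
      (Commute.pow_left (show Commute y k from hyK k hk) _).eq
    have hFC := key_fc P hK.1 hp hrank hiso hxp hxc hnK (pow_mem hyP _) hy₂K hy₂1 hy₂p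
    exact frobCond_perfect_false (H05.qs_perfect hK.2) (hcomp_dvd K hK) (H14.frobCond_of_FC hFC)
  have hF : fittingSubgroup G = ⊥ := by
    rw [eq_bot_iff]
    intro y hy
    rw [Subgroup.mem_bot]
    apply hY y (hFP hy)
    intro k hk
    haveI := H01.fitting_nilpotent (G := G)
    have h := H05.comp_comm_solvable hK (H := fittingSubgroup G) inferInstance
      (by rw [Subgroup.normalizer_eq_top_iff.mpr hFn]; exact le_top)
    exact (H05.comm_bot_iff.mp h k hk y hy).symm
  have hcenter : ∀ K : Subgroup G, IsComponent K → Subgroup.center K = ⊥ := by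
    intro K hK
    have h1 : ((Subgroup.center K).map K.subtype).IsSubnormal := by
      apply Subgroup.IsSubnormal.step _ K _ hK.1
      · show (Subgroup.comap K.subtype (Subgroup.map K.subtype _)).Normal
        rw [Subgroup.comap_map_eq_self_of_injective K.subtype_injective]
        infer_instance
      · exact Subgroup.map_subtype_le _
    have h2 : Group.IsNilpotent ((Subgroup.center K).map K.subtype) := by
      apply H05.nil_of_comm
      rintro ⟨_, a, ha, rfl⟩ ⟨_, b, hb, rfl⟩
      apply Subtype.ext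
      show (a : G) * b = b * a
      have := (Subgroup.mem_center_iff.mp ha b)
      exact (congrArg Subtype.val this).symm
    have h3 := H05.sn_nil_le_fitting h1 h2
    rw [hF, le_bot_iff, Subgroup.map_eq_bot_iff_of_injective _ K.subtype_injective] at h3
    exact h3
  have huniq : ∀ K' : Subgroup G, IsComponent K' → K' = K := by
    intro K' hK'
    by_contra hne
    have h1 := (H05.comp_eq_or_comm hK' hK).resolve_left hne
    have h2 := H13.comp_inf_sylow_ne_bot hK' P (hcomp_dvd K' hK')
    obtain ⟨⟨y, hy⟩, hy1⟩ := (Subgroup.ne_bot_iff_exists_ne_one).mp h2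
    exact hy1 (Subtype.ext (hY y hy.1 (fun k hk => H05.comm_bot_iff.mp h1 y hy.2 k hk)))
  have hlayer_eq : layer G = K :=
    le_antisymm (sSup_le (fun L hL => (huniq L hL).le)) (H05.comp_le_layer hK)
  have hfstar : generalizedFittingSubgroup G = K := by
    rw [generalizedFittingSubgroup, hF, sup_bot_eq, hlayer_eq]
  rw [hfstar]
  refine ⟨?_, ?_⟩
  · have e : K ⧸ Subgroup.center K ≃* K :=
      (QuotientGroup.quotientMulEquivOfEq (hcenter K hK)).trans QuotientGroup.quotientBot
    haveI := hK.2.2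
    exact e.symm.isSimpleGroup
  · intro hc
    obtain ⟨a, b, hab⟩ := H05.qs_not_comm hK.2
    exact hab (hc.is_comm.comm _ _)

end Cfsg.Agent.S3049
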