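import Mathlib
import Cfsg.Statements.S3054
import Cfsg.Agent.Lib.H14.ES8
-- import your own Cfsg.Agent.* helpers here

set_option autoImplicit false
open Cfsg

namespace Cfsg.Agent.S3054


/-- Let p be an odd prime and G a finite group with a Sylow p-subgroup P that is extraspecial of order p³ and exponent p. Suppose P contains three distinct subgroups A of order p² (each is elementary abelian of rank 2) such that every automorphism of A of order p is induced by conjugation by an element of G; equivalently the automorphism group induced on A by its normalizer contains the special linear group of A. Then p ≤ 13. -/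
theorem result {G : Type*} [Group G] [Finite G]
    {p : ℕ} [Fact p.Prime] (hp : p ≠ 2) (P : Sylow p G) (hE : Cfsg.IsExtraspecial p ↥P)
    (hcard : Nat.card P = p ^ 3) (hexp : Monoid.exponent ↥P = p)
    (A : Fin 3 → Subgroup G) (hA : Function.Injective A) (hAP : ∀ i, A i ≤ (P : Subgroup G))
    (hAcard : ∀ i, Nat.card ↥(A i) = p ^ 2)
    (hSL : ∀ i, ∀ φ : MulAut ↥(A i), orderOf φ = p → ∃ g : G, ∀ a : ↥(A i), (φ a : G) = g * (a : G) * g⁻¹) :
    p ≤ 13 := by
  classical
  by_contra hlt
  push Not at hlt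
  have hp' : p.Prime := Fact.out
  have h17 : 17 ≤ p := by
    by_contra h
    have : p = 14 ∨ p = 15 ∨ p = 16 := by omega
    rcases this with h | h | h <;> rw [h] at hp' <;> exact absurd hp' (by norm_num)
  have hE' : IsExtraspecial p ↥(P : Subgroup G) := hE
  have hcard' : Nat.card ↥(P : Subgroup G) = p ^ 3 := hcard
  have hexp' : Monoid.exponent ↥(P : Subgroup G) = p := hexp
  obtain ⟨hR1, hcomm, hq⟩ := H14.ES.ex_facts P hE' hcard' hexp'
  have hzcard : Nat.card (Subgroup.center ↥(P : Subgroup G)) = p := hE'.2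
  obtain ⟨M, π, hadd, hker, hsurj, hint⟩ := H14.ES.rep2 hcomm (fun a => by rw [hR1 a]; exact one_mem _) hq (P : Subgroup G).normalizerMonoidHom
  have hcop := H14.ES.hcop_of_rep P M π hadd hker hsurj hint hcomm
  obtain ⟨l, hl, hlp⟩ := H14.ES.exists_prim (p := p)
  have hAz : ∀ i, ∀ c ∈ Subgroup.center ↥(P : Subgroup G), (c : G) ∈ A i := fun i c hc =>
    H14.ES.center_le_line P hR1 hcard' hzcard (A i) (hAP i) (hAcard i) c hc
  have hv : ∀ i, ∃ v : ↥(P : Subgroup G), (v : G) ∈ A i ∧ v ∉ Subgroup.center ↥(P : Subgroup G) := fun i =>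
    H14.ES.exists_noncentral P hzcard (A i) (hAP i) (hAcard i)
  choose v hvA hvc using hv
  have hpt : ∀ i, π (v i) ≠ 0 ∧ ∃ n : Subgroup.normalizer ((P : Subgroup G) : Set G),
      (∃ μ : ZMod p, (M n : Matrix (Fin 2) (Fin 2) (ZMod p)).mulVec (π (v i)) = μ • π (v i)) ∧
      ∀ k, H14.ES.Scal (M n ^ k) → l ^ (3 * k) = 1 := by
    intro i
    obtain ⟨y, z, hz, hz1⟩ := H14.ES.exists_comm P (v i) (hvc i)
    have hzc : z ∈ Subgroup.center ↥(P : Subgroup G) := by
      rw [hz]
      exact hcomm _ _
    refine H14.ES.key P M π hR1 hcomm hzcard hadd hker hint (v i) y z hz hz1 ?_ l hl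
    intro r hr
    exact H14.ES.transv_of_SL P hR1 (A i) (hAP i) (hAcard i) (hSL i) z (v i) (hAz i z hzc) (hvA i) hz1 hzc (hvc i) r hr
  choose hpv n hn hnk using hpt
  choose μ hμ using hn
  refine H14.ES.mc3 M hp hcop (fun i => π (v i)) hpv ?_ n μ ?_ ?_ ?_
  · rintro i j hij ⟨c, hc⟩
    apply hij
    apply hA
    have hm : v j * (v i ^ c.val)⁻¹ ∈ Subgroup.center ↥(P : Subgroup G) := by
      rw [← hker, hadd, H14.ES.pi_inv π hadd, H14.ES.pi_pow π hadd, ZMod.natCast_zmod_val, hc]
      simp
    have hjA : (v j : G) ∈ A i := by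
      have h1 := hAz i _ hm
      have h2 : ((v i ^ c.val : ↥(P : Subgroup G)) : G) ∈ A i := by
        simpa using pow_mem (hvA i) c.val
      have h3 : (v j : G) = ((v j * (v i ^ c.val)⁻¹ : ↥(P : Subgroup G)) : G) * ((v i ^ c.val : ↥(P : Subgroup G)) : G) := by
        simp
      rw [h3]
      exact mul_mem h1 h2
    exact H14.ES.lines_distinct P hzcard (A i) (A j) (hAcard i) (hAcard j) (hAz i) (hAz j) (v j) (hvc j) hjA (hvA j)
  · intro i
    have := congrFun (hμ i) 0
    rw [H14.ES.mv0] at this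
    simpa using this
  · intro i
    have := congrFun (hμ i) 1
    rw [H14.ES.mv1] at this
    simpa using this
  · intro i k hk1 hk6 hs
    have h1 := hlp _ (hnk i k hs)
    have : p - 1 ≤ 3 * k := Nat.le_of_dvd (by omega) h1
    omega

end Cfsg.Agent.S3054
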