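import Mathlib
import Cfsg.Statements.S3055
import Cfsg.Agent.Lib.H14.ES8
-- import your own Cfsg.Agent.* helpers here

set_option autoImplicit false
open Cfsg

namespace Cfsg.Agent.S3055


/-- Let p be an odd prime and G a finite group with a Sylow p-subgroup P that is extraspecial of order p³ and exponent p. If all nonidentity elements of P are conjugate in G, then p ≤ 7. -/
theorem result {G : Type*} [Group G] [Finite G]
    {p : ℕ} [Fact p.Prime] (hp : p ≠ 2) (P : Sylow p G) (hE : Cfsg.IsExtraspecial p ↥P)
    (hcard : Nat.card P = p ^ 3) (hexp : Monoid.exponent ↥P = p)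
    (hconj : ∀ x y : ↥P, x ≠ 1 → y ≠ 1 → ∃ g : G, g * (x : G) * g⁻¹ = (y : G)) :
    p ≤ 7 := by
  classical
  by_contra hlt
  push Not at hlt
  have hp' : p.Prime := Fact.out
  have hE' : IsExtraspecial p ↥(P : Subgroup G) := hE
  have hcard' : Nat.card ↥(P : Subgroup G) = p ^ 3 := hcard
  have hexp' : Monoid.exponent ↥(P : Subgroup G) = p := hexp
  obtain ⟨hR1, hcomm, hq⟩ := H14.ES.ex_facts P hE' hcard' hexp'
  have hzcard : Nat.card (Subgroup.center ↥(P : Subgroup G)) = p := hE'.2
  obtain ⟨M, π, hadd, hker, hsurj, hint⟩ := H14.ES.rep2 hcomm (fun a => by rw [hR1 a]; exact one_mem _) hq (P : Subgroup G).normalizerMonoidHom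
  have hcop := H14.ES.hcop_of_rep P M π hadd hker hsurj hint hcomm
  obtain ⟨l, hl, hlp⟩ := H14.ES.exists_prim (p := p)
  have hpt : ∀ w : Fin 2 → ZMod p, w ≠ 0 → ∃ n : Subgroup.normalizer ((P : Subgroup G) : Set G),
      (∃ μ : ZMod p, (M n : Matrix (Fin 2) (Fin 2) (ZMod p)).mulVec w = μ • w) ∧
      ∀ k, H14.ES.Scal (M n ^ k) → l ^ (3 * k) = 1 := by
    intro w hw
    obtain ⟨v, rfl⟩ := hsurj w
    have hvc : v ∉ Subgroup.center ↥(P : Subgroup G) := fun h => hw ((hker v).mpr h)
    obtain ⟨y, z, hz, hz1⟩ := H14.ES.exists_comm P v hvc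
    have hzc : z ∈ Subgroup.center ↥(P : Subgroup G) := by
      rw [hz]
      exact hcomm _ _
    refine (H14.ES.key P M π hR1 hcomm hzcard hadd hker hint v y z hz hz1 ?_ l hl).2
    intro r hr
    exact H14.ES.transv_of_conj P hR1 hcomm hzcard hconj v z hvc hzc hz1 r hr
  by_cases h13 : p = 13
  · obtain rfl := h13
    obtain ⟨w, hw⟩ : ∃ w : Fin 14 → (Fin 2 → ZMod 13), w = fun i j =>
        if i.val = 13 then (if j = 0 then 1 else 0) else (if j = 0 then (i.val : ZMod 13) else 1) := ⟨_, rfl⟩
    have hw0 : ∀ i, i.val = 13 → w i 0 = 1 ∧ w i 1 = 0 := by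
      intro i hi
      rw [hw]
      simp [hi]
    have hw1 : ∀ i : Fin 14, i.val ≠ 13 → w i 0 = (i.val : ZMod 13) ∧ w i 1 = 1 := by
      intro i hi
      rw [hw]
      simp [hi]
    have hwn : ∀ i, w i ≠ 0 := by
      intro i h
      by_cases hi : i.val = 13
      · have := (hw0 i hi).1
        rw [h] at this
        simp at this
      · have := (hw1 i hi).2
        rw [h] at this
        simp at this
    have hpnp : ∀ i j, i ≠ j → ¬ ∃ c : ZMod 13, w j = c • w i := by
      rintro i j hij ⟨c, hc⟩
      have hc0 := congrFun hc 0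
      have hc1 := congrFun hc 1
      simp only [Pi.smul_apply, smul_eq_mul] at hc0 hc1
      by_cases hi : i.val = 13
      · have hj : j.val ≠ 13 := fun hj => hij (Fin.ext (hi.trans hj.symm))
        rw [(hw0 i hi).2, (hw1 j hj).2] at hc1
        simp at hc1
      · by_cases hj : j.val = 13
        · rw [(hw1 i hi).2, (hw0 j hj).2, mul_one] at hc1
          rw [(hw0 j hj).1, ← hc1] at hc0
          simp at hc0
        · rw [(hw1 i hi).2, (hw1 j hj).2, mul_one] at hc1
          rw [(hw1 i hi).1, (hw1 j hj).1, ← hc1, one_mul] at hc0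
          have h1 := (ZMod.natCast_eq_natCast_iff _ _ 13).mp hc0
          have h2 : j.val % 13 = i.val % 13 := h1
          apply hij
          apply Fin.ext
          have := i.2
          have := j.2
          omega
    have hpt' := fun i => hpt (w i) (hwn i)
    choose n hn hnk using hpt'
    choose μ hμ using hn
    refine H14.ES.mc14 M hp hcop w hwn hpnp n μ ?_ ?_ ?_
    · intro i
      have := congrFun (hμ i) 0
      rw [H14.ES.mv0] at this
      simpa using this
    · intro i
      have := congrFun (hμ i) 1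
      rw [H14.ES.mv1] at this
      simpa using this
    · intro i k hk1 hk6 hs
      have h1 := hlp _ (hnk i k hs)
      have h2 : (12 : ℕ) ∣ 3 * k := h1
      omega
  · have hpne : p = 11 ∨ 17 ≤ p := by
      by_contra h
      push Not at h
      have : p = 8 ∨ p = 9 ∨ p = 10 ∨ p = 12 ∨ p = 14 ∨ p = 15 ∨ p = 16 := by omega
      rcases this with h | h | h | h | h | h | h <;> rw [h] at hp' <;> exact absurd hp' (by norm_num)
    obtain ⟨w, hw⟩ : ∃ w : Fin 3 → (Fin 2 → ZMod p), w = ![![1, 0], ![0, 1], ![1, 1]] := ⟨_, rfl⟩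
    have hwn : ∀ i, w i ≠ 0 := by
      intro i h
      rw [hw] at h
      fin_cases i
      · have := congrFun h 0
        simp at this
      · have := congrFun h 1
        simp at this
      · have := congrFun h 0
        simp at this
    have hpnp : ∀ i j, i ≠ j → ¬ ∃ c : ZMod p, w j = c • w i := by
      rintro i j hij ⟨c, hc⟩
      have hc0 := congrFun hc 0
      have hc1 := congrFun hc 1
      rw [hw] at hc0 hc1
      fin_cases i <;> fin_cases j <;> simp at hij hc0 hc1
      · rw [← hc1] at hc0
        simp at hc0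
      · rw [← hc0] at hc1
        simp at hc1
    have hpt' := fun i => hpt (w i) (hwn i)
    choose n hn hnk using hpt'
    choose μ hμ using hn
    refine H14.ES.mc3 M hp hcop w hwn hpnp n μ ?_ ?_ ?_
    · intro i
      have := congrFun (hμ i) 0
      rw [H14.ES.mv0] at this
      simpa using this
    · intro i
      have := congrFun (hμ i) 1
      rw [H14.ES.mv1] at this
      simpa using this
    · intro i k hk1 hk6 hs
      have h1 := hlp _ (hnk i k hs)
      rcases hpne with h11 | h17
      · rw [h11] at h1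
        have h2 : (10 : ℕ) ∣ 3 * k := h1
        omega
      · have : p - 1 ≤ 3 * k := Nat.le_of_dvd (by omega) h1
        omega

end Cfsg.Agent.S3055
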