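import Mathlib
import Cfsg.Statements.S3071
import Cfsg.Agent.Lib.H14.FusionSec
-- import your own Cfsg.Agent.* helpers here

set_option autoImplicit false
open Cfsg

namespace Cfsg.Agent.S3071

open Cfsg.Agent Cfsg.Agent.H14 in
lemma section_of_involves {G J : Type*} [Group G] [Group J] {M : Subgroup G}
    (h : Cfsg.Involves J ↥M) :
    ∃ (H K : Subgroup G) (hK : (K.subgroupOf H).Normal), H ≤ M ∧ Nonempty ((H ⧸ K.subgroupOf H) ≃* J) := by
  obtain ⟨K, θ, hθ⟩ := H09.exists_of_involves h
  let H : Subgroup G := K.map M.subtype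
  let e : ↥K ≃* ↥H := K.equivMapOfInjective M.subtype M.subtype_injective
  let θ' : ↥H →* J := θ.comp e.symm.toMonoidHom
  have hθ' : Function.Surjective θ' := hθ.comp e.symm.surjective
  have hk : (θ'.ker.map H.subtype).subgroupOf H = θ'.ker :=
    Subgroup.comap_map_eq_self_of_injective (Subgroup.subtype_injective H) _
  haveI hn : ((θ'.ker.map H.subtype).subgroupOf H).Normal := by rw [hk]; infer_instance
  refine ⟨H, θ'.ker.map H.subtype, hn, Subgroup.map_subtype_le _, ?_⟩
  exact ⟨(QuotientGroup.quotientMulEquivOfEq hk).trans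
    (QuotientGroup.quotientKerEquivOfSurjective θ' hθ')⟩


/-- Let p be an odd prime and S a Sylow p-subgroup of the finite group G such that, for every subgroup P with Z(S) ≤ P ≤ S, the normalizer N_G(P) has no section isomorphic to SL₂(p). Let J(S) be the subgroup generated by the abelian subgroups of S of largest order. Then two elements of S are conjugate in G if and only if they are conjugate in N_G(Z(J(S))). -/
theorem result {G : Type*} [Group G] [Finite G] {p : ℕ} [Fact p.Prime]
    (hp : p ≠ 2) (S : Sylow p G)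
    (hfree : ∀ P : Subgroup G, (S : Subgroup G) ⊓ Subgroup.centralizer ((S : Subgroup G) : Set G) ≤ P → P ≤ S →
      ¬ ∃ (H K : Subgroup G) (hK : (K.subgroupOf H).Normal), H ≤ Subgroup.normalizer (P : Set G) ∧
        Nonempty ((H ⧸ K.subgroupOf H) ≃* Matrix.SpecialLinearGroup (Fin 2) (ZMod p))) :
    ∀ x ∈ S, ∀ y ∈ S, (∃ g : G, g * x * g⁻¹ = y) ↔
      ∃ n ∈ Subgroup.normalizer (Cfsg.centerThompsonAOf (S : Subgroup G) : Set G), n * x * n⁻¹ = y := by
  intro x hx y hy
  constructor
  · rintro ⟨g, hg⟩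
    have hB : Subgroup.zpowers x ≤ (S : Subgroup G) := by
      rw [Subgroup.zpowers_le]
      exact hx
    obtain ⟨n, hn, he⟩ := Cfsg.Agent.H14.ctrl_of_sections hp S
      (fun P hP1 hP2 hinv => by
        obtain ⟨H, K, hK, hH, he⟩ := section_of_involves hinv
        exact hfree P hP1 hP2 ⟨H, K, hK, hH, he⟩)
      (Subgroup.zpowers x) hB g
      (fun r hr => by
        obtain ⟨k, rfl⟩ := Subgroup.mem_zpowers_iff.mp hr
        have : g * x ^ k * g⁻¹ = (g * x * g⁻¹) ^ k := by
          rw [conj_zpow]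
        rw [this, hg]
        exact Subgroup.zpow_mem _ hy k)
    refine ⟨n, ?_, ?_⟩
    · rw [Cfsg.Agent.H14.centerThompsonAOf_eq_zz0]
      exact hn
    · rw [← he x (Subgroup.mem_zpowers x)]
      exact hg
  · rintro ⟨n, -, h⟩
    exact ⟨n, h⟩

end Cfsg.Agent.S3071
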