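import Mathlib
import Cfsg.Statements.S3072
import Cfsg.Agent.Lib.H14.StrongAG4
-- import your own Cfsg.Agent.* helpers here

set_option autoImplicit false
open Cfsg

namespace Cfsg.Agent.S3072

open Cfsg.Agent.H09 Cfsg.Agent.H14.SAG in
theorem seq_aux {G : Type*} [Group G] {p : ℕ} {P : Subgroup G} {A : Set G} {w : G}
    (h : W p P A w) :
    ∃ (n : ℕ) (H X : Fin n → Subgroup G) (x : Fin n → G), (List.ofFn x).prod = w ∧
      ∀ i : Fin n, Good p P (H i) (X i) (x i) ∧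
        (fun a => (((List.ofFn x).take i.val).prod)⁻¹ * a * ((List.ofFn x).take i.val).prod) '' A ⊆
          (H i : Set G) := by
  induction h with
  | nil A => exact ⟨0, Fin.elim0, Fin.elim0, Fin.elim0, by simp, fun i => i.elim0⟩
  | @cons A H₀ X₀ x₀ w hg hA _ ih =>
    obtain ⟨n, H, X, x, hprod, hi⟩ := ih
    refine ⟨n + 1, Fin.cons H₀ H, Fin.cons X₀ X, Fin.cons x₀ x, ?_, ?_⟩
    · rw [List.ofFn_succ]
      simp [hprod]
    · intro i
      refine Fin.cases ?_ (fun j => ?_) i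
      · refine ⟨by simpa using hg, ?_⟩
        simpa [List.ofFn_succ] using hA
      · obtain ⟨h1, h2⟩ := hi j
        refine ⟨by simpa using h1, ?_⟩
        rintro _ ⟨a, ha, rfl⟩
        simp only [Fin.cons_succ]
        apply h2
        refine ⟨x₀⁻¹ * a * x₀⁻¹⁻¹, conj_mem_cjs ha, ?_⟩
        simp [List.ofFn_succ, mul_assoc]

/-- A strong form of the Alperin–Goldschmidt fusion Theorem. Let P be a Sylow p-subgroup of the finite group G, A a subset of P containing a nonidentity element, and g an element with g⁻¹Ag ⊆ P. Then g = c·x₁⋯xₙ·y with c ∈ C_G(A), y ∈ N_G(P) and, for each i, an element xᵢ and a subgroup Hᵢ ≤ P such that: N_P(Hᵢ) is a Sylow p-subgroup of N_G(Hᵢ); C_P(Hᵢ) ≤ Hᵢ; O_{p',p}(N_G(Hᵢ)) = Hᵢ·C_G(Hᵢ); the Sylow p-subgroups of N_G(Hᵢ)/Hᵢ are not chain-connected through nontrivial intersections (the quotient has a strongly p-embedded subgroup); xᵢ lies in O^p(Xᵢ), where Xᵢ/Hᵢ is the smallest normal subgroup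 of N_G(Hᵢ)/Hᵢ of order divisible by p; and (x₁⋯xᵢ₋₁)⁻¹A(x₁⋯xᵢ₋₁) ⊆ Hᵢ. -/
theorem result {G : Type*} [Group G] [Finite G] {p : ℕ} [Fact p.Prime]
    (P : Sylow p G) (A : Set G) (hA : A ⊆ (P : Set G)) (hA1 : ∃ a ∈ A, a ≠ 1)
    (g : G) (hAg : (fun a => g⁻¹ * a * g) '' A ⊆ (P : Set G)) :
    ∃ (n : ℕ) (H X : Fin n → Subgroup G) (x : Fin n → G) (c y : G),
      c ∈ Subgroup.centralizer A ∧ y ∈ Subgroup.normalizer ((P : Subgroup G) : Set G) ∧
      g = c * (List.ofFn x).prod * y ∧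
      ∀ i : Fin n,
        H i ≤ (P : Subgroup G) ∧
        ¬ p ∣ ((P : Subgroup G) ⊓ Subgroup.normalizer (H i : Set G)).relIndex (Subgroup.normalizer (H i : Set G)) ∧
        (P : Subgroup G) ⊓ Subgroup.centralizer (H i : Set G) ≤ H i ∧
        (Cfsg.pPrimePCore p ↥(Subgroup.normalizer (H i : Set G))).map (Subgroup.normalizer (H i : Set G)).subtype =
          H i ⊔ Subgroup.centralizer (H i : Set G) ∧
        ¬ Cfsg.IsSylowChainConnected p
            (↥(Subgroup.normalizer (H i : Set G)) ⧸ (H i).subgroupOf (Subgroup.normalizer (H i : Set G))) ∧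
        (H i ≤ X i ∧ X i ≤ Subgroup.normalizer (H i : Set G) ∧
          ((X i).subgroupOf (Subgroup.normalizer (H i : Set G))).Normal ∧ p ∣ (H i).relIndex (X i) ∧
          ∀ Y : Subgroup G, H i ≤ Y → Y ≤ Subgroup.normalizer (H i : Set G) →
            (Y.subgroupOf (Subgroup.normalizer (H i : Set G))).Normal → p ∣ (H i).relIndex Y → X i ≤ Y) ∧
        x i ∈ (Cfsg.pResidual p ↥(X i)).map (X i).subtype ∧
        (fun a => (((List.ofFn x).take i.val).prod)⁻¹ * a * ((List.ofFn x).take i.val).prod) '' A ⊆ (H i : Set G) := by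
  classical
  have hgA : Cfsg.Agent.H09.cjs g⁻¹ A ⊆ (P : Subgroup G) := by
    have e : Cfsg.Agent.H09.cjs g⁻¹ A = (fun a => g⁻¹ * a * g) '' A := by
      rw [Cfsg.Agent.H09.cjs_eq]
      simp
    rw [e]
    exact hAg
  obtain ⟨c, w, y, hc, hy, hw, e⟩ := Cfsg.Agent.H14.SAG.main_ctl P hA hgA
  obtain ⟨n, H, X, x, hprod, hi⟩ := seq_aux hw
  refine ⟨n, H, X, x, c, y, hc, hy, ?_, ?_⟩
  · rw [hprod, ← e, inv_inv]
  · intro i
    obtain ⟨h1, h2⟩ := hi i
    exact ⟨h1.hP, h1.syl, h1.cent, h1.core, h1.disc, ⟨h1.hX1, h1.hX2, h1.hX3, h1.hX4, h1.hX5⟩, h1.hx, h2⟩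

end Cfsg.Agent.S3072
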