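import Mathlib
import Cfsg.Statements.S3153
import Cfsg.Agent.Lib.H14.CoprimeGen
import Cfsg.Agent.Lib.H13.QsAct
import Cfsg.Agent.Lib.H05.Comp
import Cfsg.Agent.Lib.H12.Quasi
import Cfsg.Agent.Lib.H05.Comp2
import Cfsg.Agent.Lib.H06.FittingHall
import Cfsg.Agent.Lib.H03.PConstr
-- import your own Cfsg.Agent.* helpers here

set_option autoImplicit false
open Cfsg

namespace Cfsg.Agent.S3153

section
variable {C : Type*} [Group C] [Finite C]

theorem invol_unique (hr : Cfsg.PRankLE 2 1 C) {t b : C} (ht : orderOf t = 2) (hb : b ^ 2 = 1)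
    (hc : Commute t b) : b = 1 ∨ b = t := by
  classical
  let A : Subgroup C := Subgroup.closure {t, b}
  have hcomm : ∀ x ∈ ({t, b} : Set C), ∀ y ∈ ({t, b} : Set C), x * y = y * x := by
    intro x hx y hy
    rcases hx with rfl | rfl <;> rcases hy with rfl | rfl
    · rfl
    · exact hc
    · exact hc.symm
    · rfl
  have hAc : ∀ x ∈ A, ∀ y ∈ A, x * y = y * x := by
    intro x hx y hy
    have h := Subgroup.isMulCommutative_closure hcomm
    have := h.is_comm.comm ⟨x, hx⟩ ⟨y, hy⟩
    exact congrArg Subtype.val this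
  have hAc' : IsMulCommutative A := ⟨⟨fun x y => Subtype.ext (hAc x x.2 y y.2)⟩⟩
  have ht2 : t ^ 2 = 1 := by rw [← ht]; exact pow_orderOf_eq_one t
  have hA2 : ∀ a ∈ A, a ^ 2 = 1 := by
    intro a ha
    refine Subgroup.closure_induction (p := fun a _ => a ^ 2 = 1) ?_ ?_ ?_ ?_ ha
    · rintro x (rfl | rfl)
      · exact ht2
      · exact hb
    · simp
    · intro x y hx hy ihx ihy
      have : Commute x y := hAc x hx y hy
      rw [this.mul_pow, ihx, ihy, one_mul]
    · intro x _ ih
      rw [inv_pow, ih, inv_one]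
  have hcard : Nat.card A ≤ 2 ^ 1 := hr A hAc' (fun a ha => hA2 a ha)
  have htA : t ∈ A := Subgroup.subset_closure (by simp)
  have hbA : b ∈ A := Subgroup.subset_closure (by simp)
  have hle : Subgroup.zpowers t ≤ A := by
    rw [Subgroup.zpowers_le]; exact htA
  have hcz : Nat.card (Subgroup.zpowers t) = 2 := by
    rw [Nat.card_zpowers, ht]
  have heq : Subgroup.zpowers t = A := Subgroup.eq_of_le_of_card_ge hle (by rw [hcz]; simpa using hcard)
  have hbz : b ∈ Subgroup.zpowers t := heq ▸ hbA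
  obtain ⟨k, rfl⟩ := Subgroup.mem_zpowers_iff.mp hbz
  rcases Int.even_or_odd' k with ⟨m, rfl | rfl⟩
  · left
    rw [zpow_mul]
    have : t ^ (2 : ℤ) = 1 := by exact_mod_cast ht2
    rw [this, one_zpow]
  · right
    rw [zpow_add, zpow_mul]
    have : t ^ (2 : ℤ) = 1 := by exact_mod_cast ht2
    rw [this, one_zpow, one_mul, zpow_one]
end

section
variable {X : Type*} [Group X] [Finite X]

open Cfsg.Agent

/-- The involution `t` of a subgroup `C` of 2-rank one is central in every 2-group normalizing `C`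
and containing `t`. -/
theorem central_of_rank_one {C S₀ : Subgroup X} (hr : Cfsg.PRankLE 2 1 ↥C) (hS : IsPGroup 2 ↥S₀)
    {t : X} (ht : orderOf t = 2) (htC : t ∈ C) (htS : t ∈ S₀)
    (hnorm : ∀ s ∈ S₀, s * t * s⁻¹ ∈ C) : ∀ s ∈ S₀, s * t * s⁻¹ = t := by
  classical
  haveI : Fact (Nat.Prime 2) := ⟨Nat.prime_two⟩
  have ht' : orderOf (⟨t, htC⟩ : ↥C) = 2 := by
    rw [← ht]; exact Subgroup.orderOf_mk t htC
  let T : Subgroup X := S₀ ⊓ C
  have hT : IsPGroup 2 ↥T := hS.to_le (H := T) inf_le_left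
  have hne : Nontrivial ↥T := by
    refine ⟨⟨⟨t, htS, htC⟩, 1, fun h => ?_⟩⟩
    have : t = 1 := congrArg Subtype.val h
    rw [this, orderOf_one] at ht
    omega
  haveI : Nontrivial (Subgroup.center ↥T) := hT.center_nontrivial
  have hdvd : 2 ∣ Nat.card (Subgroup.center ↥T) := by
    rcases (hT.to_subgroup (Subgroup.center ↥T)).card_eq_or_dvd with h1 | h1
    · have := Finite.one_lt_card (α := Subgroup.center ↥T)
      omega
    · exact h1
  obtain ⟨w, hw⟩ := exists_prime_orderOf_dvd_card' (G := Subgroup.center ↥T) 2 hdvd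
  -- the element `w` of `X`
  let w₁ : X := ((w : ↥T) : X)
  have hw₁C : w₁ ∈ C := (w : ↥T).2.2
  have hw₁o : orderOf w₁ = 2 := by
    have h1 : orderOf (w : ↥T) = 2 := by rw [← hw]; exact (Subgroup.orderOf_coe w)
    have h2 : orderOf w₁ = orderOf (w : ↥T) := Subgroup.orderOf_coe (w : ↥T)
    rw [h2, h1]
  have hw₁o' : orderOf (⟨w₁, hw₁C⟩ : ↥C) = 2 := by
    rw [← hw₁o]; exact Subgroup.orderOf_mk w₁ hw₁C
  have hcent : ∀ u ∈ T, u * w₁ = w₁ * u := by
    intro u hu
    have := (Subgroup.mem_center_iff.mp w.2) ⟨u, hu⟩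
    exact congrArg Subtype.val this
  -- any involution of `T` equals `w₁`
  have huniq : ∀ u ∈ T, u ^ 2 = 1 → u ≠ 1 → u = w₁ := by
    intro u hu hu2 hu1
    have hc : Commute (⟨w₁, hw₁C⟩ : ↥C) ⟨u, hu.2⟩ := by
      apply Subtype.ext
      exact (hcent u hu).symm
    rcases invol_unique hr hw₁o' (b := ⟨u, hu.2⟩) (Subtype.ext hu2) hc with h | h
    · exact absurd (congrArg Subtype.val h) hu1
    · exact congrArg Subtype.val h
  have ht2 : t ^ 2 = 1 := by rw [← ht]; exact pow_orderOf_eq_one t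
  have ht1 : t ≠ 1 := by
    intro h
    rw [h, orderOf_one] at ht
    omega
  have htw := huniq t ⟨htS, htC⟩ ht2 ht1
  intro s hs
  have h1 : s * t * s⁻¹ ∈ T := ⟨S₀.mul_mem (S₀.mul_mem hs htS) (S₀.inv_mem hs), hnorm s hs⟩
  have h2 : (s * t * s⁻¹) ^ 2 = 1 := by
    rw [conj_pow, ht2]; group
  have h3 : s * t * s⁻¹ ≠ 1 := by
    intro h
    apply ht1
    have : t = s⁻¹ * (s * t * s⁻¹) * s := by group
    rw [this, h]; group
  rw [huniq _ h1 h2 h3, ← htw]

/-- Sylow maximality. -/
theorem not_mem_normalizer_of_sylow {N : Subgroup X} (S : Sylow 2 ↥N) {g : X}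
    (hgN : ∀ s ∈ (S : Subgroup ↥N).map N.subtype, g * s * g⁻¹ ∈ (S : Subgroup ↥N).map N.subtype)
    (hgS : g ∉ (S : Subgroup ↥N).map N.subtype) (hg2 : g ^ 2 ∈ (S : Subgroup ↥N).map N.subtype) :
    g ∉ N := by
  classical
  haveI : Fact (Nat.Prime 2) := ⟨Nat.prime_two⟩
  intro hgNN
  let g' : ↥N := ⟨g, hgNN⟩
  have hmem : ∀ x : ↥N, x ∈ (S : Subgroup ↥N) ↔ (x : X) ∈ (S : Subgroup ↥N).map N.subtype := by
    intro x
    constructor
    · intro h
      exact ⟨x, h, rfl⟩
    · rintro ⟨y, hy, hyx⟩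
      have : y = x := Subtype.ext hyx
      exact this ▸ hy
  have hg'S : g' ∉ (S : Subgroup ↥N) := fun h => hgS ((hmem g').1 h)
  have hg'2 : g' ^ 2 ∈ (S : Subgroup ↥N) := (hmem _).2 (by simpa [g'] using hg2)
  have hnorm : ∀ s ∈ (S : Subgroup ↥N), g' * s * g'⁻¹ ∈ (S : Subgroup ↥N) := by
    intro s hs
    apply (hmem _).2
    have := hgN s ((hmem s).1 hs)
    simpa [g'] using this
  -- finite order: normalizes implies inverse also normalizes
  have hfin : Subgroup.zpowers g' ≤ Subgroup.normalizer (((S : Subgroup ↥N) : Set ↥N)) := by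
    rw [Subgroup.zpowers_le, Subgroup.mem_normalizer_iff]
    have hle : ((S : Subgroup ↥N).map (MulAut.conj g').toMonoidHom) ≤ (S : Subgroup ↥N) := by
      rintro _ ⟨s, hs, rfl⟩
      exact hnorm s hs
    have heq : ((S : Subgroup ↥N).map (MulAut.conj g').toMonoidHom) = (S : Subgroup ↥N) := by
      apply Subgroup.eq_of_le_of_card_ge hle
      rw [Subgroup.card_map_of_injective (MulAut.conj g').injective]
    intro s
    constructor
    · intro hs
      exact hnorm s hs
    · intro hs
      rw [← heq] at hs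
      obtain ⟨y, hy, hyx⟩ := hs
      have h : (MulAut.conj g') y = (MulAut.conj g') s := by simpa using hyx
      have : y = s := (MulAut.conj g').injective h
      exact this ▸ hy
  have hpz : IsPGroup 2 ↥(Subgroup.zpowers g') := by
    obtain ⟨k, hk⟩ := S.isPGroup' ⟨g' ^ 2, hg'2⟩
    have hk' : (g' ^ 2) ^ 2 ^ k = 1 := congrArg Subtype.val hk
    rintro ⟨y, n, rfl⟩
    refine ⟨k + 1, Subtype.ext ?_⟩
    change ((g' ^ n) ^ 2 ^ (k + 1)) = 1
    have h : g' ^ (2 ^ (k + 1)) = 1 := by
      rw [pow_succ', pow_mul]; exact hk'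
    rw [← zpow_natCast, ← zpow_mul, mul_comm, zpow_mul, zpow_natCast, h, one_zpow]
  have hp := IsPGroup.to_sup_of_normal_left' S.isPGroup' hpz hfin
  have := S.is_maximal' hp le_sup_left
  apply hg'S
  rw [← this]
  exact Subgroup.mem_sup_right (Subgroup.mem_zpowers g')

/-- Tight embedding consequence: the centralizer of an involution of `C` normalizes `C`. -/
theorem normalizer_of_commute {C : Subgroup X} (hC : Cfsg.IsTightlyEmbedded C) {t y : X}
    (ht : orderOf t = 2) (htC : t ∈ C) (hy : y * t * y⁻¹ = t) :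
    y ∈ Subgroup.normalizer (C : Set X) := by
  by_contra hn
  have hodd := hC.2 y hn
  have hmem : t ∈ C ⊓ C.map (MulAut.conj y).toMonoidHom := by
    refine ⟨htC, t, htC, ?_⟩
    simpa using hy
  have h2 : orderOf (⟨t, hmem⟩ : ↥(C ⊓ C.map (MulAut.conj y).toMonoidHom)) = 2 := by
    rw [← ht]; exact Subgroup.orderOf_mk t hmem
  have h3 := orderOf_dvd_natCard (⟨t, hmem⟩ : ↥(C ⊓ C.map (MulAut.conj y).toMonoidHom))
  rw [h2] at h3
  exact (Nat.not_even_iff_odd.mpr hodd) (even_iff_two_dvd.mpr h3)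

/-- An element of a normal odd-order subgroup which normalizes the quasisimple `P` of even order
centralizes it. -/
theorem odd_normalizing_centralizes {P O : Subgroup X} (hP : Cfsg.IsQuasisimple ↥P) [hO : O.Normal]
    (hodd : Odd (Nat.card O)) {a : X} (ha : a ∈ P) (ha2 : orderOf a = 2) {x : X} (hx : x ∈ O)
    (hxP : x ∈ Subgroup.normalizer (P : Set X)) : x ∈ Subgroup.centralizer (P : Set X) := by
  have hK : P ⊓ O = P ∨ P ⊓ O ≤ Subgroup.centralizer (P : Set X) := by
    refine Cfsg.Agent.H12.qs_normal_at hP inf_le_left ?_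
    intro p hp
    rw [Subgroup.mem_normalizer_iff]
    intro k
    constructor
    · rintro ⟨hk1, hk2⟩
      exact ⟨P.mul_mem (P.mul_mem hp hk1) (P.inv_mem hp), hO.conj_mem _ hk2 _⟩
    · rintro ⟨hk1, hk2⟩
      refine ⟨?_, ?_⟩
      · have : k = p⁻¹ * (p * k * p⁻¹) * p := by group
        rw [this]
        exact P.mul_mem (P.mul_mem (P.inv_mem hp) hk1) hp
      · have : k = p⁻¹ * (p * k * p⁻¹) * p⁻¹⁻¹ := by group
        rw [this]
        exact hO.conj_mem _ hk2 _
  have hne : P ⊓ O ≠ P := by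
    intro h
    have haO : a ∈ O := (inf_le_right : P ⊓ O ≤ O) (by rw [h]; exact ha)
    have h2 : orderOf (⟨a, haO⟩ : ↥O) = 2 := by
      rw [← ha2]; exact Subgroup.orderOf_mk a haO
    have h3 := orderOf_dvd_natCard (⟨a, haO⟩ : ↥O)
    rw [h2] at h3
    exact (Nat.not_even_iff_odd.mpr hodd) (even_iff_two_dvd.mpr h3)
  have hK' := hK.resolve_left hne
  have hcomm : ⁅Subgroup.zpowers x, P⁆ ≤ Subgroup.centralizer (P : Set X) := by
    refine (Subgroup.commutator_le.mpr ?_).trans hK'
    rintro _ ⟨n, rfl⟩ p hp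
    have hxn : x ^ n ∈ O := O.zpow_mem hx n
    have hxnN : x ^ n ∈ Subgroup.normalizer (P : Set X) := Subgroup.zpow_mem _ hxP n
    refine ⟨?_, ?_⟩
    · rw [commutatorElement_def]
      exact P.mul_mem (((Subgroup.mem_normalizer_iff.mp hxnN) p).1 hp) (P.inv_mem hp)
    · rw [commutatorElement_def]
      have : (x ^ n) * p * (x ^ n)⁻¹ * p⁻¹ = (x ^ n) * (p * (x ^ n)⁻¹ * p⁻¹) := by group
      rw [this]
      exact O.mul_mem hxn (hO.conj_mem _ (O.inv_mem hxn) p)
  have := Cfsg.Agent.H12.le_centralizer_of_comm_central hP hcomm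
  exact this (Subgroup.mem_zpowers x)

/-- A 2-component containing a quasisimple subgroup commuting with `O(X)` is quasisimple. -/
theorem quasisimple_of_component {P L : Subgroup X} (hP : Cfsg.IsQuasisimple ↥P)
    (hc : ⁅P, Cfsg.oddCore X⁆ = ⊥) (hL : Cfsg.IsPComponent 2 L) (hPL : P ≤ L) :
    Cfsg.IsQuasisimple ↥L := by
  classical
  set O := Cfsg.oddCore X with hOdef
  haveI hO : O.Normal := Cfsg.Agent.H03.pPrimeCore_normal'
  let π : X →* X ⧸ O := QuotientGroup.mk' O
  obtain ⟨hsn, ⟨_, hqbar⟩, hmin⟩ := hL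
  have hmin' : ∀ H : Subgroup X, H.IsSubnormal → H ≤ L → H.map π = L.map π → H = L := hmin
  have hqbar' : Cfsg.IsQuasisimple ↥(L.map π) := hqbar
  -- `P` is not inside `O`, its image is non-central
  have hPO : P ≤ Subgroup.centralizer (O : Set X) :=
    Subgroup.commutator_eq_bot_iff_le_centralizer.mp hc
  -- K = L ∩ C(O)
  let K : Subgroup X := L ⊓ Subgroup.centralizer (O : Set X)
  have hKL : K ≤ L := inf_le_left
  have hKn : L ≤ Subgroup.normalizer (K : Set X) := by
    intro l hl
    rw [Subgroup.mem_normalizer_iff]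
    have hf : ∀ (w k : X), w ∈ L → k ∈ K → w * k * w⁻¹ ∈ K := by
      intro w k hw hk
      refine ⟨L.mul_mem (L.mul_mem hw hk.1) (L.inv_mem hw), ?_⟩
      show w * k * w⁻¹ ∈ Subgroup.centralizer (O : Set X)
      rw [Subgroup.mem_centralizer_iff]
      intro y hy
      have hy' : w⁻¹ * y * w⁻¹⁻¹ ∈ O := hO.conj_mem _ hy _
      have := (Subgroup.mem_centralizer_iff.mp hk.2) _ hy'
      have h2 : y * (w * k * w⁻¹) = w * ((w⁻¹ * y * w⁻¹⁻¹) * k) * w⁻¹ := by group
      have h3 : (w * k * w⁻¹) * y = w * (k * (w⁻¹ * y * w⁻¹⁻¹)) * w⁻¹ := by group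
      rw [h2, h3, this]
    intro k
    constructor
    · exact hf l k hl
    · intro h
      have := hf l⁻¹ _ (L.inv_mem hl) h
      have e : l⁻¹ * (l * k * l⁻¹) * l⁻¹⁻¹ = k := by group
      rwa [e] at this
  have hKsn : K.IsSubnormal := by
    have hN : (K.subgroupOf L).Normal := (Subgroup.normal_subgroupOf_iff_le_normalizer hKL).2 hKn
    exact Cfsg.Agent.H05.sn_of_subgroupOf hKL (Subgroup.Normal.isSubnormal hN) hsn
  have hdich : K.map π = L.map π ∨ K.map π ≤ Subgroup.centralizer ((L.map π : Subgroup (X ⧸ O)) : Set (X ⧸ O)) := by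
    refine Cfsg.Agent.H12.qs_normal_at hqbar' (Subgroup.map_mono hKL) ?_
    rintro _ ⟨l, hl, rfl⟩
    rw [Subgroup.mem_normalizer_iff]
    intro k
    constructor
    · rintro ⟨k', hk', rfl⟩
      exact ⟨l * k' * l⁻¹, (Subgroup.mem_normalizer_iff.mp (hKn hl) k').1 hk', by simp⟩
    · rintro ⟨k', hk', hk2⟩
      refine ⟨l⁻¹ * k' * l, ?_, ?_⟩
      · have := (Subgroup.mem_normalizer_iff.mp (hKn hl) (l⁻¹ * k' * l)).2 (by
          have e : l * (l⁻¹ * k' * l) * l⁻¹ = k' := by group
          rw [e]; exact hk')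
        exact this
      · have : π k' = π l * k * (π l)⁻¹ := hk2
        simp only [map_mul, map_inv, this]
        group
  have hPK : P ≤ K := le_inf hPL hPO
  have hKeq : K = L := by
    refine hmin' K hKsn hKL (hdich.resolve_right ?_)
    intro hcent
    -- `P̄` is abelian
    have hPO' : ⁅P, P⁆ ≤ O := by
      rw [Subgroup.commutator_le]
      intro p hp q hq
      have h1 : π p ∈ Subgroup.centralizer ((L.map π : Subgroup (X ⧸ O)) : Set (X ⧸ O)) :=
        hcent ⟨p, hPK hp, rfl⟩
      have h2 := (Subgroup.mem_centralizer_iff.mp h1) (π q) ⟨q, hPL hq, rfl⟩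
      rw [commutatorElement_def]
      have h3 : π (p * q * p⁻¹ * q⁻¹) = 1 := by
        simp only [map_mul, map_inv]
        rw [← h2]
        group
      have h4 : (p * q * p⁻¹ * q⁻¹) ∈ π.ker := h3
      rwa [QuotientGroup.ker_mk'] at h4
    have hperf := Cfsg.Agent.H12.qs_perfect_at hP
    rw [hperf] at hPO'
    obtain ⟨a, b, hab⟩ := Cfsg.Agent.H05.qs_not_comm hP
    apply hab
    apply Subtype.ext
    have := (Subgroup.mem_centralizer_iff.mp (hPO a.2)) _ (hPO' b.2)
    exact this.symm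
  have hLO : L ≤ Subgroup.centralizer (O : Set X) := by
    rw [← hKeq]; exact inf_le_right
  -- `L` is perfect
  have h0 : (⊤ : Subgroup ↥L).map L.subtype = L := by
    rw [← MonoidHom.range_eq_map, Subgroup.range_subtype]
  have h2 : (commutator ↥L).map L.subtype = ⁅L, L⁆ := by
    rw [commutator_def, Subgroup.map_commutator, h0]
  have hle : ⁅L, L⁆ ≤ L := by
    rw [← h2]
    rintro _ ⟨y, _, rfl⟩
    exact y.2
  have hLperf : ⁅L, L⁆ = L := by
    refine hmin' _ ?_ hle ?_
    · have e : ⁅L, L⁆.subgroupOf L = commutator ↥L := by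
        rw [← h2]
        exact Subgroup.comap_map_eq_self_of_injective L.subtype_injective _
      have hN : (⁅L, L⁆.subgroupOf L).Normal := by
        rw [e]; infer_instance
      exact Cfsg.Agent.H05.sn_of_subgroupOf hle (Subgroup.Normal.isSubnormal hN) hsn
    · rw [Subgroup.map_commutator, Cfsg.Agent.H12.qs_perfect_at hqbar']
  have hperf : Group.IsPerfect ↥L := by
    rw [Group.isPerfect_def]
    apply Subgroup.map_injective L.subtype_injective
    rw [h2, h0, hLperf]
  refine Cfsg.Agent.H13.isQuasisimple_of_central_ext hperf (π.subgroupMap L) (π.subgroupMap_surjective L) ?_ hqbar'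
  intro l hl
  rw [Subgroup.mem_center_iff]
  intro l'
  apply Subtype.ext
  have h1 : π (l : X) = 1 := congrArg Subtype.val hl
  have h2 : (l : X) ∈ O := by
    have h4 : (l : X) ∈ π.ker := h1
    rwa [QuotientGroup.ker_mk'] at h4
  exact ((Subgroup.mem_centralizer_iff.mp (hLO l'.2)) _ h2).symm

theorem main_aux (P : Subgroup X) (hP : Cfsg.IsStandardSubgroup P)
    (hr : Cfsg.PRankLE 2 1 ↥(Subgroup.centralizer (P : Set X))) (hZ : Odd (Nat.card ↥(Subgroup.center ↥P)))
    (S₀ : Subgroup X) (hS₀2 : IsPGroup 2 ↥S₀) (hS₀N : S₀ ≤ Subgroup.normalizer (P : Set X))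
    (t : X) (ht : orderOf t = 2) (htS : t ∈ S₀)
    (htP : t ∈ Subgroup.centralizer (P : Set X))
    (g : X) (hgN : ∀ s ∈ S₀, g * s * g⁻¹ ∈ S₀)
    (hgN' : g ∉ Subgroup.normalizer (P : Set X))
    (hgt : g * t * g⁻¹ ∈ P ⊔ Subgroup.centralizer (P : Set X)) :
    ⁅P, Cfsg.oddCore X⁆ = ⊥ ∧
      ∀ L : Subgroup X, Cfsg.IsPComponent 2 L → P ≤ L → (∀ l ∈ L, t * l * t⁻¹ ∈ L) → Cfsg.IsQuasisimple ↥L := by
  classical
  haveI : Fact (Nat.Prime 2) := ⟨Nat.prime_two⟩
  obtain ⟨hPq, hCt, hne, hNN⟩ := hP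
  set C := Subgroup.centralizer (P : Set X) with hC
  have hN_C : ∀ s ∈ Subgroup.normalizer (P : Set X), ∀ c ∈ C, s * c * s⁻¹ ∈ C := by
    intro s hs c hc
    have : s ∈ Subgroup.normalizer (C : Set X) := hNN ▸ hs
    exact (Subgroup.mem_normalizer_iff.mp this c).1 hc
  have htcent := central_of_rank_one hr hS₀2 ht htP htS (fun s hs => hN_C s (hS₀N hs) t htP)
  have ht2 : t ^ 2 = 1 := by rw [← ht]; exact pow_orderOf_eq_one t
  have ht1 : t ≠ 1 := by
    intro h
    rw [h, orderOf_one] at ht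
    omega
  obtain ⟨z, hzdef⟩ : ∃ z, z = g * t * g⁻¹ := ⟨_, rfl⟩
  rw [← hzdef] at hgt
  have hzS : z ∈ S₀ := hzdef ▸ hgN t htS
  have hz2 : z ^ 2 = 1 := by
    rw [hzdef, conj_pow, ht2]; group
  have hz1 : z ≠ 1 := by
    intro h
    apply ht1
    have : t = g⁻¹ * z * g := by rw [hzdef]; group
    rw [this, h]; group
  have htz : t * z = z * t := by
    have := htcent z hzS
    calc t * z = (z * t * z⁻¹) * z := by rw [this]
      _ = z * t := by group
  have hzt : z ≠ t := by
    intro h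
    apply hgN'
    have h1 : g ∈ Subgroup.normalizer (C : Set X) :=
      normalizer_of_commute hCt ht htP (by rw [← hzdef]; exact h)
    rw [hNN]; exact h1
  have hcomm : ∀ a ∈ P, ∀ b ∈ C, a * b = b * a := by
    intro a ha b hb
    exact (Subgroup.mem_centralizer_iff.mp hb) a ha
  obtain ⟨p, hp, c, hc, hzpc⟩ := Cfsg.Agent.H05.mem_sup_of_commute hcomm hgt
  have hpc : Commute p c := hcomm p hp c hc
  obtain ⟨m, hmdef⟩ : ∃ m, m = Nat.card ↥(Subgroup.center ↥P) := ⟨_, rfl⟩
  have hmodd : Odd m := hmdef ▸ hZ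
  -- `a`, `b`
  have hp2c : p ^ 2 * c ^ 2 = 1 := by
    rw [← hpc.mul_pow, ← hzpc, hz2]
  have hp2C : p ^ 2 ∈ C := by
    have : p ^ 2 = (c ^ 2)⁻¹ := eq_inv_of_mul_eq_one_left hp2c
    rw [this]
    exact C.inv_mem (C.pow_mem hc 2)
  have hp2m : (p ^ 2) ^ m = 1 := by
    have hmem : (⟨p ^ 2, P.pow_mem hp 2⟩ : ↥P) ∈ Subgroup.center ↥P := by
      rw [Subgroup.mem_center_iff]
      intro q
      apply Subtype.ext
      exact (Subgroup.mem_centralizer_iff.mp hp2C) q q.2
    have h1 := pow_card_eq_one' (G := ↥(Subgroup.center ↥P)) (x := ⟨_, hmem⟩)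
    rw [← hmdef] at h1
    have h2 := congrArg (fun y : ↥(Subgroup.center ↥P) => ((y : ↥P) : X)) h1
    simpa using h2
  obtain ⟨a, hadef⟩ : ∃ a, a = p ^ m := ⟨_, rfl⟩
  obtain ⟨b, hbdef⟩ : ∃ b, b = c ^ m := ⟨_, rfl⟩
  have haP : a ∈ P := hadef ▸ P.pow_mem hp m
  have hbC : b ∈ C := hbdef ▸ C.pow_mem hc m
  have hzab : z = a * b := by
    obtain ⟨k, hk⟩ := hmodd
    have h1 : z ^ m = z := by
      rw [hk, pow_succ, pow_mul, hz2, one_pow, one_mul]
    rw [← h1, hzpc, hpc.mul_pow, hadef, hbdef]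
  have ha2 : a ^ 2 = 1 := by
    rw [hadef, ← pow_mul, mul_comm, pow_mul, hp2m]
  have hb2 : b ^ 2 = 1 := by
    have h1 : b ^ 2 = (c ^ 2) ^ m := by
      rw [hbdef, ← pow_mul, mul_comm, pow_mul]
    have h3 : c ^ 2 = (p ^ 2)⁻¹ := eq_inv_of_mul_eq_one_right hp2c
    rw [h1, h3, inv_pow, hp2m, inv_one]
  have hta : t * a = a * t := ((Subgroup.mem_centralizer_iff.mp htP) a haP).symm
  have htb : t * b = b * t := by
    have h1 : a⁻¹ * z = b := by rw [hzab]; group
    have h2 : t * a⁻¹ = a⁻¹ * t := by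
      have : Commute t a := hta
      exact this.inv_right
    rw [← h1, ← mul_assoc, h2, mul_assoc, htz, mul_assoc]
  have ht' : orderOf (⟨t, htP⟩ : ↥C) = 2 := by
    rw [← ht]; exact Subgroup.orderOf_mk t htP
  have hb_cases : b = 1 ∨ b = t := by
    have hc' : Commute (⟨t, htP⟩ : ↥C) ⟨b, hbC⟩ := Subtype.ext htb
    rcases invol_unique hr ht' (b := ⟨b, hbC⟩) (Subtype.ext hb2) hc' with h | h
    · exact Or.inl (congrArg Subtype.val h)
    · exact Or.inr (congrArg Subtype.val h)
  have ha1 : a ≠ 1 := by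
    intro h
    rw [h, one_mul] at hzab
    rcases hb_cases with h' | h'
    · exact hz1 (hzab.trans h')
    · exact hzt (hzab.trans h')
  have hao : orderOf a = 2 := orderOf_eq_prime ha2 ha1
  have haC : a ∉ C := by
    intro h
    have hmem : (⟨a, haP⟩ : ↥P) ∈ Subgroup.center ↥P := by
      rw [Subgroup.mem_center_iff]
      intro q
      apply Subtype.ext
      exact (Subgroup.mem_centralizer_iff.mp h) q q.2
    have h1 : orderOf (⟨⟨a, haP⟩, hmem⟩ : ↥(Subgroup.center ↥P)) = 2 := by
      rw [← hao]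
      rw [Subgroup.orderOf_mk, Subgroup.orderOf_mk]
    have h3 := orderOf_dvd_natCard (⟨⟨a, haP⟩, hmem⟩ : ↥(Subgroup.center ↥P))
    rw [h1] at h3
    exact (Nat.not_even_iff_odd.mpr hZ) (even_iff_two_dvd.mpr h3)
  -- the core
  obtain ⟨O, hOdef⟩ : ∃ O, O = Cfsg.oddCore X := ⟨_, rfl⟩
  haveI hO : O.Normal := hOdef ▸ Cfsg.Agent.H03.pPrimeCore_normal'
  have hOodd : Odd (Nat.card O) := by
    have : (Nat.card ↥(Cfsg.oddCore X)).Coprime 2 := Cfsg.Agent.H06.coprime_card_pPrimeCore (G := X) 2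
    rw [← hOdef] at this
    exact Nat.Coprime.odd_of_right this
  have hOeven : ¬ 2 ∣ Nat.card O := fun h =>
    (Nat.not_even_iff_odd.mpr hOodd) (even_iff_two_dvd.mpr h)
  have hcO : ∀ x ∈ O, x * t = t * x → x ∈ C := by
    intro x hx hxt
    have h1 : x ∈ Subgroup.normalizer (C : Set X) :=
      normalizer_of_commute hCt ht htP (by rw [hxt]; group)
    rw [← hNN] at h1
    exact odd_normalizing_centralizes hPq hOodd haP hao hx h1
  have h_t_z : ∀ x ∈ O, x * t = t * x → x * z = z * x := by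
    intro x hx hxt
    have h1 := hcO x hx hxt
    have h2 : x * a = a * x := ((Subgroup.mem_centralizer_iff.mp h1) a haP).symm
    have h3 : x * b = b * x := by
      rcases hb_cases with h | h
      · rw [h]; group
      · rw [h]; exact hxt
    have c1 : Commute x a := h2
    have c2 : Commute x b := h3
    rw [hzab]
    exact c1.mul_right c2
  -- centralizers have the same order
  have h_z_t : ∀ x ∈ O, x * z = z * x → x * t = t * x := by
    let A : Subgroup X := O ⊓ Subgroup.centralizer ({t} : Set X)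
    let B : Subgroup X := O ⊓ Subgroup.centralizer ({z} : Set X)
    have hAB : A ≤ B := by
      rintro x ⟨hx1, hx2⟩
      refine ⟨hx1, ?_⟩
      have h3 := h_t_z x hx1 ((Subgroup.mem_centralizer_singleton_iff.mp hx2))
      exact Subgroup.mem_centralizer_singleton_iff.mpr h3
    have hBA : B.map (MulAut.conj g⁻¹).toMonoidHom ≤ A := by
      rintro _ ⟨x, ⟨hx1, hx2⟩, rfl⟩
      have hx3 := Subgroup.mem_centralizer_singleton_iff.mp hx2
      refine ⟨?_, ?_⟩
      · simpa using hO.conj_mem x hx1 g⁻¹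
      · refine Subgroup.mem_centralizer_singleton_iff.mpr ?_
        simp only [MulEquiv.coe_toMonoidHom, MulAut.conj_apply, inv_inv]
        have e1 : g⁻¹ * x * g * t = g⁻¹ * (x * z) * g := by rw [hzdef]; group
        have e2 : t * (g⁻¹ * x * g) = g⁻¹ * (z * x) * g := by rw [hzdef]; group
        rw [e1, e2, hx3]
    have hcard : Nat.card B ≤ Nat.card A := by
      have h1 := Subgroup.card_le_of_le hBA
      rwa [Subgroup.card_map_of_injective (MulAut.conj g⁻¹).injective] at h1
    have hEq : A = B := Subgroup.eq_of_le_of_card_ge hAB hcard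
    intro x hx hxz
    have : x ∈ A := by
      rw [hEq]
      exact ⟨hx, Subgroup.mem_centralizer_singleton_iff.mpr hxz⟩
    exact Subgroup.mem_centralizer_singleton_iff.mp this.2
  -- generation
  have hnormO : ∀ y : X, y ∈ Subgroup.normalizer (O : Set X) := by
    intro y
    rw [Subgroup.normalizer_eq_top_iff.mpr hO]
    trivial
  have hgen := Cfsg.Agent.H14.le_cgen (p := 2) (x := t) (y := z) htz ht2 hz2 _ O rfl (hnormO t) (hnormO z) hOeven
  have hOu : ∀ y ∈ O, y * (t * z) = (t * z) * y := by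
    have hle : Cfsg.Agent.H14.cgen 2 t z O ≤ Subgroup.centralizer ({t * z} : Set X) := by
      refine (Subgroup.closure_le _).mpr ?_
      rintro v ⟨hv, i, j, hij, hcomm'⟩
      refine Subgroup.mem_centralizer_singleton_iff.mpr ?_
      have hti : t ^ i = 1 ∨ (t ^ i = t ∧ ¬ 2 ∣ i) := by
        rcases Nat.even_or_odd' i with ⟨k, rfl | rfl⟩
        · left; rw [pow_mul, ht2, one_pow]
        · right
          refine ⟨by rw [pow_succ, pow_mul, ht2, one_pow, one_mul], by omega⟩
      have hzj : z ^ j = 1 ∨ (z ^ j = z ∧ ¬ 2 ∣ j) := by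
        rcases Nat.even_or_odd' j with ⟨k, rfl | rfl⟩
        · left; rw [pow_mul, hz2, one_pow]
        · right
          refine ⟨by rw [pow_succ, pow_mul, hz2, one_pow, one_mul], by omega⟩
      have hi2 : t ^ i = 1 → 2 ∣ i := by
        intro h
        rw [← ht]
        exact orderOf_dvd_of_pow_eq_one h
      have hj2 : z ^ j = 1 → 2 ∣ j := by
        intro h
        have hzo : orderOf z = 2 := orderOf_eq_prime hz2 hz1
        rw [← hzo]
        exact orderOf_dvd_of_pow_eq_one h
      have hcc : v * (t ^ i * z ^ j) = (t ^ i * z ^ j) * v := hcomm'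
      have key_t : v * t = t * v → v * (t * z) = (t * z) * v := by
        intro h1
        have h2 := h_t_z v hv h1
        have c1 : Commute v t := h1
        have c2 : Commute v z := h2
        exact c1.mul_right c2
      rcases hti with hi | ⟨hi, hi'⟩ <;> rcases hzj with hj | ⟨hj, hj'⟩
      · exact absurd ⟨hi2 hi, hj2 hj⟩ hij
      · rw [hi, hj, one_mul] at hcc
        exact key_t (h_z_t v hv hcc)
      · rw [hi, hj, mul_one] at hcc
        exact key_t hcc
      · rw [hi, hj] at hcc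
        exact hcc
    intro y hy
    have := hle (hgen hy)
    exact Subgroup.mem_centralizer_singleton_iff.mp this
  have hres : ⁅P, Cfsg.oddCore X⁆ = ⊥ := by
    rw [← hOdef, Subgroup.commutator_eq_bot_iff_le_centralizer]
    -- R = P ∩ C(O)
    let R : Subgroup X := P ⊓ Subgroup.centralizer (O : Set X)
    have hconjR : ∀ (w k : X), k ∈ Subgroup.centralizer (O : Set X) → w * k * w⁻¹ ∈ Subgroup.centralizer (O : Set X) := by
      intro w k hk
      rw [Subgroup.mem_centralizer_iff]
      intro y hy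
      have hy' : w⁻¹ * y * w⁻¹⁻¹ ∈ O := hO.conj_mem _ hy _
      have := (Subgroup.mem_centralizer_iff.mp hk) _ hy'
      have h2 : y * (w * k * w⁻¹) = w * ((w⁻¹ * y * w⁻¹⁻¹) * k) * w⁻¹ := by group
      have h3 : (w * k * w⁻¹) * y = w * (k * (w⁻¹ * y * w⁻¹⁻¹)) * w⁻¹ := by group
      rw [h2, h3, this]
    have hR : R = P ∨ R ≤ C := by
      refine Cfsg.Agent.H12.qs_normal_at hPq inf_le_left ?_
      intro q hq
      rw [Subgroup.mem_normalizer_iff]
      intro k
      constructor
      · rintro ⟨hk1, hk2⟩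
        exact ⟨P.mul_mem (P.mul_mem hq hk1) (P.inv_mem hq), hconjR q k hk2⟩
      · rintro ⟨hk1, hk2⟩
        refine ⟨?_, ?_⟩
        · have : k = q⁻¹ * (q * k * q⁻¹) * q := by group
          rw [this]
          exact P.mul_mem (P.mul_mem (P.inv_mem hq) hk1) hq
        · have : k = q⁻¹ * (q * k * q⁻¹) * q⁻¹⁻¹ := by group
          rw [this]
          exact hconjR _ _ hk2
    rcases hR with hR | hR
    · rw [← hR]; exact inf_le_right
    · exfalso
      apply haC
      have hu : t * z ∈ Subgroup.centralizer (O : Set X) := by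
        rw [Subgroup.mem_centralizer_iff]
        intro y hy
        exact hOu y hy
      have hcomm1 : ⁅Subgroup.zpowers a, P⁆ ≤ C := by
        refine (Subgroup.commutator_le.mpr ?_).trans hR
        rintro _ ⟨n, rfl⟩ q hq
        have hq' : (fun x : ℤ => a ^ x) n = a ^ n := rfl
        rw [hq']
        rcases Int.even_or_odd' n with ⟨k, rfl | rfl⟩
        · have : a ^ (2 * k) = 1 := by
            rw [zpow_mul]
            have : a ^ (2 : ℤ) = 1 := by exact_mod_cast ha2
            rw [this, one_zpow]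
          rw [this, commutatorElement_one_left]
          exact R.one_mem
        · have : a ^ (2 * k + 1) = a := by
            rw [zpow_add, zpow_mul]
            have : a ^ (2 : ℤ) = 1 := by exact_mod_cast ha2
            rw [this, one_zpow, one_mul, zpow_one]
          rw [this, commutatorElement_def]
          refine ⟨P.mul_mem (P.mul_mem (P.mul_mem haP hq) (P.inv_mem haP)) (P.inv_mem hq), ?_⟩
          show a * q * a⁻¹ * q⁻¹ ∈ Subgroup.centralizer (O : Set X)
          have hqC : q * (t * b) = (t * b) * q := by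
            have c1 : Commute q t := ((Subgroup.mem_centralizer_iff.mp htP) q hq)
            have c2 : Commute q b := ((Subgroup.mem_centralizer_iff.mp hbC) q hq)
            exact c1.mul_right c2
          have hac : a * (t * b) = (t * b) * a := by
            have c1 : Commute a t := ((Subgroup.mem_centralizer_iff.mp htP) a haP)
            have c2 : Commute a b := ((Subgroup.mem_centralizer_iff.mp hbC) a haP)
            exact c1.mul_right c2
          have hutz : t * z = a * (t * b) := by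
            rw [hzab, ← mul_assoc, hta, mul_assoc]
          have he : a * q * a⁻¹ * q⁻¹ = (t * z) * (q * (t * z)⁻¹ * q⁻¹) := by
            rw [hutz]
            obtain ⟨e, he⟩ : ∃ e, e = t * b := ⟨_, rfl⟩
            rw [← he] at hqC hac ⊢
            have c1 : Commute q e := hqC
            have h1 : (a * e) * (q * (a * e)⁻¹ * q⁻¹) = a * (e * q) * e⁻¹ * a⁻¹ * q⁻¹ := by group
            rw [h1, ← hqC]
            group
          rw [he]
          exact Subgroup.mul_mem _ hu (hconjR q _ (Subgroup.inv_mem _ hu))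
      have := Cfsg.Agent.H12.le_centralizer_of_comm_central hPq hcomm1
      exact this (Subgroup.mem_zpowers a)
  exact ⟨hres, fun L hL hPL _ => quasisimple_of_component hPq hres hL hPL⟩
end

/-- Let X be a finite group and P a standard subgroup of X whose centralizer has 2-rank at most 1 and whose centre has odd order. Let S be a Sylow 2-subgroup of N_X(P) and t an involution of S centralizing P. Suppose some element g of X normalizes S, does not lie in S, has its square in S, and conjugates t into P·C_X(P). Then P commutes elementwise with the largest normal odd-order subgroup O(X) of X; consequently every t-invariant 2-component of X containing P is quasisimple. -/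
theorem result {X : Type*} [Group X] [Finite X] (P : Subgroup X) (hP : Cfsg.IsStandardSubgroup P)
    (hr : Cfsg.PRankLE 2 1 ↥(Subgroup.centralizer (P : Set X))) (hZ : Odd (Nat.card ↥(Subgroup.center ↥P)))
    (S : Sylow 2 ↥(Subgroup.normalizer (P : Set X))) (t : X) (ht : orderOf t = 2) (htS : t ∈ (S : Subgroup ↥(Subgroup.normalizer (P : Set X))).map (Subgroup.normalizer (P : Set X)).subtype)
    (htP : t ∈ Subgroup.centralizer (P : Set X))
    (g : X) (hgN : ∀ s ∈ (S : Subgroup ↥(Subgroup.normalizer (P : Set X))).map (Subgroup.normalizer (P : Set X)).subtype, g * s * g⁻¹ ∈ (S : Subgroup ↥(Subgroup.normalizer (P : Set X))).map (Subgroup.normalizer (P : Set X)).subtype)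
    (hgS : g ∉ (S : Subgroup ↥(Subgroup.normalizer (P : Set X))).map (Subgroup.normalizer (P : Set X)).subtype) (hg2 : g ^ 2 ∈ (S : Subgroup ↥(Subgroup.normalizer (P : Set X))).map (Subgroup.normalizer (P : Set X)).subtype)
    (hgt : g * t * g⁻¹ ∈ P ⊔ Subgroup.centralizer (P : Set X)) :
    ⁅P, Cfsg.oddCore X⁆ = ⊥ ∧
      ∀ L : Subgroup X, Cfsg.IsPComponent 2 L → P ≤ L → (∀ l ∈ L, t * l * t⁻¹ ∈ L) → Cfsg.IsQuasisimple ↥L := by
  refine main_aux P hP hr hZ _ (S.isPGroup'.map _) ?_ t ht htS htP g hgN (not_mem_normalizer_of_sylow S hgN hgS hg2) hgt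
  rintro _ ⟨y, _, rfl⟩
  exact y.2

end Cfsg.Agent.S3153
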