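import Cfsg.Statements.S3156
import Cfsg.Agent.S3315
import Cfsg.Agent.Lib.Lead.SUCenter
-- import your own Cfsg.Agent.* helpers here

set_option autoImplicit false
open Cfsg

namespace Cfsg.Agent.S3156

open Cfsg.Agent.S3315

/-- No `S₃` in the automorphism group of a group with the coordinates of the Sylow subgroup of `SU₃(4)`. -/
theorem no_S3 {K : Type*} [Field K] [Fintype K] [CharP K 2] (hF : Fintype.card K = 4 ^ 2) {P : Type*} [Group P]
    (M : Mod P K 4) (ρ x : P ≃* P) (h3 : ∀ y, ρ (ρ (ρ y)) = y) (h2 : ∀ y, x (x y) = y)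
    (hxρ : ∀ y, ρ (x (ρ (x y))) = y) : ∀ y, ρ y = y := by
  have h2z : ∀ w : K, w + w = 0 := fun w => CharTwo.add_self_eq_zero w
  have hq0 : (4 : ℕ) ≠ 0 := by norm_num
  have hc : ∀ (β : P ≃* P) (g : P), M.pa g = 0 → M.pa (β g) = 0 := by
    intro β g hg
    apply M.pa_of_central hF h2z
    intro y
    have h1 := M.central_of_pa hq0 g hg (β.symm y)
    have h3 := congrArg β h1
    simpa using h3
  have hxfix : ∀ g, M.pa g = 0 → x g = g := fun g hg =>
    main_fix M hF x 1 (by intro y; rw [h2]; simp) g hg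
  have hρfix : ∀ g, M.pa g = 0 → ρ g = g := by
    intro g hg
    have e := hxρ g
    rw [hxfix g hg, hxfix _ (hc ρ g hg)] at e
    have e3 := h3 g
    rw [e] at e3
    exact e3
  -- the norm is preserved
  have hnorm : ∀ y : P, (M.pa (ρ y)) ^ 4 * M.pa (ρ y) = (M.pa y) ^ 4 * M.pa y := by
    intro y
    have h0 : M.pa (y * y) = 0 := by
      rw [M.pa_mul]
      exact h2z _
    have h1 := hρfix _ h0
    rw [map_mul] at h1
    have h4 := congrArg M.ps h1
    rw [M.ps_mul, M.ps_mul, h2z, h2z, zero_add, zero_add] at h4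
    exact h4
  have hadd := fr_add hF
  -- the action on the quotient is trivial
  have hpa : ∀ y, M.pa (ρ y) = M.pa y := by
    intro y
    by_contra hne
    set a₀ := M.pa y + M.pa (ρ y) with ha₀
    have h0ne : a₀ ≠ 0 := by
      intro h
      apply hne
      have := h2z (M.pa y)
      linear_combination h - this
    set a₁ := M.pa (ρ y) + M.pa (ρ (ρ y)) with ha₁
    set a₂ := M.pa (ρ (ρ y)) + M.pa y with ha₂
    have hsum : a₂ = a₀ + a₁ := by
      have := h2z (M.pa (ρ y))
      rw [ha₀, ha₁, ha₂]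
      linear_combination -this
    have hn1 : a₁ ^ 4 * a₁ = a₀ ^ 4 * a₀ := by
      have := hnorm (y * ρ y)
      rw [map_mul, M.pa_mul, M.pa_mul] at this
      exact this
    have hn2 : a₂ ^ 4 * a₂ = a₀ ^ 4 * a₀ := by
      have := hnorm (ρ y * ρ (ρ y))
      rw [map_mul, M.pa_mul, M.pa_mul, h3] at this
      rw [← hn1]
      exact this
    -- the ratio
    have hζ : ∃ ζ : K, a₁ = ζ * a₀ := ⟨a₁ / a₀, by field_simp⟩
    obtain ⟨ζ, hζ⟩ := hζ
    have hA : a₀ ^ 4 * a₀ ≠ 0 := mul_ne_zero (pow_ne_zero _ h0ne) h0ne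
    have hz5 : ζ ^ 4 * ζ = 1 := by
      apply mul_right_cancel₀ hA
      have h := hn1
      rw [hζ] at h
      linear_combination h
    have hz5' : (1 + ζ) ^ 4 * (1 + ζ) = 1 := by
      apply mul_right_cancel₀ hA
      have h := hn2
      rw [hsum, hζ] at h
      linear_combination h
    rw [hadd, one_pow] at hz5'
    have h11 : (1 : K) + 1 = 0 := h2z 1
    have hz0 : ζ ^ 4 + ζ + 1 = 0 := by
      linear_combination hz5' - hz5
    have hz1 : ζ ^ 2 + ζ + 1 = 0 := by
      linear_combination ζ * hz0 - hz5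
    have hz3 : ζ ^ 3 = 1 := by
      linear_combination (ζ - 1 : K) * hz1
    have hz2 : ζ ^ 2 = 1 := by
      have : ζ ^ 3 * ζ ^ 2 = 1 := by
        linear_combination hz5
      rw [hz3, one_mul] at this
      exact this
    have hz1' : ζ = 1 := by
      have : ζ ^ 3 = ζ ^ 2 * ζ := by ring
      rw [this, hz2, one_mul] at hz3
      exact hz3
    rw [hz1'] at hz1
    have : (1 : K) = 0 := by linear_combination hz1 - h11
    exact one_ne_zero this
  -- the conclusion
  have hps1 : M.ps 1 = 0 := by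
    have := M.ps_mul 1 1
    rw [mul_one, M.pa_one] at this
    rw [zero_pow hq0, zero_mul, add_zero] at this
    linear_combination -this
  intro y
  set c := y⁻¹ * ρ y with hc'
  have hc0 : M.pa c = 0 := by
    rw [hc', M.pa_mul, M.pa_inv h2z, hpa]
    exact h2z _
  have hcc : c * c = 1 := by
    apply M.ext'
    · rw [M.pa_mul, hc0, M.pa_one, add_zero]
    · rw [M.ps_mul, hc0, hps1, zero_pow hq0, zero_mul, add_zero]
      exact h2z _
  have hy : ρ y = y * c := by
    rw [hc']
    group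
  have h22 : ρ (ρ y) = y := by
    rw [hy, map_mul, hρfix c hc0, hy, mul_assoc, hcc, mul_one]
  have := h3 y
  rw [h22] at this
  exact this

theorem aux {T : Type*} [Group T] [Finite T] {F : Type} [Field F] [Fintype F] (hF : Fintype.card F = 16)
    (S : Sylow 2 (Cfsg.PSU 3 F 4)) (e : T ≃* ↥(S : Subgroup (Cfsg.PSU 3 F 4))) (ρ x : MulAut T)
    (h3 : ρ ^ 3 = 1) (h2 : x ^ 2 = 1) (hxρ : x * ρ * x⁻¹ = ρ⁻¹) (hne : ρ ≠ 1) : False := by
  classical
  have hF' : Fintype.card F = 4 ^ 2 := by rw [hF]; norm_num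
  haveI : CharP F 2 := charP_of_card (n := 2) (by rw [hF]; norm_num) (le_refl 2)
  haveI : Fact (Nat.Prime 2) := ⟨Nat.prime_two⟩
  -- the centre is trivial
  have hcen : Subgroup.center (Cfsg.SU 3 F 4) = ⊥ := by
    have h1 := Lead.card_center_SU (n := 3) (F := F) (q := 4) hF' (by norm_num)
    rw [show Nat.gcd 3 (4 + 1) = 1 by norm_num] at h1
    exact Subgroup.card_eq_one.1 h1
  let ι : Cfsg.PSU 3 F 4 ≃* ↥(Cfsg.SU 3 F 4) :=
    (QuotientGroup.quotientMulEquivOfEq hcen).trans QuotientGroup.quotientBot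
  have hcardG : Nat.card ↥(Cfsg.SU 3 F 4) = 2 ^ 6 * 975 := by
    have h1 := Lead.card_GU_eq hF' (n := 3) (by norm_num)
    have h2 := Lead.card_GU (n := 3) hF'
    rw [h1] at h2
    generalize Nat.card ↥(Cfsg.SU 3 F 4) = k at h2 ⊢
    simp only [Finset.prod_range_succ, Finset.prod_range_zero] at h2
    norm_num at h2
    omega
  have hcardP : Nat.card (Cfsg.PSU 3 F 4) = 2 ^ 6 * 975 := by
    rw [Nat.card_congr ι.toEquiv, hcardG]
  have hfact : (Nat.card (Cfsg.PSU 3 F 4)).factorization 2 = 6 := by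
    rw [hcardP, Nat.factorization_mul (by norm_num) (by norm_num), Finsupp.add_apply,
      Nat.factorization_eq_zero_of_not_dvd (by norm_num : ¬ 2 ∣ 975), add_zero,
      Nat.Prime.factorization_pow Nat.prime_two]
    simp
  let P₁ : Subgroup (Cfsg.PSU 3 F 4) := (P0 (q := 4) hF').map ι.symm.toMonoidHom
  have hP₁ : Nat.card P₁ = 2 ^ (Nat.card (Cfsg.PSU 3 F 4)).factorization 2 := by
    rw [hfact, Subgroup.card_map_of_injective ι.symm.injective, (modP0 hF').card_eq hF']
    norm_num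
  let Q0 : Sylow 2 (Cfsg.PSU 3 F 4) := Sylow.ofCard P₁ hP₁
  let e₂ : ↥P₁ ≃* ↥(P0 (q := 4) hF') := (Subgroup.equivMapOfInjective _ _ ι.symm.injective).symm
  let φ : T ≃* ↥(P0 (q := 4) hF') := e.trans ((Sylow.equiv S Q0).trans e₂)
  let ρ' : (P0 (q := 4) hF') ≃* (P0 (q := 4) hF') := φ.symm.trans (ρ.trans φ)
  let x' : (P0 (q := 4) hF') ≃* (P0 (q := 4) hF') := φ.symm.trans (x.trans φ)
  have hρ' : ∀ y, ρ' y = φ (ρ (φ.symm y)) := fun _ => rfl
  have hx' : ∀ y, x' y = φ (x (φ.symm y)) := fun _ => rfl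
  have h3' : ∀ w, ρ (ρ (ρ w)) = w := by
    intro w
    have := congrArg (fun f : MulAut T => f w) h3
    simpa [pow_succ] using this
  have h2' : ∀ w, x (x w) = w := by
    intro w
    have := congrArg (fun f : MulAut T => f w) h2
    simpa [pow_succ] using this
  have hrel : ∀ w, ρ (x (ρ (x w))) = w := by
    intro w
    have hinv : x⁻¹ = x := by
      rw [inv_eq_iff_mul_eq_one, ← pow_two]
      exact h2
    rw [hinv] at hxρ
    have h5 : ρ * (x * ρ * x) = 1 := by
      rw [hxρ]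
      simp
    have := congrArg (fun f : MulAut T => f w) h5
    simpa [mul_assoc] using this
  have hall := no_S3 hF' (modP0 hF') ρ' x'
    (by intro y; simp only [hρ', MulEquiv.symm_apply_apply, h3', MulEquiv.apply_symm_apply])
    (by intro y; simp only [hx', MulEquiv.symm_apply_apply, h2', MulEquiv.apply_symm_apply])
    (by intro y; simp only [hρ', hx', MulEquiv.symm_apply_apply, hrel, MulEquiv.apply_symm_apply])
  apply hne
  ext w
  have h1 := hall (φ w)
  rw [hρ', MulEquiv.symm_apply_apply] at h1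
  exact φ.injective h1


/-- If a finite group T is isomorphic to a Sylow 2-subgroup of the projective special unitary group of dimension 3 with parameter 4 (realised over the field with 16 elements), then no subgroup of the automorphism group of T is isomorphic to the symmetric group of degree 3. -/
theorem result {T : Type*} [Group T] [Finite T] (hT : (∃ (F : Type) (_ : Field F) (_ : Fintype F), Fintype.card F = 16 ∧ ∃ S : Sylow 2 (Cfsg.PSU 3 F 4), Nonempty (T ≃* ↥(S : Subgroup (Cfsg.PSU 3 F 4))))) (H : Subgroup (MulAut T)) : ¬ Nonempty (↥H ≃* Equiv.Perm (Fin 3)) := by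
  rintro ⟨eH⟩
  obtain ⟨F, _, _, hF, S, ⟨e⟩⟩ := hT
  let σ : Equiv.Perm (Fin 3) := Equiv.swap 0 1 * Equiv.swap 1 2
  let τ : Equiv.Perm (Fin 3) := Equiv.swap 0 1
  have hσ3 : σ ^ 3 = 1 := by decide
  have hτ2 : τ ^ 2 = 1 := by decide
  have hrel : τ * σ * τ⁻¹ = σ⁻¹ := by decide
  have hσ1 : σ ≠ 1 := by decide
  let ρ : MulAut T := (eH.symm σ : ↥H)
  let x : MulAut T := (eH.symm τ : ↥H)
  refine aux hF S e ρ x ?_ ?_ ?_ ?_
  · show ((eH.symm σ : ↥H) : MulAut T) ^ 3 = 1
    rw [← Subgroup.coe_pow, ← map_pow, hσ3, map_one]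
    rfl
  · show ((eH.symm τ : ↥H) : MulAut T) ^ 2 = 1
    rw [← Subgroup.coe_pow, ← map_pow, hτ2, map_one]
    rfl
  · show ((eH.symm τ : ↥H) : MulAut T) * ((eH.symm σ : ↥H) : MulAut T) * ((eH.symm τ : ↥H) : MulAut T)⁻¹ =
      ((eH.symm σ : ↥H) : MulAut T)⁻¹
    rw [← Subgroup.coe_inv, ← Subgroup.coe_inv, ← Subgroup.coe_mul, ← Subgroup.coe_mul, ← map_inv, ← map_inv,
      ← map_mul, ← map_mul, hrel]
  · intro h
    apply hσ1
    have h1 : eH.symm σ = 1 := Subtype.ext h
    have h2 := congrArg eH h1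
    simpa using h2

end Cfsg.Agent.S3156
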