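import Cfsg.Statements.S3225
import Mathlib

set_option autoImplicit false
open Cfsg

namespace Cfsg.Agent.S3225

/-- Let G be a finite group of even order with no subgroup of index 2, S a Sylow 2-subgroup of G and M a subgroup of index 2 in S such that, for some n ≥ 1, every element of S outside M has order greater than 2^(n−1). Then every element of S of order 2ⁿ is conjugate in G to an element of M. -/
theorem result {G : Type*} [Group G] [Finite G] (hev : Even (Nat.card G))
    (hG : ∀ H : Subgroup G, H.index ≠ 2) (S : Sylow 2 G) (M : Subgroup G) (hMS : M ≤ (S : Subgroup G)) (hM : M.relIndex (S : Subgroup G) = 2)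
    (n : ℕ) (hn : 1 ≤ n) (hord : ∀ y ∈ (S : Subgroup G), y ∉ M → 2 ^ (n - 1) < orderOf y)
    (x : G) (hx : x ∈ (S : Subgroup G)) (hxn : orderOf x = 2 ^ n) :
    ∃ g : G, g * x * g⁻¹ ∈ M := by
  classical
  by_contra hcon
  push Not at hcon
  set M' : Subgroup (S : Subgroup G) := M.subgroupOf (S : Subgroup G) with hM'def
  have hM' : M'.index = 2 := hM
  let ϕ : (S : Subgroup G) →* ℤˣ := MonoidHom.mk' (fun s => if s ∈ M' then 1 else -1) (by
    intro a b
    by_cases ha : a ∈ M' <;> by_cases hb : b ∈ M' <;>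
      simp [ha, hb, Subgroup.mul_mem_iff_of_index_two hM'])
  have hϕ : ∀ s : (S : Subgroup G), ϕ s = if s ∈ M' then 1 else -1 := fun s => rfl
  have : Fintype (Quotient (MulAction.orbitRel (Subgroup.zpowers x) (G ⧸ (S : Subgroup G)))) :=
    Fintype.ofFinite _
  have hpow : x ^ 2 ^ n = 1 := by rw [← hxn]; exact pow_orderOf_eq_one x
  have hgen : ∀ (t : G) (k : ℕ) (hmem : t⁻¹ * x ^ k * t ∈ (S : Subgroup G)), k ∣ 2 ^ n →
      ϕ ⟨t⁻¹ * x ^ k * t, hmem⟩ = (-1 : ℤˣ) ^ k := by
    intro t k hmem hkdvd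
    obtain ⟨j, hjn, hj⟩ := (Nat.dvd_prime_pow Nat.prime_two).mp hkdvd
    rw [hϕ]
    rcases Nat.eq_zero_or_pos j with rfl | hjpos
    · have hk1 : k = 1 := by simpa using hj
      subst hk1
      rw [pow_one (-1 : ℤˣ), if_neg]
      intro hmem'
      have h1 : t⁻¹ * x ^ 1 * t ∈ M := hmem'
      rw [pow_one] at h1
      apply hcon t⁻¹
      simpa using h1
    · have hk2 : Even k := by
        rw [hj]; exact (Nat.even_pow.mpr ⟨even_two, hjpos.ne'⟩)
      rw [hk2.neg_one_pow, if_pos]
      by_contra hnot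
      have hy : t⁻¹ * x ^ k * t ∉ M := hnot
      have h2 := hord _ hmem hy
      have h3 : (t⁻¹ * x ^ k * t) ^ (2 ^ (n - j)) = 1 := by
        have : t⁻¹ * x ^ k * t = t⁻¹ * (x ^ k) * t⁻¹⁻¹ := by simp
        rw [this, conj_pow, ← pow_mul, hj, ← pow_add, Nat.add_sub_cancel' hjn, hpow]
        simp
      have h4 := Nat.le_of_dvd (by positivity) (orderOf_dvd_of_pow_eq_one h3)
      have h5 : 2 ^ (n - j) ≤ 2 ^ (n - 1) :=
        Nat.pow_le_pow_right (by norm_num) (by omega)
      omega
  have hV : ϕ.transfer x = -1 := by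
    rw [MonoidHom.transfer_eq_prod_quotient_orbitRel_zpowers_quot]
    have hterm : ∀ q : Quotient (MulAction.orbitRel (Subgroup.zpowers x) (G ⧸ (S : Subgroup G))),
        ϕ ⟨q.out.out⁻¹ * x ^ Function.minimalPeriod (x • ·) q.out * q.out.out,
            QuotientGroup.out_conj_pow_minimalPeriod_mem _ x q.out⟩ =
          (-1 : ℤˣ) ^ Function.minimalPeriod (x • ·) q.out := by
      intro q
      apply hgen
      apply Function.IsPeriodicPt.minimalPeriod_dvd
      show ((x • ·)^[2 ^ n]) q.out = q.out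
      rw [smul_iterate, hpow]
      exact one_smul _ _
    rw [Fintype.prod_congr _ _ hterm, Finset.prod_pow_eq_pow_sum,
      ← Subgroup.index_eq_sum_minimalPeriod]
    have hodd : Odd (S : Subgroup G).index := by
      rw [← Nat.not_even_iff_odd, even_iff_two_dvd]
      exact S.not_dvd_index
    exact hodd.neg_one_pow
  -- the kernel of the transfer has index two
  apply hG (ϕ.transfer).ker
  rw [Subgroup.index_ker]
  have hsurj : Function.Surjective (ϕ.transfer) := by
    intro u
    rcases Int.units_eq_one_or u with rfl | rfl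
    · exact ⟨1, map_one _⟩
    · exact ⟨x, hV⟩
  rw [MonoidHom.range_eq_top.mpr hsurj]
  simp

end Cfsg.Agent.S3225
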