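import Cfsg.Statements.S3178
import Mathlib
import Cfsg.Agent.S3225
import Cfsg.Agent.Lib.H15.Modular
import Cfsg.Agent.Lib.H15.TwoMaxEA

set_option autoImplicit false
open Cfsg Cfsg.Agent.H15

namespace Cfsg.Agent.S3178

private theorem mem_of_relIndex_two {G : Type*} [Group G] {M S : Subgroup G} (_hMS : M ≤ S)
    (h : M.relIndex S = 2) {x y : G} (hx : x ∈ S) (hy : y ∈ S) (hxM : x ∉ M) (hyM : y ∉ M) :
    x⁻¹ * y ∈ M := by
  have h1 : (M.subgroupOf S).index = 2 := h
  have h2 := (Subgroup.mul_mem_iff_of_index_two h1 (a := (⟨x, hx⟩ : S)⁻¹) (b := ⟨y, hy⟩)).mpr (by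
    constructor
    · intro h3
      have : (⟨x, hx⟩ : S) ∈ M.subgroupOf S := by simpa using h3
      exact absurd (by simpa [Subgroup.mem_subgroupOf] using this) hxM
    · intro h3
      exact absurd (by simpa [Subgroup.mem_subgroupOf] using h3) hyM)
  simpa [Subgroup.mem_subgroupOf] using h2

private theorem card_of_relIndex {G : Type*} [Group G] [Finite G] {M S : Subgroup G} (hMS : M ≤ S) :
    M.relIndex S * Nat.card M = Nat.card S := by
  have h1 : M.relIndex S = (M.subgroupOf S).index := rfl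
  have h2 : Nat.card (M.subgroupOf S) = Nat.card M :=
    Nat.card_congr (Subgroup.subgroupOfEquivOfLe hMS).toEquiv
  rw [h1, ← h2, mul_comm]
  exact Subgroup.card_mul_index _

/-- Groups with a modular Sylow 2-subgroup have a normal 2-complement. Let S, of order 2^(n+1) with n ≥ 3, be a Sylow 2-subgroup of a finite group G, and suppose S contains an element a of order 2^n and an involution b with b a b⁻¹ = a^(2^(n-1) + 1); so S is the non-abelian 2-group with a cyclic subgroup of index 2 that is neither dihedral, semidihedral nor generalized quaternion. Then G has a normal 2-complement. -/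
theorem result {G : Type*} [Group G] [Finite G]
    (S : Sylow 2 G) (n : ℕ) (hn : 3 ≤ n) (hS : Nat.card ↥(S : Subgroup G) = 2 ^ (n + 1))
    (a b : G) (ha : a ∈ (S : Subgroup G)) (hb : b ∈ (S : Subgroup G))
    (hao : orderOf a = 2 ^ n) (hbo : orderOf b = 2) (hrel : b * a * b⁻¹ = a ^ (2 ^ (n - 1) + 1)) :
    Cfsg.HasNormalPComplement 2 G := by
  classical
  obtain ⟨m, rfl⟩ : ∃ m, n = m + 3 := ⟨n - 3, by omega⟩
  have hm1 : m + 3 - 1 = m + 2 := by omega
  rw [hm1] at hrel
  set M := Subgroup.zpowers a with hMdef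
  set z := a ^ (2 ^ (m + 2)) with hz
  have hMS : M ≤ (S : Subgroup G) := by
    rw [hMdef, Subgroup.zpowers_le]; exact ha
  have hMcard : Nat.card M = 2 ^ (m + 3) := by rw [hMdef, Nat.card_zpowers, hao]
  have hMrel : M.relIndex (S : Subgroup G) = 2 := by
    have h1 := card_of_relIndex hMS
    rw [hMcard, hS] at h1
    have h2 : (0 : ℕ) < 2 ^ (m + 3) := by positivity
    apply Nat.eq_of_mul_eq_mul_right h2
    rw [h1]; ring
  have ha1 : a ^ (2 ^ (m + 3)) = 1 := by rw [← hao]; exact pow_orderOf_eq_one a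
  have hz1 : z ≠ 1 := by
    intro h
    have h1 : orderOf a ∣ 2 ^ (m + 2) := orderOf_dvd_of_pow_eq_one h
    rw [hao] at h1
    have h2 : 2 ^ (m + 3) ≤ 2 ^ (m + 2) := Nat.le_of_dvd (by positivity) h1
    have h3 : 2 ^ (m + 2) < 2 ^ (m + 3) := Nat.pow_lt_pow_right (by norm_num) (by omega)
    omega
  have hz2 : z ^ 2 = 1 := by
    rw [hz, ← pow_mul, ← ha1]; congr 1
  have hzo : orderOf z = 2 := orderOf_eq_prime hz2 hz1
  have hbM : b ∉ M := by
    intro h
    obtain ⟨i, hi⟩ := Subgroup.mem_zpowers_iff.mp h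
    have h1 : Commute b a := by
      rw [← hi]; exact (Commute.zpow_left (Commute.refl a) i)
    have h2 : b * a * b⁻¹ = a := by rw [h1.eq]; group
    rw [h2] at hrel
    apply hz1
    have h3 : a ^ (2 ^ (m + 2) + 1) = z * a := by rw [pow_succ]
    rw [h3] at hrel
    exact (mul_eq_right.mp hrel.symm)
  have hzM : z ∈ M := Subgroup.pow_mem _ (Subgroup.mem_zpowers a) _
  -- conjugation by `b`
  have hconj : ∀ i : ℤ, b * a ^ i * b⁻¹ = a ^ (i * ((2 : ℤ) ^ (m + 2) + 1)) := by
    intro i
    have h1 : (b * a * b⁻¹) ^ i = b * a ^ i * b⁻¹ := conj_zpow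
    rw [← h1, hrel, mul_comm, zpow_mul]
    congr 1
    rw [← zpow_natCast]
    push_cast
    rfl
  have hb2 : b * b = 1 := by
    have := pow_orderOf_eq_one b
    rwa [hbo, pow_two] at this
  have hbi : b⁻¹ = b := inv_eq_of_mul_eq_one_left hb2
  have hb2' : b * b = 1 := hb2
  have ha1z : a ^ ((2 : ℤ) ^ (m + 3)) = 1 := by
    have : ((2 : ℤ) ^ (m + 3)) = ((2 ^ (m + 3) : ℕ) : ℤ) := by push_cast; rfl
    rw [this, zpow_natCast, ha1]
  -- every element of `S` outside `M` is a multiple of `b`
  have hform : ∀ s ∈ (S : Subgroup G), s ∉ M → ∃ i : ℤ, s = a ^ i * b := by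
    intro s hs hsM
    have h1 := mem_of_relIndex_two hMS hMrel ((S : Subgroup G).inv_mem hs) hb
      (fun h => hsM (by simpa using M.inv_mem h)) hbM
    rw [inv_inv] at h1
    obtain ⟨i, hi⟩ := Subgroup.mem_zpowers_iff.mp h1
    refine ⟨i, ?_⟩
    rw [hi, mul_assoc, hb2, mul_one]
  -- squares
  have hsqform : ∀ s ∈ (S : Subgroup G), ∃ j : ℤ, s ^ 2 = (a ^ 2) ^ j := by
    intro s hs
    by_cases hsM : s ∈ M
    · obtain ⟨i, hi⟩ := Subgroup.mem_zpowers_iff.mp hsM
      refine ⟨i, ?_⟩
      rw [← hi, ← zpow_natCast, ← zpow_natCast, ← zpow_mul, ← zpow_mul]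
      congr 1
      ring
    · obtain ⟨i, hi⟩ := hform s hs hsM
      refine ⟨i * (2 ^ (m + 1) + 1), ?_⟩
      have h1 : (a ^ i * b) ^ 2 = a ^ i * (b * a ^ i * b⁻¹) * (b * b) := by
        simp only [pow_two, mul_assoc, inv_mul_cancel_left]
      rw [hi, h1, hconj, hb2, mul_one, ← zpow_add, ← zpow_natCast, ← zpow_mul]
      congr 1
      push_cast
      ring
  -- `a²` is central in `S`
  have hbcomm : b * a ^ 2 = a ^ 2 * b := by
    have h1 := hconj 2
    have h2 : a ^ ((2 : ℤ) * ((2 : ℤ) ^ (m + 2) + 1)) = a ^ 2 := by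
      have h3 : (2 : ℤ) * ((2 : ℤ) ^ (m + 2) + 1) = (2 : ℤ) ^ (m + 3) + 2 := by ring
      rw [h3, zpow_add, ha1z, one_mul, zpow_ofNat]
    rw [h2] at h1
    have h4 : (a : G) ^ (2 : ℤ) = a ^ 2 := zpow_ofNat a 2
    rw [h4] at h1
    calc b * a ^ 2 = b * a ^ 2 * b⁻¹ * b := by group
      _ = a ^ 2 * b := by rw [h1]
  have hcentral : ∀ s ∈ (S : Subgroup G), s * a ^ 2 = a ^ 2 * s := by
    intro s hs
    by_cases hsM : s ∈ M
    · obtain ⟨i, hi⟩ := Subgroup.mem_zpowers_iff.mp hsM
      rw [← hi]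
      exact ((Commute.refl a).pow_right 2).zpow_left i
    · obtain ⟨i, hi⟩ := hform s hs hsM
      rw [hi, mul_assoc, hbcomm, ← mul_assoc]
      have : Commute (a ^ i) (a ^ 2) := ((Commute.refl a).pow_right 2).zpow_left i
      rw [this.eq, mul_assoc]
  -- `z` is the unique involution of `M`
  have hzunique : ∀ w ∈ M, orderOf w = 2 → w = z := fun w hw hwo =>
    unique_involution_of_zpowers hw hzM hwo hzo
  have hzpow : (a ^ 2) ^ (2 ^ (m + 1)) = z := by
    rw [hz, ← pow_mul]; congr 1; ring
  have hinvM : ∀ w ∈ M, w ^ 2 = 1 → w ∈ Subgroup.zpowers z := by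
    intro w hw hw2
    by_cases h1 : w = 1
    · rw [h1]; exact Subgroup.one_mem _
    · have h2 := hzunique w hw (orderOf_eq_prime hw2 h1)
      rw [h2]; exact Subgroup.mem_zpowers z
  have hsqM : ∀ s ∈ (S : Subgroup G), s ^ 2 ∈ Subgroup.zpowers (a ^ 2) := by
    intro s hs
    obtain ⟨j, hj⟩ := hsqform s hs
    rw [hj]; exact Subgroup.zpow_mem_zpowers _ _
  have hA2M : Subgroup.zpowers (a ^ 2) ≤ M := by
    rw [Subgroup.zpowers_le]; exact Subgroup.pow_mem _ (Subgroup.mem_zpowers a) _
  by_cases hG2 : ∃ H : Subgroup G, H.index = 2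
  · obtain ⟨H, hH⟩ := hG2
    have hHn : H.Normal := Subgroup.normal_of_index_eq_two hH
    have hSH : ¬ (S : Subgroup G) ≤ H := by
      intro h
      apply S.not_dvd_index
      have h1 : H.index ∣ (S : Subgroup G).index := Subgroup.index_dvd_of_le h
      rwa [hH] at h1
    have hHrel : H.relIndex (S : Subgroup G) = 2 := by
      have h1 : H.relIndex (S : Subgroup G) ∣ 2 := by
        have h0 : H.relIndex (S : Subgroup G) ∣ H.index :=
          Subgroup.relIndex_dvd_index_of_normal _ _
        rwa [hH] at h0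
      rcases (Nat.dvd_prime Nat.prime_two).mp h1 with h2 | h2
      · exact absurd (Subgroup.relIndex_eq_one.mp h2) hSH
      · exact h2
    set T := (S : Subgroup G) ⊓ H with hT
    have hTS : T ≤ (S : Subgroup G) := inf_le_left
    have hTH : T ≤ H := inf_le_right
    have hTrel : T.relIndex (S : Subgroup G) = 2 := by
      rw [hT, inf_comm, Subgroup.inf_relIndex_right]; exact hHrel
    have hTcard : Nat.card T = 2 ^ (m + 3) := by
      have h1 := card_of_relIndex hTS
      rw [hTrel, hS] at h1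
      have h2 : 2 * Nat.card T = 2 * 2 ^ (m + 3) := by rw [h1]; ring
      exact Nat.eq_of_mul_eq_mul_left (by norm_num) h2
    set A := Subgroup.zpowers (a ^ 2) with hA
    have hAT : A ≤ T := by
      rw [hA, Subgroup.zpowers_le]
      exact ⟨(S : Subgroup G).pow_mem ha 2, Subgroup.sq_mem_of_index_two hH a⟩
    have hAord : orderOf (a ^ 2) = 2 ^ (m + 2) := by
      have h1 : orderOf (a ^ 2) = orderOf a / 2 := by
        rw [orderOf_pow' a two_ne_zero, hao]
        congr 1
        rw [Nat.gcd_comm]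
        exact Nat.gcd_eq_left (dvd_pow_self 2 (by omega))
      rw [h1, hao, pow_succ, Nat.mul_div_cancel _ (by norm_num)]
    have hAcard : Nat.card A = 2 ^ (m + 2) := by rw [hA, Nat.card_zpowers, hAord]
    have hArel : A.relIndex T = 2 := by
      have h1 := card_of_relIndex hAT
      rw [hAcard, hTcard] at h1
      have h2 : (0 : ℕ) < 2 ^ (m + 2) := by positivity
      apply Nat.eq_of_mul_eq_mul_right h2
      rw [h1]; ring
    have hAcentral : ∀ u ∈ A, ∀ s ∈ (S : Subgroup G), s * u = u * s := by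
      intro u hu s hs
      obtain ⟨i, rfl⟩ := Subgroup.mem_zpowers_iff.mp hu
      have h1 : Commute s (a ^ 2) := hcentral s hs
      exact (h1.zpow_right i).eq
    have hTab : ∀ x ∈ T, ∀ y ∈ T, x * y = y * x := by
      intro x hx y hy
      by_cases hxA : x ∈ A
      · exact (hAcentral x hxA y hy.1).symm
      by_cases hyA : y ∈ A
      · exact hAcentral y hyA x hx.1
      have h1 := mem_of_relIndex_two hAT hArel hx hy hxA hyA
      have h3 := hAcentral _ h1 x hx.1
      calc x * y = x * (x * (x⁻¹ * y)) := by group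
        _ = x * ((x⁻¹ * y) * x) := by rw [h3]
        _ = y * x := by group
    -- squares of `T`
    let Q : Subgroup G :=
      { carrier := {w | ∃ p ∈ T, w = p ^ 2}
        mul_mem' := by
          rintro _ _ ⟨p, hp, rfl⟩ ⟨q, hq, rfl⟩
          refine ⟨p * q, T.mul_mem hp hq, ?_⟩
          have : Commute p q := hTab p hp q hq
          rw [this.mul_pow]
        one_mem' := ⟨1, T.one_mem, by simp⟩
        inv_mem' := by
          rintro _ ⟨p, hp, rfl⟩
          exact ⟨p⁻¹, T.inv_mem hp, by simp⟩ }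
    have memQ : ∀ {w : G}, w ∈ Q ↔ ∃ p ∈ T, w = p ^ 2 := Iff.rfl
    have hQA : Q ≤ A := by
      rintro _ ⟨p, hp, rfl⟩
      exact hsqM p hp.1
    have hQcyc : IsCyclic Q := by
      have : IsCyclic A := inferInstance
      have h3 : IsCyclic (Q.subgroupOf A) := inferInstance
      exact isCyclic_of_surjective (Subgroup.subgroupOfEquivOfLe hQA).toMonoidHom
        (Subgroup.subgroupOfEquivOfLe hQA).surjective
    have hQp : IsPGroup 2 Q := S.isPGroup'.to_le (hQA.trans (hAT.trans hTS))
    -- involutions of `T`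
    let Ω : Subgroup G :=
      { carrier := {w | w ∈ T ∧ w ^ 2 = 1}
        mul_mem' := by
          rintro p q ⟨hp, hp2⟩ ⟨hq, hq2⟩
          refine ⟨T.mul_mem hp hq, ?_⟩
          have : Commute p q := hTab p hp q hq
          rw [this.mul_pow, hp2, hq2, one_mul]
        one_mem' := ⟨T.one_mem, by simp⟩
        inv_mem' := by
          rintro p ⟨hp, hp2⟩
          exact ⟨T.inv_mem hp, by simp [hp2]⟩ }
    have memΩ : ∀ {w : G}, w ∈ Ω ↔ w ∈ T ∧ w ^ 2 = 1 := Iff.rfl
    have hΩp : IsPGroup 2 Ω := S.isPGroup'.to_le (fun w hw => hTS hw.1)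
    set Q₀ := Subgroup.zpowers z with hQ₀
    have hzQ : z ∈ Q := by
      refine ⟨(a ^ 2) ^ (2 ^ m), hAT (Subgroup.npow_mem_zpowers _ _), ?_⟩
      calc z = (a ^ 2) ^ (2 ^ (m + 1)) := hzpow.symm
        _ = (a ^ 2) ^ (2 ^ m * 2) := by rw [pow_succ 2 m]
        _ = _ := pow_mul _ _ _
    have hzT : z ∈ T := hAT (hQA hzQ)
    have hQ₀Ω : Q₀ ≤ Ω := by
      rw [hQ₀, Subgroup.zpowers_le]; exact ⟨hzT, hz2⟩
    have hodd : ∀ y : G, y ∈ Subgroup.normalizer (T : Set G) → Odd (orderOf y) →
        ∀ p ∈ T, y * p = p * y := by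
      intro y hy hyodd
      have hyT : ∀ p ∈ T, y * p * y⁻¹ ∈ T := fun p hp =>
        (Subgroup.mem_normalizer_iff.mp hy p).mp hp
      have hyQ : y ∈ Subgroup.normalizer (Q : Set G) := by
        apply mem_normalizer_of_forall_conj_mem
        rintro _ ⟨p, hp, rfl⟩
        exact ⟨_, hyT p hp, by rw [conj_pow]⟩
      have hcQ := commute_of_odd_of_cyclic_two Q hQp hyQ hyodd
      have hyz : y * z = z * y := hcQ z hzQ
      have hyΩ : y ∈ Subgroup.normalizer (Ω : Set G) := by
        apply mem_normalizer_of_forall_conj_mem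
        rintro w ⟨hw, hw2⟩
        exact ⟨hyT w hw, by rw [conj_pow, hw2]; group⟩
      have hcQ₀ : ∀ x ∈ Q₀, y * x = x * y := by
        intro x hx
        obtain ⟨i, rfl⟩ := Subgroup.mem_zpowers_iff.mp hx
        have : Commute y z := hyz
        exact (this.zpow_right i).eq
      have hyQ₀ : y ∈ Subgroup.normalizer (Q₀ : Set G) := by
        apply mem_normalizer_of_forall_conj_mem
        intro x hx
        rw [hcQ₀ x hx, mul_inv_cancel_right]
        exact hx
      have hcΩ := commute_of_odd_of_index_two hΩp hQ₀Ω hyodd hyΩ hyQ₀ hcQ₀ (by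
        intro w hw w' hw' hw0 hw0'
        have hwM : w ∉ M := fun h => hw0 (hinvM w h hw.2)
        have hwM' : w' ∉ M := fun h => hw0' (hinvM w' h hw'.2)
        have h1 := mem_of_relIndex_two hMS hMrel (hTS hw.1) (hTS hw'.1) hwM hwM'
        apply hinvM _ h1
        have h2 : Commute w⁻¹ w' := hTab _ (T.inv_mem hw.1) _ hw'.1
        rw [h2.mul_pow, inv_pow, hw.2, hw'.2]
        simp)
      exact commute_of_sq_and_involutions hTab hy hyodd
        (fun p hp => hcQ _ ⟨p, hp, rfl⟩) (fun w hw hw2 => hcΩ w ⟨hw, hw2⟩)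
    -- go to `H`
    have hpg : IsPGroup 2 (T.subgroupOf H) := by
      have h1 : IsPGroup 2 T := S.isPGroup'.to_le hTS
      exact h1.of_equiv (Subgroup.subgroupOfEquivOfLe hTH).symm
    have hidx : ¬ 2 ∣ (T.subgroupOf H).index := by
      intro h
      apply S.not_dvd_index
      have h1 : T.relIndex H * H.index = T.index := Subgroup.relIndex_mul_index hTH
      have h2 : T.relIndex (S : Subgroup G) * (S : Subgroup G).index = T.index :=
        Subgroup.relIndex_mul_index hTS
      rw [hH, ← h2, hTrel] at h1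
      have h3 : T.relIndex H = (S : Subgroup G).index := by omega
      rw [← h3]
      exact h
    let P : Sylow 2 H := hpg.toSylow hidx
    have hPcoe : (P : Subgroup H) = T.subgroupOf H := hpg.toSylow_coe hidx
    have hPab : (P : Subgroup H) ≤ Subgroup.centralizer ((P : Subgroup H) : Set H) := by
      intro x hx
      rw [Subgroup.mem_centralizer_iff]
      intro y hy
      rw [SetLike.mem_coe, hPcoe, Subgroup.mem_subgroupOf] at hy
      rw [hPcoe, Subgroup.mem_subgroupOf] at hx
      exact Subtype.ext (hTab _ hy _ hx)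
    have hPn : Subgroup.normalizer ((P : Subgroup H) : Set H) ≤
        Subgroup.centralizer ((P : Subgroup H) : Set H) := by
      apply normalizer_le_centralizer_of_odd P hPab
      intro y hy hyodd
      rw [Subgroup.mem_centralizer_iff]
      intro x hx
      rw [SetLike.mem_coe, hPcoe, Subgroup.mem_subgroupOf] at hx
      have hyT : (y : G) ∈ Subgroup.normalizer (T : Set G) := by
        apply mem_normalizer_of_forall_conj_mem
        intro p hp
        have h1 : (⟨p, hTH hp⟩ : H) ∈ (P : Subgroup H) := by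
          rw [hPcoe, Subgroup.mem_subgroupOf]; exact hp
        have h2 := (Subgroup.mem_normalizer_iff.mp hy _).mp h1
        rw [hPcoe, Subgroup.mem_subgroupOf] at h2
        exact h2
      have h3 : Odd (orderOf (y : G)) := by rwa [Subgroup.orderOf_coe]
      exact Subtype.ext (hodd y hyT h3 x hx).symm
    have : IsMulCommutative (P : Subgroup H) :=
      ⟨⟨fun x y => Subtype.ext ((Subgroup.mem_centralizer_iff.mp (hPab y.2)) x x.2)⟩⟩
    exact hasNormalPComplement_of_index_two H hH (hasNormalPComplement_of_normalizer_le P hPn)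
  · exfalso
    push Not at hG2
    have hev : Even (Nat.card G) := by
      rw [even_iff_two_dvd, ← hbo]; exact orderOf_dvd_natCard b
    obtain ⟨g, hg⟩ := Cfsg.Agent.S3225.result hev hG2 S M hMS hMrel 1 le_rfl (by
      intro y _ hyM
      have : y ≠ 1 := by
        rintro rfl
        exact hyM (Subgroup.one_mem _)
      have h2 : orderOf y ≠ 1 := by rwa [Ne, orderOf_eq_one_iff]
      have h3 : 0 < orderOf y := orderOf_pos y
      simp only [Nat.sub_self, pow_zero]
      omega) b hb (by rw [pow_one, hbo])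
    have hgb : g * b * g⁻¹ = z := hzunique _ hg (by rw [orderOf_conj_eq, hbo])
    let C := Subgroup.centralizer ({z} : Set G)
    have hSC : (S : Subgroup G) ≤ C := by
      intro s hs
      rw [Subgroup.mem_centralizer_singleton_iff]
      rw [← hzpow]
      have h1 : Commute s (a ^ 2) := hcentral s hs
      exact (h1.pow_right _).eq
    let x := g * a ^ 2 * g⁻¹
    have hxC : Subgroup.zpowers x ≤ C := by
      rw [Subgroup.zpowers_le, Subgroup.mem_centralizer_singleton_iff, ← hgb]
      have h1 : b * a ^ 2 = a ^ 2 * b := hbcomm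
      simp only [x]
      calc g * a ^ 2 * g⁻¹ * (g * b * g⁻¹) = g * (a ^ 2 * b) * g⁻¹ := by group
        _ = g * (b * a ^ 2) * g⁻¹ := by rw [h1]
        _ = _ := by group
    have hxord : orderOf x = 2 ^ (m + 2) := by
      simp only [x]
      rw [orderOf_conj_eq]
      have h1 : orderOf (a ^ 2) = orderOf a / 2 := by
        rw [orderOf_pow' a two_ne_zero, hao]
        congr 1
        rw [Nat.gcd_comm]
        exact Nat.gcd_eq_left (dvd_pow_self 2 (by omega))
      rw [h1, hao, pow_succ, Nat.mul_div_cancel _ (by norm_num)]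
    have hxp : IsPGroup 2 (Subgroup.zpowers x) := by
      rw [IsPGroup.iff_card, Nat.card_zpowers, hxord]
      exact ⟨_, rfl⟩
    obtain ⟨c, hcC, hc⟩ := exists_conj_le_sylow_of_le C (Subgroup.zpowers x) S hSC hxC hxp
    have hcx : c * x * c⁻¹ ∈ (S : Subgroup G) := hc x (Subgroup.mem_zpowers x)
    have hcz : c * z * c⁻¹ = z := by
      have h1 : c * z = z * c := Subgroup.mem_centralizer_singleton_iff.mp hcC
      rw [h1, mul_inv_cancel_right]
    -- `k = c g`
    have hkb : (c * g) * b * (c * g)⁻¹ = z := by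
      calc (c * g) * b * (c * g)⁻¹ = c * (g * b * g⁻¹) * c⁻¹ := by group
        _ = z := by rw [hgb, hcz]
    have hka : (c * g) * a ^ 2 * (c * g)⁻¹ = c * x * c⁻¹ := by
      simp only [x]; group
    have hkz : (c * g) * z * (c * g)⁻¹ = z := by
      -- `k z k⁻¹ = ((k a² k⁻¹)²)^(2^m)`, lies in `M`, involution
      have h1 : (c * g) * z * (c * g)⁻¹ = ((c * x * c⁻¹) ^ 2) ^ (2 ^ m) := by
        rw [← hka, conj_pow, conj_pow, ← pow_mul, ← hzpow, pow_succ' 2 m]
      apply hzunique
      · rw [h1]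
        exact Subgroup.pow_mem _ (hA2M (hsqM _ hcx)) _
      · rw [orderOf_conj_eq, hzo]
    apply hbM
    have hzb : b = z := by
      have h1 : (c * g) * b * (c * g)⁻¹ = (c * g) * z * (c * g)⁻¹ := by rw [hkb, hkz]
      exact mul_left_cancel (mul_right_cancel h1)
    rw [hzb]; exact hzM

end Cfsg.Agent.S3178
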