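import Cfsg.Statements.S3437
import Cfsg.Agent.Lib.H16.FrobSpec

set_option autoImplicit false
open Cfsg

namespace Cfsg.Agent.S3437
open Cfsg.Agent.H16.Enum Cfsg.Agent.H16.FrobSpec
def tbl : List (List ℕ) := [[1,3,5,7,9,11,13,14,15,17,19,10,21,23,25,26,28,16,12,31,33,35,32,22,37,38,24,18,20,41,40,30,43,44,42,34,27,29,45,46,2,47,36,39,4,0,6,8],[2,4,6,8,10,12,0,13,16,18,1,20,22,24,19,27,3,29,30,32,34,26,5,36,7,28,39,33,40,35,9,42,14,15,11,17,41,44,37,21,25,23,46,47,38,43,31,45]]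
def wordT : List (List ℕ) := [[],[0],[1],[0,0],[0,1],[1,0],[1,1],[0,0,0],[0,0,1],[0,1,0],[0,1,1],[1,0,0],[1,0,1],[1,1,0],[0,0,0,0],[0,0,1,0],[0,0,1,1],[0,1,0,0],[0,1,0,1],[0,1,1,0],[1,0,0,1],[1,0,1,0],[1,0,1,1],[1,1,0,0],[1,1,0,1],[0,0,0,0,0],[0,0,1,0,0],[0,0,1,0,1],[0,0,1,1,0],[0,1,0,0,1],[0,1,0,1,1],[0,1,1,0,0],[0,1,1,0,1],[1,0,0,1,0],[1,0,0,1,1],[1,0,1,0,0],[1,1,0,0,1],[1,1,0,1,0],[0,0,0,0,0,0],[0,0,1,0,0,1],[0,0,1,1,0,1],[0,1,0,0,1,0],[0,1,1,0,0,1],[0,1,1,0,1,0],[1,0,0,1,0,0],[0,0,0,0,0,0,0],[0,0,1,0,0,1,0],[0,1,0,0,1,0,0]]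
def treeL : List (ℕ × ℕ) := [(0,0),(0,1),(1,0),(1,1),(2,0),(2,1),(3,0),(3,1),(4,0),(4,1),(5,0),(5,1),(6,0),(7,0),(8,0),(8,1),(9,0),(9,1),(10,0),(11,1),(12,0),(12,1),(13,0),(13,1),(14,0),(15,0),(15,1),(16,0),(17,1),(18,1),(19,0),(19,1),(20,0),(20,1),(21,0),(23,1),(24,0),(25,0),(26,1),(28,1),(29,0),(31,1),(32,0),(33,0),(38,0),(39,0),(41,0)]
def dedL : List (ℕ × ℕ) := [(0,0),(1,0),(3,0),(5,0),(9,0),(11,0),(40,1),(40,2),(1,2),(4,1),(18,1),(18,2),(27,1),(27,2),(1,1),(8,1),(11,2),(15,0),(15,1),(15,2),(17,0),(21,0),(28,2),(30,1),(4,2),(6,1),(7,0),(8,2),(9,2),(10,2),(12,1),(12,2),(13,1),(13,2),(14,0),(14,1),(14,2),(19,1),(23,0),(24,1),(25,1),(26,1),(26,2),(31,2),(32,1),(33,1),(34,1),(38,1),(39,1)]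
def rls : List (List ℕ) := [[1,1,1],[0,1,1,0,0,1,1,0,1],[0,1,1,0,1,0,0,0,0,1]]
def mexp : List ℕ := [0,4,1,2,4,4,1,4,1,1,2,1,2,2,1,2,2,2,2,2,2,2,4,2,4,4,2,2,4,2,2,4,2,2,2,2,2,2,2,1,2,1,2,2,1,4,4,4]
def good : List ℕ := [14,2,6,8,9,11,39,41,44]
def tt (a i : ℕ) : ℕ := (tbl.getD a []).getD i 0
def wd (i : ℕ) : List ℕ := wordT.getD i []
def me (i : ℕ) : ℕ := mexp.getD i 0

theorem hcheck : check tt 2 48 wd rls treeL dedL = true := by decide +kernel
theorem hlet : ∀ r ∈ rls, ∀ a ∈ r, a < 2 := by decide +kernel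
theorem hwd : ∀ i, i < 48 → ∀ a ∈ wd i, a < 2 := by decide +kernel
theorem hC1 : ∀ i, i < 48 → powIdx tt wd i 8 = 0 ∨ powIdx tt wd i 6 = 0 := by decide +kernel
theorem hC2 : ∀ i, i < 48 → i ≠ 0 → powIdx tt wd i (me i) ∈ good := by decide +kernel

abbrev GL4 := Matrix.GeneralLinearGroup (Fin 4) (ZMod 13)

def a₀ : GL4 := ⟨!![0,6,0,0; 3,0,0,0; 0,0,0,9; 0,0,11,0], !![0,9,0,0; 11,0,0,0; 0,0,0,6; 0,0,3,0], by decide +kernel, by decide +kernel⟩
def b₀ : GL4 := ⟨!![2,0,3,0; 0,2,0,3; 2,0,10,0; 0,2,0,10], !![10,0,10,0; 0,10,0,10; 11,0,2,0; 0,11,0,2], by decide +kernel, by decide +kernel⟩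
def g₀ : ℕ → GL4 := fun a => ![a₀, b₀] (Fin.ofNat 2 a)

theorem hrelG : ∀ r ∈ rls, ev g₀ r = 1 := by decide +kernel

theorem hgood : ∀ i ∈ good, ((ev g₀ (wd i)).val + 1 = 0 ∨
    (ev g₀ (wd i)).val * (ev g₀ (wd i)).val + (ev g₀ (wd i)).val + 1 = 0) := by decide +kernel

def K : Subgroup GL4 := Subgroup.closure (Set.range g₀)

theorem hidx : ∀ b, ∃ a, a < 2 ∧ g₀ b = g₀ a := fun b =>
  ⟨b % 2, Nat.mod_lt _ (by norm_num), by simp [g₀, Fin.ofNat]⟩

theorem hw0 : wd 0 = [] := by decide +kernel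

theorem hcover : ∀ x ∈ K, ∃ i, i < 48 ∧ ev g₀ (wd i) = x :=
  cover hrelG hlet hcheck hw0 (by norm_num) hidx

theorem hpow (i : ℕ) (hi : i < 48) (n : ℕ) :
    ev g₀ (wd i) ^ n = ev g₀ (wd (powIdx tt wd i n)) ∧ powIdx tt wd i n < 48 :=
  table_pow (table_step hrelG hlet hcheck) hwd hw0 (by norm_num) i hi n

theorem exp_K : ∀ x ∈ K, x ^ 8 = 1 ∨ x ^ 6 = 1 := by
  intro x hx
  obtain ⟨i, hi, rfl⟩ := hcover x hx
  rcases hC1 i hi with h | h
  · left
    rw [(hpow i hi 8).1, h, hw0]; rfl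
  · right
    rw [(hpow i hi 6).1, h, hw0]; rfl

instance fact13 : Fact (Nat.Prime 13) := ⟨by norm_num⟩

theorem hne2 : (2 : ZMod 13) ≠ 0 := by decide
theorem hne3 : (3 : ZMod 13) ≠ 0 := by decide

theorem fix_pow {k : GL4} {v : Fin 4 → ZMod 13} (h : k.val.mulVec v = v) (n : ℕ) :
    (k ^ n).val.mulVec v = v := by
  induction n with
  | zero => simp
  | succ n ih =>
    rw [pow_succ, Units.val_mul, ← Matrix.mulVec_mulVec, h, ih]

theorem fpf_good {i : ℕ} (hi : i ∈ good) {v : Fin 4 → ZMod 13}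
    (h : (ev g₀ (wd i)).val.mulVec v = v) : v = 0 := by
  rcases hgood i hi with h1 | h1
  · have h2 := congrArg (fun M => Matrix.mulVec M v) h1
    simp only [Matrix.add_mulVec, h, Matrix.one_mulVec, Matrix.zero_mulVec] at h2
    funext j
    have h3 := congrFun h2 j
    simp only [Pi.add_apply, Pi.zero_apply] at h3
    have h4 : (2 : ZMod 13) * v j = 0 := by rw [two_mul]; exact h3
    exact (mul_eq_zero.1 h4).resolve_left hne2
  · have h2 := congrArg (fun M => Matrix.mulVec M v) h1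
    simp only [Matrix.add_mulVec, ← Matrix.mulVec_mulVec, h, Matrix.one_mulVec,
      Matrix.zero_mulVec] at h2
    funext j
    have h3 := congrFun h2 j
    simp only [Pi.add_apply, Pi.zero_apply] at h3
    have h4 : (3 : ZMod 13) * v j = 0 := by
      have : (3 : ZMod 13) = 1 + 1 + 1 := by decide
      rw [this]; linear_combination h3
    exact (mul_eq_zero.1 h4).resolve_left hne3

theorem fpf_K : ∀ k ∈ K, k ≠ 1 → ∀ v : Fin 4 → ZMod 13, k.val.mulVec v = v → v = 0 := by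
  intro k hk hk1 v hv
  obtain ⟨i, hi, rfl⟩ := hcover k hk
  have hi0 : i ≠ 0 := by
    rintro rfl
    apply hk1
    rw [hw0]; rfl
  have h1 := fix_pow hv (me i)
  rw [(hpow i hi (me i)).1] at h1
  exact fpf_good (hC2 i hi hi0) h1

theorem card_K : Nat.card K ≤ 48 := by
  have hsub : (K : Set GL4) ⊆ (fun i => ev g₀ (wd i)) '' (Set.Iio 48) := by
    intro x hx
    obtain ⟨i, hi, rfl⟩ := hcover x hx
    exact ⟨i, hi, rfl⟩
  have hf : ((fun i => ev g₀ (wd i)) '' (Set.Iio 48)).Finite := (Set.finite_Iio 48).image _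
  calc Nat.card K = (K : Set GL4).ncard := Nat.card_coe_set_eq _
    _ ≤ ((fun i => ev g₀ (wd i)) '' (Set.Iio 48)).ncard := Set.ncard_le_ncard hsub hf
    _ ≤ (Set.Iio 48 : Set ℕ).ncard := Set.ncard_image_le (Set.finite_Iio 48)
    _ = 48 := by
      rw [Set.ncard_eq_toFinset_card']
      simp

theorem solv_K : Group.IsSolvable K :=
  Cfsg.Agent.H16.solv_lt60 _ (lt_of_le_of_lt card_K (by norm_num)) K rfl

theorem a₀_mem : a₀ ∈ K := Subgroup.subset_closure ⟨0, rfl⟩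
theorem b₀_mem : b₀ ∈ K := Subgroup.subset_closure ⟨1, rfl⟩

theorem order_a₀ : orderOf a₀ = 8 := by
  have : orderOf a₀ = 2 ^ 3 := by
    apply orderOf_eq_prime_pow
    · decide +kernel
    · decide +kernel
  simpa using this

def c₀ : GL4 := a₀ ^ 4 * b₀

theorem c₀_mem : c₀ ∈ K := K.mul_mem (K.pow_mem a₀_mem 4) b₀_mem

theorem order_of_six {G : Type*} [Monoid G] (x : G) (h6 : x ^ 6 = 1) (h2 : x ^ 2 ≠ 1) (h3 : x ^ 3 ≠ 1) :
    orderOf x = 6 := by
  apply orderOf_eq_of_pow_and_pow_div_prime (by norm_num) h6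
  intro p hp hd
  have : p = 2 ∨ p = 3 := by
    have h : p ∣ 2 * 3 := hd
    rcases (Nat.Prime.dvd_mul hp).1 h with h | h
    · left; exact (Nat.prime_dvd_prime_iff_eq hp Nat.prime_two).1 h
    · right; exact (Nat.prime_dvd_prime_iff_eq hp Nat.prime_three).1 h
  rcases this with rfl | rfl
  · simpa using h3
  · simpa using h2

theorem order_c₀ : orderOf c₀ = 6 := by
  apply order_of_six
  · decide +kernel
  · decide +kernel
  · decide +kernel

theorem range_K : Set.range (orderOf : K → ℕ) = {n | ∃ a ∈ [8, 6], n ∣ a} := by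
  apply range_eq_divisors
  · rintro ⟨x, hx⟩
    rcases exp_K x hx with h | h
    · exact ⟨8, by simp, Subtype.ext h⟩
    · exact ⟨6, by simp, Subtype.ext h⟩
  · intro a ha
    simp only [List.mem_cons, List.not_mem_nil, or_false] at ha
    rcases ha with rfl | rfl
    · exact ⟨⟨a₀, a₀_mem⟩, by rw [Subgroup.orderOf_mk]; exact order_a₀⟩
    · exact ⟨⟨c₀, c₀_mem⟩, by rw [Subgroup.orderOf_mk]; exact order_c₀⟩
  · intro a ha
    simp only [List.mem_cons, List.not_mem_nil, or_false] at ha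
    rcases ha with rfl | rfl <;> norm_num

/-! ### `SL₃(3)` -/

abbrev SL33 := Matrix.SpecialLinearGroup (Fin 3) (ZMod 3)

/-- Cayley–Hamilton for `3 × 3` matrices. -/
theorem ch3 {R : Type*} [CommRing R] (M : Matrix (Fin 3) (Fin 3) R) :
    M ^ 3 = (M 0 0 + M 1 1 + M 2 2) • M ^ 2 -
      (M 0 0 * M 1 1 - M 0 1 * M 1 0 + M 0 0 * M 2 2 - M 0 2 * M 2 0 + M 1 1 * M 2 2 - M 1 2 * M 2 1) • M
      + M.det • 1 := by
  ext i j
  fin_cases i <;> fin_cases j <;>
    simp [pow_succ, Matrix.mul_apply, Fin.sum_univ_three, Matrix.det_fin_three] <;> ring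

def stp (t s : ZMod 3) (x : ZMod 3 × ZMod 3 × ZMod 3) : ZMod 3 × ZMod 3 × ZMod 3 :=
  (x.1 * t + x.2.1, x.2.2 - x.1 * s, x.1)

def iter (t s : ZMod 3) : ℕ → ZMod 3 × ZMod 3 × ZMod 3
  | 0 => (0, 0, 1)
  | n + 1 => stp t s (iter t s n)

theorem iter_check : ∀ t s : ZMod 3, iter t s 8 = (0, 0, 1) ∨ iter t s 6 = (0, 0, 1) ∨ iter t s 13 = (0, 0, 1) := by
  decide +kernel

theorem pow_state (M : Matrix (Fin 3) (Fin 3) (ZMod 3)) (t s : ZMod 3)
    (h : M ^ 3 = t • M ^ 2 - s • M + 1) (n : ℕ) :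
    M ^ n = (iter t s n).1 • M ^ 2 + (iter t s n).2.1 • M + (iter t s n).2.2 • 1 := by
  induction n with
  | zero => simp [iter]
  | succ n ih =>
    have e : ∀ a b c : ZMod 3, M * (a • M ^ 2 + b • M + c • 1) = a • M ^ 3 + b • M ^ 2 + c • M := by
      intro a b c
      rw [mul_add, mul_add, mul_smul_comm, mul_smul_comm, mul_smul_comm, mul_one, ← pow_succ', ← pow_two]
    rw [pow_succ', ih, e, h]
    simp only [iter, stp]
    generalize (iter t s n).1 = a
    generalize (iter t s n).2.1 = b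
    generalize (iter t s n).2.2 = c
    rw [smul_add, smul_sub, smul_smul, smul_smul, add_smul, sub_smul]
    abel


theorem sl33_exp (M : SL33) : M ^ 8 = 1 ∨ M ^ 6 = 1 ∨ M ^ 13 = 1 := by
  have h := ch3 M.val
  rw [M.2, ] at h
  have hs := pow_state M.val _ _ (by simpa using h)
  have one_of : ∀ n : ℕ, iter (M.val 0 0 + M.val 1 1 + M.val 2 2)
      (M.val 0 0 * M.val 1 1 - M.val 0 1 * M.val 1 0 + M.val 0 0 * M.val 2 2 - M.val 0 2 * M.val 2 0 +
        M.val 1 1 * M.val 2 2 - M.val 1 2 * M.val 2 1) n = (0, 0, 1) → M ^ n = 1 := by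
    intro n hn
    apply Subtype.ext
    rw [Matrix.SpecialLinearGroup.coe_pow, hs n, hn]
    simp
  rcases iter_check (M.val 0 0 + M.val 1 1 + M.val 2 2)
      (M.val 0 0 * M.val 1 1 - M.val 0 1 * M.val 1 0 + M.val 0 0 * M.val 2 2 - M.val 0 2 * M.val 2 0 +
        M.val 1 1 * M.val 2 2 - M.val 1 2 * M.val 2 1) with h1 | h1 | h1
  · exact Or.inl (one_of _ h1)
  · exact Or.inr (Or.inl (one_of _ h1))
  · exact Or.inr (Or.inr (one_of _ h1))

def M₈ : SL33 := ⟨!![0,0,1;0,1,1;2,1,0], by decide +kernel⟩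
def M₆ : SL33 := ⟨!![0,0,1;0,1,0;2,0,1], by decide +kernel⟩
def M₁₃ : SL33 := ⟨!![0,0,1;0,1,1;2,1,1], by decide +kernel⟩

theorem order_M₈ : orderOf M₈ = 8 := by
  have : orderOf M₈ = 2 ^ 3 := by
    apply orderOf_eq_prime_pow
    · decide +kernel
    · decide +kernel
  simpa using this

theorem order_M₆ : orderOf M₆ = 6 := by
  apply order_of_six
  · decide +kernel
  · decide +kernel
  · decide +kernel

theorem order_M₁₃ : orderOf M₁₃ = 13 := by
  apply orderOf_eq_prime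
  · decide +kernel
  · decide +kernel

theorem range_SL : Set.range (orderOf : SL33 → ℕ) = {n | ∃ a ∈ [8, 6, 13], n ∣ a} := by
  apply range_eq_divisors
  · intro M
    rcases sl33_exp M with h | h | h
    · exact ⟨8, by simp, h⟩
    · exact ⟨6, by simp, h⟩
    · exact ⟨13, by simp, h⟩
  · intro a ha
    simp only [List.mem_cons, List.not_mem_nil, or_false] at ha
    rcases ha with rfl | rfl | rfl
    · exact ⟨_, order_M₈⟩
    · exact ⟨_, order_M₆⟩
    · exact ⟨_, order_M₁₃⟩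
  · intro a ha
    simp only [List.mem_cons, List.not_mem_nil, or_false] at ha
    rcases ha with rfl | rfl | rfl <;> norm_num

def slEquiv {F F' : Type*} [CommRing F] [CommRing F'] (e : F ≃+* F') :
    Matrix.SpecialLinearGroup (Fin 3) F ≃* Matrix.SpecialLinearGroup (Fin 3) F' where
  toFun := Matrix.SpecialLinearGroup.map (e : F →+* F')
  invFun := Matrix.SpecialLinearGroup.map (e.symm : F' →+* F)
  left_inv g := by
    apply Subtype.ext
    ext i j
    exact e.symm_apply_apply _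
  right_inv g := by
    apply Subtype.ext
    ext i j
    exact e.apply_symm_apply _
  map_mul' := map_mul _

theorem range_of_equiv {G G' : Type*} [Group G] [Group G'] (e : G ≃* G') :
    Set.range (orderOf : G → ℕ) = Set.range (orderOf : G' → ℕ) := by
  ext n
  constructor
  · rintro ⟨x, rfl⟩
    exact ⟨e x, MulEquiv.orderOf_eq e x⟩
  · rintro ⟨y, rfl⟩
    exact ⟨e.symm y, MulEquiv.orderOf_eq e.symm y⟩

theorem center_bot {F : Type*} [Field F] [Fintype F] (hF : Fintype.card F = 3) :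
    Subgroup.center (Matrix.SpecialLinearGroup (Fin 3) F) = ⊥ := by
  rw [eq_bot_iff]
  intro A hA
  obtain ⟨r, hr, hA'⟩ := Matrix.SpecialLinearGroup.mem_center_iff.1 hA
  rw [Fintype.card_fin] at hr
  have h1 : r ^ 3 = r := by
    have := FiniteField.pow_card r
    rwa [hF] at this
  rw [h1] at hr
  rw [Subgroup.mem_bot]
  apply Subtype.ext
  rw [← hA', hr]
  simp

theorem range_PSL {F : Type*} [Field F] [Fintype F] (hF : Fintype.card F = 3) :
    Set.range (orderOf : Matrix.ProjectiveSpecialLinearGroup (Fin 3) F → ℕ) = {n | ∃ a ∈ [8, 6, 13], n ∣ a} := by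
  rw [← range_SL]
  have e1 : Matrix.ProjectiveSpecialLinearGroup (Fin 3) F ≃* Matrix.SpecialLinearGroup (Fin 3) F :=
    (QuotientGroup.quotientMulEquivOfEq (center_bot hF)).trans QuotientGroup.quotientBot
  rw [range_of_equiv e1]
  exact range_of_equiv (slEquiv (ZMod.ringEquivOfPrime F Nat.prime_three hF)).symm

/-- There is a finite solvable group with exactly the same set of element orders as the simple group PSL(3,3). -/
theorem result {F : Type*} [Field F] [Fintype F] (hF : Fintype.card F = 3) :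
    ∃ (H : Type) (_ : Group H) (_ : Fintype H), Group.IsSolvable H ∧
      Set.range (orderOf : H → ℕ) = Set.range (orderOf : Matrix.ProjectiveSpecialLinearGroup (Fin 3) F → ℕ) := by
  obtain ⟨H, hg, hf, hs, hr⟩ := exists_frob_matrix (p := 13) (d := 4) (by norm_num) K solv_K fpf_K
  refine ⟨H, hg, hf, hs, ?_⟩
  rw [hr, range_K, range_PSL hF]
  ext n
  simp only [Set.mem_insert_iff, Set.mem_setOf_eq, List.mem_cons, List.not_mem_nil, or_false,
    exists_eq_or_imp, exists_eq_left, exists_false]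
  constructor
  · rintro (rfl | h | h)
    · right; right; exact dvd_rfl
    · left; exact h
    · right; left; exact h
  · rintro (h | h | h)
    · right; left; exact h
    · right; right; exact h
    · rcases (Nat.dvd_prime (by norm_num)).1 h with rfl | rfl
      · right; left; exact one_dvd _
      · left; rfl

end Cfsg.Agent.S3437
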