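import Cfsg.Statements.S3494
import Cfsg.Agent.Lib.H16.ExtPrim

set_option autoImplicit false
open Cfsg

namespace Cfsg.Agent.S3494

/-- Manning's Theorem on extremely primitive groups. Let a finite group G act faithfully and primitively on a finite set Ω with non-trivial point stabilizers, and suppose every point stabilizer G_α acts primitively on each of its orbits. Then G_α acts faithfully on each of its orbits other than {α}: an element of G_α fixing every point of one such orbit is the identity. -/
theorem result {G : Type*} [Group G] [Finite G] {Ω : Type*} [Fintype Ω] [MulAction G Ω] [FaithfulSMul G Ω] (hprim : MulAction.IsPreprimitive G Ω) (hH : ∀ α : Ω, MulAction.stabilizer G α ≠ ⊥) (hep : ∀ (α : Ω) (ω : Ω), MulAction.IsPreprimitive (MulAction.stabilizer G α) (MulAction.orbit (MulAction.stabilizer G α) ω))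
    (α ω : Ω) (hω : ω ≠ α) (h : MulAction.stabilizer G α) (hfix : ∀ x ∈ MulAction.orbit (MulAction.stabilizer G α) ω, h • x = x) : h = 1 := by
  have h1 : (h : G) ∈ (Cfsg.Agent.H16.sk α ω : Subgroup G) := by
    refine ⟨h.2, fun u hu => ?_⟩
    exact hfix (u • ω) ⟨⟨u, hu⟩, rfl⟩
  rw [Cfsg.Agent.H16.sk_eq_bot hH hep α ω hω, Subgroup.mem_bot] at h1
  exact Subtype.ext h1

end Cfsg.Agent.S3494
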