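import Cfsg.Statements.S3501
import Cfsg.Agent.Lib.H16.ExtMain2
import Cfsg.Agent.Lib.H17.Derangement
import Cfsg.Agent.Lib.H01.Basic

set_option autoImplicit false
open Cfsg

namespace Cfsg.Agent.S3501

open MulAction Cfsg.Agent.H16

section Sharp

variable {G Ω : Type*} [Group G] [Finite G] [Fintype Ω] [MulAction G Ω] [FaithfulSMul G Ω]

/-- the derangements of a sharply 2-transitive group are conjugate. -/
theorem sharp_conj (h2 : ∀ a b c d : Ω, a ≠ b → c ≠ d → ∃ g : G, g • a = c ∧ g • b = d)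
    (hs : ∀ g : G, g ≠ 1 → ∀ a b : Ω, a ≠ b → g • a = a → g • b ≠ b)
    (hΩ : 2 ≤ Fintype.card Ω) {x y : G} (hx : ∀ ω : Ω, x • ω ≠ ω) (hy : ∀ ω : Ω, y • ω ≠ ω) :
    IsConj x y := by
  classical
  haveI : Fintype G := Fintype.ofFinite G
  have hne : Nonempty Ω := by
    rw [← Fintype.card_pos_iff]
    omega
  obtain ⟨α⟩ := hne
  have htr : IsPretransitive G Ω := by
    constructor
    intro a b
    by_cases hab : a = b
    · exact ⟨1, by rw [one_smul, hab]⟩
    · obtain ⟨g, hg, -⟩ := h2 a b b a hab (Ne.symm hab)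
      exact ⟨g, hg⟩
  let D : Finset G := Finset.univ.filter (fun g => ∀ ω : Ω, g • ω ≠ ω)
  have hfixle : ∀ g : G, g ≠ 1 → Nat.card (fixedBy Ω g) ≤ 1 := by
    intro g hg
    rw [Nat.card_coe_set_eq]
    apply (Set.ncard_le_one_iff (Set.toFinite _)).2
    intro a b ha hb
    by_contra hab
    exact hs g hg a b hab ha hb
  have hpt : ∀ g : G, Nat.card (fixedBy Ω g) + (if g ∈ D then 1 else 0)
      = 1 + (if g = 1 then Fintype.card Ω - 1 else 0) := by
    intro g
    by_cases hg1 : g = 1
    · subst hg1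
      have h1 : (1 : G) ∉ D := by
        simp only [D, Finset.mem_filter, Finset.mem_univ, true_and, not_forall]
        exact ⟨α, by simp⟩
      rw [if_neg h1, if_pos rfl, fixedBy_one_eq_univ, Nat.card_coe_set_eq, Set.ncard_univ,
        Nat.card_eq_fintype_card]
      omega
    · rw [if_neg hg1]
      by_cases hgD : g ∈ D
      · rw [if_pos hgD]
        have h1 : ∀ ω : Ω, g • ω ≠ ω := (Finset.mem_filter.1 hgD).2
        have h2' : fixedBy Ω g = ∅ := by
          ext ω
          simp [mem_fixedBy, h1 ω]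
        rw [h2', Nat.card_coe_set_eq, Set.ncard_empty]
      · rw [if_neg hgD]
        have h1 : ∃ ω : Ω, g • ω = ω := by
          by_contra hcon
          push Not at hcon
          exact hgD (Finset.mem_filter.2 ⟨Finset.mem_univ _, hcon⟩)
        obtain ⟨ω, hω⟩ := h1
        have h3 := hfixle g hg1
        have h4 : 0 < Nat.card (fixedBy Ω g) := by
          haveI : Nonempty (fixedBy Ω g) := ⟨⟨ω, hω⟩⟩
          exact Nat.card_pos
        omega
  have hsum : ∑ g : G, Nat.card (fixedBy Ω g) = Nat.card G := by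
    have h1 := H17.burnside_sum (G := G) (X := Ω)
    have h3 : Nat.card (orbitRel.Quotient G Ω) = 1 := by
      have hsub : Subsingleton (orbitRel.Quotient G Ω) := by
        constructor
        intro a b
        induction a using Quotient.inductionOn with
        | _ a =>
          induction b using Quotient.inductionOn with
          | _ b =>
            apply Quotient.sound
            exact exists_smul_eq G b a
      haveI : Nonempty (orbitRel.Quotient G Ω) := ⟨Quotient.mk'' α⟩
      exact Nat.card_unique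
    rw [h3, one_mul] at h1
    exact h1
  have hDcard : D.card = Fintype.card Ω - 1 := by
    have h1 := Finset.sum_congr (rfl : (Finset.univ : Finset G) = Finset.univ) (fun g _ => hpt g)
    rw [Finset.sum_add_distrib, Finset.sum_add_distrib, hsum] at h1
    have h3 : ∑ g : G, (if g ∈ D then 1 else 0) = D.card := by
      rw [Finset.sum_boole]
      simp
    have h4 : ∑ g : G, (if g = 1 then Fintype.card Ω - 1 else 0) = Fintype.card Ω - 1 := by
      rw [Finset.sum_ite_eq' Finset.univ (1 : G)]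
      simp
    rw [h3, h4, Finset.sum_const, Finset.card_univ, smul_eq_mul, mul_one,
      ← Nat.card_eq_fintype_card] at h1
    omega
  -- the stabilizer
  let H := stabilizer G α
  have hβ : ∃ β : Ω, β ≠ α := by
    by_contra hcon
    push Not at hcon
    have hf := Fintype.card_le_one_iff.2 (fun a b => (hcon a).trans (hcon b).symm)
    omega
  obtain ⟨β, hβ⟩ := hβ
  have hHcard : Nat.card H = Fintype.card Ω - 1 := by
    have h1 : orbit H β = {α}ᶜ := by
      ext y
      rw [mem_orbit_subgroup]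
      simp only [Set.mem_compl_iff, Set.mem_singleton_iff]
      constructor
      · rintro ⟨g, hg, rfl⟩ h
        apply hβ
        have hg' : g • α = α := hg
        have : g • β = g • α := by rw [hg', h]
        exact smul_left_cancel g this
      · intro hy'
        obtain ⟨g, hg1, hg2⟩ := h2 α β α y (Ne.symm hβ) (Ne.symm hy')
        exact ⟨g, hg1, hg2⟩
    have h3 := card_orbit_eq_relIndex (G := G) H β
    rw [h1, Nat.card_coe_set_eq, Set.ncard_compl, Set.ncard_singleton, Nat.card_eq_fintype_card] at h3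
    have h4 : stabilizer G β ⊓ H = ⊥ := by
      rw [eq_bot_iff]
      intro g hg
      have hg' := Subgroup.mem_inf.1 hg
      rw [Subgroup.mem_bot]
      by_contra hg1
      exact hs g hg1 α β (Ne.symm hβ) hg'.2 hg'.1
    rw [← Subgroup.inf_relIndex_right, h4, Subgroup.relIndex_bot_left] at h3
    exact h3.symm
  -- the map
  let φ : H → {g : G // g ∈ D} := fun h => ⟨h * x * (h : G)⁻¹, by
    refine Finset.mem_filter.2 ⟨Finset.mem_univ _, fun ω hω => ?_⟩
    apply hx ((h : G)⁻¹ • ω)
    rw [mul_smul, mul_smul] at hω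
    rw [eq_inv_smul_iff]
    exact hω⟩
  have hφ : Function.Injective φ := by
    intro a b hab
    have h1 : (a : G) * x * (a : G)⁻¹ = (b : G) * x * (b : G)⁻¹ := congrArg Subtype.val hab
    have h3 : ((b : G)⁻¹ * a) * x = x * ((b : G)⁻¹ * a) := by
      calc ((b : G)⁻¹ * a) * x = (b : G)⁻¹ * ((a : G) * x * (a : G)⁻¹) * a := by group
        _ = (b : G)⁻¹ * ((b : G) * x * (b : G)⁻¹) * a := by rw [h1]
        _ = x * ((b : G)⁻¹ * a) := by group
    have h4 : ((b : G)⁻¹ * a : G) • α = α := (H.mul_mem (H.inv_mem b.2) a.2)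
    have h5 : ((b : G)⁻¹ * a : G) • (x • α) = x • α := by
      rw [← mul_smul, h3, mul_smul, h4]
    by_contra hne'
    have h6 : ((b : G)⁻¹ * a : G) ≠ 1 := by
      intro h7
      apply hne'
      exact Subtype.ext (inv_mul_eq_one.1 h7).symm
    exact hs _ h6 α (x • α) (Ne.symm (hx α)) h4 h5
  have hcardeq : Nat.card {g : G // g ∈ D} = D.card := by
    rw [Nat.card_eq_fintype_card]
    simp
  have hbij := hφ.bijective_of_nat_card_le (by rw [hcardeq, hDcard, hHcard])
  obtain ⟨h, hh⟩ := hbij.2 ⟨y, Finset.mem_filter.2 ⟨Finset.mem_univ _, hy⟩⟩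
  have h1 : (h : G) * x * (h : G)⁻¹ = y := congrArg Subtype.val hh
  exact isConj_iff.2 ⟨h, h1⟩

/-- the abelian case -/
theorem ab_sharp [IsPretransitive G Ω] (hconj : ∀ x y : G, (∀ ω : Ω, x • ω ≠ ω) → (∀ ω : Ω, y • ω ≠ ω) → IsConj x y)
    (N : Subgroup G) (hN : N.Normal) (hNne : N ≠ ⊥) (htr : IsPretransitive N Ω)
    (hNab : ∀ a ∈ N, ∀ b ∈ N, a * b = b * a) :
    (∀ a b c d : Ω, a ≠ b → c ≠ d → ∃ g : G, g • a = c ∧ g • b = d) ∧
      (∀ g : G, g ≠ 1 → ∀ a b : Ω, a ≠ b → g • a = a → g • b ≠ b) := by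
  classical
  have hNtr : ∀ a b : Ω, ∃ n ∈ N, n • a = b := by
    intro a b
    obtain ⟨n, hn⟩ := htr.exists_smul_eq a b
    exact ⟨n, n.2, hn⟩
  have hreg : ∀ n ∈ N, ∀ ω : Ω, n • ω = ω → n = 1 := by
    intro n hn ω hω
    apply eq_one_of_forall_fix (Ω := Ω)
    intro y
    obtain ⟨m, hm, rfl⟩ := hNtr ω y
    rw [← mul_smul, hNab n hn m hm, mul_smul, hω]
  have hder : ∀ n ∈ N, n ≠ 1 → ∀ ω : Ω, n • ω ≠ ω := fun n hn hn1 ω h => hn1 (hreg n hn ω h)
  obtain ⟨n₀, hn₀, hn₀1⟩ := (Subgroup.bot_or_exists_ne_one N).resolve_left hNne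
  have hinN : ∀ y : G, (∀ ω : Ω, y • ω ≠ ω) → y ∈ N := by
    intro y hy
    obtain ⟨g, rfl⟩ := isConj_iff.1 (hconj n₀ y (hder n₀ hn₀ hn₀1) hy)
    exact hN.conj_mem n₀ hn₀ g
  have hstab : ∀ α β γ : Ω, β ≠ α → γ ≠ α → ∃ h : G, h • α = α ∧ h • β = γ := by
    intro α β γ hβ hγ
    obtain ⟨m, hm, rfl⟩ := hNtr α β
    obtain ⟨m', hm', rfl⟩ := hNtr α γ
    have hm1 : m ≠ 1 := by
      rintro rfl
      exact hβ (one_smul _ _)
    have hm'1 : m' ≠ 1 := by
      rintro rfl
      exact hγ (one_smul _ _)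
    obtain ⟨g, hg⟩ := isConj_iff.1 (hconj m m' (hder m hm hm1) (hder m' hm' hm'1))
    obtain ⟨n, hn, hnα⟩ := hNtr α (g • α)
    have hh : (n⁻¹ * g) • α = α := by
      rw [mul_smul, ← hnα, inv_smul_smul]
    refine ⟨n⁻¹ * g, hh, ?_⟩
    have e : (n⁻¹ * g) * m * (n⁻¹ * g)⁻¹ = m' := by
      have h3 : (n⁻¹ * g) * m * (n⁻¹ * g)⁻¹ = n⁻¹ * (g * m * g⁻¹) * n := by group
      rw [h3, hg, hNab n⁻¹ (N.inv_mem hn) m' hm']
      group
    rw [← e, mul_smul ((n⁻¹ * g) * m), mul_smul (n⁻¹ * g) m, inv_smul_eq_iff.2 hh.symm]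
  refine ⟨?_, ?_⟩
  · intro a b c d hab hcd
    obtain ⟨n, hn, hna⟩ := hNtr a c
    have hb : n • b ≠ c := by
      rw [← hna]
      exact fun h => hab (smul_left_cancel n h).symm
    obtain ⟨h, h1, h3⟩ := hstab c (n • b) d hb (Ne.symm hcd)
    exact ⟨h * n, by rw [mul_smul, hna, h1], by rw [mul_smul, h3]⟩
  · intro h hh1 a b hab ha hb
    obtain ⟨m, hm, rfl⟩ := hNtr a b
    have hm1 : m ≠ 1 := by
      rintro rfl
      exact hab (one_smul _ _).symm
    have hcm : h * m * h⁻¹ = m := by
      apply eq_of_smul_base (N := N) (α := a) (fun n hn h' => hreg n hn a h') (hN.conj_mem m hm h) hm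
      rw [mul_smul, mul_smul, inv_smul_eq_iff.2 ha.symm, hb]
    let θ : N → N := fun y => ⟨y * (h * (y : G)⁻¹ * h⁻¹),
      N.mul_mem y.2 (hN.conj_mem _ (N.inv_mem y.2) h)⟩
    have hθ : ¬ Function.Injective θ := by
      intro hinj
      have h1 : θ ⟨m, hm⟩ = θ 1 := by
        apply Subtype.ext
        change m * (h * m⁻¹ * h⁻¹) = 1 * (h * 1⁻¹ * h⁻¹)
        have h3 : h * m⁻¹ * h⁻¹ = m⁻¹ := by
          rw [← conj_inv, hcm]
        rw [h3]
        simp
      have h4 := hinj h1
      exact hm1 (congrArg Subtype.val h4)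
    have hθs : ¬ Function.Surjective θ := fun hs' => hθ (Finite.injective_iff_surjective.2 hs')
    rw [Function.Surjective] at hθs
    push Not at hθs
    obtain ⟨m₀, hm₀⟩ := hθs
    have hd : ∀ ω : Ω, ((m₀ : G) * h) • ω ≠ ω := by
      intro ω hω
      obtain ⟨y, hy, rfl⟩ := hNtr a ω
      apply hm₀ ⟨y, hy⟩
      apply Subtype.ext
      have h1 : ((m₀ : G) * (h * y * h⁻¹)) • a = y • a := by
        rw [← hω]
        simp only [mul_smul]
        rw [inv_smul_eq_iff.2 ha.symm]
      have h3 := eq_of_smul_base (N := N) (α := a) (fun n hn h' => hreg n hn a h')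
        (N.mul_mem m₀.2 (hN.conj_mem y hy h)) hy h1
      change y * (h * y⁻¹ * h⁻¹) = m₀
      calc y * (h * y⁻¹ * h⁻¹) = ((m₀ : G) * (h * y * h⁻¹)) * (h * y⁻¹ * h⁻¹) := by rw [h3]
        _ = m₀ := by group
    have h1 := hinN _ hd
    have h3 : h ∈ N := by
      have e : h = (m₀ : G)⁻¹ * ((m₀ : G) * h) := by group
      rw [e]
      exact N.mul_mem (N.inv_mem m₀.2) h1
    exact hh1 (hreg h h3 a ha)

/-- the non-abelian case -/
theorem nonab_false [IsPreprimitive G Ω]
    (hnas : ¬ ∃ T : Subgroup G, T.Normal ∧ IsSimpleGroup T ∧ ¬ IsMulCommutative T ∧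
      Subgroup.centralizer (T : Set G) = ⊥)
    (hconj : ∀ x y : G, (∀ ω : Ω, x • ω ≠ ω) → (∀ ω : Ω, y • ω ≠ ω) → IsConj x y)
    (hnt : Nontrivial Ω)
    (N : Subgroup G) (hN : N.Normal) (hNne : N ≠ ⊥)
    (hmin : ∀ X : Subgroup G, X.Normal → X ≤ N → X = ⊥ ∨ X = N)
    (hNab : ¬ ∀ a ∈ N, ∀ b ∈ N, a * b = b * a) : False := by
  classical
  have htr : IsPretransitive N Ω := normal_trans (X := Ω) N hNne
  obtain ⟨T, -, hT⟩ := exists_minSub hNne le_rfl (Subgroup.le_normalizer (H := N))
  have hTab : ¬ ∀ a ∈ T, ∀ b ∈ T, a * b = b * a := fun h => hNab (hT.comm_of_abelian hN hmin h)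
  -- semiregular is impossible
  have hP : (∀ t ∈ T, ∀ ω : Ω, t • ω = ω → t = 1) → False := by
    intro hsr
    have hcard : Nat.card T ≠ 1 := fun h => hT.ne (Subgroup.eq_bot_of_card_eq _ h)
    obtain ⟨p, hp, hpd⟩ := Nat.exists_prime_and_dvd hcard
    have hpF : Fact p.Prime := ⟨hp⟩
    obtain ⟨t₀, ht₀⟩ := exists_prime_orderOf_dvd_card' p hpd
    have ht₀' : orderOf (t₀ : G) = p := by rw [Subgroup.orderOf_coe]; exact ht₀
    have ht₀1 : (t₀ : G) ≠ 1 := by
      intro h
      rw [h, orderOf_one] at ht₀'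
      exact hp.ne_one ht₀'.symm
    apply not_isPGroup_minSub hT hTab (p := p)
    intro t
    refine ⟨1, ?_⟩
    apply Subtype.ext
    rw [pow_one]
    change (t : G) ^ p = 1
    by_cases ht1 : (t : G) = 1
    · rw [ht1, one_pow]
    · have h1 := hconj t₀ t (fun ω h => ht₀1 (hsr _ t₀.2 ω h)) (fun ω h => ht1 (hsr _ t.2 ω h))
      obtain ⟨g, hg⟩ := isConj_iff.1 h1
      rw [← hg, conj_pow]
      have : (t₀ : G) ^ p = 1 := by
        rw [← ht₀']
        exact pow_orderOf_eq_one _
      rw [this]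
      simp
  by_cases hTN : T = N
  · subst hTN
    have hs : IsSimpleGroup T := minSub_simple hT (fun m hm => ⟨m, hm, 1, T.one_mem, by simp, by simp⟩)
    have hC : Subgroup.centralizer (T : Set G) ≠ ⊥ := by
      intro hC
      apply hnas
      refine ⟨T, hN, hs, ?_, hC⟩
      intro hc
      apply hTab
      intro a ha b hb
      exact congrArg Subtype.val (hc.is_comm.comm ⟨a, ha⟩ ⟨b, hb⟩)
    have hCn : (Subgroup.centralizer (T : Set G)).Normal := inferInstance
    have htrC : IsPretransitive (Subgroup.centralizer (T : Set G)) Ω := normal_trans (X := Ω) _ hC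
    apply hP
    intro t ht ω hω
    apply eq_one_of_forall_fix (Ω := Ω)
    intro y
    obtain ⟨c, hc⟩ := htrC.exists_smul_eq ω y
    have hc' : (c : G) • ω = y := hc
    rw [← hc', ← mul_smul, Subgroup.mem_centralizer_iff.1 c.2 t ht, mul_smul, hω]
  · obtain ⟨g₀, hg₀⟩ : ∃ g : G, cj g T ≠ T := by
      by_contra hcon
      push Not at hcon
      have htop : Subgroup.normalizer (T : Set G) = ⊤ := by
        rw [eq_top_iff]
        intro g _
        exact mem_normalizer_of_cj_eq (hcon g)
      have hTn : T.Normal := Subgroup.normalizer_eq_top_iff.1 htop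
      rcases hmin T hTn hT.le with h | h
      · exact hT.ne h
      · exact hTN h
    by_cases hsr : ∀ t ∈ T, ∀ ω : Ω, t • ω = ω → t = 1
    · exact hP hsr
    push Not at hsr
    obtain ⟨r₀, hr₀, β, hβ, hr₀1⟩ := hsr
    have hNtr : ∀ a b : Ω, ∃ n ∈ N, n • a = b := by
      intro a b
      obtain ⟨n, hn⟩ := htr.exists_smul_eq a b
      exact ⟨n, n.2, hn⟩
    have hfac := minSub_factor hN hmin hT
    have hconjβ := exists_stab_cj hN hT htr β
    -- nontrivial intersection at each point
    have hRω : ∀ ω : Ω, T ⊓ stabilizer G ω ≠ ⊥ := by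
      intro ω hb
      obtain ⟨n, hn, rfl⟩ := hNtr β ω
      have h1 : n * r₀ * n⁻¹ ∈ T ⊓ stabilizer G (n • β) := by
        refine Subgroup.mem_inf.2 ⟨(Subgroup.le_normalizer_iff.1 hT.nrm) n hn r₀ hr₀, ?_⟩
        change (n * r₀ * n⁻¹) • n • β = n • β
        simp [mul_smul, hβ]
      rw [hb, Subgroup.mem_bot] at h1
      apply hr₀1
      have h2 : r₀ = n⁻¹ * (n * r₀ * n⁻¹) * n := by group
      rw [h2, h1]
      group
    -- `L_ω`
    have hNL : ∀ ω : Ω, Subgroup.normalizer
        ((⨆ g : G, cj g T ⊓ stabilizer G ω : Subgroup G) : Set G) = stabilizer G ω := by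
      intro ω
      let L : Subgroup G := ⨆ g : G, cj g T ⊓ stabilizer G ω
      have hLH : L ≤ stabilizer G ω := iSup_le fun g => inf_le_right
      have hLne : L ≠ ⊥ := by
        intro h
        apply hRω ω
        rw [eq_bot_iff, ← h]
        have h1 := le_iSup (fun g : G => cj g T ⊓ stabilizer G ω) 1
        simp only [cj_one] at h1
        exact h1
      have hnorm : stabilizer G ω ≤ Subgroup.normalizer (L : Set G) := by
        intro h hh
        apply mem_norm_iSup
        intro g x hx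
        have hx' := Subgroup.mem_inf.1 hx
        refine (le_iSup (fun g : G => cj g T ⊓ stabilizer G ω) (h * g)) (Subgroup.mem_inf.2 ⟨?_, ?_⟩)
        · rw [cj_mul]
          exact conj_mem_cj hx'.1
        · exact Subgroup.mul_mem _ (Subgroup.mul_mem _ hh hx'.2) (Subgroup.inv_mem _ hh)
      have hcoat : IsCoatom (stabilizer G ω) := IsPreprimitive.isCoatom_stabilizer_of_isPreprimitive G ω
      rcases (hcoat.le_iff).1 hnorm with h | h
      · exfalso
        have hLn : L.Normal := Subgroup.normalizer_eq_top_iff.1 h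
        exact hLne (eq_bot_of_normal_le_stab ω hLn hLH)
      · exact h
    -- a derangement in `T`
    have hRne : (T ⊓ stabilizer G β).subgroupOf T ≠ ⊤ := by
      intro htop
      have hTβ : T ≤ stabilizer G β := by
        intro t ht
        have h1 : (⟨t, ht⟩ : T) ∈ (T ⊓ stabilizer G β).subgroupOf T := by rw [htop]; trivial
        exact (Subgroup.mem_inf.1 h1).2
      have hall : ∀ g : G, cj g T ≤ stabilizer G β := by
        intro g
        obtain ⟨h, hh, e⟩ := hconjβ g
        rw [e]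
        rintro _ ⟨t, ht, rfl⟩
        exact Subgroup.mul_mem _ (Subgroup.mul_mem _ hh (hTβ ht)) (Subgroup.inv_mem _ hh)
      have hNH := le_of_forall_cj_le hT.ne hT.le hN hmin hall
      exact hNne (eq_bot_of_normal_le_stab β hN hNH)
    obtain ⟨x', hx'⟩ := H17.exists_not_mem_conj _ hRne
    have hxT : (x' : G) ∈ T := x'.2
    set x : G := (x' : G) with hxdef
    have hxder : ∀ ω : Ω, x • ω ≠ ω := by
      intro ω hω
      obtain ⟨n, hn, rfl⟩ := hNtr β ω
      obtain ⟨u, hu, w, -, hwc, rfl⟩ := hfac n hn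
      apply hx' ⟨u, hu⟩
      rw [Subgroup.mem_subgroupOf]
      refine Subgroup.mem_inf.2 ⟨?_, ?_⟩
      · exact T.mul_mem (T.mul_mem (T.inv_mem hu) hxT) hu
      · change (u⁻¹ * x * u) • β = β
        have e : u⁻¹ * x * u = (u * w)⁻¹ * x * (u * w) := by
          have h1 := hwc x hxT
          calc u⁻¹ * x * u = w⁻¹ * (w * (u⁻¹ * x * u)) := by group
            _ = w⁻¹ * ((u⁻¹ * x * u) * w) := by
              rw [hwc _ (T.mul_mem (T.mul_mem (T.inv_mem hu) hxT) hu)]
            _ = (u * w)⁻¹ * x * (u * w) := by group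
        rw [e, mul_smul, mul_smul, hω, inv_smul_smul]
    have hx1 : x ≠ 1 := by
      intro h
      obtain ⟨ω⟩ : Nonempty Ω := ⟨β⟩
      apply hxder ω
      rw [h, one_smul]
    have hT₂ := hT.conj hN g₀
    obtain ⟨u₂, hu₂, hu₂1⟩ := (Subgroup.bot_or_exists_ne_one _).resolve_left hT₂.ne
    have hcommT : ∀ t ∈ T, t * u₂ = u₂ * t := fun t ht => hT.comm hT₂ (Ne.symm hg₀) ht hu₂
    have hwder : ∀ ω : Ω, (x * u₂) • ω ≠ ω := by
      intro ω hω
      apply hxder ω
      have hmem : x ∈ Subgroup.normalizer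
          ((⨆ g : G, cj g T ⊓ stabilizer G ω : Subgroup G) : Set G) := by
        apply mem_norm_iSup
        intro g r hr
        have hr' := Subgroup.mem_inf.1 hr
        have hTg := hT.conj hN g
        by_cases e : cj g T = T
        · have hrT : r ∈ T := e ▸ hr'.1
          refine (le_iSup (fun g : G => cj g T ⊓ stabilizer G ω) g) (Subgroup.mem_inf.2 ⟨?_, ?_⟩)
          · rw [e]
            exact T.mul_mem (T.mul_mem hxT hrT) (T.inv_mem hxT)
          · have e2 : x * r * x⁻¹ = (x * u₂) * r * (x * u₂)⁻¹ := by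
              have h1 := hcommT r hrT
              calc x * r * x⁻¹ = x * (u₂ * (r * u₂⁻¹)) * x⁻¹ := by
                    congr 2
                    calc r = (r * u₂) * u₂⁻¹ := by group
                      _ = (u₂ * r) * u₂⁻¹ := by rw [h1]
                      _ = u₂ * (r * u₂⁻¹) := by group
                _ = (x * u₂) * r * (x * u₂)⁻¹ := by group
            rw [e2]
            exact Subgroup.mul_mem _ (Subgroup.mul_mem _ hω hr'.2) (Subgroup.inv_mem _ hω)
        · have h1 : x * r = r * x := hT.comm hTg (Ne.symm e) hxT hr'.1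
          rw [h1]
          simpa using (le_iSup (fun g : G => cj g T ⊓ stabilizer G ω) g) hr
      rw [hNL ω] at hmem
      exact hmem
    obtain ⟨g, hg⟩ := isConj_iff.1 (hconj x (x * u₂) hxder hwder)
    have hwT₃ : x * u₂ ∈ cj g T := by
      rw [← hg]
      exact conj_mem_cj hxT
    by_cases e : cj g T = T
    · rw [e] at hwT₃
      have h1 : u₂ ∈ T := by
        have e2 : u₂ = x⁻¹ * (x * u₂) := by group
        rw [e2]
        exact T.mul_mem (T.inv_mem hxT) hwT₃
      have h2 : u₂ ∈ T ⊓ cj g₀ T := Subgroup.mem_inf.2 ⟨h1, hu₂⟩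
      rw [hT.inf_eq_bot hT₂ (Ne.symm hg₀), Subgroup.mem_bot] at h2
      exact hu₂1 h2
    · apply hx1
      apply hT.center_trivial hTab hxT
      intro t ht
      have hTg := hT.conj hN g
      have h1 : t * (x * u₂) = (x * u₂) * t := hT.comm hTg (Ne.symm e) ht hwT₃
      have h2 : t * u₂ = u₂ * t := hcommT t ht
      have h3 : (t * x) * u₂ = (x * t) * u₂ := by
        calc (t * x) * u₂ = t * (x * u₂) := by group
          _ = (x * u₂) * t := h1
          _ = x * (u₂ * t) := by group
          _ = x * (t * u₂) := by rw [h2]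
          _ = (x * t) * u₂ := by group
      exact (mul_right_cancel h3).symm

end Sharp

/-- Let a finite group G act faithfully and primitively on a finite set Ω with at least two points, and suppose G is not almost simple (it has no non-abelian simple normal subgroup with trivial centralizer). Then the derangements of G form a single conjugacy class if and only if G is sharply 2-transitive (2-transitive, and no non-identity element fixes two points). -/
theorem result {G : Type*} [Group G] [Finite G] {Ω : Type*} [Fintype Ω] [MulAction G Ω] [FaithfulSMul G Ω] (hΩ : 2 ≤ Fintype.card Ω) (hprim : MulAction.IsPreprimitive G Ω) (hnas : ¬ ∃ T : Subgroup G, T.Normal ∧ IsSimpleGroup T ∧ ¬ IsMulCommutative T ∧ Subgroup.centralizer (T : Set G) = ⊥) :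
    Nat.card {c : ConjClasses G // ∃ g : G, ConjClasses.mk g = c ∧ ∀ ω : Ω, g • ω ≠ ω} = 1 ↔ (MulAction.IsMultiplyPretransitive G Ω 2 ∧ ∀ g : G, g ≠ 1 → ∀ a b : Ω, a ≠ b → g • a = a → g • b ≠ b) := by
  classical
  have hiff : (∀ x y : G, (∀ ω : Ω, x • ω ≠ ω) → (∀ ω : Ω, y • ω ≠ ω) → IsConj x y) →
      (MulAction.IsMultiplyPretransitive G Ω 2 ∧ ∀ g : G, g ≠ 1 → ∀ a b : Ω, a ≠ b → g • a = a → g • b ≠ b) := by
    intro hconj
    have hpret : MulAction.IsPretransitive G Ω := hprim.toIsPretransitive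
    have hnt : Nontrivial Ω := Fintype.one_lt_card_iff_nontrivial.1 (by omega)
    have hnG : Nontrivial G := by
      by_contra hcon
      rw [not_nontrivial_iff_subsingleton] at hcon
      obtain ⟨a, b, hab⟩ := exists_pair_ne Ω
      obtain ⟨g, hg⟩ := MulAction.exists_smul_eq G a b
      rw [Subsingleton.elim g 1, one_smul] at hg
      exact hab hg
    obtain ⟨N, hNn, hNne, hmin⟩ := Cfsg.Agent.H01.exists_minimal_normal (G := G)
    by_cases hNab : ∀ a ∈ N, ∀ b ∈ N, a * b = b * a
    · have htr : MulAction.IsPretransitive N Ω := by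
        haveI := hprim
        exact H16.normal_trans (X := Ω) N hNne
      obtain ⟨h1, h2⟩ := ab_sharp hconj N hNn hNne htr hNab
      refine ⟨MulAction.is_two_pretransitive_iff.2 (fun {a b c d} h h' => h1 a b c d h h'), h2⟩
    · haveI := hprim
      exact (nonab_false hnas hconj hnt N hNn hNne hmin hNab).elim
  constructor
  · intro hcard
    obtain ⟨hsub, -⟩ := Nat.card_eq_one_iff_unique.1 hcard
    apply hiff
    intro x y hx hy
    have h1 := hsub.elim ⟨ConjClasses.mk x, x, rfl, hx⟩ ⟨ConjClasses.mk y, y, rfl, hy⟩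
    have h2 : ConjClasses.mk x = ConjClasses.mk y := congrArg Subtype.val h1
    exact ConjClasses.mk_eq_mk_iff_isConj.1 h2
  · rintro ⟨h2, hs⟩
    have h2' : ∀ a b c d : Ω, a ≠ b → c ≠ d → ∃ g : G, g • a = c ∧ g • b = d :=
      fun a b c d h h' => MulAction.is_two_pretransitive_iff.1 h2 h h'
    have hpret : MulAction.IsPretransitive G Ω := hprim.toIsPretransitive
    rw [Nat.card_eq_one_iff_unique]
    refine ⟨⟨?_⟩, ?_⟩
    · rintro ⟨c, x, rfl, hx⟩ ⟨d, y, rfl, hy⟩
      apply Subtype.ext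
      exact ConjClasses.mk_eq_mk_iff_isConj.2 (sharp_conj h2' hs hΩ hx hy)
    · obtain ⟨x, hx⟩ := Cfsg.Agent.H17.exists_fpf (G := G) (X := Ω) (by rwa [Nat.card_eq_fintype_card])
      exact ⟨⟨ConjClasses.mk x, x, rfl, hx⟩⟩

end Cfsg.Agent.S3501
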