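import Cfsg.Statements.S3520
import Cfsg.Agent.S3501
import Cfsg.Agent.Lib.Lead.Burnside

set_option autoImplicit false
open Cfsg

namespace Cfsg.Agent.S3520

open MulAction Cfsg.Agent.H16

section Kappa

variable {G Ω : Type*} [Group G] [Finite G] [MulAction G Ω] [FaithfulSMul G Ω]

omit [Finite G] [MulAction G Ω] [FaithfulSMul G Ω] in
theorem orderOf_eq_of_isConj' {a b : G} (h : IsConj a b) : orderOf a = orderOf b := by
  obtain ⟨g, rfl⟩ := isConj_iff.1 h
  have := (MulAut.conj g).orderOf_eq a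
  simpa only [MulAut.conj_apply] using this.symm

omit [MulAction G Ω] [FaithfulSMul G Ω] in
theorem exists_three_primes [IsSimpleGroup G] (hnc : ¬ ∀ a b : G, a * b = b * a) :
    ∃ p q r : ℕ, p.Prime ∧ q.Prime ∧ r.Prime ∧ p ≠ q ∧ p ≠ r ∧ q ≠ r ∧
      p ∣ Nat.card G ∧ q ∣ Nat.card G ∧ r ∣ Nat.card G := by
  classical
  by_contra hcon
  push Not at hcon
  have hsolv : Group.IsSolvable G → False := by
    intro hs
    exact hnc (IsSimpleGroup.comm_iff_isSolvable.2 hs)
  apply hsolv
  have hne : Nat.card G ≠ 0 := Nat.card_pos.ne'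
  have hnt : Nat.card G ≠ 1 := by
    intro h1
    obtain ⟨a, b, hab⟩ := (IsSimpleGroup.toNontrivial : Nontrivial G).exists_pair_ne
    have hs := (Nat.card_eq_one_iff_unique.1 h1).1
    exact hab (Subsingleton.elim a b)
  obtain ⟨p, hp, hpd⟩ := Nat.exists_prime_and_dvd hnt
  by_cases h2 : ∃ q : ℕ, q.Prime ∧ q ∣ Nat.card G ∧ q ≠ p
  · obtain ⟨q, hq, hqd, hqp⟩ := h2
    have hP : (Nat.card G).primeFactors = {p, q} := by
      ext r
      simp only [Nat.mem_primeFactors, Finset.mem_insert, Finset.mem_singleton]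
      constructor
      · rintro ⟨hr, hrd, -⟩
        by_contra hcon2
        push Not at hcon2
        have h3 := hcon p q r hp hq hr (Ne.symm hqp) (Ne.symm hcon2.1) (Ne.symm hcon2.2) hpd hqd
        exact h3 hrd
      · rintro (rfl | rfl)
        · exact ⟨hp, hpd, hne⟩
        · exact ⟨hq, hqd, hne⟩
    have h4 := Nat.prod_factorization_pow_eq_self hne
    rw [Finsupp.prod, Nat.support_factorization, hP, Finset.prod_pair (Ne.symm hqp)] at h4
    exact Cfsg.Agent.Lead.burnside_two_prime p q _ _ hp hq h4.symm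
  · push Not at h2
    have h4 : Nat.card G = p ^ (Nat.card G).primeFactorsList.length * 2 ^ 0 := by
      rw [pow_zero, mul_one]
      exact Nat.eq_prime_pow_of_unique_prime_dvd hne fun {d} hd hdd => h2 d hd hdd
    exact Cfsg.Agent.Lead.burnside_two_prime p 2 _ _ hp Nat.prime_two h4

/-- the non-abelian case -/
theorem nonab_false2 [IsPreprimitive G Ω]
    (hnas : ¬ ∃ T : Subgroup G, T.Normal ∧ IsSimpleGroup T ∧ ¬ IsMulCommutative T ∧
      Subgroup.centralizer (T : Set G) = ⊥)
    (h3 : ∀ x y z : G, (∀ ω : Ω, x • ω ≠ ω) → (∀ ω : Ω, y • ω ≠ ω) → (∀ ω : Ω, z • ω ≠ ω) →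
      IsConj x y ∨ IsConj y z ∨ IsConj x z)
    (hnt : Nontrivial Ω)
    (N : Subgroup G) (hN : N.Normal) (hNne : N ≠ ⊥)
    (hmin : ∀ X : Subgroup G, X.Normal → X ≤ N → X = ⊥ ∨ X = N)
    (hNab : ¬ ∀ a ∈ N, ∀ b ∈ N, a * b = b * a) : False := by
  classical
  have htr : IsPretransitive N Ω := normal_trans (X := Ω) N hNne
  obtain ⟨T, -, hT⟩ := exists_minSub hNne le_rfl (Subgroup.le_normalizer (H := N))
  have hTab : ¬ ∀ a ∈ T, ∀ b ∈ T, a * b = b * a := fun h => hNab (hT.comm_of_abelian hN hmin h)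
  have hfac := minSub_factor hN hmin hT
  have hs : IsSimpleGroup T := minSub_simple hT hfac
  have hTab' : ¬ ∀ a b : T, a * b = b * a := by
    intro h
    apply hTab
    intro a ha b hb
    exact congrArg Subtype.val (h ⟨a, ha⟩ ⟨b, hb⟩)
  obtain ⟨p₁, p₂, p₃, hp₁, hp₂, hp₃, h12, h13, h23, hd₁, hd₂, hd₃⟩ := exists_three_primes hTab'
  have hprimeelt : ∀ p : ℕ, p.Prime → p ∣ Nat.card T → ∃ t ∈ T, orderOf t = p := by
    intro p hp hd
    have hpF : Fact p.Prime := ⟨hp⟩
    obtain ⟨t, ht⟩ := exists_prime_orderOf_dvd_card' p hd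
    exact ⟨t, t.2, by rw [Subgroup.orderOf_coe]; exact ht⟩
  obtain ⟨t₁, ht₁, ho₁⟩ := hprimeelt p₁ hp₁ hd₁
  obtain ⟨t₂, ht₂, ho₂⟩ := hprimeelt p₂ hp₂ hd₂
  obtain ⟨t₃, ht₃, ho₃⟩ := hprimeelt p₃ hp₃ hd₃
  have hne1 : ∀ (t : G) (p : ℕ), p.Prime → orderOf t = p → t ≠ 1 := by
    intro t p hp ho h
    rw [h, orderOf_one] at ho
    exact hp.ne_one ho.symm
  -- semiregular is impossible
  have hP : (∀ t ∈ T, ∀ ω : Ω, t • ω = ω → t = 1) → False := by
    intro hsr
    have h := h3 t₁ t₂ t₃ (fun ω h => hne1 t₁ p₁ hp₁ ho₁ (hsr _ ht₁ ω h))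
      (fun ω h => hne1 t₂ p₂ hp₂ ho₂ (hsr _ ht₂ ω h)) (fun ω h => hne1 t₃ p₃ hp₃ ho₃ (hsr _ ht₃ ω h))
    rcases h with h | h | h
    · exact h12 (by rw [← ho₁, ← ho₂]; exact orderOf_eq_of_isConj' h)
    · exact h23 (by rw [← ho₂, ← ho₃]; exact orderOf_eq_of_isConj' h)
    · exact h13 (by rw [← ho₁, ← ho₃]; exact orderOf_eq_of_isConj' h)
  by_cases hTN : T = N
  · subst hTN
    have hC : Subgroup.centralizer (T : Set G) ≠ ⊥ := by
      intro hC
      apply hnas
      refine ⟨T, hN, hs, ?_, hC⟩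
      intro hc
      apply hTab
      intro a ha b hb
      exact congrArg Subtype.val (hc.is_comm.comm ⟨a, ha⟩ ⟨b, hb⟩)
    have hCn : (Subgroup.centralizer (T : Set G)).Normal := inferInstance
    have htrC : IsPretransitive (Subgroup.centralizer (T : Set G)) Ω := normal_trans (X := Ω) _ hC
    apply hP
    intro t ht ω hω
    apply eq_one_of_forall_fix (Ω := Ω)
    intro y
    obtain ⟨c, hc⟩ := htrC.exists_smul_eq ω y
    have hc' : (c : G) • ω = y := hc
    rw [← hc', ← mul_smul, Subgroup.mem_centralizer_iff.1 c.2 t ht, mul_smul, hω]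
  · obtain ⟨g₀, hg₀⟩ : ∃ g : G, cj g T ≠ T := by
      by_contra hcon
      push Not at hcon
      have htop : Subgroup.normalizer (T : Set G) = ⊤ := by
        rw [eq_top_iff]
        intro g _
        exact mem_normalizer_of_cj_eq (hcon g)
      have hTn : T.Normal := Subgroup.normalizer_eq_top_iff.1 htop
      rcases hmin T hTn hT.le with h | h
      · exact hT.ne h
      · exact hTN h
    by_cases hsr : ∀ t ∈ T, ∀ ω : Ω, t • ω = ω → t = 1
    · exact hP hsr
    push Not at hsr
    obtain ⟨r₀, hr₀, β, hβ, hr₀1⟩ := hsr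
    have hNtr : ∀ a b : Ω, ∃ n ∈ N, n • a = b := by
      intro a b
      obtain ⟨n, hn⟩ := htr.exists_smul_eq a b
      exact ⟨n, n.2, hn⟩
    have hconjβ := exists_stab_cj hN hT htr β
    -- nontrivial intersection at each point
    have hRω : ∀ ω : Ω, T ⊓ stabilizer G ω ≠ ⊥ := by
      intro ω hb
      obtain ⟨n, hn, rfl⟩ := hNtr β ω
      have h1 : n * r₀ * n⁻¹ ∈ T ⊓ stabilizer G (n • β) := by
        refine Subgroup.mem_inf.2 ⟨(Subgroup.le_normalizer_iff.1 hT.nrm) n hn r₀ hr₀, ?_⟩
        change (n * r₀ * n⁻¹) • n • β = n • β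
        simp [mul_smul, hβ]
      rw [hb, Subgroup.mem_bot] at h1
      apply hr₀1
      have h2 : r₀ = n⁻¹ * (n * r₀ * n⁻¹) * n := by group
      rw [h2, h1]
      group
    -- `L_ω`
    have hNL : ∀ ω : Ω, Subgroup.normalizer
        ((⨆ g : G, cj g T ⊓ stabilizer G ω : Subgroup G) : Set G) = stabilizer G ω := by
      intro ω
      let L : Subgroup G := ⨆ g : G, cj g T ⊓ stabilizer G ω
      have hLH : L ≤ stabilizer G ω := iSup_le fun g => inf_le_right
      have hLne : L ≠ ⊥ := by
        intro h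
        apply hRω ω
        rw [eq_bot_iff, ← h]
        have h1 := le_iSup (fun g : G => cj g T ⊓ stabilizer G ω) 1
        simp only [cj_one] at h1
        exact h1
      have hnorm : stabilizer G ω ≤ Subgroup.normalizer (L : Set G) := by
        intro h hh
        apply mem_norm_iSup
        intro g x hx
        have hx' := Subgroup.mem_inf.1 hx
        refine (le_iSup (fun g : G => cj g T ⊓ stabilizer G ω) (h * g)) (Subgroup.mem_inf.2 ⟨?_, ?_⟩)
        · rw [cj_mul]
          exact conj_mem_cj hx'.1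
        · exact Subgroup.mul_mem _ (Subgroup.mul_mem _ hh hx'.2) (Subgroup.inv_mem _ hh)
      have hcoat : IsCoatom (stabilizer G ω) := IsPreprimitive.isCoatom_stabilizer_of_isPreprimitive G ω
      rcases (hcoat.le_iff).1 hnorm with h | h
      · exfalso
        have hLn : L.Normal := Subgroup.normalizer_eq_top_iff.1 h
        exact hLne (eq_bot_of_normal_le_stab ω hLn hLH)
      · exact h
    -- a derangement in `T`
    have hRne : (T ⊓ stabilizer G β).subgroupOf T ≠ ⊤ := by
      intro htop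
      have hTβ : T ≤ stabilizer G β := by
        intro t ht
        have h1 : (⟨t, ht⟩ : T) ∈ (T ⊓ stabilizer G β).subgroupOf T := by rw [htop]; trivial
        exact (Subgroup.mem_inf.1 h1).2
      have hall : ∀ g : G, cj g T ≤ stabilizer G β := by
        intro g
        obtain ⟨h, hh, e⟩ := hconjβ g
        rw [e]
        rintro _ ⟨t, ht, rfl⟩
        exact Subgroup.mul_mem _ (Subgroup.mul_mem _ hh (hTβ ht)) (Subgroup.inv_mem _ hh)
      have hNH := le_of_forall_cj_le hT.ne hT.le hN hmin hall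
      exact hNne (eq_bot_of_normal_le_stab β hN hNH)
    obtain ⟨x', hx'⟩ := H17.exists_not_mem_conj _ hRne
    have hxT : (x' : G) ∈ T := x'.2
    set x : G := (x' : G) with hxdef
    have hxder : ∀ ω : Ω, x • ω ≠ ω := by
      intro ω hω
      obtain ⟨n, hn, rfl⟩ := hNtr β ω
      obtain ⟨u, hu, w, -, hwc, rfl⟩ := hfac n hn
      apply hx' ⟨u, hu⟩
      rw [Subgroup.mem_subgroupOf]
      refine Subgroup.mem_inf.2 ⟨?_, ?_⟩
      · exact T.mul_mem (T.mul_mem (T.inv_mem hu) hxT) hu
      · change (u⁻¹ * x * u) • β = β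
        have e : u⁻¹ * x * u = (u * w)⁻¹ * x * (u * w) := by
          calc u⁻¹ * x * u = w⁻¹ * (w * (u⁻¹ * x * u)) := by group
            _ = w⁻¹ * ((u⁻¹ * x * u) * w) := by
              rw [hwc _ (T.mul_mem (T.mul_mem (T.inv_mem hu) hxT) hu)]
            _ = (u * w)⁻¹ * x * (u * w) := by group
        rw [e, mul_smul, mul_smul, hω, inv_smul_smul]
    have hx1 : x ≠ 1 := by
      intro h
      apply hxder β
      rw [h, one_smul]
    have hT₂ := hT.conj hN g₀
    have hTab₂ : ¬ ∀ a ∈ cj g₀ T, ∀ b ∈ cj g₀ T, a * b = b * a := by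
      intro h
      apply hTab
      intro a ha b hb
      have h1 := h _ (conj_mem_cj (g := g₀) ha) _ (conj_mem_cj (g := g₀) hb)
      have h2 : g₀ * (a * b) * g₀⁻¹ = g₀ * (b * a) * g₀⁻¹ := by
        calc g₀ * (a * b) * g₀⁻¹ = (g₀ * a * g₀⁻¹) * (g₀ * b * g₀⁻¹) := by group
          _ = (g₀ * b * g₀⁻¹) * (g₀ * a * g₀⁻¹) := h1
          _ = g₀ * (b * a) * g₀⁻¹ := by group
      exact mul_left_cancel (mul_right_cancel h2)
    have hwder : ∀ u₂ ∈ cj g₀ T, ∀ ω : Ω, (x * u₂) • ω ≠ ω := by
      intro u₂ hu₂ ω hω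
      have hcommT : ∀ t ∈ T, t * u₂ = u₂ * t := fun t ht => hT.comm hT₂ (Ne.symm hg₀) ht hu₂
      apply hxder ω
      have hmem : x ∈ Subgroup.normalizer
          ((⨆ g : G, cj g T ⊓ stabilizer G ω : Subgroup G) : Set G) := by
        apply mem_norm_iSup
        intro g r hr
        have hr' := Subgroup.mem_inf.1 hr
        have hTg := hT.conj hN g
        by_cases e : cj g T = T
        · have hrT : r ∈ T := e ▸ hr'.1
          refine (le_iSup (fun g : G => cj g T ⊓ stabilizer G ω) g) (Subgroup.mem_inf.2 ⟨?_, ?_⟩)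
          · rw [e]
            exact T.mul_mem (T.mul_mem hxT hrT) (T.inv_mem hxT)
          · have e2 : x * r * x⁻¹ = (x * u₂) * r * (x * u₂)⁻¹ := by
              have h1 := hcommT r hrT
              calc x * r * x⁻¹ = x * (u₂ * (r * u₂⁻¹)) * x⁻¹ := by
                    congr 2
                    calc r = (r * u₂) * u₂⁻¹ := by group
                      _ = (u₂ * r) * u₂⁻¹ := by rw [h1]
                      _ = u₂ * (r * u₂⁻¹) := by group
                _ = (x * u₂) * r * (x * u₂)⁻¹ := by group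
            rw [e2]
            exact Subgroup.mul_mem _ (Subgroup.mul_mem _ hω hr'.2) (Subgroup.inv_mem _ hω)
        · have h1 : x * r = r * x := hT.comm hTg (Ne.symm e) hxT hr'.1
          rw [h1]
          simpa using (le_iSup (fun g : G => cj g T ⊓ stabilizer G ω) g) hr
      rw [hNL ω] at hmem
      exact hmem
    have hnotconj : ∀ u₂ ∈ cj g₀ T, u₂ ≠ 1 → ¬ IsConj x (x * u₂) := by
      intro u₂ hu₂ hu₂1 hc
      have hcommT : ∀ t ∈ T, t * u₂ = u₂ * t := fun t ht => hT.comm hT₂ (Ne.symm hg₀) ht hu₂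
      obtain ⟨g, hg⟩ := isConj_iff.1 hc
      have hwT₃ : x * u₂ ∈ cj g T := by
        rw [← hg]
        exact conj_mem_cj hxT
      by_cases e : cj g T = T
      · rw [e] at hwT₃
        have h1 : u₂ ∈ T := by
          have e2 : u₂ = x⁻¹ * (x * u₂) := by group
          rw [e2]
          exact T.mul_mem (T.inv_mem hxT) hwT₃
        have h2 : u₂ ∈ T ⊓ cj g₀ T := Subgroup.mem_inf.2 ⟨h1, hu₂⟩
        rw [hT.inf_eq_bot hT₂ (Ne.symm hg₀), Subgroup.mem_bot] at h2
        exact hu₂1 h2
      · apply hx1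
        apply hT.center_trivial hTab hxT
        intro t ht
        have hTg := hT.conj hN g
        have h1 : t * (x * u₂) = (x * u₂) * t := hT.comm hTg (Ne.symm e) ht hwT₃
        have h2 : t * u₂ = u₂ * t := hcommT t ht
        have h3' : (t * x) * u₂ = (x * t) * u₂ := by
          calc (t * x) * u₂ = t * (x * u₂) := by group
            _ = (x * u₂) * t := h1
            _ = x * (u₂ * t) := by group
            _ = x * (t * u₂) := by rw [h2]
            _ = (x * t) * u₂ := by group
        exact (mul_right_cancel h3').symm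
    -- two primes different from the order of `x`
    obtain ⟨q₁, q₂, s₁, s₂, hq₁, hq₂, hs₁, hs₂, hqo₁, hqo₂, hq12, hqx₁, hqx₂⟩ :
        ∃ (q₁ q₂ : ℕ) (s₁ s₂ : G), q₁.Prime ∧ q₂.Prime ∧ s₁ ∈ T ∧ s₂ ∈ T ∧ orderOf s₁ = q₁ ∧
          orderOf s₂ = q₂ ∧ q₁ ≠ q₂ ∧ q₁ ≠ orderOf x ∧ q₂ ≠ orderOf x := by
      by_cases e1 : p₁ = orderOf x
      · exact ⟨p₂, p₃, t₂, t₃, hp₂, hp₃, ht₂, ht₃, ho₂, ho₃, h23, fun h => h12 (e1.trans h.symm),
          fun h => h13 (e1.trans h.symm)⟩
      · by_cases e2 : p₂ = orderOf x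
        · exact ⟨p₁, p₃, t₁, t₃, hp₁, hp₃, ht₁, ht₃, ho₁, ho₃, h13, e1,
            fun h => h23 (e2.trans h.symm)⟩
        · exact ⟨p₁, p₂, t₁, t₂, hp₁, hp₂, ht₁, ht₂, ho₁, ho₂, h12, e1, e2⟩
    have horder_conj : ∀ (g a : G), orderOf (g * a * g⁻¹) = orderOf a := by
      intro g a
      have := (MulAut.conj g).orderOf_eq a
      simpa only [MulAut.conj_apply] using this
    set u₁ := g₀ * s₁ * g₀⁻¹ with hu₁def
    set u₂ := g₀ * s₂ * g₀⁻¹ with hu₂def
    have hu₁ : u₁ ∈ cj g₀ T := conj_mem_cj hs₁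
    have hu₂ : u₂ ∈ cj g₀ T := conj_mem_cj hs₂
    have hou₁ : orderOf u₁ = q₁ := by rw [hu₁def, horder_conj, hqo₁]
    have hou₂ : orderOf u₂ = q₂ := by rw [hu₂def, horder_conj, hqo₂]
    have hu₁1 : u₁ ≠ 1 := hne1 u₁ q₁ hq₁ hou₁
    have hu₂1 : u₂ ≠ 1 := hne1 u₂ q₂ hq₂ hou₂
    have hmain := h3 x (x * u₁) (x * u₂) hxder (hwder u₁ hu₁) (hwder u₂ hu₂)
    rcases hmain with h | h | h
    · exact hnotconj u₁ hu₁ hu₁1 h
    · obtain ⟨g, hg⟩ := isConj_iff.1 h
      -- the decomposition
      set a := g * x * g⁻¹ with hadef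
      set b := g * u₁ * g⁻¹ with hbdef
      have hab : a * b = x * u₂ := by
        rw [← hg, hadef, hbdef]
        group
      have ha : a ∈ cj g T := conj_mem_cj hxT
      have hb : b ∈ cj (g * g₀) T := by
        rw [cj_mul]
        exact conj_mem_cj hu₁
      have hT₃ := hT.conj hN g
      have hT₄ := hT.conj hN (g * g₀)
      have hcjinj : cj g T ≠ cj (g * g₀) T := by
        rw [cj_mul]
        intro h'
        have := congrArg (cj g⁻¹) h'
        rw [cj_inv_cj, cj_inv_cj] at this
        exact hg₀ this.symm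
      have hcomm12 : ∀ v ∈ T, v * u₂ = u₂ * v := fun v hv => hT.comm hT₂ (Ne.symm hg₀) hv hu₂
      have hA : cj g T = T ∨ cj (g * g₀) T = T := by
        by_contra hcon
        push Not at hcon
        apply hx1
        apply hT.center_trivial hTab hxT
        intro t ht
        have c1 := hT.comm hT₃ (Ne.symm hcon.1) ht ha
        have c2 := hT.comm hT₄ (Ne.symm hcon.2) ht hb
        have c3 := hcomm12 t ht
        have c4 : t * (x * u₂) = (x * u₂) * t := by
          rw [← hab]
          calc t * (a * b) = (t * a) * b := by group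
            _ = (a * t) * b := by rw [c1]
            _ = a * (t * b) := by group
            _ = a * (b * t) := by rw [c2]
            _ = a * b * t := by group
        have c5 : (t * x) * u₂ = (x * t) * u₂ := by
          calc (t * x) * u₂ = t * (x * u₂) := by group
            _ = (x * u₂) * t := c4
            _ = x * (u₂ * t) := by group
            _ = x * (t * u₂) := by rw [c3]
            _ = (x * t) * u₂ := by group
        exact (mul_right_cancel c5).symm
      have hB : cj g T = cj g₀ T ∨ cj (g * g₀) T = cj g₀ T := by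
        by_contra hcon
        push Not at hcon
        apply hu₂1
        apply hT₂.center_trivial hTab₂ hu₂
        intro t ht
        have c1 := hT₂.comm hT₃ (Ne.symm hcon.1) ht ha
        have c2 := hT₂.comm hT₄ (Ne.symm hcon.2) ht hb
        have c3 : t * x = x * t := (hT.comm hT₂ (Ne.symm hg₀) hxT ht).symm
        have c4 : t * (x * u₂) = (x * u₂) * t := by
          rw [← hab]
          calc t * (a * b) = (t * a) * b := by group
            _ = (a * t) * b := by rw [c1]
            _ = a * (t * b) := by group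
            _ = a * (b * t) := by rw [c2]
            _ = a * b * t := by group
        have c5 : x * (u₂ * t) = x * (t * u₂) := by
          calc x * (u₂ * t) = (x * u₂) * t := by group
            _ = t * (x * u₂) := c4.symm
            _ = (t * x) * u₂ := by group
            _ = (x * t) * u₂ := by rw [c3]
            _ = x * (t * u₂) := by group
        exact (mul_left_cancel c5)
      have hfinal : ∀ (c d : G), c ∈ T → d ∈ cj g₀ T → c * d = x * u₂ → c = x ∧ d = u₂ := by
        intro c d hc hd hcd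
        have h1 : x⁻¹ * c ∈ T := T.mul_mem (T.inv_mem hxT) hc
        have h2 : x⁻¹ * c = u₂ * d⁻¹ := by
          calc x⁻¹ * c = x⁻¹ * (c * d) * d⁻¹ := by group
            _ = x⁻¹ * (x * u₂) * d⁻¹ := by rw [hcd]
            _ = u₂ * d⁻¹ := by group
        have h4 : x⁻¹ * c ∈ T ⊓ cj g₀ T := Subgroup.mem_inf.2 ⟨h1, by
          rw [h2]
          exact Subgroup.mul_mem _ hu₂ (Subgroup.inv_mem _ hd)⟩
        rw [hT.inf_eq_bot hT₂ (Ne.symm hg₀), Subgroup.mem_bot] at h4
        constructor
        · have := inv_mul_eq_one.1 h4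
          exact this.symm
        · rw [h4] at h2
          have := mul_inv_eq_one.1 h2.symm
          exact this.symm
      rcases hA with hA | hA
      · rcases hB with hB | hB
        · exact hg₀ (hB.symm.trans hA)
        · rw [hA] at ha
          rw [hB] at hb
          have := (hfinal a b ha hb hab).2
          apply hq12
          have e1 : orderOf b = q₁ := by rw [hbdef, horder_conj]; exact hou₁
          rw [← e1, this]; exact hou₂
      · rcases hB with hB | hB
        · rw [hA] at hb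
          rw [hB] at ha
          have hcomm : a * b = b * a := (hT.comm hT₂ (Ne.symm hg₀) hb ha).symm
          have hab' : b * a = x * u₂ := by rw [← hcomm]; exact hab
          have := (hfinal b a hb ha hab').1
          apply hqx₁
          have e1 : orderOf b = q₁ := by rw [hbdef, horder_conj]; exact hou₁
          rw [← e1, this]
        · exact hg₀ (hB.symm.trans hA)
    · exact hnotconj u₂ hu₂ hu₂1 h

/-- elements of an abelian regular normal subgroup: the derangements lie in it, so fixity one -/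
theorem fix_le_one (N : Subgroup G) (hN : N.Normal) (htr : IsPretransitive N Ω)
    (hNab : ∀ a ∈ N, ∀ b ∈ N, a * b = b * a)
    (hinN : ∀ y : G, (∀ ω : Ω, y • ω ≠ ω) → y ∈ N) :
    ∀ g : G, g ≠ 1 → ∀ a b : Ω, a ≠ b → g • a = a → g • b ≠ b := by
  classical
  have hNtr : ∀ a b : Ω, ∃ n ∈ N, n • a = b := by
    intro a b
    obtain ⟨n, hn⟩ := htr.exists_smul_eq a b
    exact ⟨n, n.2, hn⟩
  have hreg : ∀ n ∈ N, ∀ ω : Ω, n • ω = ω → n = 1 := by
    intro n hn ω hω
    apply eq_one_of_forall_fix (Ω := Ω)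
    intro y
    obtain ⟨m, hm, rfl⟩ := hNtr ω y
    rw [← mul_smul, hNab n hn m hm, mul_smul, hω]
  intro h hh1 a b hab ha hb
  obtain ⟨m, hm, rfl⟩ := hNtr a b
  have hm1 : m ≠ 1 := by
    rintro rfl
    exact hab (one_smul _ _).symm
  have hcm : h * m * h⁻¹ = m := by
    apply eq_of_smul_base (N := N) (α := a) (fun n hn h' => hreg n hn a h') (hN.conj_mem m hm h) hm
    rw [mul_smul, mul_smul, inv_smul_eq_iff.2 ha.symm, hb]
  let θ : N → N := fun y => ⟨y * (h * (y : G)⁻¹ * h⁻¹),
    N.mul_mem y.2 (hN.conj_mem _ (N.inv_mem y.2) h)⟩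
  have hθ : ¬ Function.Injective θ := by
    intro hinj
    have h1 : θ ⟨m, hm⟩ = θ 1 := by
      apply Subtype.ext
      change m * (h * m⁻¹ * h⁻¹) = 1 * (h * 1⁻¹ * h⁻¹)
      have h3 : h * m⁻¹ * h⁻¹ = m⁻¹ := by
        rw [← conj_inv, hcm]
      rw [h3]
      simp
    have h4 := hinj h1
    exact hm1 (congrArg Subtype.val h4)
  have hθs : ¬ Function.Surjective θ := fun hs' => hθ (Finite.injective_iff_surjective.2 hs')
  rw [Function.Surjective] at hθs
  push Not at hθs
  obtain ⟨m₀, hm₀⟩ := hθs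
  have hd : ∀ ω : Ω, ((m₀ : G) * h) • ω ≠ ω := by
    intro ω hω
    obtain ⟨y, hy, rfl⟩ := hNtr a ω
    apply hm₀ ⟨y, hy⟩
    apply Subtype.ext
    have h1 : ((m₀ : G) * (h * y * h⁻¹)) • a = y • a := by
      rw [← hω]
      simp only [mul_smul]
      rw [inv_smul_eq_iff.2 ha.symm]
    have h3 := eq_of_smul_base (N := N) (α := a) (fun n hn h' => hreg n hn a h')
      (N.mul_mem m₀.2 (hN.conj_mem y hy h)) hy h1
    change y * (h * y⁻¹ * h⁻¹) = m₀
    calc y * (h * y⁻¹ * h⁻¹) = ((m₀ : G) * (h * y * h⁻¹)) * (h * y⁻¹ * h⁻¹) := by rw [h3]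
      _ = m₀ := by group
  have h1 := hinN _ hd
  have h3 : h ∈ N := by
    have e : h = (m₀ : G)⁻¹ * ((m₀ : G) * h) := by group
    rw [e]
    exact N.mul_mem (N.inv_mem m₀.2) h1
  exact hh1 (hreg h h3 a ha)

end Kappa

/-- Let a finite group G act faithfully and primitively on a finite set Ω with at least two points, suppose G is not almost simple (no non-abelian simple normal subgroup with trivial centralizer), and suppose the derangements of G form exactly two conjugacy classes. Then either Ω has 3 points and G has order 3; or G has a non-trivial abelian normal subgroup N acting regularly, every non-identity element of G fixes at most one point (so, when n > 3, G is a Frobenius group with kernel N), the number n of points is odd and a point stabilizer has order (n − 1)/2; or G is 2-transitive with a non-trivial abelian regular normal subgroup and some non-identity element fixes at least two points (a non-Frobenius 2-transitive affine group). -/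
theorem result {G : Type*} [Group G] [Finite G] {Ω : Type*} [Fintype Ω] [MulAction G Ω] [FaithfulSMul G Ω] (hΩ : 2 ≤ Fintype.card Ω) (hprim : MulAction.IsPreprimitive G Ω) (hnas : ¬ ∃ T : Subgroup G, T.Normal ∧ IsSimpleGroup T ∧ ¬ IsMulCommutative T ∧ Subgroup.centralizer (T : Set G) = ⊥)
    (hκ : Nat.card {c : ConjClasses G // ∃ g : G, ConjClasses.mk g = c ∧ ∀ ω : Ω, g • ω ≠ ω} = 2) (α : Ω) :
    (Fintype.card Ω = 3 ∧ Nat.card G = 3) ∨
    ((∃ N : Subgroup G, N.Normal ∧ N ≠ ⊥ ∧ IsMulCommutative N ∧ ∀ ω : Ω, MulAction.stabilizer N ω = ⊥) ∧ (∀ g : G, g ≠ 1 → Nat.card (MulAction.fixedBy Ω g) ≤ 1) ∧ ¬ 2 ∣ Fintype.card Ω ∧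
        2 * Nat.card (MulAction.stabilizer G α) = Fintype.card Ω - 1) ∨
    ((∃ N : Subgroup G, N.Normal ∧ N ≠ ⊥ ∧ IsMulCommutative N ∧ ∀ ω : Ω, MulAction.stabilizer N ω = ⊥) ∧ MulAction.IsMultiplyPretransitive G Ω 2 ∧ ∃ g : G, g ≠ 1 ∧ 2 ≤ Nat.card (MulAction.fixedBy Ω g)) := by
  classical
  have hpret : MulAction.IsPretransitive G Ω := hprim.toIsPretransitive
  have hnt : Nontrivial Ω := Fintype.one_lt_card_iff_nontrivial.1 (by omega)
  have hnG : Nontrivial G := by
    by_contra hcon
    rw [not_nontrivial_iff_subsingleton] at hcon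
    obtain ⟨a, b, hab⟩ := exists_pair_ne Ω
    obtain ⟨g, hg⟩ := MulAction.exists_smul_eq G a b
    rw [Subsingleton.elim g 1, one_smul] at hg
    exact hab hg
  let C := {c : ConjClasses G // ∃ g : G, ConjClasses.mk g = c ∧ ∀ ω : Ω, g • ω ≠ ω}
  have hmk : ∀ x : G, (∀ ω : Ω, x • ω ≠ ω) → ∃ c : C, c.1 = ConjClasses.mk x :=
    fun x hx => ⟨⟨ConjClasses.mk x, x, rfl, hx⟩, rfl⟩
  have h3 : ∀ x y z : G, (∀ ω : Ω, x • ω ≠ ω) → (∀ ω : Ω, y • ω ≠ ω) → (∀ ω : Ω, z • ω ≠ ω) →
      IsConj x y ∨ IsConj y z ∨ IsConj x z := by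
    intro x y z hx hy hz
    by_contra hcon
    push Not at hcon
    obtain ⟨hxy, hyz, hxz⟩ := hcon
    let f : Fin 3 → C := ![⟨ConjClasses.mk x, x, rfl, hx⟩, ⟨ConjClasses.mk y, y, rfl, hy⟩,
      ⟨ConjClasses.mk z, z, rfl, hz⟩]
    have hf : Function.Injective f := by
      have h12 : f 0 ≠ f 1 := fun h => hxy (ConjClasses.mk_eq_mk_iff_isConj.1 (congrArg Subtype.val h))
      have h13 : f 0 ≠ f 2 := fun h => hxz (ConjClasses.mk_eq_mk_iff_isConj.1 (congrArg Subtype.val h))
      have h23 : f 1 ≠ f 2 := fun h => hyz (ConjClasses.mk_eq_mk_iff_isConj.1 (congrArg Subtype.val h))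
      intro a b hab
      fin_cases a <;> fin_cases b <;> first
        | rfl
        | exact absurd hab h12
        | exact absurd hab h13
        | exact absurd hab h23
        | exact absurd hab.symm h12
        | exact absurd hab.symm h13
        | exact absurd hab.symm h23
    have hle := Nat.card_le_card_of_injective f hf
    rw [Nat.card_fin, hκ] at hle
    omega
  have h2ne : ¬ ∀ x y : G, (∀ ω : Ω, x • ω ≠ ω) → (∀ ω : Ω, y • ω ≠ ω) → IsConj x y := by
    intro hall
    have hsub : Subsingleton C := by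
      constructor
      rintro ⟨c, x, rfl, hx⟩ ⟨d, y, rfl, hy⟩
      apply Subtype.ext
      exact ConjClasses.mk_eq_mk_iff_isConj.2 (hall x y hx hy)
    have h1le : Nat.card C ≤ 1 := Finite.card_le_one_iff_subsingleton.2 hsub
    have hκ' : Nat.card C = 2 := hκ
    omega
  obtain ⟨N, hNn, hNne, hmin⟩ := Cfsg.Agent.H01.exists_minimal_normal (G := G)
  haveI := hprim
  by_cases hNab : ∀ a ∈ N, ∀ b ∈ N, a * b = b * a
  · have htr : MulAction.IsPretransitive N Ω := H16.normal_trans (X := Ω) N hNne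
    have hNtr : ∀ a b : Ω, ∃ n ∈ N, n • a = b := by
      intro a b
      obtain ⟨n, hn⟩ := htr.exists_smul_eq a b
      exact ⟨n, n.2, hn⟩
    have hreg : ∀ n ∈ N, ∀ ω : Ω, n • ω = ω → n = 1 := by
      intro n hn ω hω
      apply H16.eq_one_of_forall_fix (Ω := Ω)
      intro y
      obtain ⟨m, hm, rfl⟩ := hNtr ω y
      rw [← mul_smul, hNab n hn m hm, mul_smul, hω]
    have hder : ∀ n ∈ N, n ≠ 1 → ∀ ω : Ω, n • ω ≠ ω := fun n hn hn1 ω h => hn1 (hreg n hn ω h)
    have hEx : ∃ N : Subgroup G, N.Normal ∧ N ≠ ⊥ ∧ IsMulCommutative N ∧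
        ∀ ω : Ω, MulAction.stabilizer N ω = ⊥ := by
      refine ⟨N, hNn, hNne, ⟨⟨fun a b => Subtype.ext (hNab a a.2 b b.2)⟩⟩, fun ω => ?_⟩
      rw [eq_bot_iff]
      intro n hn
      rw [Subgroup.mem_bot]
      exact Subtype.ext (hreg n n.2 ω hn)
    have hHconj : ∀ a : Ω, ∀ m ∈ N, ∀ m' ∈ N, IsConj m m' → ∃ h : G, h • a = a ∧ h * m * h⁻¹ = m' := by
      intro a m hm m' hm' hc
      obtain ⟨g, hg⟩ := isConj_iff.1 hc
      obtain ⟨n, hn, hna⟩ := hNtr a (g • a)
      have hh : (n⁻¹ * g) • a = a := by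
        rw [mul_smul, ← hna, inv_smul_smul]
      refine ⟨n⁻¹ * g, hh, ?_⟩
      have h3' : (n⁻¹ * g) * m * (n⁻¹ * g)⁻¹ = n⁻¹ * (g * m * g⁻¹) * n := by group
      rw [h3', hg, hNab n⁻¹ (N.inv_mem hn) m' hm']
      group
    by_cases hone : ∀ m ∈ N, ∀ m' ∈ N, m ≠ 1 → m' ≠ 1 → IsConj m m'
    · -- 2-transitive
      right
      right
      have hstab : ∀ a β γ : Ω, β ≠ a → γ ≠ a → ∃ h : G, h • a = a ∧ h • β = γ := by
        intro a β γ hβ hγ
        obtain ⟨m, hm, rfl⟩ := hNtr a β
        obtain ⟨m', hm', rfl⟩ := hNtr a γ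
        have hm1 : m ≠ 1 := by
          rintro rfl
          exact hβ (one_smul _ _)
        have hm'1 : m' ≠ 1 := by
          rintro rfl
          exact hγ (one_smul _ _)
        obtain ⟨h, hh, e⟩ := hHconj a m hm m' hm' (hone m hm m' hm' hm1 hm'1)
        refine ⟨h, hh, ?_⟩
        rw [← e, mul_smul (h * m), mul_smul h m, inv_smul_eq_iff.2 hh.symm]
      have h2' : ∀ a b c d : Ω, a ≠ b → c ≠ d → ∃ g : G, g • a = c ∧ g • b = d := by
        intro a b c d hab hcd
        obtain ⟨n, hn, hna⟩ := hNtr a c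
        have hb : n • b ≠ c := by
          rw [← hna]
          exact fun h => hab (smul_left_cancel n h).symm
        obtain ⟨h, h1, h3'⟩ := hstab c (n • b) d hb (Ne.symm hcd)
        exact ⟨h * n, by rw [mul_smul, hna, h1], by rw [mul_smul, h3']⟩
      refine ⟨hEx, MulAction.is_two_pretransitive_iff.2 (fun {a b c d} h h' => h2' a b c d h h'), ?_⟩
      by_contra hcon
      push Not at hcon
      apply h2ne
      intro x y hx hy
      apply Cfsg.Agent.S3501.sharp_conj h2' _ hΩ hx hy
      intro g hg a b hab ha hb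
      have h4 := hcon g hg
      have h5 : ({a, b} : Set Ω) ⊆ MulAction.fixedBy Ω g := by
        intro w hw
        rcases hw with rfl | rfl
        · exact ha
        · exact hb
      have h6 := Set.ncard_le_ncard h5 (Set.toFinite _)
      rw [Set.ncard_pair hab, ← Nat.card_coe_set_eq] at h6
      omega
    · -- two classes in `N`
      right
      left
      push Not at hone
      obtain ⟨m₁, hm₁, m₂, hm₂, hm₁1, hm₂1, hnc⟩ := hone
      have hconj12 : ∀ y : G, (∀ ω : Ω, y • ω ≠ ω) → IsConj m₁ y ∨ IsConj m₂ y := by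
        intro y hy
        rcases h3 m₁ m₂ y (hder m₁ hm₁ hm₁1) (hder m₂ hm₂ hm₂1) hy with h | h | h
        · exact absurd h hnc
        · exact Or.inr h
        · exact Or.inl h
      have hinN : ∀ y : G, (∀ ω : Ω, y • ω ≠ ω) → y ∈ N := by
        intro y hy
        rcases hconj12 y hy with h | h
        · obtain ⟨g, rfl⟩ := isConj_iff.1 h
          exact hNn.conj_mem m₁ hm₁ g
        · obtain ⟨g, rfl⟩ := isConj_iff.1 h
          exact hNn.conj_mem m₂ hm₂ g
      have hsharp := fix_le_one N hNn htr hNab hinN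
      have hfix1 : ∀ g : G, g ≠ 1 → Nat.card (MulAction.fixedBy Ω g) ≤ 1 := by
        intro g hg
        rw [Nat.card_coe_set_eq]
        apply (Set.ncard_le_one_iff (Set.toFinite _)).2
        intro a b ha hb
        by_contra hab
        exact hsharp g hg a b hab ha hb
      -- counting
      let H := MulAction.stabilizer G α
      let f : H × Bool → {n : N // n ≠ 1} := fun p =>
        ⟨⟨(p.1 : G) * (if p.2 then m₂ else m₁) * (p.1 : G)⁻¹, hNn.conj_mem _ (by
          by_cases hb : p.2 = true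
          · simp only [hb, if_true]
            exact hm₂
          · simp only [hb, if_false]
            exact hm₁) _⟩, by
          intro h
          have h1 := congrArg Subtype.val h
          have h2 : (p.1 : G) * (if p.2 then m₂ else m₁) * (p.1 : G)⁻¹ = 1 := h1
          have h4 : (if p.2 then m₂ else m₁) = 1 := by
            have e : (if p.2 then m₂ else m₁) = (p.1 : G)⁻¹ * ((p.1 : G) * (if p.2 then m₂ else m₁) * (p.1 : G)⁻¹) * (p.1 : G) := by
              group
            rw [e, h2]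
            group
          by_cases hb : p.2 = true
          · simp only [hb, if_true] at h4
            exact hm₂1 h4
          · simp only [hb, if_false] at h4
            exact hm₁1 h4⟩
      have hval : ∀ (p : H × Bool), ((f p : N) : G) = (p.1 : G) * (if p.2 then m₂ else m₁) * (p.1 : G)⁻¹ :=
        fun p => rfl
      have hinj1 : ∀ (m : G), m ∈ N → m ≠ 1 → ∀ a b : H, (a : G) * m * (a : G)⁻¹ = (b : G) * m * (b : G)⁻¹ → a = b := by
        intro m hm hm1 a b hab
        by_contra hne
        have h1 : ((b : G)⁻¹ * a) * m = m * ((b : G)⁻¹ * a) := by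
          calc ((b : G)⁻¹ * a) * m = (b : G)⁻¹ * ((a : G) * m * (a : G)⁻¹) * a := by group
            _ = (b : G)⁻¹ * ((b : G) * m * (b : G)⁻¹) * a := by rw [hab]
            _ = m * ((b : G)⁻¹ * a) := by group
        have h4 : ((b : G)⁻¹ * a : G) • α = α := H.mul_mem (H.inv_mem b.2) a.2
        have h5 : ((b : G)⁻¹ * a : G) • (m • α) = m • α := by
          rw [← mul_smul, h1, mul_smul, h4]
        have h6 : ((b : G)⁻¹ * a : G) ≠ 1 := by
          intro h7
          exact hne (Subtype.ext (inv_mul_eq_one.1 h7).symm)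
        exact hsharp _ h6 α (m • α) (Ne.symm (hder m hm hm1 α)) h4 h5
      have hfbij : Function.Bijective f := by
        constructor
        · rintro ⟨a, s⟩ ⟨b, t⟩ hab
          have h1 := congrArg (fun z : {n : N // n ≠ 1} => ((z : N) : G)) hab
          simp only [hval] at h1
          cases s <;> cases t
          · simp only [Bool.false_eq_true, if_false] at h1
            rw [hinj1 m₁ hm₁ hm₁1 a b h1]
          · exfalso
            simp only [Bool.false_eq_true, if_false, if_true] at h1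
            apply hnc
            refine isConj_iff.2 ⟨(b : G)⁻¹ * a, ?_⟩
            calc ((b : G)⁻¹ * a) * m₁ * ((b : G)⁻¹ * a)⁻¹ = (b : G)⁻¹ * ((a : G) * m₁ * (a : G)⁻¹) * b := by group
              _ = (b : G)⁻¹ * ((b : G) * m₂ * (b : G)⁻¹) * b := by rw [h1]
              _ = m₂ := by group
          · exfalso
            simp only [Bool.false_eq_true, if_false, if_true] at h1
            apply hnc
            refine isConj_iff.2 ⟨(a : G)⁻¹ * b, ?_⟩
            calc ((a : G)⁻¹ * b) * m₁ * ((a : G)⁻¹ * b)⁻¹ = (a : G)⁻¹ * ((b : G) * m₁ * (b : G)⁻¹) * a := by group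
              _ = (a : G)⁻¹ * ((a : G) * m₂ * (a : G)⁻¹) * a := by rw [h1]
              _ = m₂ := by group
          · simp only [if_true] at h1
            rw [hinj1 m₂ hm₂ hm₂1 a b h1]
        · rintro ⟨n, hn1⟩
          have hn1' : (n : G) ≠ 1 := fun h => hn1 (Subtype.ext h)
          rcases hconj12 n (hder n n.2 hn1') with h | h
          · obtain ⟨k, hk, e⟩ := hHconj α m₁ hm₁ n n.2 h
            refine ⟨(⟨k, hk⟩, false), Subtype.ext (Subtype.ext ?_)⟩
            simpa [hval] using e
          · obtain ⟨k, hk, e⟩ := hHconj α m₂ hm₂ n n.2 h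
            refine ⟨(⟨k, hk⟩, true), Subtype.ext (Subtype.ext ?_)⟩
            simpa [hval] using e
      have hcard := Nat.card_congr (Equiv.ofBijective f hfbij)
      rw [Nat.card_prod, Nat.card_eq_fintype_card (α := Bool), Fintype.card_bool] at hcard
      have hcardN : Nat.card N = Fintype.card Ω := by
        rw [← Nat.card_eq_fintype_card (α := Ω)]
        apply Nat.card_eq_of_bijective (fun n : N => (n : G) • α)
        constructor
        · intro a b hab
          exact Subtype.ext (H16.eq_of_smul_base (fun n hn' h' => hreg n hn' α h') a.2 b.2 hab)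
        · intro y
          obtain ⟨t, ht, hty⟩ := hNtr α y
          exact ⟨⟨t, ht⟩, hty⟩
      have hopt : Nat.card {n : N // n ≠ 1} + 1 = Nat.card N := by
        have h1 := Nat.card_congr (Equiv.optionSubtypeNe (1 : N))
        rw [← h1, Finite.card_option]
      have hH0 : 0 < Nat.card H := Nat.card_pos
      have hfc : Fintype.card Ω = Nat.card H * 2 + 1 := by omega
      refine ⟨hEx, hfix1, ?_, ?_⟩
      · intro hd
        omega
      · change 2 * Nat.card H = Fintype.card Ω - 1
        omega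
  · exact (nonab_false2 hnas h3 hnt N hNn hNne hmin hNab).elim

end Cfsg.Agent.S3520
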