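import Cfsg.Statements.S3554

set_option autoImplicit false
set_option linter.style.haveILetI false
open Cfsg

namespace Cfsg.Agent.S3554

open MulAction

/-- In a finite cyclic group, elements killed by `orderOf c` are powers of `c`. -/
lemma mem_zpowers_of_pow_orderOf_eq_one {α : Type*} [Group α] [Finite α] [IsCyclic α]
    (c d : α) (hd : d ^ orderOf c = 1) : d ∈ Subgroup.zpowers c := by
  classical
  haveI : Fintype α := Fintype.ofFinite α
  have hpos : 0 < orderOf c := orderOf_pos c
  have hle := IsCyclic.card_pow_eq_one_le (α := α) hpos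
  -- the powers of `c` fill up the solution set
  have hsub : (Finset.univ.filter (fun a : α => a ∈ Subgroup.zpowers c)) ⊆
      (Finset.univ.filter (fun a : α => a ^ orderOf c = 1)) := by
    intro a ha
    rw [Finset.mem_filter] at ha ⊢
    refine ⟨Finset.mem_univ _, ?_⟩
    obtain ⟨k, rfl⟩ := ha.2
    show (c ^ k) ^ orderOf c = 1
    rw [← zpow_natCast, zpow_comm, zpow_natCast, pow_orderOf_eq_one, one_zpow]
  have hcard : (Finset.univ.filter (fun a : α => a ∈ Subgroup.zpowers c)).card = orderOf c := by
    rw [← Nat.card_zpowers, Nat.card_eq_fintype_card (α := Subgroup.zpowers c),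
      Fintype.card_subtype]
  have heq := Finset.eq_of_subset_of_card_le hsub (by rw [hcard]; convert hle using 3)
  have hdm : d ∈ (Finset.univ.filter (fun a : α => a ^ orderOf c = 1)) := by
    rw [Finset.mem_filter]
    exact ⟨Finset.mem_univ _, hd⟩
  rw [← heq, Finset.mem_filter] at hdm
  exact hdm.2

theorem result {G Ω : Type*} [Group G] [Finite G] [MulAction G Ω] [FaithfulSMul G Ω] [Finite Ω]
    (htrans : MulAction.IsPretransitive G Ω) (C : Subgroup G) (hC : C.Normal) (hC1 : C ≠ ⊥) (hcyc : IsCyclic ↥C) :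
    ∃ g : G, (orderOf g).Prime ∧ ∀ ω : Ω, g • ω ≠ ω := by
  classical
  haveI := htrans
  -- an element of `C` of prime order
  have hcardC : Nat.card C ≠ 1 := by
    intro h
    apply hC1
    exact (Subgroup.card_eq_one).1 h
  obtain ⟨p, hp, hpd⟩ := Nat.exists_prime_and_dvd hcardC
  haveI := Fact.mk hp
  obtain ⟨c, hc⟩ := exists_prime_orderOf_dvd_card' (G := C) p hpd
  refine ⟨(c : G), ?_, ?_⟩
  · rw [Subgroup.orderOf_coe, hc]
    exact hp
  · intro ω hω
    have hc1 : c ≠ 1 := by
      rintro rfl
      rw [orderOf_one] at hc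
      exact hp.one_lt.ne hc
    apply hc1
    apply Subtype.ext
    apply FaithfulSMul.eq_of_smul_eq_smul (α := Ω)
    intro x
    obtain ⟨g, rfl⟩ := MulAction.exists_smul_eq G ω x
    have hmem : g⁻¹ * (c : G) * g ∈ C := by
      have := hC.conj_mem c c.2 g⁻¹
      rwa [inv_inv] at this
    have hz : (⟨g⁻¹ * (c : G) * g, hmem⟩ : C) ∈ Subgroup.zpowers c := by
      apply mem_zpowers_of_pow_orderOf_eq_one
      apply Subtype.ext
      have h1 : ((⟨g⁻¹ * (c : G) * g, hmem⟩ : C) : G) = g⁻¹ * (c : G) * g := rfl
      rw [Subgroup.coe_pow, h1, Subgroup.coe_one]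
      have h2 : ((c : G)) ^ orderOf c = 1 := by
        have := pow_orderOf_eq_one c
        exact_mod_cast congrArg Subtype.val this
      have h3 := conj_pow (a := g⁻¹) (b := (c : G)) (i := orderOf c)
      rw [inv_inv] at h3
      rw [h3, h2]
      group
    obtain ⟨k, hk⟩ := hz
    have hk' : (c : G) ^ k = g⁻¹ * (c : G) * g := by
      have := congrArg Subtype.val hk
      simpa using this
    have hfix : ((c : G) ^ k) • ω = ω := by
      have hstab : (c : G) ∈ stabilizer G ω := hω
      exact Subgroup.zpow_mem _ hstab k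
    rw [hk', mul_smul, mul_smul, inv_smul_eq_iff] at hfix
    rw [Subgroup.coe_one, one_smul]
    exact hfix

end Cfsg.Agent.S3554
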