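import Cfsg.Statements.S3555

set_option autoImplicit false
set_option linter.style.haveILetI false
open Cfsg

namespace Cfsg.Agent.S3555

open Finset
open scoped Pointwise

section count

variable {G Ω : Type*} [Group G] [Fintype G] [MulAction G Ω] [Fintype Ω] [DecidableEq Ω]

/-- number of fixed points -/
def fx (Ω : Type*) [Fintype Ω] [DecidableEq Ω] {G : Type*} [Group G] [MulAction G Ω] (x : G) : ℕ :=
  (univ.filter (fun α : Ω => x • α = α)).card

lemma card_move (htrans : MulAction.IsPretransitive G Ω) (ω α β : Ω) :
    (univ.filter (fun x : G => x • α = β)).card = (univ.filter (fun x : G => x • ω = ω)).card := by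
  obtain ⟨g, hg⟩ := htrans.exists_smul_eq ω α
  obtain ⟨g', hg'⟩ := htrans.exists_smul_eq ω β
  apply Finset.card_bij (fun x _ => g'⁻¹ * x * g)
  · intro x hx
    simp only [mem_filter, mem_univ, true_and] at hx ⊢
    rw [mul_smul, mul_smul, hg, hx, ← hg', inv_smul_smul]
  · intro x _ y _ h
    have h1 : g'⁻¹ * x = g'⁻¹ * y := mul_right_cancel h
    exact mul_left_cancel h1
  · intro y hy
    refine ⟨g' * y * g⁻¹, ?_, by group⟩
    simp only [mem_filter, mem_univ, true_and] at hy ⊢
    rw [mul_smul, mul_smul, ← hg, inv_smul_smul, hy, hg']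

/-- the sum of fixed point numbers over the elements with `x • ω = β` -/
def sS (ω β : Ω) : ℕ := ∑ x ∈ univ.filter (fun x : G => x • ω = β), fx Ω x

/-- the size of the two point stabilizer -/
def bB (G : Type*) [Group G] [Fintype G] [MulAction G Ω] (ω β : Ω) : ℕ :=
  (univ.filter (fun x : G => x • ω = ω ∧ x • β = β)).card

/-- the size of the point stabilizer -/
def hH (G : Type*) [Group G] [Fintype G] [MulAction G Ω] (ω : Ω) : ℕ :=
  (univ.filter (fun x : G => x • ω = ω)).card

lemma sum_sS (ω : Ω) : ∑ β : Ω, sS (G := G) ω β = ∑ x : G, fx Ω x := by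
  unfold sS
  exact Finset.sum_fiberwise _ _ _

lemma sum_fx (htrans : MulAction.IsPretransitive G Ω) (ω : Ω) :
    ∑ x : G, fx Ω x = Fintype.card Ω * hH G ω := by
  have h1 : ∑ x : G, fx Ω x = ∑ α : Ω, (univ.filter (fun x : G => x • α = α)).card := by
    unfold fx
    simp only [Finset.card_filter]
    exact Finset.sum_comm
  rw [h1]
  rw [Finset.sum_congr rfl (fun α _ => card_move (G := G) htrans ω α α), Finset.sum_const,
    smul_eq_mul]
  rfl

lemma sS_self (ω : Ω) : sS (G := G) ω ω = ∑ β : Ω, bB G ω β := by
  unfold sS bB fx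
  simp_rw [Finset.card_filter]
  rw [Finset.sum_comm]
  apply Finset.sum_congr rfl
  intro β _
  rw [← Finset.card_filter, ← Finset.card_filter, Finset.filter_filter]

lemma bB_self (ω : Ω) : bB G ω ω = hH G ω := by
  unfold bB hH
  simp

/-- The counting identity. -/
lemma sum_identity (htrans : MulAction.IsPretransitive G Ω) (ω : Ω) :
    ∑ β ∈ univ.erase ω, (sS (G := G) ω β + bB G ω β) = ∑ β ∈ univ.erase ω, hH G ω := by
  have h1 := sum_sS (G := G) ω
  have h2 := sum_fx (G := G) htrans ω
  have h3 := sS_self (G := G) ω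
  have h4 := bB_self (G := G) ω
  rw [← Finset.add_sum_erase univ _ (mem_univ ω)] at h1
  rw [← Finset.add_sum_erase univ _ (mem_univ ω), h4] at h3
  rw [Finset.sum_add_distrib, Finset.sum_const, smul_eq_mul]
  have h5 : (univ.erase ω).card + 1 = Fintype.card Ω := by
    rw [Finset.card_erase_add_one (mem_univ ω)]
    rfl
  rw [h2, h3] at h1
  rw [← h5] at h1
  nlinarith

variable (hinv : ∀ g : G, (∀ ω : Ω, g • ω ≠ ω) → orderOf g = 2)
include hinv

lemma fx_zero (x : G) (hx : fx Ω x = 0) : (∀ ω : Ω, x • ω ≠ ω) ∧ x * x = 1 := by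
  have h1 : ∀ ω : Ω, x • ω ≠ ω := by
    intro ω hω
    have : ω ∈ univ.filter (fun α : Ω => x • α = α) := by simp [hω]
    have h2 : (univ.filter (fun α : Ω => x • α = α)).card = 0 := hx
    rw [Finset.card_eq_zero] at h2
    rw [h2] at this
    simp at this
  refine ⟨h1, ?_⟩
  have h2 := hinv x h1
  have h3 := pow_orderOf_eq_one x
  rw [h2, pow_two] at h3
  exact h3

/-- The number of elements with no fixed point mapping `ω` to `β` is at most `bB`. -/
lemma card_zero_le (ω β : Ω) :
    ((univ.filter (fun x : G => x • ω = β)).filter (fun x => fx Ω x = 0)).card ≤ bB G ω β := by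
  classical
  by_cases hne : ((univ.filter (fun x : G => x • ω = β)).filter (fun x => fx Ω x = 0)).Nonempty
  · obtain ⟨t, ht⟩ := hne
    simp only [mem_filter, mem_univ, true_and] at ht
    obtain ⟨ht1, ht2⟩ := ht
    obtain ⟨-, ht3⟩ := fx_zero hinv t ht2
    have htinv : t⁻¹ = t := inv_eq_of_mul_eq_one_left ht3
    unfold bB
    apply Finset.card_le_card_of_injOn (fun x => t⁻¹ * x)
    · intro x hx
      simp only [mem_filter, mem_univ, true_and, coe_filter, Set.mem_setOf_eq] at hx ⊢
      obtain ⟨hx1, hx2⟩ := hx
      obtain ⟨-, hx3⟩ := fx_zero hinv x hx2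
      have hxω : x • β = ω := by
        rw [← hx1, ← mul_smul, hx3, one_smul]
      have htω : t⁻¹ • β = ω := by
        rw [← ht1, inv_smul_smul]
      constructor
      · rw [mul_smul, hx1, htω]
      · rw [mul_smul, hxω, htinv, ht1]
    · intro x _ y _ h
      exact mul_left_cancel h
  · rw [not_nonempty_iff_eq_empty] at hne
    rw [hne]
    simp

lemma key_ineq (htrans : MulAction.IsPretransitive G Ω) (ω β : Ω) :
    hH G ω ≤ sS (G := G) ω β + bB G ω β := by
  have h1 := card_move (G := G) htrans ω ω β
  have h2 := card_zero_le (G := G) hinv ω β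
  set C := univ.filter (fun x : G => x • ω = β) with hC
  have h3 : C.card = (C.filter (fun x => fx Ω x = 0)).card +
      (C.filter (fun x => ¬ fx Ω x = 0)).card := (Finset.card_filter_add_card_filter_not _).symm
  have h4 : (C.filter (fun x => ¬ fx Ω x = 0)).card ≤ sS (G := G) ω β := by
    unfold sS
    rw [← hC]
    calc (C.filter (fun x => ¬ fx Ω x = 0)).card
        = ∑ x ∈ C.filter (fun x => ¬ fx Ω x = 0), 1 := by simp
      _ ≤ ∑ x ∈ C.filter (fun x => ¬ fx Ω x = 0), fx Ω x := by
        apply Finset.sum_le_sum
        intro x hx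
        simp only [mem_filter] at hx
        have := hx.2
        omega
      _ ≤ ∑ x ∈ C, fx Ω x := Finset.sum_le_sum_of_subset (Finset.filter_subset _ _)
  unfold hH
  omega

lemma key_strict (htrans : MulAction.IsPretransitive G Ω) (ω : Ω) (x : G) (hx : 2 ≤ fx Ω x) :
    hH G ω < sS (G := G) ω (x • ω) + bB G ω (x • ω) := by
  have h1 := card_move (G := G) htrans ω ω (x • ω)
  have h2 := card_zero_le (G := G) hinv ω (x • ω)
  set C := univ.filter (fun y : G => y • ω = x • ω) with hC
  have hxC : x ∈ C := by simp [hC]
  have h3 : C.card = (C.filter (fun x => fx Ω x = 0)).card +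
      (C.filter (fun x => ¬ fx Ω x = 0)).card := (Finset.card_filter_add_card_filter_not _).symm
  have h4 : (C.filter (fun x => ¬ fx Ω x = 0)).card < sS (G := G) ω (x • ω) := by
    unfold sS
    rw [← hC]
    calc (C.filter (fun x => ¬ fx Ω x = 0)).card
        = ∑ x ∈ C.filter (fun x => ¬ fx Ω x = 0), 1 := by simp
      _ < ∑ x ∈ C.filter (fun x => ¬ fx Ω x = 0), fx Ω x := by
        apply Finset.sum_lt_sum
        · intro y hy
          simp only [mem_filter] at hy
          have := hy.2
          omega
        · refine ⟨x, ?_, by omega⟩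
          simp only [mem_filter]
          exact ⟨hxC, by omega⟩
      _ ≤ ∑ x ∈ C, fx Ω x := Finset.sum_le_sum_of_subset (Finset.filter_subset _ _)
  unfold hH
  omega

/-- Elements moving a point have at most one fixed point. -/
theorem fix_unique (htrans : MulAction.IsPretransitive G Ω) (ω : Ω) (x : G) (hx : x • ω ≠ ω)
    (α γ : Ω) (hα : x • α = α) (hγ : x • γ = γ) : α = γ := by
  by_contra hne
  have h2 : 2 ≤ fx Ω x := by
    unfold fx
    have hsub : ({α, γ} : Finset Ω) ⊆ univ.filter (fun α : Ω => x • α = α) := by
      intro y hy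
      simp only [mem_insert, mem_singleton] at hy
      rcases hy with rfl | rfl <;> simp [hα, hγ]
    have hcard := Finset.card_le_card hsub
    rw [Finset.card_pair hne] at hcard
    exact hcard
  have hid := sum_identity (G := G) htrans ω
  have hlt : ∑ β ∈ univ.erase ω, hH G ω < ∑ β ∈ univ.erase ω, (sS (G := G) ω β + bB G ω β) := by
    apply Finset.sum_lt_sum
    · intro β _
      exact key_ineq hinv htrans ω β
    · exact ⟨x • ω, by simp [hx], key_strict hinv htrans ω x h2⟩
  omega

end count

/-- Let G act faithfully and transitively on a finite set and suppose every element of G fixing no point is an involution. Then either G is an elementary abelian 2-group, or G is a Frobenius group whose Frobenius kernel is an elementary abelian 2-group: G has a Frobenius complement H, and the elements lying in no conjugate of H, together with the identity, pairwise commute and square to the identity. -/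
theorem result {G Ω : Type*} [Group G] [Finite G] [MulAction G Ω] [FaithfulSMul G Ω] [Finite Ω]
    (htrans : MulAction.IsPretransitive G Ω) (hinv : ∀ g : G, (∀ ω : Ω, g • ω ≠ ω) → orderOf g = 2) :
    (IsMulCommutative G ∧ ∀ g : G, g ^ 2 = 1) ∨
    (∃ H : Subgroup G, Cfsg.IsFrobeniusComplement H ∧
      (∀ x ∈ Cfsg.frobeniusKernel H, x ^ 2 = 1) ∧
      ∀ x ∈ Cfsg.frobeniusKernel H, ∀ y ∈ Cfsg.frobeniusKernel H, x * y = y * x) := by
  classical
  haveI := Fintype.ofFinite G
  haveI := Fintype.ofFinite Ω
  have hfaith : ∀ x : G, x ≠ 1 → ∃ ω : Ω, x • ω ≠ ω := by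
    intro x hx
    by_contra h
    push Not at h
    apply hx
    apply FaithfulSMul.eq_of_smul_eq_smul (α := Ω)
    intro ω
    rw [h, one_smul]
  -- every nontrivial element has at most one fixed point
  have huniq : ∀ x : G, x ≠ 1 → ∀ α γ : Ω, x • α = α → x • γ = γ → α = γ := by
    intro x hx α γ hα hγ
    obtain ⟨ω, hω⟩ := hfaith x hx
    exact fix_unique hinv htrans ω x hω α γ hα hγ
  have hsq : ∀ x : G, (∀ ω : Ω, x • ω ≠ ω) → x * x = 1 := by
    intro x hx
    have h2 := hinv x hx
    have h3 := pow_orderOf_eq_one x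
    rw [h2, pow_two] at h3
    exact h3
  by_cases hΩ : Nonempty Ω
  swap
  · left
    rw [not_nonempty_iff] at hΩ
    have hsub : ∀ x : G, x = 1 := by
      intro x
      by_contra hx
      obtain ⟨ω, -⟩ := hfaith x hx
      exact hΩ.false ω
    refine ⟨⟨⟨fun a b => by rw [hsub a, hsub b]⟩⟩, fun g => by rw [hsub g, one_pow]⟩
  obtain ⟨ω⟩ := hΩ
  let H : Subgroup G := MulAction.stabilizer G ω
  have hHmem : ∀ x, x ∈ H ↔ x • ω = ω := fun x => MulAction.mem_stabilizer_iff
  -- any element with a fixed point lies in a conjugate of `H`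
  have hconj : ∀ (x : G) (α : Ω), x • α = α → ∃ g : G, x ∈ MulAut.conj g • H := by
    intro x α hα
    obtain ⟨g, hg⟩ := htrans.exists_smul_eq ω α
    refine ⟨g, ?_⟩
    rw [Subgroup.mem_smul_pointwise_iff_exists]
    refine ⟨g⁻¹ * x * g, ?_, ?_⟩
    · rw [hHmem, mul_smul, mul_smul, hg, hα, ← hg, inv_smul_smul]
    · simp [MulAut.smul_def, MulAut.conj_apply, mul_assoc]
  by_cases hbot : H = ⊥
  · left
    have hall : ∀ x : G, x * x = 1 := by
      intro x
      by_cases hx : x = 1
      · rw [hx, one_mul]
      · apply hsq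
        intro α hα
        obtain ⟨g, hg⟩ := hconj x α hα
        rw [Subgroup.mem_smul_pointwise_iff_exists] at hg
        obtain ⟨h, hh, hgh⟩ := hg
        rw [hbot, Subgroup.mem_bot] at hh
        apply hx
        rw [← hgh, hh, smul_one]
    refine ⟨⟨⟨fun a b => ?_⟩⟩, fun g => by rw [pow_two, hall]⟩
    have h1 : a * b * (a * b) = 1 := hall _
    have h2 : a * a = 1 := hall a
    have h3 : b * b = 1 := hall b
    calc a * b = a * b * (b * a * (b * a)) := by rw [hall (b * a), mul_one]
      _ = a * (b * b) * a * (b * a) := by group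
      _ = a * a * (b * a) := by rw [h3, mul_one]
      _ = b * a := by rw [h2, one_mul]
  · right
    have htop : H ≠ ⊤ := by
      intro h
      apply hbot
      rw [eq_bot_iff]
      intro x hx
      rw [Subgroup.mem_bot]
      by_contra hx1
      obtain ⟨α, hα⟩ := hfaith x hx1
      obtain ⟨g, hg⟩ := htrans.exists_smul_eq ω α
      have hgH : g ∈ H := by rw [h]; trivial
      rw [hHmem] at hgH
      rw [← hg, hgH] at hα
      exact hα ((hHmem x).1 hx)
    have hF : IsFrobeniusComplement H := by
      refine ⟨hbot, htop, ?_⟩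
      intro g hg
      rw [eq_bot_iff]
      rintro y ⟨hy1, hy2⟩
      rw [Subgroup.mem_bot]
      by_contra hy
      have hy2' : y ∈ MulAut.conj g • H := hy2
      rw [Subgroup.mem_smul_pointwise_iff_exists] at hy2'
      obtain ⟨h, hh, hgh⟩ := hy2'
      have h1 : y • (g • ω) = g • ω := by
        rw [← hgh, MulAut.smul_def, MulAut.conj_apply]
        rw [← mul_smul]
        simp only [inv_mul_cancel_right]
        rw [mul_smul, (hHmem h).1 hh]
      have h2 := huniq y hy ω (g • ω) ((hHmem y).1 hy1) h1
      exact hg ((hHmem g).2 h2.symm)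
    refine ⟨H, hF, ?_, ?_⟩
    · rintro x (rfl | hx)
      · simp
      · rw [pow_two]
        apply hsq
        intro α hα
        obtain ⟨g, hg⟩ := hconj x α hα
        exact hx g hg
    · have hder : ∀ x ∈ frobeniusKernel H, x ≠ 1 → ∀ α : Ω, x • α ≠ α := by
        rintro x (rfl | hx) hx1 α hα
        · exact hx1 rfl
        · obtain ⟨g, hg⟩ := hconj x α hα
          exact hx g hg
      intro x hx y hy
      by_cases hx1 : x = 1
      · rw [hx1, one_mul, mul_one]
      by_cases hy1 : y = 1
      · rw [hy1, one_mul, mul_one]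
      have hxd := hder x hx hx1
      have hyd := hder y hy hy1
      have hxx := hsq x hxd
      have hyy := hsq y hyd
      have hxy : x * y * (x * y) = 1 := by
        by_cases hxy1 : x * y = 1
        · rw [hxy1, one_mul]
        · apply hsq
          intro α hα
          -- `x * y` would fix `α` and `x • α`
          have h1 : y • α = x • α := by
            have h2 : x • (y • α) = α := by rw [← mul_smul]; exact hα
            calc y • α = (x * x) • (y • α) := by rw [hxx, one_smul]
              _ = x • (x • (y • α)) := by rw [mul_smul]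
              _ = x • α := by rw [h2]
          have h2 : (x * y) • (x • α) = x • α := by
            rw [mul_smul, ← h1, ← mul_smul y, hyy, one_smul, h1]
          have h3 := huniq _ hxy1 α (x • α) hα h2
          exact hxd α h3.symm
      calc x * y = x * y * (y * x * (y * x)) := by
            have : y * x * (y * x) = 1 := by
              have h5 : y * x = (x * y)⁻¹ := by
                rw [mul_inv_rev, inv_eq_of_mul_eq_one_left hyy, inv_eq_of_mul_eq_one_left hxx]
              rw [h5]
              rw [← mul_inv_rev, hxy, inv_one]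
            rw [this, mul_one]
        _ = x * (y * y) * x * (y * x) := by group
        _ = x * x * (y * x) := by rw [hyy, mul_one]
        _ = y * x := by rw [hxx, one_mul]

end Cfsg.Agent.S3555
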