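import Cfsg.Statements.S3556
import Cfsg.Agent.Lib.H17.Derangement
import Cfsg.Agent.Lib.H17.MinNormal
import Cfsg.Agent.Lib.H01.Basic
import Mathlib

/-!
A primitive group all of whose derangements are `p`-elements is affine or almost simple.
-/

set_option autoImplicit false
set_option linter.style.haveILetI false
open Cfsg

namespace Cfsg.Agent.S3556

open MulAction H17

variable {G Ω : Type*} [Group G] [Finite G] [MulAction G Ω] [FaithfulSMul G Ω] [Finite Ω]

/-- a normal subgroup of a primitive group is transitive -/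
lemma trans_of_normal [IsPreprimitive G Ω] {N : Subgroup G} (hN : N.Normal) (hN1 : N ≠ ⊥) :
    IsPretransitive N Ω := by
  haveI := hN
  apply IsQuasiPreprimitive.isPretransitive_of_normal
  intro h
  apply hN1
  rw [eq_bot_iff]
  intro x hx
  rw [Subgroup.mem_bot]
  apply FaithfulSMul.eq_of_smul_eq_smul (α := Ω)
  intro ω
  have : ω ∈ fixedPoints N Ω := by rw [h]; trivial
  have h3 := this ⟨x, hx⟩
  rw [one_smul]
  exact h3

omit [Finite G] [Finite Ω] in
/-- transitive commuting subgroups act semiregularly -/
lemma semireg_of_commute {M N : Subgroup G} (hM : IsPretransitive M Ω)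
    (hc : ∀ m ∈ M, ∀ n ∈ N, m * n = n * m) {x : G} (hx : x ∈ N) {a : Ω} (hfix : x • a = a) :
    x = 1 := by
  apply FaithfulSMul.eq_of_smul_eq_smul (α := Ω)
  intro ω
  obtain ⟨m, hm⟩ := hM.exists_smul_eq a ω
  have hm' : (m : G) • a = ω := hm
  rw [one_smul, ← hm', ← mul_smul, ← hc m m.2 x hx, mul_smul, hfix]

/-- If every nontrivial element of a subgroup `N` has `p`-power order, it is a `p`-group. -/
lemma isPGroup_of_orders {N : Subgroup G} {p : ℕ}
    (h : ∀ x ∈ N, x ≠ 1 → ∃ k : ℕ, orderOf x = p ^ k) : IsPGroup p N := by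
  intro x
  by_cases hx : (x : G) = 1
  · have hx1 : x = 1 := Subtype.ext hx
    exact ⟨0, by simp [hx1]⟩
  · obtain ⟨k, hk⟩ := h x x.2 hx
    refine ⟨k, ?_⟩
    rw [← hk]
    have := pow_orderOf_eq_one (x : G)
    exact Subtype.ext (by simpa using this)

/-- Derangements in a subnormal subgroup on which the transitive subgroup acts by inner
automorphisms. -/
lemma exists_derangement {N S : Subgroup G} (hNt : IsPretransitive N Ω) [Nonempty Ω]
    (hS1 : S ≠ ⊥) (hnorm : N ≤ Subgroup.normalizer (S : Set G))
    (hconj : ∀ n ∈ N, ∃ t ∈ S, ∀ z ∈ S, n⁻¹ * z * n = t⁻¹ * z * t) :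
    ∃ x ∈ S, ∀ ω : Ω, x • ω ≠ ω := by
  obtain ⟨a⟩ := ‹Nonempty Ω›
  let K : Subgroup S := stabilizer S a
  have hK : K ≠ ⊤ := by
    intro hK
    apply hS1
    rw [eq_bot_iff]
    intro t ht
    rw [Subgroup.mem_bot]
    apply FaithfulSMul.eq_of_smul_eq_smul (α := Ω)
    intro ω
    obtain ⟨n, hn⟩ := hNt.exists_smul_eq a ω
    have hn' : (n : G) • a = ω := hn
    rw [one_smul, ← hn']
    have h1 : (n : G)⁻¹ * t * n ∈ S := by
      have := conj_mem' hnorm (N.inv_mem n.2) ht
      simpa using this
    have h2 : (⟨_, h1⟩ : S) ∈ K := by rw [hK]; trivial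
    have h3 : ((n : G)⁻¹ * t * n) • a = a := h2
    calc t • (n : G) • a = (n : G) • ((n : G)⁻¹ * t * n) • a := by
          rw [← mul_smul, ← mul_smul]
          congr 1
          group
      _ = (n : G) • a := by rw [h3]
  obtain ⟨x, hx⟩ := exists_not_mem_conj K hK
  refine ⟨x, x.2, fun ω hω => ?_⟩
  obtain ⟨n, hn⟩ := hNt.exists_smul_eq a ω
  have hn' : (n : G) • a = ω := hn
  obtain ⟨t, ht, h⟩ := hconj n n.2
  apply hx ⟨t, ht⟩
  show (t⁻¹ * x * t : G) • a = a
  rw [← h x x.2, mul_smul, mul_smul, hn', hω, ← hn', inv_smul_smul]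

omit [Finite G] [FaithfulSMul G Ω] [Finite Ω] in
/-- Multiplying a derangement of order `p ^ j` by a commuting element of order `r` prime to `p`
gives a derangement. -/
lemma mul_derangement {x y : G} (hc : Commute x y) {r : ℕ} (hy : y ^ r = 1)
    (hcop : Nat.Coprime r (orderOf x)) (hpos : 0 < orderOf x)
    (hx : ∀ ω : Ω, x • ω ≠ ω) : ∀ ω : Ω, (x * y) • ω ≠ ω := by
  intro ω h
  have h1 : ∀ k : ℕ, ((x * y) ^ k) • ω = ω := by
    intro k
    induction k with
    | zero => simp
    | succ k ih => rw [pow_succ, mul_smul, h, ih]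
  have h2 : (x * y) ^ r = x ^ r := by
    rw [hc.mul_pow, hy, mul_one]
  obtain ⟨c, -, hcc⟩ := Nat.exists_mul_mod_eq_one_of_coprime hcop (by
    by_contra h3
    have h4 : orderOf x = 1 := by omega
    rw [orderOf_eq_one_iff] at h4
    apply hx ω
    rw [h4, one_smul])
  have h3 : (x ^ r) ^ c = x := by
    rw [← pow_mul]
    conv_rhs => rw [← pow_one x]
    rw [← hcc, pow_mod_orderOf]
  apply hx ω
  have h4 := h1 (r * c)
  rw [pow_mul, h2, h3] at h4
  exact h4

omit [MulAction G Ω] [FaithfulSMul G Ω] [Finite Ω] in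
/-- A minimal `V`-invariant `p`-subgroup is commutative. -/
lemma comm_of_pgroup {V S : Subgroup G} (hS : IsMinV V S) {p : ℕ} [Fact p.Prime]
    (hpg : IsPGroup p S) : ∀ x ∈ S, ∀ y ∈ S, x * y = y * x := by
  haveI : Nontrivial S := (Subgroup.nontrivial_iff_ne_bot S).2 hS.ne
  have hZ : Nontrivial (Subgroup.center S) := hpg.center_nontrivial
  let Z : Subgroup G := S ⊓ Subgroup.centralizer (S : Set G)
  have hZ1 : Z ≠ ⊥ := by
    intro h0
    obtain ⟨z, hz⟩ := exists_ne (1 : Subgroup.center S)
    apply hz
    have h1 : ((z : S) : G) ∈ Z := by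
      refine ⟨(z : S).2, ?_⟩
      show _ ∈ Subgroup.centralizer _
      rw [Subgroup.mem_centralizer_iff]
      intro s hs
      have := (Subgroup.mem_center_iff.1 z.2) ⟨s, hs⟩
      exact congrArg Subtype.val this
    rw [h0, Subgroup.mem_bot] at h1
    exact Subtype.ext (Subtype.ext h1)
  have hnorm : V ≤ Subgroup.normalizer (Z : Set G) := by
    apply le_normalizer_of_conj'
    intro v hv z hz
    refine ⟨conj_mem' hS.norm hv hz.1, ?_⟩
    show _ ∈ Subgroup.centralizer _
    rw [Subgroup.mem_centralizer_iff]
    intro s hs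
    have h1 : v⁻¹ * s * v ∈ S := by
      have := conj_mem' hS.norm (V.inv_mem hv) hs
      simpa using this
    have h2 := (Subgroup.mem_centralizer_iff.1 hz.2) _ h1
    have h3 : s = v * (v⁻¹ * s * v) * v⁻¹ := by group
    calc s * (v * z * v⁻¹) = v * ((v⁻¹ * s * v) * z) * v⁻¹ := by group
      _ = v * (z * (v⁻¹ * s * v)) * v⁻¹ := by rw [h2]
      _ = v * z * v⁻¹ * s := by group
  have hZS : Z = S := hS.min Z inf_le_left hZ1 hnorm
  intro x hx y hy
  rw [← hZS] at hx
  exact (Subgroup.mem_centralizer_iff.1 hx.2 y hy).symm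

theorem result {G Ω : Type*} [Group G] [Finite G] [MulAction G Ω] [FaithfulSMul G Ω] [Finite Ω]
    (hprim : MulAction.IsPreprimitive G Ω) (hΩ : 2 ≤ Nat.card Ω) (p : ℕ) (hp : p.Prime)
    (hder : ∀ g : G, (∀ ω : Ω, g • ω ≠ ω) → ∃ k : ℕ, orderOf g = p ^ k) :
    (∃ (N : Subgroup G) (r : ℕ), r.Prime ∧ N.Normal ∧ Cfsg.IsElementaryAbelian r N ∧
      MulAction.IsPretransitive N Ω ∧ ∀ a : Ω, MulAction.stabilizer N a = ⊥) ∨
    (∃ T : Subgroup G, T.Normal ∧ IsSimpleGroup ↥T ∧ ¬ IsMulCommutative ↥T ∧
      Subgroup.centralizer (T : Set G) = ⊥) := by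
  classical
  haveI := hprim
  haveI := Fact.mk hp
  haveI hneΩ : Nonempty Ω := Nat.card_pos_iff.1 (by omega) |>.1
  haveI : Nontrivial Ω := Finite.one_lt_card_iff_nontrivial.1 (by omega)
  haveI : Nontrivial G := by
    obtain ⟨a, b, hab⟩ := exists_pair_ne Ω
    obtain ⟨g, hg⟩ := exists_smul_eq G a b
    refine ⟨g, 1, ?_⟩
    rintro rfl
    rw [one_smul] at hg
    exact hab hg
  obtain ⟨N, hNn, hN1, hmin⟩ := H01.exists_minimal_normal (G := G)
  have hNt := trans_of_normal (Ω := Ω) hNn hN1
  by_cases hcomm : IsMulCommutative N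
  · left
    have hcN : ∀ x ∈ N, ∀ y ∈ N, x * y = y * x := by
      intro x hx y hy
      have := hcomm.is_comm.comm ⟨x, hx⟩ ⟨y, hy⟩
      exact congrArg Subtype.val this
    have hcard : Nat.card N ≠ 1 := by
      intro h
      exact hN1 (Subgroup.card_eq_one.1 h)
    obtain ⟨r, hr, hrd⟩ := Nat.exists_prime_and_dvd hcard
    haveI := Fact.mk hr
    obtain ⟨c, hc⟩ := exists_prime_orderOf_dvd_card' (G := N) r hrd
    let M : Subgroup G :=
      { carrier := {x | x ∈ N ∧ x ^ r = 1}
        mul_mem' := by
          rintro x y ⟨hx, hx'⟩ ⟨hy, hy'⟩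
          refine ⟨N.mul_mem hx hy, ?_⟩
          rw [(show Commute x y from hcN x hx y hy).mul_pow, hx', hy', one_mul]
        one_mem' := ⟨N.one_mem, one_pow _⟩
        inv_mem' := by
          rintro x ⟨hx, hx'⟩
          exact ⟨N.inv_mem hx, by rw [inv_pow, hx', inv_one]⟩ }
    have hMn : M.Normal := by
      constructor
      rintro x ⟨hx, hx'⟩ g
      refine ⟨hNn.conj_mem x hx g, ?_⟩
      rw [conj_pow, hx', mul_one, mul_inv_cancel]
    have hMN : M ≤ N := fun x hx => hx.1
    have hM1 : M ≠ ⊥ := by
      intro h0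
      have hcmem : (c : G) ∈ M := ⟨c.2, by
        have := pow_orderOf_eq_one c
        rw [hc] at this
        exact_mod_cast congrArg Subtype.val this⟩
      rw [h0, Subgroup.mem_bot] at hcmem
      have : c = 1 := Subtype.ext hcmem
      rw [this, orderOf_one] at hc
      exact hr.one_lt.ne hc
    have hMeq : M = N := (hmin M hMn hMN).resolve_left hM1
    refine ⟨N, r, hr, hNn, ⟨hcomm, ?_⟩, hNt, ?_⟩
    · intro a ha
      rw [← hMeq] at ha
      exact ha.2
    · intro a
      rw [eq_bot_iff]
      intro x hx
      rw [Subgroup.mem_bot]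
      apply Subtype.ext
      have hx' : (x : G) • a = a := hx
      exact semireg_of_commute hNt (fun m hm n hn => hcN m hm n hn) x.2 hx'
  · right
    obtain ⟨S, hS⟩ := exists_isMinV hN1
    by_cases hSN : S = N
    · subst hSN
      refine ⟨S, hNn, ?_, hcomm, ?_⟩
      · haveI : Nontrivial S := (Subgroup.nontrivial_iff_ne_bot S).2 hN1
        refine ⟨?_⟩
        intro M hM
        let M' : Subgroup G := M.map S.subtype
        have hM'S : M' ≤ S := by
          rintro _ ⟨y, _, rfl⟩
          exact y.2
        have hM'mem : ∀ y : S, (y : G) ∈ M' ↔ y ∈ M := by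
          intro y
          constructor
          · rintro ⟨z, hz, hzy⟩
            have : z = y := Subtype.ext hzy
            rwa [← this]
          · intro h
            exact ⟨y, h, rfl⟩
        by_cases hb : M' = ⊥
        · left
          rw [eq_bot_iff]
          intro y hy
          have := (hM'mem y).2 hy
          rw [hb, Subgroup.mem_bot] at this
          rw [Subgroup.mem_bot]
          exact Subtype.ext this
        · right
          have hnormal : S ≤ Subgroup.normalizer (M' : Set G) := by
            apply le_normalizer_of_conj'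
            intro a ha x hx
            have h1 := hM.conj_mem ⟨x, hM'S hx⟩ ((hM'mem _).1 hx) ⟨a, ha⟩
            exact (hM'mem _).2 h1
          have h2 := hS.min M' hM'S hb hnormal
          rw [eq_top_iff]
          intro y _
          apply (hM'mem y).1
          rw [h2]
          exact y.2
      · by_contra hC
        haveI := hNn
        have hCn : (Subgroup.centralizer (S : Set G)).Normal := inferInstance
        have hCt := trans_of_normal (Ω := Ω) hCn hC
        have hsemi : ∀ x ∈ S, x ≠ 1 → ∀ ω : Ω, x • ω ≠ ω := by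
          intro x hx hx1 ω hfix
          apply hx1
          refine semireg_of_commute (M := Subgroup.centralizer (S : Set G)) (N := S) hCt ?_ hx hfix
          intro m hm n hn
          exact ((Subgroup.mem_centralizer_iff.1 hm) n hn).symm
        have hpg : IsPGroup p S := isPGroup_of_orders (fun x hx hx1 => hder x (hsemi x hx hx1))
        apply hcomm
        have h1 := comm_of_pgroup hS hpg
        exact ⟨⟨fun x y => Subtype.ext (h1 x x.2 y y.2)⟩⟩
    · exfalso
      have hcl : Subgroup.normalClosure (S : Set G) = N := by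
        have h1 : Subgroup.normalClosure (S : Set G) ≤ N :=
          Subgroup.normalClosure_le_normal (fun x hx => hS.le hx)
        rcases hmin _ Subgroup.normalClosure_normal h1 with h | h
        · exfalso
          apply hS.ne
          rw [eq_bot_iff, ← h]
          exact Subgroup.le_normalClosure
        · exact h
      have hgen : ∀ x ∈ Group.conjugatesOfSet (S : Set G), ∃ g : G, x ∈ cj g S := by
        intro x hx
        rw [Group.mem_conjugatesOfSet_iff] at hx
        obtain ⟨a, ha, hax⟩ := hx
        obtain ⟨g, hg⟩ := isConj_iff.1 hax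
        refine ⟨g, ?_⟩
        rw [mem_cj, ← hg]
        have h3 : g⁻¹ * (g * a * g⁻¹) * g = a := by group
        rwa [h3]
      have hconj : ∀ n ∈ N, ∃ t ∈ S, ∀ z ∈ S, n⁻¹ * z * n = t⁻¹ * z * t := by
        intro n hn
        rw [← hcl] at hn
        induction hn using Subgroup.closure_induction with
        | mem x hx =>
          obtain ⟨g, hg⟩ := hgen x hx
          by_cases hgS : cj g S = S
          · rw [hgS] at hg
            exact ⟨x, hg, fun z _ => rfl⟩
          · have hd := isMinV_disjoint (isMinV_cj hNn hS g) hS hgS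
            refine ⟨1, S.one_mem, fun z hz => ?_⟩
            have hcomm' := commute_of_normalize ((isMinV_cj hNn hS g).le.trans hS.norm)
              (hS.le.trans (isMinV_cj hNn hS g).norm) hd hg hz
            have h3 : x⁻¹ * z * x = z := by
              rw [mul_assoc, ← hcomm', inv_mul_cancel_left]
            rw [h3]
            group
        | one => exact ⟨1, S.one_mem, fun z _ => by group⟩
        | mul x y _ _ hx hy =>
          obtain ⟨t₁, ht₁, h₁⟩ := hx
          obtain ⟨t₂, ht₂, h₂⟩ := hy
          refine ⟨t₁ * t₂, S.mul_mem ht₁ ht₂, fun z hz => ?_⟩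
          have h3 : t₁⁻¹ * z * t₁ ∈ S := S.mul_mem (S.mul_mem (S.inv_mem ht₁) hz) ht₁
          have h4 := h₂ _ h3
          have h5 := h₁ z hz
          calc (x * y)⁻¹ * z * (x * y) = y⁻¹ * (x⁻¹ * z * x) * y := by group
            _ = y⁻¹ * (t₁⁻¹ * z * t₁) * y := by rw [h5]
            _ = t₂⁻¹ * (t₁⁻¹ * z * t₁) * t₂ := h4
            _ = _ := by group
        | inv x _ hx =>
          obtain ⟨t, ht, h⟩ := hx
          refine ⟨t⁻¹, S.inv_mem ht, fun z hz => ?_⟩
          have h3 : t * z * t⁻¹ ∈ S := S.mul_mem (S.mul_mem ht hz) (S.inv_mem ht)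
          have h4 := h _ h3
          have h5 : t⁻¹ * (t * z * t⁻¹) * t = z := by group
          rw [h5] at h4
          have h6 : x * z * x⁻¹ = t * z * t⁻¹ := by
            calc x * z * x⁻¹ = x * (x⁻¹ * (t * z * t⁻¹) * x) * x⁻¹ := by rw [h4]
              _ = t * z * t⁻¹ := by group
          rw [inv_inv, inv_inv, h6]
      -- a derangement in `S`
      obtain ⟨x, hxS, hx⟩ := exists_derangement hNt hS.ne hS.norm hconj
      obtain ⟨j, hj⟩ := hder x hx
      -- `S` is not a `p`-group
      have hnotp : ¬ IsPGroup p S := by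
        intro hpg
        have hcS := comm_of_pgroup hS hpg
        apply hcomm
        let Z : Subgroup G := N ⊓ Subgroup.centralizer (N : Set G)
        have hZn : Z.Normal := by
          haveI := hNn
          infer_instance
        have hSZ : S ≤ Z := by
          intro z hz
          refine ⟨hS.le hz, ?_⟩
          show _ ∈ Subgroup.centralizer _
          rw [Subgroup.mem_centralizer_iff]
          intro n hn
          obtain ⟨t, ht, h⟩ := hconj n hn
          have h1 := h z hz
          have h2 : t⁻¹ * z * t = z := by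
            rw [mul_assoc, hcS z hz t ht, inv_mul_cancel_left]
          rw [h2] at h1
          calc n * z = n * (n⁻¹ * z * n) := by rw [h1]
            _ = z * n := by group
        have hZ1 : Z ≠ ⊥ := by
          intro h0
          apply hS.ne
          rw [eq_bot_iff, ← h0]
          exact hSZ
        have hZeq : Z = N := (hmin Z hZn inf_le_left).resolve_left hZ1
        refine ⟨⟨fun a b => Subtype.ext ?_⟩⟩
        have ha : (a : G) ∈ Z := by rw [hZeq]; exact a.2
        exact (Subgroup.mem_centralizer_iff.1 ha.2 b b.2).symm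
      -- a prime `r ≠ p` dividing the order of `S`
      have hexr : ∃ r : ℕ, r.Prime ∧ r ≠ p ∧ r ∣ Nat.card S := by
        by_contra hcon
        push Not at hcon
        apply hnotp
        have h0 : Nat.card S ≠ 0 := Nat.card_pos.ne'
        have h1 := Nat.eq_prime_pow_of_unique_prime_dvd (p := p) h0
          (fun {d} hd hdS => by
            by_contra hne
            exact hcon d hd hne hdS)
        exact IsPGroup.of_card h1
      obtain ⟨r, hr, hrp, hrd⟩ := hexr
      haveI := Fact.mk hr
      obtain ⟨y₀, hy₀⟩ := exists_prime_orderOf_dvd_card' (G := S) r hrd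
      -- a conjugate of `S` different from `S`
      have hexg : ∃ g : G, cj g S ≠ S := by
        by_contra hcon
        push Not at hcon
        have hSn : S.Normal := by
          constructor
          intro n hn g
          rw [← hcon g, mem_cj]
          have h3 : g⁻¹ * (g * n * g⁻¹) * g = n := by group
          rwa [h3]
        exact hSN ((hmin S hSn hS.le).resolve_left hS.ne)
      obtain ⟨g, hg⟩ := hexg
      have hd := isMinV_disjoint (isMinV_cj hNn hS g) hS hg
      let y : G := g * (y₀ : G) * g⁻¹
      have hyS : y ∈ cj g S := by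
        rw [mem_cj]
        have h3 : g⁻¹ * y * g = y₀ := by
          simp only [y]
          group
        rw [h3]
        exact y₀.2
      have hcomm' : Commute y x := commute_of_normalize ((isMinV_cj hNn hS g).le.trans hS.norm)
        (hS.le.trans (isMinV_cj hNn hS g).norm) hd hyS hxS
      have hyord : orderOf y = r := by
        have h1 : y = MulAut.conj g (y₀ : G) := rfl
        rw [h1, MulEquiv.orderOf_eq, Subgroup.orderOf_coe, hy₀]
      have hyr : y ^ r = 1 := by
        rw [← hyord]
        exact pow_orderOf_eq_one y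
      have hcop : Nat.Coprime r (orderOf x) := by
        rw [hj]
        exact Nat.Coprime.pow_right _ ((Nat.coprime_primes hr hp).2 hrp)
      have hz := mul_derangement hcomm'.symm hyr hcop (orderOf_pos x) hx
      obtain ⟨k, hk⟩ := hder _ hz
      -- order of the product
      have h1 : (x * y) ^ (p ^ k) = 1 := by
        rw [← hk]
        exact pow_orderOf_eq_one _
      rw [hcomm'.symm.mul_pow] at h1
      have h2 : y ^ (p ^ k) ∈ S ⊓ cj g S := by
        constructor
        · have h3 : y ^ (p ^ k) = (x ^ (p ^ k))⁻¹ := by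
            rw [eq_inv_iff_mul_eq_one]
            rw [← hcomm'.symm.pow_pow]
            exact h1
          rw [h3]
          exact S.inv_mem (S.pow_mem hxS _)
        · exact (cj g S).pow_mem hyS _
      have hd' : S ⊓ cj g S = ⊥ := by rw [inf_comm]; exact hd
      rw [hd', Subgroup.mem_bot] at h2
      have h3 : r ∣ p ^ k := by
        rw [← hyord]
        exact orderOf_dvd_of_pow_eq_one h2
      have h4 := hr.dvd_of_dvd_pow h3
      exact hrp ((Nat.prime_dvd_prime_iff_eq hr hp).1 h4)

end Cfsg.Agent.S3556
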