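import Mathlib
import Cfsg.Statements.S3557

set_option autoImplicit false
set_option linter.style.haveILetI false
open Cfsg

namespace Cfsg.Agent.S3557

open MulAction

section
variable {G Ω : Type*} [Group G] [Finite G] [MulAction G Ω] [FaithfulSMul G Ω] [Finite Ω]

/-- In a finite `p`-group, a nontrivial normal subgroup meets the centre nontrivially. -/
theorem normal_inf_center_ne_bot {Q : Type*} [Group Q] [Finite Q] {p : ℕ} [Fact p.Prime]
    (hG : IsPGroup p Q) (M : Subgroup Q) [M.Normal] (hM : M ≠ ⊥) :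
    ∃ z ∈ M, z ∈ Subgroup.center Q ∧ orderOf z = p := by
  classical
  have hMp : IsPGroup p M := hG.to_subgroup M
  have hpf := (Fact.out : p.Prime)
  have : Nontrivial M := (Subgroup.nontrivial_iff_ne_bot M).2 hM
  have hdvd : p ∣ Nat.card M := by
    obtain ⟨n, hn⟩ := IsPGroup.iff_card.mp hMp
    have h1 : 1 < Nat.card M := Finite.one_lt_card
    rw [hn] at h1 ⊢
    have : n ≠ 0 := by
      rintro rfl
      simp at h1
    exact dvd_pow_self p this
  have hfix : (1 : M) ∈ MulAction.fixedPoints (ConjAct Q) M := by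
    intro g
    exact smul_one g
  obtain ⟨b, hb, hne⟩ := (hG.of_equiv ConjAct.toConjAct).exists_fixed_point_of_prime_dvd_card_of_fixed_point
    M hdvd hfix
  have hbc : (b : Q) ∈ Subgroup.center Q := by
    rw [Subgroup.mem_center_iff]
    intro g
    have := hb (ConjAct.toConjAct g)
    have h2 : ((ConjAct.toConjAct g • b : M) : Q) = (b : Q) := congrArg Subtype.val this
    have h3 : g * (b : Q) * g⁻¹ = b := by
      rw [ConjAct.Subgroup.val_conj_smul, ConjAct.smul_def] at h2
      simpa using h2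
    calc g * (b : Q) = g * (b : Q) * g⁻¹ * g := by group
      _ = b * g := by rw [h3]
  -- now take a power of order `p`
  obtain ⟨k, hk⟩ := (IsPGroup.iff_orderOf.mp hG) (b : Q)
  have hb1 : (b : Q) ≠ 1 := by
    intro h
    exact hne (Subtype.ext h.symm)
  have hk0 : k ≠ 0 := by
    rintro rfl
    rw [pow_zero, orderOf_eq_one_iff] at hk
    exact hb1 hk
  obtain ⟨j, rfl⟩ : ∃ j, k = j + 1 := ⟨k - 1, by omega⟩
  refine ⟨(b : Q) ^ (p ^ j), M.pow_mem b.2 _, (Subgroup.center Q).pow_mem hbc _, ?_⟩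
  have hdvd2 : p ^ j ∣ orderOf (b : Q) := by
    rw [hk]
    exact pow_dvd_pow _ (Nat.le_succ j)
  rw [orderOf_pow_of_dvd (pow_ne_zero _ hpf.ne_zero) hdvd2, hk, pow_succ]
  exact Nat.mul_div_cancel_left _ (pow_pos hpf.pos _)

lemma dvd_orbit (p : ℕ) (hp : p.Prime) (P : Sylow p G) (htrans : IsPretransitive G Ω)
    (hcard : Nat.card Ω = 2 * p ^ 2) (x : Ω) :
    p ^ 2 ∣ (orbit (P : Subgroup G) x).ncard := by
  haveI := Fact.mk hp
  have h1 : (stabilizer G x).index = 2 * p ^ 2 := by
    rw [index_stabilizer_of_transitive, hcard]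
  set Q : Subgroup G := stabilizer G x ⊓ (P : Subgroup G) with hQ
  have h2 : (stabilizer G x).index ∣ Q.index := Subgroup.index_dvd_of_le inf_le_left
  have h3 : Q.relIndex (P : Subgroup G) * (P : Subgroup G).index = Q.index :=
    Subgroup.relIndex_mul_index inf_le_right
  have h4 : ¬ p ∣ (P : Subgroup G).index := P.not_dvd_index
  have h5 : Nat.Coprime (p ^ 2) (P : Subgroup G).index :=
    Nat.Coprime.pow_left _ ((Nat.Prime.coprime_iff_not_dvd hp).2 h4)
  have h6 : p ^ 2 ∣ Q.relIndex (P : Subgroup G) * (P : Subgroup G).index := by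
    rw [h3]
    exact dvd_trans (h1 ▸ Dvd.intro_left 2 rfl) h2
  have h7 : p ^ 2 ∣ Q.relIndex (P : Subgroup G) := h5.dvd_of_dvd_mul_right h6
  rw [← index_stabilizer]
  have h8 : stabilizer (P : Subgroup G) x = Q.subgroupOf (P : Subgroup G) := by
    ext g
    simp only [mem_stabilizer_iff, Subgroup.mem_subgroupOf, hQ, Subgroup.mem_inf, g.2, and_true]
    rfl
  rw [h8]
  exact h7

/-- The key case. -/
lemma core_case (p : ℕ) (hp : p.Prime) (R : Subgroup G) (hRp : IsPGroup p R)
    (hmax : ∀ {Q : Subgroup G}, IsPGroup p Q → R ≤ Q → Q = R)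
    (hcl : ∀ σ : Equiv.Perm Ω, (∀ a b : Ω, ∃ g : G, σ a = g • a ∧ σ b = g • b) →
      ∃ g : G, ∀ a : Ω, σ a = g • a)
    (a b : Ω) (hcov : ∀ x, x ∈ orbit R a ∨ x ∈ orbit R b)
    (hdisj : ∀ x, x ∈ orbit R a → x ∉ orbit R b)
    (hca : (orbit R a).ncard = p ^ 2)
    (hcb : (orbit R b).ncard = p ^ 2)
    (hK2 : ∀ g : R, (∀ x ∈ orbit R b, g • x = x) → g = 1)
    (k : R) (hk : k ≠ 1) (hk1 : ∀ x ∈ orbit R a, k • x = x) :
    False := by
  classical
  haveI := Fact.mk hp
  set O₁ := orbit R a with hO₁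
  set O₂ := orbit R b with hO₂
  have hinv1 : ∀ (g : R) x, x ∈ O₁ → g • x ∈ O₁ := fun g x hx => mem_orbit_of_mem_orbit g hx
  have hinv2 : ∀ (g : R) x, x ∈ O₂ → g • x ∈ O₂ := fun g x hx => mem_orbit_of_mem_orbit g hx
  -- the kernel on `O₁`
  let K : Subgroup R :=
    { carrier := {g | ∀ x ∈ O₁, g • x = x}
      mul_mem' := by
        intro g₁ g₂ h₁ h₂ x hx
        rw [mul_smul, h₂ x hx, h₁ x hx]
      one_mem' := by
        intro x _
        exact one_smul _ _
      inv_mem' := by
        intro g h x hx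
        have := h x hx
        rw [inv_smul_eq_iff, this] }
  have hKmem : ∀ g : R, g ∈ K ↔ ∀ x ∈ O₁, g • x = x := fun g => Iff.rfl
  have hKn : K.Normal := by
    constructor
    intro g hg h x hx
    have h1 : h⁻¹ • x ∈ O₁ := hinv1 _ _ hx
    have h2 := hg _ h1
    rw [mul_smul, mul_smul, h2, smul_inv_smul]
  let S : Subgroup R := stabilizer R b
  have hSi : S.index = p ^ 2 := by
    rw [← hcb]
    exact index_stabilizer R b
  have hTi : (stabilizer R a).index = p ^ 2 := by
    rw [← hca]
    exact index_stabilizer R a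
  -- `K` moves `b`
  have hmove : ∃ k' ∈ K, k' • b ≠ b := by
    by_contra hcon
    push Not at hcon
    apply hk
    apply hK2
    intro x hx
    obtain ⟨h, rfl⟩ := mem_orbit_iff.mp hx
    have h1 : h⁻¹ * k * h ∈ K := by
      have := hKn.conj_mem k (hk1) h⁻¹
      simpa using this
    have h2 := hcon _ h1
    rw [mul_smul, mul_smul] at h2
    rw [inv_smul_eq_iff] at h2
    exact h2
  let M : Subgroup R := S ⊔ K
  have hSM : S ≤ M := le_sup_left
  have hKM : K ≤ M := le_sup_right
  have hSne : S ≠ M := by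
    obtain ⟨k', hk', hk'b⟩ := hmove
    intro h
    have h1 : k' ∈ S := h ▸ hKM hk'
    exact hk'b h1
  have hMi1 : M.index ∣ p ^ 2 := hSi ▸ Subgroup.index_dvd_of_le hSM
  have hMi2 : M.index ≠ p ^ 2 := by
    intro h
    apply hSne
    have h3 : S.index = M.index := by rw [hSi, h]
    apply Subgroup.eq_of_le_of_card_ge hSM
    have h4 := Subgroup.card_mul_index S
    have h5 := Subgroup.card_mul_index M
    rw [h3] at h4
    have h6 : 0 < M.index := by rw [h]; exact pow_pos hp.pos 2
    exact (Nat.eq_of_mul_eq_mul_right h6 (h5.trans h4.symm)).le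
  have hMi3 : M.index = 1 ∨ M.index = p := by
    obtain ⟨i, hi, hi2⟩ := (Nat.dvd_prime_pow hp).1 hMi1
    interval_cases i
    · left
      simpa using hi2
    · right
      simpa using hi2
    · exact absurd (by simpa using hi2) hMi2
  have hMn : M.Normal := by
    rcases hMi3 with h | h
    · exact Subgroup.normal_of_index_eq_one h
    · apply Subgroup.normal_of_index_eq_minFac_card
      rw [h]
      obtain ⟨n, hn⟩ := IsPGroup.iff_card.mp hRp
      have hn0 : n ≠ 0 := by
        rintro rfl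
        have h2 := Subgroup.index_dvd_card M
        rw [hn, h] at h2
        simp only [pow_zero, Nat.dvd_one] at h2
        exact hp.one_lt.ne' h2
      rw [hn, Nat.Prime.pow_minFac hp hn0]
  -- main step: every element of `M` acts trivially on `O₁`
  have hmain : ∀ w ∈ M, ∀ x ∈ O₁, w • x = x := by
    intro w hw
    have hmix : ∀ a' ∈ O₁, ∀ b' ∈ O₂, ∃ g : R, g • a' = w • a' ∧ g • b' = b' := by
      intro a' ha' b' hb'
      obtain ⟨h, rfl⟩ := mem_orbit_iff.mp hb'
      have h1 : h⁻¹ * w * h ∈ M := by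
        have := hMn.conj_mem w hw h⁻¹
        simpa using this
      obtain ⟨s, hs, k', hk', hsk⟩ := Subgroup.mem_sup_of_normal_right.mp h1
      refine ⟨h * s * h⁻¹, ?_, ?_⟩
      · have h2 : w = (h * s * h⁻¹) * (h * k' * h⁻¹) := by
          have : h⁻¹ * w * h * h⁻¹ = s * k' * h⁻¹ := by rw [hsk]
          have h3 : w = h * (s * k') * h⁻¹ := by
            rw [hsk]
            group
          rw [h3]
          group
        have h4 : (h * k' * h⁻¹) ∈ K := hKn.conj_mem k' hk' h
        have h5 := h4 a' ha'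
        conv_rhs => rw [h2, mul_smul, h5]
      · have h6 : s • b = b := hs
        simp only [mul_smul, inv_smul_smul, h6]
    let f : Ω → Ω := fun x => if x ∈ O₁ then w • x else x
    let f' : Ω → Ω := fun x => if x ∈ O₁ then w⁻¹ • x else x
    have hff' : ∀ x, f (f' x) = x := by
      intro x
      by_cases hx : x ∈ O₁
      · simp only [f, f', hx, if_true, hinv1 _ _ hx, smul_inv_smul]
      · simp only [f, f', hx, if_false]
    have hf'f : ∀ x, f' (f x) = x := by
      intro x
      by_cases hx : x ∈ O₁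
      · simp only [f, f', hx, if_true, hinv1 _ _ hx, inv_smul_smul]
      · simp only [f, f', hx, if_false]
    let σ : Equiv.Perm Ω := ⟨f, f', hf'f, hff'⟩
    have hσ1 : ∀ x ∈ O₁, σ x = w • x := by
      intro x hx
      show f x = _
      simp only [f, hx, if_true]
    have hσ2 : ∀ x ∈ O₂, σ x = x := by
      intro x hx
      have hx' : x ∉ O₁ := fun h => hdisj x h hx
      show f x = _
      simp only [f, hx', if_false]
    obtain ⟨τ, hτ⟩ := hcl σ (by
      intro a' b'
      rcases hcov a' with ha' | ha' <;> rcases hcov b' with hb' | hb'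
      · exact ⟨w, by rw [hσ1 _ ha']; rfl, by rw [hσ1 _ hb']; rfl⟩
      · obtain ⟨g, hg1, hg2⟩ := hmix a' ha' b' hb'
        refine ⟨g, ?_, ?_⟩
        · rw [hσ1 _ ha', ← hg1]; rfl
        · rw [hσ2 _ hb']; exact hg2.symm
      · obtain ⟨g, hg1, hg2⟩ := hmix b' hb' a' ha'
        refine ⟨g, ?_, ?_⟩
        · rw [hσ2 _ ha']; exact hg2.symm
        · rw [hσ1 _ hb', ← hg1]; rfl
      · exact ⟨1, by rw [hσ2 _ ha', one_smul], by rw [hσ2 _ hb', one_smul]⟩)
    -- the overgroup
    let T : Subgroup G :=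
      { carrier := {g | ∃ x y : R, (∀ c ∈ O₁, g • c = x • c) ∧ (∀ c ∈ O₂, g • c = y • c)}
        mul_mem' := by
          rintro g₁ g₂ ⟨x₁, y₁, h1, h2⟩ ⟨x₂, y₂, h3, h4⟩
          refine ⟨x₁ * x₂, y₁ * y₂, ?_, ?_⟩
          · intro c hc
            rw [mul_smul, h3 c hc, mul_smul, ← h1 _ (hinv1 _ _ hc)]
          · intro c hc
            rw [mul_smul, h4 c hc, mul_smul, ← h2 _ (hinv2 _ _ hc)]
        one_mem' := ⟨1, 1, fun c _ => by simp, fun c _ => by simp⟩
        inv_mem' := by
          rintro g ⟨x, y, h1, h2⟩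
          refine ⟨x⁻¹, y⁻¹, ?_, ?_⟩
          · intro c hc
            have := h1 _ (hinv1 x⁻¹ _ hc)
            rw [smul_inv_smul] at this
            rw [inv_smul_eq_iff, this]
          · intro c hc
            have := h2 _ (hinv2 y⁻¹ _ hc)
            rw [smul_inv_smul] at this
            rw [inv_smul_eq_iff, this] }
    have hRT : R ≤ T := fun g hg => ⟨⟨g, hg⟩, ⟨g, hg⟩, fun _ _ => rfl, fun _ _ => rfl⟩
    have hTp : IsPGroup p T := by
      obtain ⟨n, hn⟩ := IsPGroup.iff_card.mp hRp
      intro g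
      refine ⟨n, ?_⟩
      obtain ⟨x, y, h1, h2⟩ := g.2
      have hpow1 : ∀ (e : ℕ), ∀ c ∈ O₁, (g : G) ^ e • c = x ^ e • c := by
        intro e
        induction e with
        | zero => intro c _; simp
        | succ e ih =>
          intro c hc
          rw [pow_succ, mul_smul, h1 c hc, ih _ (hinv1 _ _ hc), pow_succ, mul_smul]
      have hpow2 : ∀ (e : ℕ), ∀ c ∈ O₂, (g : G) ^ e • c = y ^ e • c := by
        intro e
        induction e with
        | zero => intro c _; simp
        | succ e ih =>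
          intro c hc
          rw [pow_succ, mul_smul, h2 c hc, ih _ (hinv2 _ _ hc), pow_succ, mul_smul]
      have hx1 : x ^ (p ^ n) = 1 := by
        rw [← hn]
        exact pow_card_eq_one'
      have hy1 : y ^ (p ^ n) = 1 := by
        rw [← hn]
        exact pow_card_eq_one'
      apply Subtype.ext
      show (g : G) ^ (p ^ n) = 1
      apply FaithfulSMul.eq_of_smul_eq_smul (α := Ω)
      intro c
      rcases hcov c with hc | hc
      · rw [hpow1 _ c hc, hx1]; simp
      · rw [hpow2 _ c hc, hy1]; simp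
    have hTeq : T = R := hmax hTp hRT
    have hτT : τ ∈ T := by
      refine ⟨w, 1, ?_, ?_⟩
      · intro c hc
        rw [← hτ, hσ1 c hc]
      · intro c hc
        rw [← hτ, hσ2 c hc, one_smul]
    have hτR : τ ∈ R := hTeq ▸ hτT
    have hτ1 : (⟨τ, hτR⟩ : R) = 1 := by
      apply hK2
      intro x hx
      show τ • x = x
      rw [← hτ, hσ2 x hx]
    have hτ2 : τ = 1 := congrArg Subtype.val hτ1
    intro x hx
    rw [← hσ1 x hx, hτ, hτ2, one_smul]
  have hMT : M ≤ stabilizer R a := fun w hw => hmain w hw a (mem_orbit_self a)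
  have hd : p ^ 2 ∣ M.index := hTi ▸ Subgroup.index_dvd_of_le hMT
  rcases hMi3 with h | h
  · rw [h] at hd
    have : p ^ 2 = 1 := Nat.dvd_one.mp hd
    have h2 : 1 < p ^ 2 := Nat.one_lt_pow (by norm_num) hp.one_lt
    omega
  · rw [h] at hd
    have h2 := Nat.le_of_dvd hp.pos hd
    have h3 : p < p ^ 2 := by
      nlinarith [hp.one_lt]
    omega

end

/-- Let G act faithfully and transitively on a finite set with 2p² points, p a prime, and suppose G is 2-closed: every permutation of the set which, on each ordered pair of points, agrees with some element of G, is itself induced by an element of G. Then some element of G of prime order fixes no point. -/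
theorem result {G Ω : Type*} [Group G] [Finite G] [MulAction G Ω] [FaithfulSMul G Ω] [Finite Ω]
    (htrans : MulAction.IsPretransitive G Ω) (p : ℕ) (hp : p.Prime) (hcard : Nat.card Ω = 2 * p ^ 2)
    (hcl : ∀ σ : Equiv.Perm Ω, (∀ a b : Ω, ∃ g : G, σ a = g • a ∧ σ b = g • b) → ∃ g : G, ∀ a : Ω, σ a = g • a) :
    ∃ g : G, (orderOf g).Prime ∧ ∀ ω : Ω, g • ω ≠ ω := by
  classical
  haveI := Fact.mk hp
  obtain ⟨P⟩ : Nonempty (Sylow p G) := inferInstance
  set R := (P : Subgroup G) with hR
  have hRp : IsPGroup p R := P.isPGroup'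
  have hΩne : Nonempty Ω := by
    have h : Nat.card Ω ≠ 0 := by
      rw [hcard]
      have := hp.pos
      positivity
    exact (Nat.card_ne_zero.mp h).1
  obtain ⟨a⟩ := hΩne
  have hdv := fun x : Ω => dvd_orbit p hp P htrans hcard x
  have hfin : ∀ s : Set Ω, s.Finite := fun s => s.toFinite
  have hpos : ∀ x : Ω, p ^ 2 ≤ (orbit R x).ncard := fun x =>
    Nat.le_of_dvd (Set.ncard_pos (hfin _) |>.2 ⟨x, mem_orbit_self x⟩) (hdv x)
  -- central elements which act non-trivially on an orbit act freely on it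
  have hfree : ∀ (z : R), z ∈ Subgroup.center R → ∀ x y : Ω, y ∈ orbit R x → z • y = y →
      ∀ c ∈ orbit R x, z • c = c := by
    intro z hz x y hy hzy c hc
    have hcy : c ∈ orbit R y := by
      rw [orbit_eq_iff.mpr hy]
      exact hc
    obtain ⟨h, rfl⟩ := mem_orbit_iff.mp hcy
    have hcomm : z * h = h * z := (Subgroup.mem_center_iff.mp hz h).symm
    rw [← mul_smul, hcomm, mul_smul, hzy]
  have hord : ∀ z : R, orderOf z = p → (orderOf (z : G)).Prime := by
    intro z hz
    rw [Subgroup.orderOf_coe, hz]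
    exact hp
  have hnt : ∀ z : R, orderOf z = p → z ≠ 1 := by
    intro z hz h
    rw [h, orderOf_one] at hz
    exact hp.one_lt.ne hz
  have hfaith : ∀ z : R, (∀ c : Ω, z • c = c) → z = 1 := by
    intro z hz
    apply Subtype.ext
    apply FaithfulSMul.eq_of_smul_eq_smul (α := Ω)
    intro c
    have := hz c
    simpa [Subgroup.smul_def] using this
  have hntR : Nontrivial R := by
    have h1 : (orbit R a).ncard ≠ 1 := by
      have h2 := hpos a
      have h3 : 1 < p ^ 2 := Nat.one_lt_pow (by norm_num) hp.one_lt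
      omega
    by_contra hcon
    rw [not_nontrivial_iff_subsingleton] at hcon
    apply h1
    have : orbit R a = {a} := by
      ext x
      constructor
      · rintro ⟨h, rfl⟩
        have : h = 1 := Subsingleton.elim _ _
        simp [this]
      · rintro rfl
        exact mem_orbit_self _
    rw [this, Set.ncard_singleton]
  -- the transitive case
  by_cases htr : ∀ x, x ∈ orbit R a
  · obtain ⟨z, -, hzc, hzo⟩ := normal_inf_center_ne_bot hRp (⊤ : Subgroup R) (by simp [Subgroup.ne_bot_iff_exists_ne_one])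
    refine ⟨(z : G), hord z hzo, ?_⟩
    intro ω hω
    apply hnt z hzo
    apply hfaith
    intro c
    exact hfree z hzc a ω (htr ω) hω c (htr c)
  push Not at htr
  obtain ⟨b, hb⟩ := htr
  have hdisj : ∀ x, x ∈ orbit R a → x ∉ orbit R b := by
    intro x hxa hxb
    apply hb
    rw [← orbit_eq_iff.mpr hxa]
    rw [orbit_eq_iff.mpr hxb]
    exact mem_orbit_self _
  have hdj : Disjoint (orbit R a) (orbit R b) := Set.disjoint_left.mpr hdisj
  have hun : (orbit R a ∪ orbit R b).ncard = (orbit R a).ncard + (orbit R b).ncard :=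
    Set.ncard_union_eq hdj (hfin _) (hfin _)
  have hle : (orbit R a ∪ orbit R b).ncard ≤ 2 * p ^ 2 := by
    rw [← hcard, ← Set.ncard_univ]
    exact Set.ncard_le_ncard (Set.subset_univ _) (hfin _)
  have h1 := hpos a
  have h2 := hpos b
  have hca : (orbit R a).ncard = p ^ 2 := by omega
  have hcb : (orbit R b).ncard = p ^ 2 := by omega
  have hcov : ∀ x, x ∈ orbit R a ∨ x ∈ orbit R b := by
    have heq : orbit R a ∪ orbit R b = Set.univ := by
      apply Set.eq_of_subset_of_ncard_le (Set.subset_univ _) _ (hfin _)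
      rw [Set.ncard_univ, hcard]
      omega
    intro x
    have : x ∈ orbit R a ∪ orbit R b := heq ▸ Set.mem_univ x
    exact this
  -- the two kernels
  have hinv : ∀ (g : R) (u x : Ω), x ∈ orbit R u → g • x ∈ orbit R u :=
    fun g u x hx => mem_orbit_of_mem_orbit g hx
  let Kr : Ω → Subgroup R := fun u =>
    { carrier := {g | ∀ x ∈ orbit R u, g • x = x}
      mul_mem' := by
        intro g₁ g₂ h₁ h₂ x hx
        rw [mul_smul, h₂ x hx, h₁ x hx]
      one_mem' := by
        intro x _
        exact one_smul _ _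
      inv_mem' := by
        intro g h x hx
        have := h x hx
        rw [inv_smul_eq_iff, this] }
  have hKn : ∀ u, (Kr u).Normal := by
    intro u
    constructor
    intro g hg h x hx
    have h1 : h⁻¹ • x ∈ orbit R u := hinv _ _ _ hx
    have h2 := hg _ h1
    rw [mul_smul, mul_smul, h2, smul_inv_smul]
  have hcore : ∀ (u v : Ω), (∀ x, x ∈ orbit R u ∨ x ∈ orbit R v) →
      (∀ x, x ∈ orbit R u → x ∉ orbit R v) → (orbit R u).ncard = p ^ 2 → (orbit R v).ncard = p ^ 2 →
      Kr v = ⊥ → Kr u = ⊥ := by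
    intro u v h1 h2 h3 h4 h5
    by_contra hne
    obtain ⟨⟨k, hk⟩, hk1⟩ := (Subgroup.ne_bot_iff_exists_ne_one.mp hne)
    have hk1' : k ≠ 1 := fun h => hk1 (Subtype.ext h)
    refine core_case p hp R hRp P.is_maximal' hcl u v h1 h2 h3 h4 ?_ k hk1' hk
    intro g hg
    have : g ∈ Kr v := hg
    rw [h5] at this
    exact (Subgroup.mem_bot.mp this)
  have hinter : ∀ z : R, z ∈ Kr a → z ∈ Kr b → z = 1 := by
    intro z h1 h2
    apply hfaith
    intro c
    rcases hcov c with hc | hc
    · exact h1 c hc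
    · exact h2 c hc
  by_cases hab : Kr a = ⊥
  · have hb0 : Kr b = ⊥ := hcore b a (fun x => (hcov x).symm)
      (fun x h1 h2 => hdisj x h2 h1) hcb hca hab
    obtain ⟨z, -, hzc, hzo⟩ := normal_inf_center_ne_bot hRp (⊤ : Subgroup R)
      (by simp [Subgroup.ne_bot_iff_exists_ne_one])
    refine ⟨(z : G), hord z hzo, ?_⟩
    intro ω hω
    apply hnt z hzo
    rcases hcov ω with hc | hc
    · have : z ∈ Kr a := hfree z hzc a ω hc hω
      rw [hab] at this
      exact Subgroup.mem_bot.mp this
    · have : z ∈ Kr b := hfree z hzc b ω hc hω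
      rw [hb0] at this
      exact Subgroup.mem_bot.mp this
  · have hb0 : Kr b ≠ ⊥ := fun h => hab (hcore a b hcov hdisj hca hcb h)
    haveI := hKn a
    haveI := hKn b
    obtain ⟨z₁, hz₁, hz₁c, hz₁o⟩ := normal_inf_center_ne_bot hRp (Kr a) hab
    obtain ⟨z₂, hz₂, hz₂c, hz₂o⟩ := normal_inf_center_ne_bot hRp (Kr b) hb0
    have hcomm : Commute z₁ z₂ := (Subgroup.mem_center_iff.mp hz₁c z₂).symm
    have hzc : z₁ * z₂ ∈ Subgroup.center R := Subgroup.mul_mem _ hz₁c hz₂c
    have hz1 : z₁ * z₂ ≠ 1 := by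
      intro h
      have h3 : z₁ = z₂⁻¹ := eq_inv_of_mul_eq_one_left h
      have h4 : z₁ ∈ Kr b := h3 ▸ (Kr b).inv_mem hz₂
      exact hnt z₁ hz₁o (hinter z₁ hz₁ h4)
    have hzo : orderOf (z₁ * z₂) = p := by
      apply orderOf_eq_prime _ hz1
      rw [hcomm.mul_pow, ← hz₁o, pow_orderOf_eq_one, hz₁o, ← hz₂o, pow_orderOf_eq_one, one_mul]
    refine ⟨((z₁ * z₂ : R) : G), hord _ hzo, ?_⟩
    intro ω hω
    have hω' : (z₁ * z₂) • ω = ω := hω
    rcases hcov ω with hc | hc
    · have h3 : z₂ • ω ∈ orbit R a := hinv _ _ _ hc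
      have h4 : z₁ • (z₂ • ω) = z₂ • ω := hz₁ _ h3
      rw [mul_smul, h4] at hω'
      have h5 : z₂ ∈ Kr a := hfree z₂ hz₂c a ω hc hω'
      exact hnt z₂ hz₂o (hinter z₂ h5 hz₂)
    · have h4 : z₂ • ω = ω := hz₂ _ hc
      rw [mul_smul, h4] at hω'
      have h5 : z₁ ∈ Kr b := hfree z₁ hz₁c b ω hc hω'
      exact hnt z₁ hz₁o (hinter z₁ hz₁ h5)

end Cfsg.Agent.S3557
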