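import Cfsg.Statements.S3634
import Cfsg.Agent.Lib.H17.PrimeGraph

set_option autoImplicit false
set_option linter.style.haveILetI false
open Cfsg

namespace Cfsg.Agent.S3634

open Subgroup

universe u

lemma sol_of_pgroup {X : Type*} [Group X] [Finite X] {p : ℕ} (hp : p.Prime) (hX : IsPGroup p X) :
    Group.IsSolvable X := by
  haveI := Fact.mk hp
  haveI := hX.isNilpotent
  infer_instance

lemma aux {N : Type u} [Group N] [Finite N] (P₀ T : Subgroup N) [P₀.Normal] [T.Normal]
    {p q r : ℕ} (hp : p.Prime) (hq : q.Prime) (hr : r.Prime) (hpq : p ≠ q) (hpr : p ≠ r)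
    (hqr : q ≠ r) (hP : IsPGroup p P₀) (hpP : p ∣ Nat.card P₀) (hqT : q ∣ Nat.card T)
    (hrT : r ∣ T.index) :
    (∃ x : N, orderOf x = p * q) ∨ (∃ x : N, orderOf x = p * r) ∨ (∃ x : N, orderOf x = q * r) := by
  classical
  haveI := Fact.mk hp
  haveI := Fact.mk hq
  haveI := Fact.mk hr
  let PQ : Sylow q T := default
  set Q₀ : Subgroup N := PQ.map T.subtype with hQ₀
  have hFr : normalizer (Q₀ : Set N) ⊔ T = ⊤ := Sylow.normalizer_sup_eq_top PQ
  have hQp : IsPGroup q Q₀ := PQ.isPGroup'.map T.subtype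
  have hqQ : q ∣ Nat.card Q₀ := by
    rw [hQ₀, Subgroup.card_map_of_injective T.subtype_injective]
    exact PQ.dvd_card_of_dvd_card hqT
  set W := normalizer (Q₀ : Set N) with hW
  have hrW : r ∣ Nat.card W := by
    have h1 : T.relIndex W = T.index := by
      rw [← Subgroup.relIndex_sup_right, hFr, Subgroup.relIndex_top_right]
    have h2 : T.relIndex W ∣ Nat.card W := Subgroup.relIndex_dvd_card T W
    rw [h1] at h2
    exact hrT.trans h2
  obtain ⟨y, hy⟩ := exists_prime_orderOf_dvd_card' r hrW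
  set y₀ : N := (y : N) with hy₀
  have hy₀o : orderOf y₀ = r := by
    rw [hy₀, Subgroup.orderOf_coe, hy]
  set Y : Subgroup N := Q₀ ⊔ Subgroup.zpowers y₀ with hY
  have hYsol : Group.IsSolvable Y := by
    refine H17.sol_sup Q₀ (Subgroup.zpowers y₀) ?_ (sol_of_pgroup hq hQp) inferInstance
    rw [Subgroup.zpowers_le]
    exact y.2
  set X : Subgroup N := P₀ ⊔ Y with hX
  have hXsol : Group.IsSolvable X := by
    refine H17.sol_sup P₀ Y ?_ (sol_of_pgroup hp hP) hYsol
    rw [Subgroup.normalizer_eq_top_iff.2 inferInstance]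
    exact le_top
  have hpX : p ∣ Nat.card X := hpP.trans (Subgroup.card_dvd_of_le le_sup_left)
  have hqX : q ∣ Nat.card X := hqQ.trans
    (Subgroup.card_dvd_of_le (le_sup_left.trans (le_sup_right : Y ≤ X)))
  have hrX : r ∣ Nat.card X := by
    rw [← hy₀o, ← Nat.card_zpowers]
    exact Subgroup.card_dvd_of_le (le_sup_right.trans (le_sup_right : Y ≤ X))
  rcases H17.three_primes _ X rfl hp hq hr hpq hpr hqr hpX hqX hrX with ⟨z, hz⟩ | ⟨z, hz⟩ | ⟨z, hz⟩
  · exact Or.inl ⟨z, by rw [Subgroup.orderOf_coe, hz]⟩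
  · exact Or.inr (Or.inl ⟨z, by rw [Subgroup.orderOf_coe, hz]⟩)
  · exact Or.inr (Or.inr ⟨z, by rw [Subgroup.orderOf_coe, hz]⟩)

theorem result {G : Type*} [Group G] [Finite G] (K M : Subgroup G) [K.Normal] [M.Normal] (hKM : K ≤ M)
    (p q r : ℕ) (hp : p.Prime) (hq : q.Prime) (hr : r.Prime) (hpq : p ≠ q) (hpr : p ≠ r) (hqr : q ≠ r)
    (hpK : p ∣ Nat.card ↥K) (hqM : q ∣ Nat.card ↥M / Nat.card ↥K) (hrG : r ∣ Nat.card G / Nat.card ↥M) :
    (∃ x : G, orderOf x = p * q) ∨ (∃ x : G, orderOf x = p * r) ∨ (∃ x : G, orderOf x = q * r) := by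
  classical
  haveI := Fact.mk hp
  let PP : Sylow p K := default
  set P' : Subgroup G := PP.map K.subtype with hP'
  have hFr : normalizer (P' : Set G) ⊔ K = ⊤ := Sylow.normalizer_sup_eq_top PP
  have hP'p : IsPGroup p P' := PP.isPGroup'.map K.subtype
  have hpP' : p ∣ Nat.card P' := by
    rw [hP', Subgroup.card_map_of_injective K.subtype_injective]
    exact PP.dvd_card_of_dvd_card hpK
  set N := normalizer (P' : Set G) with hN
  have hP'N : P' ≤ N := le_normalizer
  haveI hP₀n : (P'.subgroupOf N).Normal :=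
    (Subgroup.normal_subgroupOf_iff_le_normalizer hP'N).2 le_rfl
  have hcP₀ : Nat.card (P'.subgroupOf N) = Nat.card P' :=
    Nat.card_congr (Subgroup.subgroupOfEquivOfLe hP'N).toEquiv
  have hP₀p : IsPGroup p (P'.subgroupOf N) :=
    hP'p.of_injective (Subgroup.subgroupOfEquivOfLe hP'N).toMonoidHom
      (Subgroup.subgroupOfEquivOfLe hP'N).injective
  -- the index
  have hsupM : N ⊔ M = ⊤ := by
    rw [eq_top_iff, ← hFr]
    exact sup_le_sup_left hKM _
  have hT : (M.subgroupOf N).index = M.index := by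
    show M.relIndex N = _
    rw [← Subgroup.relIndex_sup_right, hsupM, Subgroup.relIndex_top_right]
  have hMidx : Nat.card G / Nat.card M = M.index := by
    rw [← Subgroup.card_mul_index M]
    exact Nat.mul_div_cancel_left _ Nat.card_pos
  rw [hMidx] at hrG
  -- the order
  set U := M ⊓ N with hU
  have hUsup : U ⊔ K = M := by
    apply le_antisymm
    · exact sup_le inf_le_left hKM
    · intro m hm
      have h1 : m ∈ N ⊔ K := by rw [hFr]; trivial
      obtain ⟨n, hn, k, hk, rfl⟩ := Subgroup.mem_sup_of_normal_right.1 h1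
      have hnM : n ∈ M := by
        have := M.mul_mem hm (M.inv_mem (hKM hk))
        simpa using this
      exact Subgroup.mul_mem_sup ⟨hnM, hn⟩ hk
  have hKidx : Nat.card M / Nat.card K = K.relIndex M := by
    have h1 := Subgroup.card_mul_index (K.subgroupOf M)
    rw [Nat.card_congr (Subgroup.subgroupOfEquivOfLe hKM).toEquiv] at h1
    rw [← h1]
    exact Nat.mul_div_cancel_left _ Nat.card_pos
  rw [hKidx, ← hUsup, Subgroup.relIndex_sup_right] at hqM
  have hqU : q ∣ Nat.card U := hqM.trans (Subgroup.relIndex_dvd_card K U)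
  have hcT : Nat.card (M.subgroupOf N) = Nat.card U := by
    rw [hU, ← Subgroup.subgroupOf_map_subtype, Subgroup.card_map_of_injective N.subtype_injective]
  have := aux (P'.subgroupOf N) (M.subgroupOf N) hp hq hr hpq hpr hqr hP₀p (by rw [hcP₀]; exact hpP')
    (by rw [hcT]; exact hqU) (by rw [hT]; exact hrG)
  rcases this with ⟨z, hz⟩ | ⟨z, hz⟩ | ⟨z, hz⟩
  · exact Or.inl ⟨z, by rw [Subgroup.orderOf_coe, hz]⟩
  · exact Or.inr (Or.inl ⟨z, by rw [Subgroup.orderOf_coe, hz]⟩)
  · exact Or.inr (Or.inr ⟨z, by rw [Subgroup.orderOf_coe, hz]⟩)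

end Cfsg.Agent.S3634
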