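import Mathlib
import Cfsg.Statements.S3641
import Cfsg.Agent.Lib.H17.X17c
import Cfsg.Agent.Lib.H17.Q17b

set_option autoImplicit false
set_option maxRecDepth 100000
set_option linter.style.haveILetI false
open Cfsg

namespace Cfsg.Agent.S3641

open Cfsg.Agent.H17.Mob Cfsg.Agent.H17.Mob17

lemma sylow_mod {G : Type*} [Group G] [Finite G] (r : ℕ) (hr : r.Prime) : Nat.card (Sylow r G) % r = 1 := by
  haveI := Fact.mk hr
  have h1 := card_sylow_modEq_one r G
  have h2 : 1 % r = 1 := Nat.mod_eq_of_lt hr.one_lt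
  rw [Nat.ModEq, h2] at h1
  exact h1

lemma prime_of_mod (r n : ℕ) (hr : r.Prime) (h : n % r = 1) : r ∣ n - 1 := by
  have := Nat.dvd_sub_mod (n := r) n
  rwa [h] at this

lemma mem_of_coprime {G : Type*} [Group G] [Finite G] (K : Subgroup G) [K.Normal] (r : ℕ) [Fact r.Prime]
    (hcop : Nat.Coprime r (Nat.card (G ⧸ K))) (R : Sylow r G) (x : G) (hx : x ∈ (R : Subgroup G)) : x ∈ K := by
  obtain ⟨k, hk⟩ := IsPGroup.iff_orderOf.mp R.isPGroup' ⟨x, hx⟩
  have hk' : orderOf x = r ^ k := by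
    rw [← hk]
    exact (Subgroup.orderOf_mk x hx).symm
  have h1 : ((x : G) : G ⧸ K) ^ (r ^ k) = 1 := by
    rw [← QuotientGroup.mk_pow, ← hk', pow_orderOf_eq_one]
    rfl
  have h2 : orderOf ((x : G) : G ⧸ K) ∣ r ^ k := orderOf_dvd_of_pow_eq_one h1
  have h3 : orderOf ((x : G) : G ⧸ K) ∣ Nat.card (G ⧸ K) := orderOf_dvd_natCard _
  have h4 : orderOf ((x : G) : G ⧸ K) = 1 :=
    Nat.eq_one_of_dvd_coprimes (Nat.Coprime.pow_left k hcop) h2 h3
  exact (QuotientGroup.eq_one_iff x).1 (orderOf_eq_one_iff.mp h4)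

lemma smul_of_not_dvd {G : Type*} [Group G] [Finite G] (q : ℕ) [Fact q.Prime] (hd : ¬ q ∣ Nat.card G)
    (k : G) (S : Sylow q G) : k • S = S := by
  have hone : ∀ P : Sylow q G, (P : Subgroup G) = ⊥ := by
    intro P
    have h1 := Sylow.card_eq_multiplicity P
    rw [Nat.factorization_eq_zero_of_not_dvd hd, pow_zero] at h1
    exact Subgroup.eq_bot_of_card_eq _ h1
  apply Sylow.ext
  rw [hone, hone]

theorem result {G : Type*} [Group G] [Finite G] (hZ : Subgroup.center G = ⊥) (hNS : {c : ℕ | ∃ r : ℕ, r.Prime ∧ r ∣ Nat.card G ∧ c = Nat.card (Sylow r G)} = ({18, 136, 153} : Set ℕ))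
    {F : Type*} [Field F] [Fintype F] (hF : Fintype.card F = 17) :
    Nonempty (G ≃* Matrix.ProjectiveSpecialLinearGroup (Fin 2) F) ∨ Nonempty (G ≃* (GL (Fin 2) F ⧸ Subgroup.center (GL (Fin 2) F))) := by
  classical
  have hmem : ∀ r : ℕ, r.Prime → r ∣ Nat.card G →
      Nat.card (Sylow r G) = 18 ∨ Nat.card (Sylow r G) = 136 ∨ Nat.card (Sylow r G) = 153 := by
    intro r hr hd
    have h1 : Nat.card (Sylow r G) ∈ ({18, 136, 153} : Set ℕ) := by
      rw [← hNS]
      exact ⟨r, hr, hd, rfl⟩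
    simpa using h1
  have hex : ∃ r : ℕ, r.Prime ∧ r ∣ Nat.card G ∧ 18 = Nat.card (Sylow r G) := by
    have h1 : (18 : ℕ) ∈ ({18, 136, 153} : Set ℕ) := by simp
    rw [← hNS] at h1
    exact h1
  -- the number of Sylow 17-subgroups
  have hp17 : Nat.Prime 17 := by norm_num
  have h17 : Nat.card (Sylow 17 G) = 18 := by
    obtain ⟨r, hr, hd, he⟩ := hex
    have h1 := sylow_mod (G := G) r hr
    rw [← he] at h1
    have h2 := prime_of_mod r 18 hr h1
    have h3 : r = 17 := (Nat.prime_dvd_prime_iff_eq hr hp17).1 h2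
    subst h3
    exact he.symm
  have h18 : 18 ∣ Nat.card G := by
    obtain ⟨P⟩ : Nonempty (Sylow 17 G) := inferInstance
    rw [← h17, Sylow.card_eq_index_normalizer P]
    exact Subgroup.index_dvd_card _
  have hprimes : ∀ r : ℕ, r.Prime → r ∣ Nat.card G → r = 2 ∨ r = 3 ∨ r = 5 ∨ r = 17 ∨ r = 19 := by
    intro r hr hd
    have h1 := sylow_mod (G := G) r hr
    rcases hmem r hr hd with h | h | h
    · rw [h] at h1
      have h2 := prime_of_mod r 18 hr h1
      exact Or.inr (Or.inr (Or.inr (Or.inl ((Nat.prime_dvd_prime_iff_eq hr hp17).1 h2))))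
    · rw [h] at h1
      have h2 := prime_of_mod r 136 hr h1
      have e : 136 - 1 = 3 ^ 3 * 5 := by norm_num
      rw [e] at h2
      rcases (Nat.Prime.dvd_mul hr).1 h2 with h3 | h3
      · exact Or.inr (Or.inl ((Nat.prime_dvd_prime_iff_eq hr (by norm_num)).1 (hr.dvd_of_dvd_pow h3)))
      · exact Or.inr (Or.inr (Or.inl ((Nat.prime_dvd_prime_iff_eq hr (by norm_num)).1 h3)))
    · rw [h] at h1
      have h2 := prime_of_mod r 153 hr h1
      have e : 153 - 1 = 2 ^ 3 * 19 := by norm_num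
      rw [e] at h2
      rcases (Nat.Prime.dvd_mul hr).1 h2 with h3 | h3
      · exact Or.inl ((Nat.prime_dvd_prime_iff_eq hr (by norm_num)).1 (hr.dvd_of_dvd_pow h3))
      · exact Or.inr (Or.inr (Or.inr (Or.inr ((Nat.prime_dvd_prime_iff_eq hr (by norm_num)).1 h3))))
  have h2 : Nat.card (Sylow 2 G) = 153 := by
    have h1 := sylow_mod (G := G) 2 (by norm_num)
    rcases hmem 2 (by norm_num) (dvd_trans (by norm_num) h18) with h | h | h
    · rw [h] at h1; omega
    · rw [h] at h1; omega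
    · exact h
  have h3 : Nat.card (Sylow 3 G) = 136 := by
    have h1 := sylow_mod (G := G) 3 (by norm_num)
    rcases hmem 3 (by norm_num) (dvd_trans (by norm_num) h18) with h | h | h
    · rw [h] at h1; omega
    · exact h
    · rw [h] at h1; omega
  have h5 : 5 ∣ Nat.card G → Nat.card (Sylow 5 G) = 136 := by
    intro hd
    have h1 := sylow_mod (G := G) 5 (by norm_num)
    rcases hmem 5 (by norm_num) hd with h | h | h
    · rw [h] at h1; omega
    · exact h
    · rw [h] at h1; omega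
  have h19 : 19 ∣ Nat.card G → Nat.card (Sylow 19 G) = 153 := by
    intro hd
    have h1 := sylow_mod (G := G) 19 (by norm_num)
    rcases hmem 19 (by norm_num) hd with h | h | h
    · rw [h] at h1; omega
    · rw [h] at h1; omega
    · exact h
  -- the quotient
  set K : Subgroup G := sylKer G 17 with hK
  obtain ⟨ρ, m, hρ, hA, hcard, hcases⟩ := X_cases (X := G ⧸ K)
    ((card_sylow_quot_sylKer (G := G) 17).trans h17) (faithful_quot_sylKer 17)
  haveI : Fact (Nat.Prime 2) := ⟨by norm_num⟩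
  haveI : Fact (Nat.Prime 3) := ⟨by norm_num⟩
  haveI : Fact (Nat.Prime 5) := ⟨by norm_num⟩
  haveI : Fact (Nat.Prime 19) := ⟨by norm_num⟩
  have hm : m = 8 ∨ m = 16 := by
    rcases hcases with h | h
    · exact Or.inl h.1
    · exact Or.inr h.1
  have hw : slPerm (ZMod 17) A9 ∈ ρ.range := by
    rcases hcases with ⟨-, h⟩ | ⟨-, h⟩
    · rw [h]
      exact ⟨A9, rfl⟩
    · rw [h]
      exact ⟨Matrix.SpecialLinearGroup.toGL A9, rfl⟩
  have hs2 : Nat.card (Sylow 2 (G ⧸ K)) = 153 := by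
    rcases hm with rfl | rfl
    · exact X_syl2 hρ hA (by decide +kernel) 4 (by norm_num) hcard
    · exact X_syl2 hρ hA (by decide +kernel) 5 (by norm_num) hcard
  have hs3 : Nat.card (Sylow 3 (G ⧸ K)) = 136 := by
    apply X_syl3 hρ hA hcard hm hw
    have := card_quot_le K 3
    omega
  have hk2 : ∀ k ∈ K, ∀ S : Sylow 2 G, k • S = S := smul_eq_of_card K 2 (by rw [h2, hs2])
  have hk3 : ∀ k ∈ K, ∀ S : Sylow 3 G, k • S = S := smul_eq_of_card K 3 (by rw [h3, hs3])
  have hk17 : ∀ k ∈ K, ∀ S : Sylow 17 G, k • S = S := fun k hk => (mem_sylKer 17).1 hk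
  have hX5 : Nat.Coprime 5 (Nat.card (G ⧸ K)) := by
    rw [hcard]
    rcases hm with rfl | rfl <;> norm_num
  have hX19 : Nat.Coprime 19 (Nat.card (G ⧸ K)) := by
    rw [hcard]
    rcases hm with rfl | rfl <;> norm_num
  have no5 : ¬ 5 ∣ Nat.card G := by
    intro hd
    exact no_prime (G := G) 5 (by norm_num) (by norm_num) 8 (by norm_num) (by rw [h5 hd])
      (fun R x hx => mem_of_coprime K 5 hX5 R x hx)
  have no19 : ¬ 19 ∣ Nat.card G := by
    intro hd
    exact no_prime (G := G) 19 (by norm_num) (by norm_num) 9 (by norm_num) (by rw [h19 hd])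
      (fun R x hx => mem_of_coprime K 19 hX19 R x hx)
  have hall : ∀ q : ℕ, ∀ _ : Fact q.Prime, ∀ k ∈ K, ∀ S : Sylow q G, k • S = S := by
    intro q hq k hk S
    by_cases hd : q ∣ Nat.card G
    · rcases hprimes q hq.out hd with rfl | rfl | rfl | rfl | rfl
      · exact hk2 k hk S
      · exact hk3 k hk S
      · exact absurd hd no5
      · exact hk17 k hk S
      · exact absurd hd no19
    · exact smul_of_not_dvd q hd k S
  have hKbot : K = ⊥ := ker_bot K hZ hall
  let e0 : G ≃* (G ⧸ K) := (QuotientGroup.quotientBot.symm).trans (QuotientGroup.quotientMulEquivOfEq hKbot.symm)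
  have e : ZMod 17 ≃+* F := ZMod.ringEquivOfPrime F hp17 hF
  rcases hcases with ⟨rfl, hr⟩ | ⟨rfl, hr⟩
  · left
    obtain ⟨E⟩ := psl_of_range (p := 17) (by norm_num) hρ (by rw [hcard]; norm_num) hr.le
    obtain ⟨E2⟩ := psl_congr e
    exact ⟨e0.trans (E.trans E2)⟩
  · right
    obtain ⟨E⟩ := pgl_of_range (p := 17) hρ (by rw [hcard]; norm_num) hr.le
    obtain ⟨E2⟩ := pgl_congr e
    exact ⟨e0.trans (E.trans E2)⟩

end Cfsg.Agent.S3641
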