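import Mathlib
import Cfsg.Statements.S3806
import Cfsg.Agent.Lib.H14.MCPow2
-- import your own Cfsg.Agent.* helpers here

set_option autoImplicit false
open Cfsg

namespace Cfsg.Agent.S3806

open Cfsg.Agent.H14.MCP
open scoped commutatorElement

universe u

section
variable {G : Type u} [Group G] [Finite G] {p : ℕ} [hp : Fact p.Prime] {n : ℕ}

/-- Two elements of `L_{k-1}` commute modulo `L_{2k}`. -/
theorem comm_mem_two (h : MC p G n) {k : ℕ} (hk : 2 ≤ k) (hkn : 2 * k + 1 ≤ n)
    {a b : G} (ha : a ∈ LC G (k - 1)) (hb : b ∈ LC G (k - 1)) : ⁅a, b⁆ ∈ LC G (2 * k) := by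
  by_cases hak : a ∈ LC G k
  · have := lc_comm2 hak hb
    rwa [show k + (k - 1) + 1 = 2 * k by omega] at this
  · have hn : 2 ≤ n := by omega
    have hc1 := h.card_lc hn (j := k - 1) (by omega) (by omega)
    have hc2 := h.card_lc hn (j := k) (by omega) (by omega)
    have hc : Nat.card (LC G (k - 1)) = p * Nat.card (LC G k) := by
      rw [hc1, hc2, ← pow_succ']
      congr 1
      omega
    let H : Subgroup G := Subgroup.zpowers a ⊔ LC G k
    have hHL : H ≤ LC G (k - 1) :=
      sup_le ((Subgroup.zpowers_le).mpr ha) (lc_anti (by omega))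
    have hMH : LC G k ≤ H := le_sup_right
    have hne : H ≠ LC G k := by
      intro he
      apply hak
      rw [← he]
      exact (le_sup_left : Subgroup.zpowers a ≤ H) (Subgroup.mem_zpowers a)
    have hHe := sub_eq_of_card (p := p) hHL hMH hne hc
    have hbH : b ∈ H := by rw [hHe]; exact hb
    obtain ⟨u, hu, c, hcm, rfl⟩ := (Subgroup.mem_sup_of_normal_right).mp hbH
    obtain ⟨m, rfl⟩ := Subgroup.mem_zpowers_iff.mp hu
    have h1 : ⁅a, c⁆ ∈ LC G (2 * k) := by
      have := lc_comm2 ha hcm
      rwa [show k - 1 + k + 1 = 2 * k by omega] at this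
    have e : ⁅a, a ^ m * c⁆ = a ^ m * ⁅a, c⁆ * (a ^ m)⁻¹ := by
      simp only [commutatorElement_def]
      group
    rw [e]
    exact (inferInstance : (LC G (2 * k)).Normal).conj_mem _ h1 _

/-- In a group of maximal class of order at least `p ^ (2k+1)`, with `k + 2 ≤ p`, the term `L_{k-1}`
has exponent `p` modulo `L_{2k}`. -/
theorem term_exp (h : MC p G n) {k : ℕ} (hk : 2 ≤ k) (hkp : k + 2 ≤ p) (hkn : 2 * k + 1 ≤ n) :
    ∀ a ∈ LC G (k - 1), a ^ p ∈ LC G (2 * k) := by
  have hn : 2 ≤ n := by omega
  by_cases hcase : 2 * k ≤ p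
  · intro a ha
    have hq := h.quot hn (m := 2 * k) (by omega) (by omega)
    have hA := power_a (2 * k + 1) (by omega) (G ⧸ LC G (2 * k)) hq (by omega)
    have hB := power_b (2 * k + 1) (G ⧸ LC G (2 * k)) hq (by omega) (by omega) hA
    have ha1 : a ∈ LC G 1 := lc_anti (by omega) ha
    have := hB _ (lc_mk_mem (LC G (2 * k)) ha1)
    rw [← QuotientGroup.eq_one_iff, QuotientGroup.mk_pow]
    exact this
  · have hq0 := h.quot hn (m := p) (by have := hp.out.two_le; omega) (by omega)
    have hA0 := power_a (p + 1) (by have := hp.out.two_le; omega) (G ⧸ LC G p) hq0 le_rfl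
    have hB0 := power_b (p + 1) (G ⧸ LC G p) hq0 (by have := hp.out.two_le; omega) le_rfl hA0
    have ht : ∀ t : G, t ^ p ∈ LC G (p - 1) := by
      intro t
      apply lc_of_mk_mem (N := LC G p) (lc_anti (by omega))
      rw [QuotientGroup.mk_pow]
      have := hA0 (QuotientGroup.mk t)
      rwa [show p + 1 - 2 = p - 1 by omega] at this
    have hQ : ∀ m, p ≤ m → m ≤ 2 * k → ∀ a ∈ LC G (k - 1), a ^ p ∈ LC G m := by
      intro m hm
      induction m, hm using Nat.le_induction with
      | base =>
        intro _ a ha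
        have ha1 : a ∈ LC G 1 := lc_anti (by omega) ha
        have := hB0 _ (lc_mk_mem (LC G p) ha1)
        rw [← QuotientGroup.eq_one_iff, QuotientGroup.mk_pow]
        exact this
      | succ m hm ih =>
        intro hm2 a ha
        have ihm := ih (by omega)
        have hbotR : LC (G ⧸ LC G (m + 1)) (m + 1) = ⊥ := lc_quot_self_bot (m + 1)
        have hfin := exp_term_of_central (G := G ⧸ LC G (m + 1)) hp.out hk
          (by
            intro x hx y hy
            obtain ⟨x', hx', rfl⟩ := lc_quot_exists _ hx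
            obtain ⟨y', hy', rfl⟩ := lc_quot_exists _ hy
            have hc : ⁅x', y'⁆ ∈ LC G (m + 1) :=
              lc_anti (by omega) (comm_mem_two h hk hkn hx' hy')
            have h1 := (QuotientGroup.eq_one_iff _).mpr hc
            rw [commutatorElement_def] at h1
            simp only [QuotientGroup.mk_mul, QuotientGroup.mk_inv] at h1
            rw [mul_inv_eq_one, mul_inv_eq_iff_eq_mul] at h1
            exact h1)
          (by
            intro x hx y
            obtain ⟨x', hx', rfl⟩ := lc_quot_exists _ hx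
            obtain ⟨y', rfl⟩ := QuotientGroup.mk_surjective y
            have hc : ⁅x' ^ p, y'⁆ ∈ LC G (m + 1) := lc_comm (ihm x' hx')
            have h1 := (QuotientGroup.eq_one_iff _).mpr hc
            rw [commutatorElement_def] at h1
            simp only [QuotientGroup.mk_mul, QuotientGroup.mk_inv, QuotientGroup.mk_pow] at h1
            rw [mul_inv_eq_one, mul_inv_eq_iff_eq_mul] at h1
            exact h1)
          (by
            rw [eq_bot_iff, ← hbotR]
            exact lc_anti (by omega))
          (by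
            intro t
            obtain ⟨t', rfl⟩ := QuotientGroup.mk_surjective t
            rw [← QuotientGroup.mk_pow]
            exact lc_mk_mem _ (ht t'))
        have := hfin _ (lc_mk_mem (LC G (m + 1)) ha)
        rw [← QuotientGroup.eq_one_iff, QuotientGroup.mk_pow]
        exact this
    exact hQ (2 * k) (by omega) le_rfl

/-- A section gives a bound. -/
theorem section_bound {k s : ℕ} (hS : Cfsg.SectionalPRankLE p k G) (H M : Subgroup G) (hMH : M ≤ H)
    (hcomm : ∀ a ∈ H, ∀ b ∈ H, ⁅a, b⁆ ∈ M) (hexp : ∀ a ∈ H, a ^ p ∈ M)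
    (hcard : Nat.card H = p ^ s * Nat.card M) : s ≤ k := by
  haveI hN : (M.subgroupOf H).Normal := by
    constructor
    intro m hm g
    rw [Subgroup.mem_subgroupOf] at hm ⊢
    have := M.mul_mem (hcomm g g.2 m (hMH hm)) hm
    simpa [commutatorElement_def] using this
  have h := hS H (M.subgroupOf H) (⊤ : Subgroup (H ⧸ M.subgroupOf H)) (by
      refine ⟨⟨fun x y => ?_⟩⟩
      apply Subtype.ext
      obtain ⟨x', hx'⟩ := QuotientGroup.mk_surjective x.1
      obtain ⟨y', hy'⟩ := QuotientGroup.mk_surjective y.1
      show x.1 * y.1 = y.1 * x.1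
      rw [← hx', ← hy']
      have hc : ⁅x', y'⁆ ∈ M.subgroupOf H := by
        rw [Subgroup.mem_subgroupOf]
        exact hcomm x' x'.2 y' y'.2
      have h1 := (QuotientGroup.eq_one_iff _).mpr hc
      rw [commutatorElement_def] at h1
      simp only [QuotientGroup.mk_mul, QuotientGroup.mk_inv] at h1
      rw [mul_inv_eq_one, mul_inv_eq_iff_eq_mul] at h1
      exact h1)
    (by
      intro a _
      obtain ⟨a', rfl⟩ := QuotientGroup.mk_surjective a
      rw [← QuotientGroup.mk_pow, QuotientGroup.eq_one_iff, Subgroup.mem_subgroupOf]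
      exact hexp a' a'.2)
  rw [Subgroup.card_top] at h
  have h1 := Subgroup.card_eq_card_quotient_mul_card_subgroup (M.subgroupOf H)
  have h2 : Nat.card (M.subgroupOf H) = Nat.card M :=
    Nat.card_congr (Subgroup.subgroupOfEquivOfLe hMH).toEquiv
  rw [h2, hcard] at h1
  have hM : 0 < Nat.card M := Nat.card_pos
  have h3 := Nat.eq_of_mul_eq_mul_right hM h1
  rw [← h3] at h
  exact (Nat.pow_le_pow_iff_right hp.out.one_lt).mp h

end


/-- Let p be a prime and S a finite p-group of order pⁿ (n ≥ 2) of maximal nilpotency class n − 1 whose sectional p-rank is exactly k (every section has p-rank at most k, and some section has p-rank k). If p ≥ k + 2 then the order of S is at most p^(2k). -/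
theorem result {S : Type*} [Group S] [Finite S] (p : ℕ) [Fact p.Prime] (hS : IsPGroup p S) [Group.IsNilpotent S]
    (n : ℕ) (hn : 2 ≤ n) (hcard : Nat.card S = p ^ n) (hmax : Group.nilpotencyClass S = n - 1)
    (k : ℕ) (hk : 1 ≤ k) (hsr : Cfsg.SectionalPRankLE p k S ∧ ¬ Cfsg.SectionalPRankLE p (k - 1) S)
    (hpk : k + 2 ≤ p) : Nat.card S ≤ p ^ (2 * k) := by
  have hp1 := (Fact.out : p.Prime).one_lt
  have hnil : ¬ (⊤ : Subgroup S).lowerCentralSeries (n - 2) = ⊥ := by
    intro hb
    have := Subgroup.lowerCentralSeries_eq_bot_iff_nilpotencyClass_le.mp hb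
    omega
  have h : MC p S n := ⟨hcard, Subgroup.lowerCentralSeries_eq_bot_iff_nilpotencyClass_le.mpr hmax.le, hnil⟩
  by_contra hlt
  push Not at hlt
  rw [hcard] at hlt
  have hnk : 2 * k < n := (Nat.pow_lt_pow_iff_right hp1).mp hlt
  rcases Nat.lt_or_ge k 2 with hk2 | hk2
  · have e : k = 1 := by omega
    subst e
    have h1 := section_bound (G := S) (p := p) (k := 1) (s := 2) hsr.1 (⊤ : Subgroup S) (LC S 1) le_top
      (fun a _ b _ => by
        rw [show LC S 1 = ⁅LC S 0, (⊤ : Subgroup S)⁆ from rfl]
        exact Subgroup.commutator_mem_commutator (Subgroup.mem_top a) (Subgroup.mem_top b))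
      (fun a _ => pow_mem_L1 h (by omega) a)
      (by
        rw [Subgroup.card_top, hcard, h.card_lc hn (j := 1) le_rfl (by omega), ← pow_add]
        congr 1
        omega)
    omega
  · have h1 := section_bound (G := S) (p := p) (k := k) (s := k + 1) hsr.1 (LC S (k - 1)) (LC S (2 * k))
      (lc_anti (by omega))
      (fun a ha b hb => comm_mem_two h hk2 (by omega) ha hb)
      (term_exp h hk2 hpk (by omega))
      (by
        rw [h.card_lc hn (j := k - 1) (by omega) (by omega), h.card_lc hn (j := 2 * k) (by omega) (by omega),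
          ← pow_add]
        congr 1
        omega)
    omega

end Cfsg.Agent.S3806
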