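import Cfsg.Statements.S3807
import Mathlib
import Cfsg.Agent.Lib.H18.Basic
import Cfsg.Agent.Lib.H18.AbIdx

set_option autoImplicit false
open Cfsg

namespace Cfsg.Agent.S3807

open scoped commutatorElement


/-- Let S be a non-abelian finite p-group with an abelian subgroup A of index p. Then [S : Z(S)] = p·#[S,S], and either [S,S] has order p, S/Z(S) is elementary abelian of order p², and S has exactly p + 1 abelian subgroups of index p; or [S,S] has order at least p² and A is the only abelian subgroup of index p in S. -/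
theorem result {S : Type*} [Group S] [Finite S] (p : ℕ) [Fact p.Prime] (hS : IsPGroup p S) (hna : ¬ IsMulCommutative S)
    (A : Subgroup S) (hA : IsMulCommutative ↥A) (hAi : A.index = p) :
    (Subgroup.center S).index = p * Nat.card (commutator S) ∧
      ((Nat.card (commutator S) = p ∧ Cfsg.IsElementaryAbelian p (⊤ : Subgroup (S ⧸ Subgroup.center S)) ∧
          Nat.card (S ⧸ Subgroup.center S) = p ^ 2 ∧
          Nat.card {B : Subgroup S // IsMulCommutative ↥B ∧ B.index = p} = p + 1) ∨
        (p ^ 2 ≤ Nat.card (commutator S) ∧ ∀ B : Subgroup S, IsMulCommutative ↥B → B.index = p → B = A)) := by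
  classical
have hp : p.Prime := Fact.out
obtain ⟨x, hx⟩ : ∃ x, x ∉ A := by
  by_contra h
  push Not at h
  have : A = ⊤ := eq_top_iff.2 (fun g _ => h g)
  rw [this, Subgroup.index_top] at hAi
  exact hp.one_lt.ne hAi
obtain ⟨hAn, hker, hrange, hcardA, hidx⟩ := H18.abelian_index_main hS hna hA hAi hx
refine ⟨hidx, ?_⟩
have hne : Nat.card (commutator S) ≠ 1 := by
  intro h
  rw [Subgroup.card_eq_one] at h
  apply hna
  rw [isMulCommutative_iff]
  intro a b
  have := Subgroup.commutator_mem_commutator (Subgroup.mem_top a) (Subgroup.mem_top b)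
  rw [← commutator_def, h, Subgroup.mem_bot, commutatorElement_eq_one_iff_mul_comm] at this
  exact this
obtain ⟨k, hk⟩ := IsPGroup.iff_card.mp (hS.to_subgroup (commutator S))
have hk0 : k ≠ 0 := by
  rintro rfl
  exact hne (by rw [hk, pow_zero])
by_cases hk1 : k = 1
· left
  subst hk1
  rw [pow_one] at hk
  rw [hk] at hidx
  have hQc : Nat.card (S ⧸ Subgroup.center S) = p ^ 2 := by
    show (Subgroup.center S).index = p ^ 2
    rw [hidx, sq]
  have hQnc : ¬ IsCyclic (S ⧸ Subgroup.center S) := by
    intro hc
    apply hna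
    apply MonoidHom.isMulCommutative_of_isCyclic_of_ker_le_center (QuotientGroup.mk' (Subgroup.center S))
    rw [QuotientGroup.ker_mk']
  refine ⟨hk, ⟨?_, fun a _ => H18.pow_eq_one_of_card_sq_not_cyclic hQc hQnc a⟩, hQc, ?_⟩
  · have := IsPGroup.isMulCommutative_of_card_eq_prime_sq hQc
    exact ⟨⟨fun a b => Subtype.ext ((isMulCommutative_iff.mp this) a b)⟩⟩
  · rw [← H18.card_subgroups_order_p hQc hQnc]
    set π := QuotientGroup.mk' (Subgroup.center S) with hπ
    have hker' : π.ker = Subgroup.center S := QuotientGroup.ker_mk' _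
    have hsurj : Function.Surjective π := QuotientGroup.mk'_surjective _
    refine Nat.card_congr ⟨fun B => ⟨B.1.map π, ?_⟩, fun C => ⟨C.1.comap π, ?_, ?_⟩, ?_, ?_⟩
    · have hZB := H18.center_le_of_abelian_index hp hna B.2.1 B.2.2
      have h1 : (B.1.map π).comap π = B.1 := Subgroup.comap_map_eq_self (by rw [hker']; exact hZB)
      have h2 : (B.1.map π).index = p := by
        rw [← Subgroup.index_comap_of_surjective _ hsurj, h1, B.2.2]
      have h3 := Subgroup.card_mul_index (B.1.map π)
      rw [h2, hQc, sq] at h3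
      exact Nat.eq_of_mul_eq_mul_right hp.pos h3
    · -- abelian
      have hCc : IsCyclic C.1 := isCyclic_of_prime_card C.2
      apply MonoidHom.isMulCommutative_of_isCyclic_of_ker_le_center (π.subgroupComap C.1)
      intro g hg
      rw [Subgroup.mem_center_iff]
      intro h
      have h1 : π (g : S) = 1 := congrArg Subtype.val (MonoidHom.mem_ker.mp hg)
      have h2 : (g : S) ∈ Subgroup.center S := (QuotientGroup.eq_one_iff _).1 h1
      apply Subtype.ext
      exact (Subgroup.mem_center_iff.mp h2) h
    · have h3 := Subgroup.card_mul_index C.1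
      rw [C.2, hQc, sq] at h3
      rw [Subgroup.index_comap_of_surjective _ hsurj]
      exact Nat.eq_of_mul_eq_mul_left hp.pos h3
    · intro B
      apply Subtype.ext
      have hZB := H18.center_le_of_abelian_index hp hna B.2.1 B.2.2
      exact Subgroup.comap_map_eq_self (by rw [hker']; exact hZB)
    · intro C
      apply Subtype.ext
      exact Subgroup.map_comap_eq_self_of_surjective hsurj _
· right
  have hk2 : 2 ≤ k := by omega
  have hle : p ^ 2 ≤ Nat.card (commutator S) := by
    rw [hk]
    exact Nat.pow_le_pow_right hp.pos hk2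
  refine ⟨hle, ?_⟩
  intro B hBc hBi
  by_contra hBA
  have hAb : ∀ a ∈ A, ∀ b ∈ A, a * b = b * a := by
    intro a ha b hb
    have := (isMulCommutative_iff.mp hA) ⟨a, ha⟩ ⟨b, hb⟩
    exact congrArg Subtype.val this
  have hBb : ∀ a ∈ B, ∀ b ∈ B, a * b = b * a := by
    intro a ha b hb
    have := (isMulCommutative_iff.mp hBc) ⟨a, ha⟩ ⟨b, hb⟩
    exact congrArg Subtype.val this
  have hsup : A ⊔ B = ⊤ := by
    rcases H18.eq_or_top_of_index_prime hp hAi (le_sup_left : A ≤ A ⊔ B) with h | h
    · exfalso
      have hBA' : B ≤ A := by rw [← h]; exact le_sup_right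
      have h1 := Subgroup.card_mul_index A
      have h2 := Subgroup.card_mul_index B
      rw [hAi] at h1
      rw [hBi, ← h1] at h2
      have h3 := Nat.eq_of_mul_eq_mul_right hp.pos h2
      exact hBA (Subgroup.eq_of_le_of_card_ge hBA' h3.ge)
    · exact h
  have hinf : A ⊓ B ≤ Subgroup.center S := by
    rintro g ⟨hgA, hgB⟩
    rw [Subgroup.mem_center_iff]
    intro h
    have hh : h ∈ A ⊔ B := hsup ▸ Subgroup.mem_top h
    obtain ⟨a, ha, b, hb, rfl⟩ := H18.mem_sup_normal_left.mp hh
    calc a * b * g = a * (b * g) := by group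
      _ = a * (g * b) := by rw [hBb b hb g hgB]
      _ = (a * g) * b := by group
      _ = (g * a) * b := by rw [hAb a ha g hgA]
      _ = g * (a * b) := by group
  have h1 := Nat.le_of_dvd (Nat.pos_of_ne_zero Subgroup.index_ne_zero_of_finite) (Subgroup.index_dvd_of_le hinf)
  have h2 := Subgroup.index_inf_le (H := A) (K := B)
  rw [hAi, hBi] at h2
  rw [hidx] at h1
  have h3 : p * p ^ 2 ≤ p * p := by
    calc p * p ^ 2 ≤ p * Nat.card (commutator S) := Nat.mul_le_mul_left _ hle
      _ ≤ (A ⊓ B).index := h1
      _ ≤ p * p := h2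
  have h4 := Nat.le_of_mul_le_mul_left h3 hp.pos
  nlinarith [hp.two_le]

end Cfsg.Agent.S3807
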