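import Cfsg.Statements.S3808
import Mathlib
import Cfsg.Agent.Lib.H18.AbIdx
import Cfsg.Agent.Lib.H18.ExtraCard

set_option autoImplicit false
open Cfsg

namespace Cfsg.Agent.S3808

/-- Let S be a finite p-group with an extraspecial subgroup Q of index p. Then either Z(S) = Z(Q), or S = Q·Z(S) and Z(S) has order p². -/
theorem result {S : Type*} [Group S] [Finite S] (p : ℕ) [Fact p.Prime] (hS : IsPGroup p S) (Q : Subgroup S) (hQ : Cfsg.IsExtraspecial p ↥Q) (hQi : Q.index = p) :
    Subgroup.center S = (Subgroup.center ↥Q).map Q.subtype ∨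
      (Q ⊔ Subgroup.center S = ⊤ ∧ Nat.card (Subgroup.center S) = p ^ 2) := by
  classical
have hp : p.Prime := Fact.out
have hQn : Q.Normal := H18.normal_of_index_prime' hS hQi
obtain ⟨hQs, hZ⟩ := hQ
have hle := H18.center_map_le_center hS hQn hZ
by_cases hZQ : Subgroup.center S ≤ Q
· left
  apply le_antisymm _ hle
  intro z hz
  refine ⟨⟨z, hZQ hz⟩, ?_, rfl⟩
  show _ ∈ Subgroup.center Q
  rw [Subgroup.mem_center_iff]
  intro q
  apply Subtype.ext
  exact (Subgroup.mem_center_iff.mp hz) q
· right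
  have hsup : Q ⊔ Subgroup.center S = ⊤ := by
    rcases H18.eq_or_top_of_index_prime hp hQi (le_sup_left : Q ≤ Q ⊔ Subgroup.center S) with h | h
    · exfalso
      apply hZQ
      rw [← h]
      exact le_sup_right
    · exact h
  refine ⟨hsup, ?_⟩
  have h1 := H18.card_sup_mul_card_inf Q (Subgroup.center S)
  have hinf : Q ⊓ Subgroup.center S = (Subgroup.center Q).map Q.subtype := by
    apply le_antisymm
    · rintro z ⟨hzQ, hzZ⟩
      refine ⟨⟨z, hzQ⟩, ?_, rfl⟩
      show _ ∈ Subgroup.center Q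
      rw [Subgroup.mem_center_iff]
      intro q
      apply Subtype.ext
      exact (Subgroup.mem_center_iff.mp hzZ) q
    · refine le_inf ?_ hle
      rintro _ ⟨z, -, rfl⟩
      exact z.2
  rw [hsup, hinf, Subgroup.card_top, Subgroup.card_map_of_injective Q.subtype_injective, hZ] at h1
  have h2 := Subgroup.card_mul_index Q
  rw [hQi] at h2
  -- |Q| * p * ... 
  have h3 : Nat.card Q * (p * p) = Nat.card Q * Nat.card (Subgroup.center S) := by
    rw [← h1, ← h2]; ring
  rw [sq]
  exact (Nat.eq_of_mul_eq_mul_left Nat.card_pos h3).symm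

end Cfsg.Agent.S3808
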