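import Cfsg.Statements.S3809
import Mathlib
import Cfsg.Agent.Lib.H01.Basic
import Cfsg.Agent.Lib.H06.OddPGroup
import Cfsg.Agent.Lib.H18.ExtraCard

set_option autoImplicit false
open Cfsg

namespace Cfsg.Agent.S3809

open scoped commutatorElement


/-- Let S be a finite p-group with an extraspecial subgroup of index p. Then S has order p^(2+2n) for some n ≥ 1, derived length at most 3, and exponent dividing p³. -/
theorem result {S : Type*} [Group S] [Finite S] (p : ℕ) [Fact p.Prime] (hS : IsPGroup p S) (Q : Subgroup S) (hQ : Cfsg.IsExtraspecial p ↥Q) (hQi : Q.index = p) :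
    (∃ n : ℕ, 1 ≤ n ∧ Nat.card S = p ^ (2 + 2 * n)) ∧ derivedSeries S 3 = ⊥ ∧ ∀ x : S, x ^ (p ^ 3) = 1 := by
  classical
have hp : p.Prime := Fact.out
have hQn : Q.Normal := H18.normal_of_index_prime' hS hQi
obtain ⟨m, hm1, hm⟩ := H18.extraspecial_card hQ
obtain ⟨⟨hQp, hphi, hcomm⟩, hZ⟩ := hQ
obtain ⟨hcq, hpq⟩ := H06.comm_pow_mem_of_index_prime hQn hQi
have hle := H18.center_map_le_center hS hQn hZ
refine ⟨⟨m, hm1, ?_⟩, ?_, ?_⟩
· have h2 := Subgroup.card_mul_index Q
  rw [hQi, hm] at h2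
  rw [← h2]; ring
· -- derived series
  have hD1 : derivedSeries S 1 ≤ Q := by
    rw [derivedSeries_succ, derivedSeries_zero, Subgroup.commutator_le]
    intro a _ b _
    rw [commutatorElement_def]
    exact hcq a b
  have hD2 : derivedSeries S 2 ≤ (Subgroup.center Q).map Q.subtype := by
    rw [derivedSeries_succ, Subgroup.commutator_le]
    intro a ha b hb
    have ha' := hD1 ha
    have hb' := hD1 hb
    refine ⟨⁅(⟨a, ha'⟩ : Q), (⟨b, hb'⟩ : Q)⁆, ?_, ?_⟩
    · show _ ∈ Subgroup.center Q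
      rw [← hcomm]
      exact Subgroup.commutator_mem_commutator (Subgroup.mem_top _) (Subgroup.mem_top _)
    · simp [commutatorElement_def]
  rw [eq_bot_iff, derivedSeries_succ, Subgroup.commutator_le]
  intro a ha b hb
  have ha' := hD2 ha
  have hb' := hD2 hb
  rw [Subgroup.mem_bot, commutatorElement_eq_one_iff_mul_comm]
  exact (Subgroup.mem_center_iff.mp (hle hb')) a
· intro x
  have h1 : x ^ p ∈ Q := hpq x
  have h2 : (⟨x ^ p, h1⟩ : Q) ^ p ∈ Subgroup.center Q := by
    rw [← hphi]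
    exact H01.pow_mem_frattini_of_isPGroup hQp _
  have h3 : ((⟨x ^ p, h1⟩ : Q) ^ p) ^ p = 1 := by
    have h4 : ∀ w : Subgroup.center Q, w ^ p = 1 := fun w => by
      have := pow_card_eq_one' (x := w)
      rwa [hZ] at this
    simpa using congrArg Subtype.val (h4 ⟨(⟨x ^ p, h1⟩ : Q) ^ p, h2⟩)
  have h5 := congrArg Subtype.val h3
  simp only [SubmonoidClass.coe_pow, OneMemClass.coe_one] at h5
  rw [show p ^ 3 = p * p * p by ring, pow_mul, pow_mul]
  exact h5

end Cfsg.Agent.S3809
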