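import Cfsg.Statements.S3810
import Mathlib
import Cfsg.Agent.Lib.H18.PGroup
import Cfsg.Agent.Lib.H18.Syl
import Cfsg.Agent.Lib.H14.Nilp
import Cfsg.Agent.Lib.H18.MC
import Cfsg.Agent.Lib.H18.AbIdx
import Cfsg.Agent.Lib.H18.ExtraCard

set_option autoImplicit false
open Cfsg

namespace Cfsg.Agent.S3810

open scoped commutatorElement


/-- Let S be a finite p-group with an extraspecial subgroup of index p. Then S has an abelian subgroup of index p if and only if S has order p⁴. -/
theorem result {S : Type*} [Group S] [Finite S] (p : ℕ) [Fact p.Prime] (hS : IsPGroup p S) (Q : Subgroup S) (hQ : Cfsg.IsExtraspecial p ↥Q) (hQi : Q.index = p) :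
    (∃ A : Subgroup S, IsMulCommutative ↥A ∧ A.index = p) ↔ Nat.card S = p ^ 4 := by
  classical
have hp : p.Prime := Fact.out
have hQn : Q.Normal := H18.normal_of_index_prime' hS hQi
obtain ⟨⟨hQp, hphi, hcomm⟩, hZ⟩ := hQ
have hle := H18.center_map_le_center hS hQn hZ
have hQna : ¬ IsMulCommutative Q := by
  intro hab
  have hbot : commutator Q = ⊥ := by
    rw [eq_bot_iff, commutator_def, Subgroup.commutator_le]
    intro a _ b _
    rw [Subgroup.mem_bot, commutatorElement_eq_one_iff_mul_comm]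
    exact isMulCommutative_iff.mp hab a b
  rw [← hcomm, hbot, Subgroup.card_bot] at hZ
  exact hp.one_lt.ne hZ
have hcQ := Subgroup.card_mul_index Q
rw [hQi] at hcQ
constructor
· rintro ⟨A, hA, hAi⟩
  have hAn : A.Normal := H18.normal_of_index_prime' hS hAi
  have hAQ : A ≠ Q := by
    rintro rfl
    exact hQna hA
  have hsup : Q ⊔ A = ⊤ := by
    rcases H18.eq_or_top_of_index_prime hp hQi (le_sup_left : Q ≤ Q ⊔ A) with h | h
    · exfalso
      have hAle : A ≤ Q := by rw [← h]; exact le_sup_right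
      have h1 := Subgroup.card_mul_index A
      rw [hAi, ← hcQ] at h1
      have h3 := Nat.eq_of_mul_eq_mul_right hp.pos h1
      exact hAQ (Subgroup.eq_of_le_of_card_ge hAle h3.ge)
    · exact h
  have h1 := H18.card_sup_mul_card_inf Q A
  rw [hsup, Subgroup.card_top] at h1
  have hcA := Subgroup.card_mul_index A
  rw [hAi] at hcA
  set B : Subgroup Q := A.subgroupOf Q with hB
  have hBcard : Nat.card B = Nat.card (Q ⊓ A : Subgroup S) := by
    rw [hB, H18.card_subgroupOf, inf_comm]
  have hBi : B.index = p := by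
    have h2 := Subgroup.card_mul_index B
    rw [hBcard] at h2
    -- |S| |Q ⊓ A| = |Q| |A| ; |S| = |A| p
    have h3 : Nat.card A * (p * Nat.card (Q ⊓ A : Subgroup S)) = Nat.card A * Nat.card Q := by
      rw [← mul_assoc, hcA, h1, mul_comm]
    have h4 := Nat.eq_of_mul_eq_mul_left Nat.card_pos h3
    rw [← h4, mul_comm] at h2
    exact Nat.eq_of_mul_eq_mul_right Nat.card_pos h2
  have hBab : IsMulCommutative B := by
    refine ⟨⟨fun a b => ?_⟩⟩
    apply Subtype.ext
    apply Subtype.ext
    have := (isMulCommutative_iff.mp hA) ⟨(a : Q), a.2⟩ ⟨(b : Q), b.2⟩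
    have h9 : ((a : Q) : S) * ((b : Q) : S) = ((b : Q) : S) * ((a : Q) : S) := congrArg Subtype.val this
    simpa using h9
  obtain ⟨x, hx⟩ : ∃ x, x ∉ B := by
    by_contra h
    push Not at h
    have : B = ⊤ := eq_top_iff.2 (fun g _ => h g)
    rw [this, Subgroup.index_top] at hBi
    exact hp.one_lt.ne hBi
  obtain ⟨-, -, -, -, hidx⟩ := H18.abelian_index_main hQp hQna hBab hBi hx
  rw [hcomm, hZ] at hidx
  have h5 := Subgroup.card_mul_index (Subgroup.center Q)
  rw [hidx, hZ] at h5
  rw [← hcQ, ← h5]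
  ring
· intro hcard
  -- x in Q \ Z(Q) with [x, S] ≤ Z(Q)
  haveI : Group.IsNilpotent S := hS.isNilpotent
  set ZQ := (Subgroup.center Q).map Q.subtype with hZQ
  have hZQcard : Nat.card ZQ = p := by
    rw [hZQ, Subgroup.card_map_of_injective Q.subtype_injective, hZ]
  have hcQ3 : Nat.card Q = p ^ 3 := by
    have : Nat.card Q * p = p ^ 3 * p := by rw [hcQ, hcard]; ring
    exact Nat.eq_of_mul_eq_mul_right hp.pos this
  have hnot : ¬ Q ≤ ZQ := by
    intro h
    have := Subgroup.card_le_of_le h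
    rw [hcQ3, hZQcard] at this
    nlinarith [hp.two_le, pow_pos hp.pos 2, sq p, pow_succ p 2]
  obtain ⟨x, hxQ, hxZ, hxc⟩ := H14.exists_commutator_mem hQn hnot
  have hi := H18.mc_relIndex_centralizer_le (⊤ : Subgroup S) x ZQ (fun g _ => by
    have h1 := (hxc g).2
    have h2 := ZQ.inv_mem h1
    convert h2 using 1
    group)
  rw [Subgroup.relIndex_top_right, hZQcard] at hi
  set C := Subgroup.centralizer ({x} : Set S) with hC
  have hxnotcenter : x ∉ Subgroup.center S := by
    intro h
    apply hxZ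
    refine ⟨⟨x, hxQ⟩, ?_, rfl⟩
    show _ ∈ Subgroup.center Q
    rw [Subgroup.mem_center_iff]
    intro q
    apply Subtype.ext
    exact (Subgroup.mem_center_iff.mp h) q
  obtain ⟨k, hk⟩ := IsPGroup.iff_card.mp hS
  have hCi : C.index = p := by
    apply H18.prime_of_le_of_ne_one_of_dvd_pow hp (k := k) (hk ▸ Subgroup.index_dvd_card C) hi
    intro h
    have h' : C = ⊤ := Subgroup.index_eq_one.mp h
    apply hxnotcenter
    rw [Subgroup.mem_center_iff]
    intro g
    have hg : g ∈ C := h' ▸ Subgroup.mem_top g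
    exact Subgroup.mem_centralizer_singleton_iff.mp hg
  refine ⟨C, ?_, hCi⟩
  -- C / Z(C) is cyclic since Z(C) ≥ ⟨z⟩⊔⟨x⟩
  have hcC := Subgroup.card_mul_index C
  rw [hCi] at hcC
  have hcC3 : Nat.card C = p ^ 3 := by
    have : Nat.card C * p = p ^ 3 * p := by rw [hcC, hcard]; ring
    exact Nat.eq_of_mul_eq_mul_right hp.pos this
  have hxC : x ∈ C := by
    rw [hC, Subgroup.mem_centralizer_singleton_iff]
  have hZC : ZQ ≤ C := by
    intro z hz
    exact Subgroup.mem_centralizer_singleton_iff.mpr ((Subgroup.mem_center_iff.mp (hle hz)) x).symm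
  let Cen := (Subgroup.center C)
  have hxCen : (⟨x, hxC⟩ : C) ∈ Cen := by
    show _ ∈ Subgroup.center C
    rw [Subgroup.mem_center_iff]
    intro g
    apply Subtype.ext
    exact Subgroup.mem_centralizer_singleton_iff.mp g.2
  have hZCen : ZQ.subgroupOf C ≤ Cen := by
    intro z hz
    show _ ∈ Subgroup.center C
    rw [Subgroup.mem_center_iff]
    intro g
    apply Subtype.ext
    exact (Subgroup.mem_center_iff.mp (hle (Subgroup.mem_subgroupOf.mp hz))) g
  have hcZC : Nat.card (ZQ.subgroupOf C) = p := by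
    rw [H18.card_subgroupOf, inf_eq_left.2 hZC, hZQcard]
  have hlt : ZQ.subgroupOf C < Cen := by
    refine lt_of_le_of_ne hZCen ?_
    intro h
    rw [← h] at hxCen
    exact hxZ (Subgroup.mem_subgroupOf.mp hxCen)
  have hCp : IsPGroup p C := hS.to_subgroup C
  have h6 := H18.card_mul_le_of_lt hCp hlt
  rw [hcZC] at h6
  -- index of the centre of C divides p
  have h7 := Subgroup.card_eq_card_quotient_mul_card_subgroup Cen
  rw [hcC3] at h7
  have hq : Nat.card (C ⧸ Cen) ∣ p := by
    have hq1 : Nat.card (C ⧸ Cen) ∣ p ^ 3 := ⟨_, h7⟩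
    obtain ⟨i, hi3, hio⟩ := (Nat.dvd_prime_pow hp).mp hq1
    rw [hio]
    have hi1 : i ≤ 1 := by
      by_contra hlt2
      have h8 : p ^ 2 ≤ p ^ i := Nat.pow_le_pow_right hp.pos (by omega)
      have h9 : p ^ 2 * (p * p) ≤ p ^ 3 := by
        rw [h7, hio]
        exact Nat.mul_le_mul h8 h6
      have h10 : p ^ 2 * (p * p) = p ^ 3 * p := by ring
      rw [h10] at h9
      nlinarith [pow_pos hp.pos 3, hp.two_le]
    exact pow_dvd_pow p hi1 |>.trans (by simp)
  haveI : IsCyclic (C ⧸ Cen) := by
    rcases (Nat.dvd_prime hp).mp hq with h | h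
    · rw [Nat.card_eq_one_iff_unique] at h
      haveI := h.1
      exact isCyclic_of_subsingleton
    · exact isCyclic_of_prime_card h
  apply MonoidHom.isMulCommutative_of_isCyclic_of_ker_le_center (QuotientGroup.mk' Cen)
  rw [QuotientGroup.ker_mk']

end Cfsg.Agent.S3810
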