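import Cfsg.Statements.S3811
import Mathlib
import Cfsg.Agent.Lib.H18.Soft

set_option autoImplicit false
open Cfsg

namespace Cfsg.Agent.S3811

open scoped commutatorElement


/-- Let P be a finite p-group and E an abelian subgroup of P that contains its centralizer, has index p in its normalizer, and has index at least p² in P. Then the subgroups of P containing E are totally ordered by inclusion, each proper one has index p in its normalizer (so they form the normalizer tower of E, with all steps of index p), and the i-th member of the tower above E has nilpotency class i + 1 whenever it is a proper subgroup of P. -/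
theorem result {P : Type*} [Group P] [Finite P] (p : ℕ) [Fact p.Prime] (hP : IsPGroup p P)
    (E : Subgroup P) (hEab : IsMulCommutative ↥E) (hC : Subgroup.centralizer (E : Set P) ≤ E)
    (hN : (E.subgroupOf (Subgroup.normalizer (E : Set P))).index = p) (hidx : p ^ 2 ≤ E.index) :
    (∀ K L : Subgroup P, E ≤ K → E ≤ L → K ≤ L ∨ L ≤ K) ∧
      (∀ K : Subgroup P, E ≤ K → K ≠ ⊤ → (K.subgroupOf (Subgroup.normalizer (K : Set P))).index = p) ∧
      ∀ (i : ℕ) (K : Subgroup P) [Group.IsNilpotent ↥K], E ≤ K → K ≠ ⊤ → K.index * p ^ i = E.index →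
        Group.nilpotencyClass ↥K = i + 1 := by
  classical
have hcardN : ∀ K : Subgroup P, (K.subgroupOf (Subgroup.normalizer (K : Set P))).index = p ↔
    Nat.card (Subgroup.normalizer (K : Set P)) = p * Nat.card K := by
  intro K
  have h1 := Subgroup.card_mul_index (K.subgroupOf (Subgroup.normalizer (K : Set P)))
  have h2 : Nat.card (K.subgroupOf (Subgroup.normalizer (K : Set P))) = Nat.card K :=
    Nat.card_congr (Subgroup.subgroupOfEquivOfLe Subgroup.le_normalizer).toEquiv
  rw [h2] at h1
  have h3 : 0 < Nat.card K := Nat.card_pos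
  constructor
  · intro h
    rw [h] at h1
    rw [← h1]
    ring
  · intro h
    rw [h, mul_comm] at h1
    exact Nat.eq_of_mul_eq_mul_right h3 h1
have hS : H18.Soft p E := by
  refine ⟨?_, hC, (hcardN E).1 hN⟩
  intro a ha b hb
  have h1 := hEab.is_comm.comm ⟨a, ha⟩ ⟨b, hb⟩
  exact congrArg Subtype.val h1
have hmain : ∀ K : Subgroup P, E ≤ K → K ≠ ⊤ → H18.SoftConcl p E K :=
  fun K hEK hKtop => H18.soft_main p _ P rfl hP E hS K hEK hKtop
refine ⟨?_, ?_, ?_⟩
· intro K L hEK hEL
  by_cases hJ : K ⊓ L = ⊤
  · left
    have h1 : K = ⊤ := top_le_iff.1 (hJ ▸ inf_le_left)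
    have h2 : L = ⊤ := top_le_iff.1 (hJ ▸ inf_le_right)
    rw [h1, h2]
  · exact H18.soft_comparable hP (hmain _ (le_inf hEK hEL) hJ).1
· intro K hEK hKtop
  exact (hcardN K).2 (hmain K hEK hKtop).1
· intro i K _ hEK hKtop hindex
  have hcardK : Nat.card K = Nat.card E * p ^ i := by
    have h1 := Subgroup.card_mul_index K
    have h2 := Subgroup.card_mul_index E
    rw [← hindex, ← h1] at h2
    have h3 : 0 < K.index := Nat.pos_of_ne_zero Subgroup.index_ne_zero_of_finite
    have h4 : Nat.card K * K.index = Nat.card E * p ^ i * K.index := by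
      rw [← h2]
      ring
    exact Nat.eq_of_mul_eq_mul_right h3 h4
  have hEnt : Nat.card K ≠ 1 := by
    intro h1
    have h2 : Nat.card E = 1 := by
      have h3 := Subgroup.card_dvd_of_le hEK
      rw [h1] at h3
      exact Nat.dvd_one.1 h3
    have h4 : E = ⊥ := Subgroup.card_eq_one.1 h2
    have h5 : (⊤ : Subgroup P) ≤ E := by
      intro x _
      apply hC
      refine Subgroup.mem_centralizer_iff.2 ?_
      intro h hh
      have h6 : h ∈ E := hh
      rw [h4, Subgroup.mem_bot] at h6
      rw [h6]
      simp
    have h6 : E = ⊤ := top_le_iff.1 h5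
    rw [h6, Subgroup.index_top] at hidx
    have h7 := (Fact.out : p.Prime).two_le
    nlinarith
  apply le_antisymm
  · rw [← Subgroup.lowerCentralSeries_eq_bot_iff_nilpotencyClass_le]
    have h0 : K.lowerCentralSeries (i + 1) = ⊥ := by
      by_cases hKE : K = E
      · subst hKE
        rw [Subgroup.lowerCentralSeries_succ, eq_bot_iff, Subgroup.commutator_le]
        intro x hx y hy
        rw [Subgroup.mem_bot, commutatorElement_eq_one_iff_mul_comm]
        exact hS.ab x (Subgroup.lowerCentralSeries_le_self _ _ hx) y hy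
      · exact ((hmain K hEK hKtop).2 hKE).2 i hcardK
    have h1 := Subgroup.top_subtype_lowerCentralSeries K (i + 1)
    rw [h0] at h1
    exact (Subgroup.map_eq_bot_iff_of_injective _ K.subtype_injective).1 h1
  · exact H18.soft_class_lb hP hS hEK hKtop (fun J hJ hJt => (hmain J hJ hJt).1) hcardK hEnt

end Cfsg.Agent.S3811
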