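import Cfsg.Statements.S3824
import Mathlib
import Cfsg.Agent.Lib.H18.Syl
import Cfsg.Agent.Lib.Lead.Burnside

set_option autoImplicit false
open Cfsg

namespace Cfsg.Agent.S3824


universe u

theorem aux3824 (n : ℕ) : ∀ (G : Type u) [Group G] [Finite G], Nat.card G = n →
    ∀ A : Subgroup G, IsMulCommutative A → (∃ k : ℕ, A.index = 2 ^ k) → Group.IsSolvable G := by
  induction n using Nat.strong_induction_on with
  | _ n ih =>
    intro G _ _ hn A hA hidx
    classical
    obtain ⟨k, hk⟩ := hidx
    by_cases hcomm : IsMulCommutative G
    · exact Group.isSolvable_of_comm (isMulCommutative_iff.mp hcomm)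
    have hnt : Nontrivial G := by
      by_contra h
      rw [not_nontrivial_iff_subsingleton] at h
      exact hcomm (isMulCommutative_iff.mpr (fun a b => Subsingleton.elim _ _))
    by_cases hs : IsSimpleGroup G
    · exfalso
      by_cases hAb : A = ⊥
      · rw [hAb, Subgroup.index_bot] at hk
        haveI : Fact (Nat.Prime 2) := ⟨Nat.prime_two⟩
        have hp : IsPGroup 2 G := IsPGroup.of_card hk
        haveI := hp.isNilpotent
        -- a nontrivial simple `2`-group is commutative
        have hZ : Nontrivial (Subgroup.center G) := hp.center_nontrivial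
        have h1 : Subgroup.center G ≠ ⊥ := by
          intro h0
          rw [Subgroup.nontrivial_iff_ne_bot] at hZ
          exact hZ h0
        have h2 := (hs.eq_bot_or_eq_top_of_normal _ inferInstance).resolve_left h1
        exact hcomm (isMulCommutative_iff.mpr (fun a b =>
          Subgroup.mem_center_iff.mp (h2 ▸ Subgroup.mem_top b) a))
      · obtain ⟨a, haA, ha1⟩ := (Subgroup.bot_or_exists_ne_one A).resolve_left hAb
        have hle : A ≤ Subgroup.centralizer ({a} : Set G) := by
          intro b hb
          rw [Subgroup.mem_centralizer_singleton_iff]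
          have := (isMulCommutative_iff.mp hA) ⟨b, hb⟩ ⟨a, haA⟩
          exact congrArg Subtype.val this
        have hdvd : (Subgroup.centralizer ({a} : Set G)).index ∣ 2 ^ k := by
          rw [← hk]
          exact Subgroup.index_dvd_of_le hle
        obtain ⟨j, _, hj⟩ := (Nat.dvd_prime_pow Nat.prime_two).mp hdvd
        have hj0 : j ≠ 0 := by
          rintro rfl
          rw [pow_zero, Subgroup.index_eq_one] at hj
          -- `a` is central
          have h1 : a ∈ Subgroup.center G := by
            rw [Subgroup.mem_center_iff]
            intro g
            have : g ∈ Subgroup.centralizer ({a} : Set G) := hj ▸ Subgroup.mem_top g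
            exact (Subgroup.mem_centralizer_singleton_iff.mp this)
          have h2 : Subgroup.center G ≠ ⊥ := by
            intro h0
            rw [h0, Subgroup.mem_bot] at h1
            exact ha1 h1
          have h3 := (hs.eq_bot_or_eq_top_of_normal _ inferInstance).resolve_left h2
          exact hcomm (isMulCommutative_iff.mpr (fun x y =>
            Subgroup.mem_center_iff.mp (h3 ▸ Subgroup.mem_top y) x))
        exact Lead.not_class_prime_pow 2 j Nat.prime_two hj0 a hj
    · obtain ⟨N, hN, hne, htop⟩ : ∃ N : Subgroup G, N.Normal ∧ N ≠ ⊥ ∧ N ≠ ⊤ := by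
        by_contra hcon
        push Not at hcon
        apply hs
        refine ⟨?_⟩
        intro N hN
        by_cases h : N = ⊥
        · exact Or.inl h
        · exact Or.inr (hcon N hN h)
      haveI := hN
      have hNcard : Nat.card N < n := by
        rw [← hn]
        have h1 := Subgroup.card_mul_index N
        have h2 : N.index ≠ 1 := fun h => htop (Subgroup.index_eq_one.mp h)
        have h3 : N.index ≠ 0 := Subgroup.index_ne_zero_of_finite
        have h4 : 0 < Nat.card N := Nat.card_pos
        have h5 : 2 ≤ N.index := by omega
        rw [← h1]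
        nlinarith
      have hQcard : Nat.card (G ⧸ N) < n := by
        rw [← hn]
        have h1 := Subgroup.card_eq_card_quotient_mul_card_subgroup N
        have h2 : 1 < Nat.card N := by
          haveI : Nontrivial N := N.bot_or_nontrivial.resolve_left hne
          exact Finite.one_lt_card
        have h3 : 0 < Nat.card (G ⧸ N) := Nat.card_pos
        rw [h1]
        nlinarith
      haveI hNs : Group.IsSolvable N := ih _ hNcard N rfl (A.subgroupOf N) (by
          rw [isMulCommutative_iff]
          intro x y
          apply Subtype.ext
          apply Subtype.ext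
          have := (isMulCommutative_iff.mp hA) ⟨x.1.1, x.2⟩ ⟨y.1.1, y.2⟩
          have h2 : x.1.1 * y.1.1 = y.1.1 * x.1.1 := congrArg Subtype.val this
          exact h2) (by
          have hd : (A.subgroupOf N).index ∣ 2 ^ k := by
            rw [← hk]
            exact H18.relIndex_dvd_index_of_normal_right A N
          obtain ⟨j, _, hj⟩ := (Nat.dvd_prime_pow Nat.prime_two).mp hd
          exact ⟨j, hj⟩)
      haveI hQs : Group.IsSolvable (G ⧸ N) := ih _ hQcard (G ⧸ N) rfl (A.map (QuotientGroup.mk' N)) (by
          rw [isMulCommutative_iff]
          rintro ⟨_, x, hx, rfl⟩ ⟨_, y, hy, rfl⟩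
          apply Subtype.ext
          have := (isMulCommutative_iff.mp hA) ⟨x, hx⟩ ⟨y, hy⟩
          have h2 : x * y = y * x := congrArg Subtype.val this
          show (QuotientGroup.mk' N) x * (QuotientGroup.mk' N) y = (QuotientGroup.mk' N) y * (QuotientGroup.mk' N) x
          rw [← map_mul, ← map_mul, h2]) (by
          have hd : (A.map (QuotientGroup.mk' N)).index ∣ 2 ^ k := by
            rw [← hk]
            exact Subgroup.index_map_dvd _ (QuotientGroup.mk'_surjective N)
          obtain ⟨j, _, hj⟩ := (Nat.dvd_prime_pow Nat.prime_two).mp hd
          exact ⟨j, hj⟩)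
      exact Group.isSolvable_of_ker_le_range N.subtype (QuotientGroup.mk' N) (by
        rw [QuotientGroup.ker_mk', Subgroup.range_subtype])


/-- Every finite group having an abelian subgroup whose index is a power of 2 is solvable. -/
theorem result {G : Type*} [Group G] [Finite G]
    (A : Subgroup G) (hA : IsMulCommutative A) (hidx : ∃ k : ℕ, A.index = 2 ^ k) : Group.IsSolvable G := by
  classical
exact aux3824 _ G rfl A hA hidx

end Cfsg.Agent.S3824
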