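import Cfsg.Statements.S3857
import Mathlib
import Cfsg.Agent.Lib.H05.Comp3
import Cfsg.Agent.Lib.H06.CNFrob
import Cfsg.Agent.Lib.H26.FPF
import Cfsg.Agent.Lib.H22.Codegree
import Cfsg.Agent.Lib.H20.Split1
import Cfsg.Agent.Lib.H20.Frob
import Cfsg.Agent.Lib.H19.Basic
import Cfsg.Agent.Lib.H17.PrimeGraph
import Cfsg.Agent.Lib.H14.UniqueSub
import Cfsg.Agent.Lib.H08.PiCore
import Cfsg.Agent.Lib.H01.Solv2
import Cfsg.Agent.Lib.H01.Hall

set_option autoImplicit false
open Cfsg

namespace Cfsg.Agent.S3857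


set_option linter.unusedSectionVars false
set_option linter.style.haveILetI false

universe u

open scoped Pointwise commutatorElement

/-- `A`-elements. -/
def AE (A : Set ℕ) {X : Type*} [Group X] (x : X) : Prop :=
  ∀ p : ℕ, p.Prime → p ∣ orderOf x → p ∈ A

/-- `A'`-elements. -/
def BE (A : Set ℕ) {X : Type*} [Group X] (x : X) : Prop :=
  ∀ p : ℕ, p.Prime → p ∣ orderOf x → p ∉ A

theorem frob_of_complement {X : Type*} [Group X] [Finite X] (N H : Subgroup X) [hN : N.Normal]
    (hinf : ∀ x, x ∈ N → x ∈ H → x = 1)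
    (hdec : ∀ g : X, ∃ h ∈ H, ∃ n ∈ N, g = h * n)
    (hN1 : N ≠ ⊥) (hH1 : H ≠ ⊥)
    (hfree : ∀ n ∈ N, ∀ h ∈ H, n * h = h * n → n = 1 ∨ h = 1) :
    Cfsg.IsFrobeniusComplement H ∧ Cfsg.frobeniusKernel H = (N : Set X) := by
  classical
  have hH : H ≠ ⊤ := by
    intro h
    apply hN1
    rw [eq_bot_iff]
    intro x hx
    exact Subgroup.mem_bot.mpr (hinf x hx (by rw [h]; trivial))
  have hcomp : Cfsg.IsFrobeniusComplement H := by
    refine ⟨hH1, hH, fun g hg => ?_⟩
    rw [eq_bot_iff]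
    rintro x ⟨hx, hx20⟩
    have hx2 : x ∈ MulAut.conj g • H := hx20
    rw [H20.mem_conj_smul_iff] at hx2
    obtain ⟨h, hh, n, hn, rfl⟩ := hdec g
    have hn1 : n ≠ 1 := by
      rintro rfl
      apply hg
      simpa using hh
    set y := (h * n)⁻¹ * x * (h * n) with hy
    have e1 : h⁻¹ * x * h = n * y * n⁻¹ := by rw [hy]; group
    have hx' : h⁻¹ * x * h ∈ H := H.mul_mem (H.mul_mem (H.inv_mem hh) hx) hh
    have e2 : (n * y * n⁻¹) * y⁻¹ = n * (y * n⁻¹ * y⁻¹) := by group
    have hm1 : (n * y * n⁻¹) * y⁻¹ ∈ H := H.mul_mem (e1 ▸ hx') (H.inv_mem hx2)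
    have hm2 : (n * y * n⁻¹) * y⁻¹ ∈ N := by
      rw [e2]
      exact N.mul_mem hn (hN.conj_mem _ (N.inv_mem hn) y)
    have h1 := hinf _ hm2 hm1
    have h2 : n * y * n⁻¹ = y := mul_inv_eq_one.mp h1
    have h3 : n * y = y * n := mul_inv_eq_iff_eq_mul.mp h2
    rcases hfree n hn y hx2 h3 with h4 | h4
    · exact absurd h4 hn1
    · have e3 : x = (h * n) * y * (h * n)⁻¹ := by rw [hy]; group
      rw [e3, h4]
      simp
  refine ⟨hcomp, ?_⟩
  symm
  refine Set.eq_of_subset_of_ncard_le ?_ ?_ (Set.toFinite _)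
  · intro x hx
    show x = 1 ∨ ∀ g, x ∉ MulAut.conj g • H
    by_cases h1 : x = 1
    · exact Or.inl h1
    · refine Or.inr fun g hg => h1 ?_
      rw [H20.mem_conj_smul_iff] at hg
      have h2 : g⁻¹ * x * g ∈ N := by
        have := hN.conj_mem x hx g⁻¹
        simpa using this
      have h3 := hinf _ h2 hg
      have e3 : x = g * (g⁻¹ * x * g) * g⁻¹ := by group
      rw [e3, h3]
      simp
  · have hc := H20.card_frobeniusKernel H hcomp
    rw [← Nat.card_coe_set_eq, ← Nat.card_coe_set_eq, hc]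
    show Nat.card (X ⧸ H) ≤ Nat.card N
    apply Nat.card_le_card_of_surjective (fun n : N => ((n : X) : X ⧸ H))
    intro q
    obtain ⟨g, rfl⟩ := QuotientGroup.mk_surjective q
    obtain ⟨h, hh, n, hn, e⟩ := hdec g⁻¹
    refine ⟨⟨n⁻¹, N.inv_mem hn⟩, ?_⟩
    show ((n⁻¹ : X) : X ⧸ H) = (g : X ⧸ H)
    rw [QuotientGroup.eq]
    have e2 : g = n⁻¹ * h⁻¹ := by
      have := congrArg (fun z => z⁻¹) e
      simpa using this
    rw [e2]
    have e3 : (n⁻¹)⁻¹ * (n⁻¹ * h⁻¹) = h⁻¹ := by group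
    rw [e3]
    exact H.inv_mem hh

theorem frob_map {X Y : Type*} [Group X] [Group Y] (e : X ≃* Y) (U : Subgroup X)
    (h : Cfsg.IsFrobeniusComplement U) :
    Cfsg.IsFrobeniusComplement (U.map e.toMonoidHom) ∧
      Cfsg.frobeniusKernel (U.map e.toMonoidHom) = e '' Cfsg.frobeniusKernel U := by
  have hmem : ∀ y : Y, y ∈ U.map e.toMonoidHom ↔ e.symm y ∈ U := by
    intro y
    constructor
    · rintro ⟨u, hu, rfl⟩
      simpa using hu
    · intro hy
      exact ⟨e.symm y, hy, by simp⟩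
  have hconj : ∀ g y : Y, y ∈ MulAut.conj g • U.map e.toMonoidHom ↔
      e.symm y ∈ MulAut.conj (e.symm g) • U := by
    intro g y
    rw [H20.mem_conj_smul_iff, H20.mem_conj_smul_iff, hmem]
    simp
  refine ⟨⟨?_, ?_, ?_⟩, ?_⟩
  · intro hb
    apply h.1
    rw [eq_bot_iff]
    intro x hx
    have : e x ∈ U.map e.toMonoidHom := ⟨x, hx, rfl⟩
    rw [hb, Subgroup.mem_bot] at this
    exact Subgroup.mem_bot.mpr (by simpa using this)
  · intro ht
    apply h.2.1
    rw [eq_top_iff]
    intro x _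
    have : e x ∈ U.map e.toMonoidHom := by rw [ht]; trivial
    simpa using (hmem _).mp this
  · intro g hg
    rw [eq_bot_iff]
    rintro x ⟨hx, hx2⟩
    have h1 : e.symm x ∈ U := (hmem x).mp hx
    have h2 := (hconj g x).mp hx2
    have h3 : e.symm g ∉ U := fun hc => hg ((hmem g).mpr hc)
    have h4 := h.2.2 _ h3
    have h5 : e.symm x ∈ U ⊓ MulAut.conj (e.symm g) • U := ⟨h1, h2⟩
    rw [h4, Subgroup.mem_bot] at h5
    exact Subgroup.mem_bot.mpr (by simpa using h5)
  · ext y
    constructor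
    · intro hy
      refine ⟨e.symm y, ?_, by simp⟩
      rcases hy with hy | hy
      · left
        simp [hy]
      · right
        intro g hg
        apply hy (e g)
        rw [hconj]
        simpa using hg
    · rintro ⟨x, hx, rfl⟩
      rcases hx with hx | hx
      · left
        simp [hx]
      · right
        intro g hg
        rw [hconj] at hg
        apply hx (e.symm g)
        simpa using hg

theorem nil_of_conj {X : Type*} [Group X] [Finite X] (V : Subgroup X) [hV : V.Normal] (a : X) (r : ℕ)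
    (hr : r.Prime) (har : a ^ r = 1) (hfpf : ∀ v ∈ V, a * v = v * a → v = 1) :
    Group.IsNilpotent V := by
  let φ : MulAut V := MulAut.conjNormal a
  refine Cfsg.Agent.H26.FPF.nilpotent_of_fpf hr _ V (φ : V →* V) rfl ?_ ?_
  · intro v hv
    have h1 : a * v * a⁻¹ = v := by
      have := congrArg Subtype.val hv
      simpa [φ, MulAut.conjNormal_apply] using this
    have h2 := hfpf v v.2 (mul_inv_eq_iff_eq_mul.mp h1)
    exact Subtype.ext h2
  · have h1 : φ ^ r = 1 := by
      show (MulAut.conjNormal a) ^ r = 1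
      rw [← map_pow, har, map_one]
    have h2 : ∀ (n : ℕ) (x : V), (φ ^ n) x = (φ : V →* V)^[n] x := by
      intro n
      induction n with
      | zero => intro x; rfl
      | succ n ih =>
        intro x
        rw [pow_succ', MulAut.mul_apply, ih, Function.iterate_succ_apply']
        rfl
    funext x
    rw [← h2, h1]
    rfl

theorem exists_ab_normal (Q : Type*) [Group Q] [hs : Group.IsSolvable Q] [Nontrivial Q] :
    ∃ D : Subgroup Q, D.Normal ∧ D ≠ ⊥ ∧ ∀ a ∈ D, ∀ b ∈ D, a * b = b * a := by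
  classical
  obtain ⟨n, hn⟩ := hs.solvable
  have hex : ∃ m, derivedSeries Q m = ⊥ := ⟨n, hn⟩
  have hm := Nat.find_spec hex
  have hm0 : Nat.find hex ≠ 0 := by
    intro h
    rw [h, derivedSeries_zero] at hm
    exact top_ne_bot hm
  obtain ⟨k, hk⟩ := Nat.exists_eq_succ_of_ne_zero hm0
  have hk1 : derivedSeries Q k ≠ ⊥ := Nat.find_min hex (by omega)
  refine ⟨derivedSeries Q k, derivedSeries_normal Q k, hk1, ?_⟩
  rw [hk, derivedSeries_succ] at hm
  intro a ha b hb
  have h1 : ⁅a, b⁆ ∈ (⊥ : Subgroup Q) := by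
    rw [← hm]
    exact Subgroup.commutator_mem_commutator ha hb
  exact commutatorElement_eq_one_iff_mul_comm.mp (Subgroup.mem_bot.mp h1)

theorem part2 {X : Type*} [Group X] [Finite X] (A : Set ℕ) (W : Subgroup X) [hWn : W.Normal] [hWc : IsCyclic W]
    (hdich : ∀ x : X, AE A x ∨ BE A x)
    (hcomm : ∀ x y : X, AE A x → BE A y → x * y = y * x → x = 1 ∨ y = 1)
    (hC : ∀ m : X, (∀ w ∈ W, m * w = w * m) → m ∈ W)
    (hN : ∀ V : Subgroup X, V.Normal → Group.IsNilpotent V → V ≤ W)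
    (hWB : ∀ w ∈ W, BE A w)
    (a : X) (r : ℕ) (hr : r.Prime) (hrA : r ∈ A) (hao : orderOf a = r) :
    ∀ y : X, BE A y → y ∈ W := by
  intro y hy
  have hder : ∀ m n : X, m * n * m⁻¹ * n⁻¹ ∈ W := by
    intro m n
    apply hC
    intro w hw
    have := H22.commutator_mem_centralizer_of_cyclic W m n
    rw [Subgroup.mem_centralizer_iff] at this
    exact (this w hw).symm
  set V : Subgroup X := W ⊔ Subgroup.zpowers y with hV
  have hVn : V.Normal := by
    apply Subgroup.Normal.of_commutator_le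
    rw [_root_.commutator_def, Subgroup.commutator_le]
    intro g₁ _ g₂ _
    rw [commutatorElement_def]
    exact Subgroup.mem_sup_left (hder g₁ g₂)
  have hVB : ∀ v ∈ V, BE A v := by
    intro v hv
    rcases hdich v with hva | hvb
    · have hn : v ^ orderOf y ∈ W := by
        obtain ⟨w, hw, z, hz, rfl⟩ := Subgroup.mem_sup_of_normal_left.mp hv
        obtain ⟨k, rfl⟩ := Subgroup.mem_zpowers_iff.mp hz
        have e0 : (QuotientGroup.mk' W) ((w * y ^ k) ^ orderOf y) = 1 := by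
          rw [map_pow, map_mul, map_zpow, (show (QuotientGroup.mk' W) w = 1 from (QuotientGroup.eq_one_iff w).mpr hw),
            one_mul, ← zpow_natCast, ← zpow_mul, mul_comm, zpow_mul, zpow_natCast, ← map_pow, pow_orderOf_eq_one,
            map_one, one_zpow]
        exact (QuotientGroup.eq_one_iff _).mp e0
      have hcop : (orderOf v).Coprime (orderOf y) := by
        apply Nat.coprime_of_dvd
        intro p hp h1 h2
        exact hy p hp h2 (hva p hp h1)
      obtain ⟨m, hm⟩ := exists_pow_eq_self_of_coprime hcop.symm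
      have hvW : (v ^ orderOf y) ^ m ∈ W := W.pow_mem hn m
      rw [hm] at hvW
      exact hWB v hvW
    · exact hvb
  have haAE : AE A a := by
    intro p hp hd
    rw [hao] at hd
    rw [(Nat.prime_dvd_prime_iff_eq hp hr).mp hd]
    exact hrA
  have ha1 : a ≠ 1 := by
    intro h
    rw [h, orderOf_one] at hao
    exact hr.one_lt.ne hao
  haveI := hVn
  have hnil : Group.IsNilpotent V := nil_of_conj V a r hr (by rw [← hao]; exact pow_orderOf_eq_one a)
    (fun v hv hc => (hcomm a v haAE (hVB v hv) hc).resolve_left ha1)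
  exact hN V hVn hnil (Subgroup.mem_sup_right (Subgroup.mem_zpowers y))

theorem uniq_of_noE {W : Type*} [Group W] [Finite W] [hnil : Group.IsNilpotent W]
    (hNoE : ∀ x y : W, x * y = y * x → ∀ r : ℕ, r.Prime → orderOf x = r → orderOf y = r → y ∈ Subgroup.zpowers x)
    (r : ℕ) [hrf : Fact r.Prime] (x y : W) (hx : orderOf x = r) (hy : orderOf y = r) :
    y ∈ Subgroup.zpowers x := by
  have hr : r.Prime := hrf.out
  obtain ⟨P⟩ : Nonempty (Sylow r W) := inferInstance
  haveI hPn : (P : Subgroup W).Normal :=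
    Sylow.normal_of_normalizerCondition (fun H h => Group.normalizerCondition_of_isNilpotent H h) P
  have hxP : x ∈ (P : Subgroup W) := H19.mem_sylow_of_normal (k := 1) (by simpa using hx) P hPn
  have hyP : y ∈ (P : Subgroup W) := H19.mem_sylow_of_normal (k := 1) (by simpa using hy) P hPn
  have hx1 : x ≠ 1 := by
    intro h
    rw [h, orderOf_one] at hx
    exact hr.one_lt.ne hx
  haveI : Nontrivial (P : Subgroup W) := by
    refine ⟨⟨⟨x, hxP⟩, 1, ?_⟩⟩
    intro h
    exact hx1 (congrArg Subtype.val h)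
  have hZnt : Nontrivial (Subgroup.center (P : Subgroup W)) := P.isPGroup'.center_nontrivial
  have hZp : IsPGroup r (Subgroup.center (P : Subgroup W)) := P.isPGroup'.to_subgroup _
  obtain ⟨j, hj⟩ := (IsPGroup.iff_card).mp hZp
  have h2Z : r ∣ Nat.card (Subgroup.center (P : Subgroup W)) := by
    have h1 : 1 < Nat.card (Subgroup.center (P : Subgroup W)) := Finite.one_lt_card
    rw [hj] at h1 ⊢
    have : j ≠ 0 := by
      rintro rfl
      simp at h1
    exact dvd_pow_self r this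
  obtain ⟨z₀, hz₀⟩ := exists_prime_orderOf_dvd_card' r h2Z
  set z : W := ((z₀ : (P : Subgroup W)) : W) with hzdef
  have hzord : orderOf z = r := by
    rw [hzdef, Subgroup.orderOf_coe, Subgroup.orderOf_coe, hz₀]
  have hzc : ∀ t ∈ (P : Subgroup W), z * t = t * z := by
    intro t ht
    have := (Subgroup.mem_center_iff.mp z₀.2) ⟨t, ht⟩
    simpa using (congrArg Subtype.val this).symm
  have h1 := hNoE x z (hzc x hxP).symm r hr hx hzord
  have h2 := hNoE z y (hzc y hyP) r hr hzord hy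
  exact (Subgroup.zpowers_le.mpr h1) h2

theorem cyc_of_noE {W : Type*} [Group W] [Finite W] [hnil : Group.IsNilpotent W]
    (hNoE : ∀ x y : W, x * y = y * x → ∀ r : ℕ, r.Prime → orderOf x = r → orderOf y = r → y ∈ Subgroup.zpowers x)
    (h2 : ¬ 2 ∣ Nat.card W) : IsCyclic W := by
  haveI : IsZGroup W := by
    refine ⟨fun p hp P => ?_⟩
    haveI : Fact p.Prime := ⟨hp⟩
    by_cases hp2 : p = 2
    · subst hp2
      have h3 : Nat.card (P : Subgroup W) = 1 := by
        rw [P.card_eq_multiplicity, Nat.factorization_eq_zero_of_not_dvd h2, pow_zero]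
      have : Subsingleton (P : Subgroup W) := (Nat.card_eq_one_iff_unique.mp h3).1
      infer_instance
    · refine Cfsg.Agent.H14.isCyclic_of_uniqueP_odd hp2 _ P rfl P.isPGroup' ?_
      intro x y hx hy
      have hx' : orderOf (x : W) = p := by rw [Subgroup.orderOf_coe]; exact hx
      have hy' : orderOf (y : W) = p := by rw [Subgroup.orderOf_coe]; exact hy
      obtain ⟨k, hk⟩ := Subgroup.mem_zpowers_iff.mp (uniq_of_noE hNoE p (x : W) (y : W) hx' hy')
      refine Subgroup.mem_zpowers_iff.mpr ⟨k, ?_⟩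
      apply Subtype.ext
      simpa using hk
  infer_instance

theorem noE {G : Type*} [Group G] [Finite G] (K W : Subgroup G) [hKn : K.Normal] (hKnil : Group.IsNilpotent K)
    (hK1 : K ≠ ⊥) (hfree : ∀ k ∈ K, ∀ w ∈ W, k * w = w * k → k = 1 ∨ w = 1)
    {x y : G} (hxW : x ∈ W) (hyW : y ∈ W) (hxy : x * y = y * x) (r : ℕ) (hr : r.Prime)
    (hx : orderOf x = r) (hy : orderOf y = r) (hcop : (Nat.card K).Coprime r) :
    y ∈ Subgroup.zpowers x := by
  classical
  by_contra hny
  haveI : (Subgroup.center K).Characteristic := inferInstance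
  set V : Subgroup G := (Subgroup.center K).map K.subtype with hV
  haveI hVn : V.Normal := inferInstance
  have hVK : V ≤ K := Subgroup.map_subtype_le _
  obtain ⟨z, hzK, hz1, hzc⟩ := H06.exists_center_of_nilp K hKnil hK1
  have hzV : z ∈ V := by
    refine ⟨⟨z, hzK⟩, ?_, rfl⟩
    show (⟨z, hzK⟩ : K) ∈ Subgroup.center K
    rw [Subgroup.mem_center_iff]
    intro g
    apply Subtype.ext
    exact (hzc g g.2).symm
  have hVc : ∀ a b : V, a * b = b * a := by
    rintro ⟨_, a, ha, rfl⟩ ⟨_, b, hb, rfl⟩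
    apply Subtype.ext
    show (a : G) * b = b * a
    have := (Subgroup.mem_center_iff.mp ha) b
    exact (congrArg Subtype.val this).symm
  have hy1 : y ≠ 1 := by
    intro h
    rw [h, orderOf_one] at hy
    exact hr.one_lt.ne hy
  have hcopV : (Nat.card V).Coprime r := Nat.Coprime.coprime_dvd_left (Subgroup.card_dvd_of_le hVK) hcop
  let α : MulAut V := MulAut.conjNormal x
  let β : MulAut V := MulAut.conjNormal y
  have hc : α * β = β * α := by
    show MulAut.conjNormal x * MulAut.conjNormal y = MulAut.conjNormal y * MulAut.conjNormal x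
    rw [← map_mul, ← map_mul, hxy]
  have hα : α ^ r = 1 := by
    show (MulAut.conjNormal x) ^ r = 1
    rw [← map_pow, ← hx, pow_orderOf_eq_one, map_one]
  have hβ : β ^ r = 1 := by
    show (MulAut.conjNormal y) ^ r = 1
    rw [← map_pow, ← hy, pow_orderOf_eq_one, map_one]
  have hfpf : ∀ (j : ℕ) (v : V), (α * β ^ j) v = v → v = 1 := by
    intro j v hv
    have e : α * β ^ j = MulAut.conjNormal (x * y ^ j) := by
      show MulAut.conjNormal x * (MulAut.conjNormal y) ^ j = _
      rw [map_mul, map_pow]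
    rw [e] at hv
    have h1 : (x * y ^ j) * (v : G) * (x * y ^ j)⁻¹ = v := by
      have := congrArg Subtype.val hv
      rw [MulAut.conjNormal_apply] at this
      exact this
    have h2 : (v : G) * (x * y ^ j) = (x * y ^ j) * v := (mul_inv_eq_iff_eq_mul.mp h1).symm
    rcases hfree v (hVK v.2) _ (W.mul_mem hxW (W.pow_mem hyW j)) h2 with h3 | h3
    · exact Subtype.ext h3
    · exfalso
      apply hny
      have h4 : x = (y ^ j)⁻¹ := eq_inv_of_mul_eq_one_left h3
      have h5 : x ∈ Subgroup.zpowers y := by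
        rw [h4]
        exact Subgroup.inv_mem _ (Subgroup.pow_mem _ (Subgroup.mem_zpowers y) j)
      have h6 : Subgroup.zpowers x ≤ Subgroup.zpowers y := Subgroup.zpowers_le.mpr h5
      have h7 : Subgroup.zpowers x = Subgroup.zpowers y :=
        Subgroup.eq_of_le_of_card_ge h6 (by rw [Nat.card_zpowers, Nat.card_zpowers, hx, hy])
      rw [h7]
      exact Subgroup.mem_zpowers y
  have hfix := H20.two_gen_abelian hVc hr hcopV α β hc hα hβ hfpf
  have h8 := hfix ⟨z, hzV⟩
  have h9 : y * z * y⁻¹ = z := by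
    have := congrArg Subtype.val h8
    simpa [β, MulAut.conjNormal_apply] using this
  have h10 : z * y = y * z := (mul_inv_eq_iff_eq_mul.mp h9).symm
  rcases hfree z hzK y hyW h10 with h11 | h11
  · exact hz1 h11
  · exact hy1 h11

theorem norm_of_le {G : Type*} [Group G] [Finite G] (W : Subgroup G) (h : G) (hh : ∀ w ∈ W, h * w * h⁻¹ ∈ W) :
    h ∈ Subgroup.normalizer (W : Set G) := by
  rw [Subgroup.mem_normalizer_iff]
  intro x
  refine ⟨hh x, fun hx => ?_⟩
  let f : W → W := fun w => ⟨h * w * h⁻¹, hh w w.2⟩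
  have hf : Function.Injective f := by
    intro a b hab
    have := congrArg Subtype.val hab
    simp only [f] at this
    exact Subtype.ext (by simpa using this)
  obtain ⟨w, hw⟩ := (Finite.injective_iff_surjective.mp hf) ⟨h * x * h⁻¹, hx⟩
  have e := congrArg Subtype.val hw
  simp only [f] at e
  have e2 : (w : G) = x := by simpa using e
  rw [← e2]
  exact w.2

theorem main {G : Type u} [Group G] [Finite G] [hsol : Group.IsSolvable G] (A : Set ℕ)
    (hb : ∃ b ∉ A, b.Prime ∧ b ∣ Nat.card G) (hK1 : piCore A G ≠ ⊥)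
    (hno : ∀ a ∈ A, ∀ b ∉ A, a.Prime → b.Prime → a ∣ Nat.card G → b ∣ Nat.card G →
      ¬ ∃ g : G, orderOf g = a * b) :
    (∃ C : Subgroup G, Cfsg.IsFrobeniusComplement C) ∨
    (∃ (H K : Subgroup G) (_ : H.Normal), K.Normal ∧ H < K ∧
      (∃ C : Subgroup ↥K, Cfsg.IsFrobeniusComplement C ∧ Cfsg.frobeniusKernel C = (H.subgroupOf K : Set ↥K)) ∧
      (∃ C : Subgroup (G ⧸ H), Cfsg.IsFrobeniusComplement C ∧ Cfsg.frobeniusKernel C = (K.map (QuotientGroup.mk' H) : Set (G ⧸ H)))) := by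
  classical
  have hdich : ∀ x : G, AE A x ∨ BE A x := by
    intro x
    by_cases h : AE A x
    · exact Or.inl h
    · right
      intro p hp hd hpA
      apply h
      intro q hq hdq
      by_contra hqA
      have hpq : p ≠ q := fun e => hqA (e ▸ hpA)
      have hd2 : p * q ∣ orderOf x :=
        Nat.Coprime.mul_dvd_of_dvd_of_dvd ((Nat.coprime_primes hp hq).mpr hpq) hd hdq
      have h3 := orderOf_pow_orderOf_div (orderOf_pos x).ne' hd2
      have hG : orderOf x ∣ Nat.card G := orderOf_dvd_natCard x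
      exact hno p hpA q hqA hp hq (hd.trans hG) (hdq.trans hG) ⟨_, h3⟩
  have hcomm : ∀ x y : G, AE A x → BE A y → x * y = y * x → x = 1 ∨ y = 1 := by
    intro x y hx hy hxy
    by_contra hc
    push Not at hc
    obtain ⟨hx1, hy1⟩ := hc
    obtain ⟨p, hp, hpd⟩ := Nat.exists_prime_and_dvd (fun h => hx1 (orderOf_eq_one_iff.mp h))
    obtain ⟨q, hq, hqd⟩ := Nat.exists_prime_and_dvd (fun h => hy1 (orderOf_eq_one_iff.mp h))
    have hpA := hx p hp hpd
    have hqA := hy q hq hqd
    have hpq : p ≠ q := fun e => hqA (e ▸ hpA)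
    have h1 := orderOf_pow_orderOf_div (orderOf_pos x).ne' hpd
    have h2 := orderOf_pow_orderOf_div (orderOf_pos y).ne' hqd
    have hc2 : x ^ (orderOf x / p) * y ^ (orderOf y / q) = y ^ (orderOf y / q) * x ^ (orderOf x / p) :=
      ((show Commute x y from hxy).pow_pow _ _).eq
    obtain ⟨g, hg⟩ := H17.exists_orderOf_mul_of_commute hp hq hpq h1 h2 hc2
    exact hno p hpA q hqA hp hq (hpd.trans (orderOf_dvd_natCard x)) (hqd.trans (orderOf_dvd_natCard y)) ⟨g, hg⟩
  obtain ⟨b, hbA, hbp, hbd⟩ := hb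
  set K : Subgroup G := piCore A G with hKdef
  have hKprimes : ∀ p : ℕ, p.Prime → p ∣ Nat.card K → p ∈ A := H08.piCore_isPi A
  have hKA : ∀ x ∈ K, AE A x := by
    intro x hx p hp hd
    apply hKprimes p hp
    have := orderOf_dvd_natCard (⟨x, hx⟩ : K)
    rw [Subgroup.orderOf_mk] at this
    exact hd.trans this
  have hKtop : K ≠ ⊤ := by
    intro h
    apply hbA
    apply hKprimes b hbp
    rw [h, Subgroup.card_top]
    exact hbd
  haveI hQnt : Nontrivial (G ⧸ K) := by
    rw [← Finite.one_lt_card_iff_nontrivial]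
    have h1 : Nat.card (G ⧸ K) = K.index := rfl
    have h2 : K.index ≠ 1 := fun h => hKtop (Subgroup.index_eq_one.mp h)
    have h3 : K.index ≠ 0 := Subgroup.index_ne_zero_of_finite
    rw [h1]
    omega
  haveI hQsol : Group.IsSolvable (G ⧸ K) := inferInstance
  set F₂ : Subgroup (G ⧸ K) := Cfsg.fittingSubgroup (G ⧸ K) with hF₂
  haveI hF₂n : F₂.Normal := H01.fitting_normal
  haveI hF₂nil : Group.IsNilpotent F₂ := H01.fitting_nilpotent
  have hF₂1 : F₂ ≠ ⊥ := by
    obtain ⟨D, hDn, hD1, hDc⟩ := exists_ab_normal (G ⧸ K)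
    have hDnil : Group.IsNilpotent D := H05.nil_of_comm (fun a b => Subtype.ext (hDc a a.2 b b.2))
    intro h
    apply hD1
    rw [eq_bot_iff, ← h]
    exact H01.le_fitting hDn hDnil
  have hF₂B : ∀ p : ℕ, p.Prime → p ∣ Nat.card F₂ → p ∉ A := by
    intro p hp hd hpA
    haveI : Fact p.Prime := ⟨hp⟩
    obtain ⟨S⟩ : Nonempty (Sylow p F₂) := inferInstance
    haveI hSn : (S : Subgroup F₂).Normal :=
      Sylow.normal_of_normalizerCondition (fun H h => Group.normalizerCondition_of_isNilpotent H h) S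
    haveI hSc : (S : Subgroup F₂).Characteristic := Sylow.characteristic_of_normal S hSn
    have hS₁n : ((S : Subgroup F₂).map F₂.subtype).Normal := inferInstance
    have hle : (S : Subgroup F₂).map F₂.subtype ≤ piCore A (G ⧸ K) := by
      apply H08.le_piCore hS₁n
      intro q hq hqd
      rw [Subgroup.card_map_of_injective F₂.subtype_injective, S.card_eq_multiplicity] at hqd
      have := hq.dvd_of_dvd_pow hqd
      rw [(Nat.prime_dvd_prime_iff_eq hq hp).mp this]
      exact hpA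
    have hbot : piCore A (G ⧸ K) = ⊥ := H08.piCore_quotient_eq_bot A
    rw [hbot] at hle
    have h2 : (S : Subgroup F₂) = ⊥ :=
      (Subgroup.map_eq_bot_iff_of_injective _ F₂.subtype_injective).mp (le_bot_iff.mp hle)
    have h3 := S.card_eq_multiplicity
    rw [h2, Subgroup.card_bot] at h3
    have h4 : 1 ≤ (Nat.card F₂).factorization p :=
      (hp.dvd_iff_one_le_factorization Nat.card_pos.ne').mp hd
    have h5 : 1 < p ^ (Nat.card F₂).factorization p := Nat.one_lt_pow (by omega) hp.one_lt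
    omega
  set T : Subgroup G := F₂.comap (QuotientGroup.mk' K) with hT
  haveI hTn : T.Normal := Subgroup.Normal.comap hF₂n _
  have hKT : K ≤ T := by
    intro x hx
    show (QuotientGroup.mk' K) x ∈ F₂
    have : (QuotientGroup.mk' K) x = 1 := (QuotientGroup.eq_one_iff x).mpr hx
    rw [this]
    exact F₂.one_mem
  have hcardT : Nat.card T = Nat.card F₂ * Nat.card K := H01.card_comap_mk K F₂
  have hcop : (Nat.card F₂).Coprime (Nat.card K) := by
    apply Nat.coprime_of_dvd
    intro q hq h1 h2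
    exact hF₂B q hq h1 (hKprimes q hq h2)
  haveI hTsol : Group.IsSolvable T := inferInstance
  obtain ⟨W₀, hW₀, -⟩ := H01.hall_containment _ T rfl _ _ hcardT hcop ⊥ (by simp)
  set W : Subgroup G := W₀.map T.subtype with hW
  have hWT : W ≤ T := Subgroup.map_subtype_le _
  have hWcard : Nat.card W = Nat.card F₂ := by
    rw [hW, Subgroup.card_map_of_injective T.subtype_injective, hW₀]
  have hdisj : ∀ x, x ∈ K → x ∈ W → x = 1 := by
    intro x h1 h2
    have h3 : Disjoint W K := H01.disjoint_of_coprime (by rw [hWcard]; exact hcop)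
    exact (Subgroup.disjoint_def.mp h3) h2 h1
  have hWne : W ≠ ⊥ := by
    intro h
    apply hF₂1
    rw [← Subgroup.card_eq_one, ← hWcard, h, Subgroup.card_bot]
  have hsupT : W ⊔ K = T := by
    apply Subgroup.eq_of_le_of_card_ge (sup_le hWT hKT)
    have h1 := H01.card_sup_mul_card_inf W K
    have h2 : W ⊓ K = ⊥ := by
      rw [eq_bot_iff]
      rintro x ⟨h3, h4⟩
      exact Subgroup.mem_bot.mpr (hdisj x h4 h3)
    rw [h2, Subgroup.card_bot, mul_one, hWcard] at h1
    rw [h1, hcardT]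
  have hdecT : ∀ t ∈ T, ∃ w ∈ W, ∃ k ∈ K, t = w * k := by
    intro t ht
    rw [← hsupT] at ht
    obtain ⟨w, hw, k, hk, rfl⟩ := Subgroup.mem_sup_of_normal_right.mp ht
    exact ⟨w, hw, k, hk, rfl⟩
  have hWB : ∀ w ∈ W, BE A w := by
    intro w hw p hp hd
    apply hF₂B p hp
    have := orderOf_dvd_natCard (⟨w, hw⟩ : W)
    rw [Subgroup.orderOf_mk, hWcard] at this
    exact hd.trans this
  have hfree : ∀ k ∈ K, ∀ w ∈ W, k * w = w * k → k = 1 ∨ w = 1 :=
    fun k hk w hw h => hcomm k w (hKA k hk) (hWB w hw) h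
  -- a non-trivial element of prime order in `W`
  obtain ⟨w₁, hw₁W, r₁, hr₁, hw₁o⟩ : ∃ w₁ ∈ W, ∃ r₁ : ℕ, r₁.Prime ∧ orderOf w₁ = r₁ := by
    obtain ⟨⟨w, hw⟩, hw1⟩ := (Subgroup.ne_bot_iff_exists_ne_one.mp hWne)
    have hw1' : w ≠ 1 := fun h => hw1 (Subtype.ext h)
    obtain ⟨q, hq, hqd⟩ := Nat.exists_prime_and_dvd (fun h => hw1' (orderOf_eq_one_iff.mp h))
    exact ⟨_, W.pow_mem hw _, q, hq, orderOf_pow_orderOf_div (orderOf_pos w).ne' hqd⟩
  have hw₁1 : w₁ ≠ 1 := by
    intro h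
    rw [h, orderOf_one] at hw₁o
    exact hr₁.one_lt.ne hw₁o
  -- `K` is nilpotent
  have hKnil : Group.IsNilpotent K := nil_of_conj K w₁ r₁ hr₁ (by rw [← hw₁o]; exact pow_orderOf_eq_one w₁)
    (fun v hv hc => (hfree v hv w₁ hw₁W hc.symm).resolve_right hw₁1)
  -- `W` is nilpotent
  have hWnil : Group.IsNilpotent W := by
    let f : W →* F₂ := ((QuotientGroup.mk' K).comp W.subtype).codRestrict F₂ (fun x => hWT x.2)
    refine Subgroup.isNilpotent_of_ker_le_center f ?_
    intro x hx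
    have h1 : ((x : G) : G ⧸ K) = 1 := by
      have := congrArg Subtype.val (MonoidHom.mem_ker.mp hx)
      exact this
    have h2 := hdisj x ((QuotientGroup.eq_one_iff _).mp h1) x.2
    have h3 : x = 1 := Subtype.ext h2
    rw [h3]
    exact Subgroup.one_mem _
  -- Frattini
  set M : Subgroup G := Subgroup.normalizer (W : Set G) with hM
  have hWM : W ≤ M := Subgroup.le_normalizer
  have hMK : ∀ x, x ∈ K → x ∈ M → x = 1 := by
    intro x hxK hxM
    have h1 : x * w₁ * x⁻¹ ∈ W := (Subgroup.mem_normalizer_iff.mp hxM w₁).mp hw₁W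
    have h2 : (x * w₁ * x⁻¹) * w₁⁻¹ ∈ W := W.mul_mem h1 (W.inv_mem hw₁W)
    have h3 : (x * w₁ * x⁻¹) * w₁⁻¹ ∈ K := by
      have e : (x * w₁ * x⁻¹) * w₁⁻¹ = x * (w₁ * x⁻¹ * w₁⁻¹) := by group
      rw [e]
      exact K.mul_mem hxK ((inferInstance : K.Normal).conj_mem _ (K.inv_mem hxK) w₁)
    have h4 := hdisj _ h3 h2
    have h5 : x * w₁ = w₁ * x := by
      have h6 : x * w₁ * x⁻¹ = w₁ := mul_inv_eq_one.mp h4
      exact mul_inv_eq_iff_eq_mul.mp h6
    exact (hfree x hxK w₁ hw₁W h5).resolve_right hw₁1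
  have hdec : ∀ g : G, ∃ m ∈ M, ∃ k ∈ K, g = m * k := by
    intro g
    have hWg : W.map (MulAut.conj g).toMonoidHom ≤ T := by
      rintro _ ⟨w, hw, rfl⟩
      exact hTn.conj_mem w (hWT hw) g
    have hc1 : Nat.card (W.subgroupOf T) = Nat.card F₂ := by
      rw [H01.card_subgroupOf_of_le hWT, hWcard]
    have hc2 : Nat.card ((W.map (MulAut.conj g).toMonoidHom).subgroupOf T) = Nat.card F₂ := by
      rw [H01.card_subgroupOf_of_le hWg, Subgroup.card_map_of_injective (MulAut.conj g).injective, hWcard]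
    obtain ⟨t, ht⟩ := H01.hall_conj _ T rfl _ _ hcardT hcop _ _ hc1 hc2
    have hm₀ : (t : G)⁻¹ * g ∈ M := by
      apply norm_of_le
      intro w hw
      have h1 : (⟨g * w * g⁻¹, hWg ⟨w, hw, rfl⟩⟩ : T) ∈ (W.map (MulAut.conj g).toMonoidHom).subgroupOf T :=
        Subgroup.mem_subgroupOf.mpr ⟨w, hw, rfl⟩
      rw [← ht, H20.mem_conj_smul_iff, Subgroup.mem_subgroupOf] at h1
      have e : ((t : G)⁻¹ * g) * w * ((t : G)⁻¹ * g)⁻¹ = (t : G)⁻¹ * (g * w * g⁻¹) * t := by group
      rw [e]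
      exact h1
    obtain ⟨w, hw, k, hk, hwk⟩ := hdecT t t.2
    set m₀ := (t : G)⁻¹ * g with hm₀d
    refine ⟨w * m₀, M.mul_mem (hWM hw) hm₀, m₀⁻¹ * k * m₀, ?_, ?_⟩
    · have := (inferInstance : K.Normal).conj_mem k hk m₀⁻¹
      simpa using this
    · have e : g = (t : G) * m₀ := by rw [hm₀d]; group
      rw [e, hwk]
      group
  have hM1 : M ≠ ⊥ := by
    intro h
    apply hWne
    rw [eq_bot_iff, ← h]
    exact hWM
  by_cases hMB : ∀ m ∈ M, BE A m
  · left
    refine ⟨M, (frob_of_complement K M hMK hdec hK1 hM1 ?_).1⟩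
    intro n hn h hh hc
    exact hcomm n h (hKA n hn) (hMB h hh) hc
  right
  push Not at hMB
  obtain ⟨m, hmM, hmB⟩ := hMB
  obtain ⟨p, hp, hpd, hpA⟩ : ∃ p : ℕ, p.Prime ∧ p ∣ orderOf m ∧ p ∈ A := by
    by_contra hc
    push Not at hc
    exact hmB fun q hq hd => hc q hq hd
  set a : G := m ^ (orderOf m / p) with ha
  have hao : orderOf a = p := orderOf_pow_orderOf_div (orderOf_pos m).ne' hpd
  have haM : a ∈ M := M.pow_mem hmM _
  have haAE : AE A a := by
    intro q hq hd
    rw [hao] at hd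
    rw [(Nat.prime_dvd_prime_iff_eq hq hp).mp hd]
    exact hpA
  have ha1 : a ≠ 1 := by
    intro h
    rw [h, orderOf_one] at hao
    exact hp.one_lt.ne hao
  -- `W` is cyclic
  have hNoE : ∀ x y : W, x * y = y * x → ∀ r : ℕ, r.Prime → orderOf x = r → orderOf y = r →
      y ∈ Subgroup.zpowers x := by
    intro x y hxy r hr hx hy
    have hx' : orderOf (x : G) = r := by rw [Subgroup.orderOf_coe]; exact hx
    have hy' : orderOf (y : G) = r := by rw [Subgroup.orderOf_coe]; exact hy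
    have hcopr : (Nat.card K).Coprime r := by
      apply Nat.Coprime.symm
      rw [Nat.Prime.coprime_iff_not_dvd hr]
      intro hd
      apply hWB x x.2 r hr (by rw [hx'])
      exact hKprimes r hr hd
    obtain ⟨k, hk⟩ := Subgroup.mem_zpowers_iff.mp (noE K W hKnil hK1 hfree x.2 y.2 (congrArg Subtype.val hxy) r hr hx' hy' hcopr)
    refine Subgroup.mem_zpowers_iff.mpr ⟨k, ?_⟩
    apply Subtype.ext
    simpa using hk
  have h2W : ¬ 2 ∣ Nat.card W := by
    intro h2
    haveI : Fact (Nat.Prime 2) := ⟨Nat.prime_two⟩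
    obtain ⟨z, hz⟩ := exists_prime_orderOf_dvd_card' 2 h2
    have hzG : orderOf (z : G) = 2 := by rw [Subgroup.orderOf_coe]; exact hz
    have hconj : a * z * a⁻¹ ∈ W := (Subgroup.mem_normalizer_iff.mp haM z).mp z.2
    have hyo : orderOf (⟨a * z * a⁻¹, hconj⟩ : W) = 2 := by
      rw [Subgroup.orderOf_mk]
      have : a * z * a⁻¹ = MulAut.conj a (z : G) := rfl
      rw [this, MulEquiv.orderOf_eq, hzG]
    have h3 := uniq_of_noE hNoE 2 z _ hz hyo
    obtain ⟨k, hk⟩ := Subgroup.mem_zpowers_iff.mp h3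
    have hz2 : (z : G) ^ 2 = 1 := by rw [← hzG]; exact pow_orderOf_eq_one _
    have hk' : (z : G) ^ k = a * z * a⁻¹ := by
      have := congrArg Subtype.val hk
      simpa using this
    have hz1 : (z : G) ≠ 1 := by
      intro h
      rw [h, orderOf_one] at hzG
      omega
    have hne : a * (z : G) * a⁻¹ ≠ 1 := by
      intro h
      apply hz1
      have e : (z : G) = a⁻¹ * (a * z * a⁻¹) * a := by group
      rw [e, h]
      simp
    have hk2 : a * (z : G) * a⁻¹ = z := by
      rcases Int.even_or_odd' k with ⟨n, rfl | rfl⟩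
      · exfalso
        apply hne
        rw [← hk', zpow_mul, zpow_ofNat, hz2, one_zpow]
      · rw [← hk', zpow_add, zpow_mul, zpow_ofNat, hz2, one_zpow, one_mul, zpow_one]
    have hc : a * (z : G) = z * a := mul_inv_eq_iff_eq_mul.mp hk2
    rcases hcomm a z haAE (hWB z z.2) hc with h | h
    · exact ha1 h
    · exact hz1 h
  haveI hWcyc : IsCyclic W := cyc_of_noE hNoE h2W
  -- work inside `M`
  set W₁ : Subgroup M := W.subgroupOf M with hW₁
  haveI hW₁n : W₁.Normal := Subgroup.normal_in_normalizer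
  haveI hW₁c : IsCyclic W₁ := isCyclic_of_surjective (Subgroup.subgroupOfEquivOfLe hWM).symm.toMonoidHom
    (Subgroup.subgroupOfEquivOfLe hWM).symm.surjective
  have hdich₁ : ∀ x : M, AE A x ∨ BE A x := by
    intro x
    rcases hdich x with h | h
    · left
      intro q hq hd
      rw [← Subgroup.orderOf_coe] at hd
      exact h q hq hd
    · right
      intro q hq hd
      rw [← Subgroup.orderOf_coe] at hd
      exact h q hq hd
  have hAE₁ : ∀ x : M, AE A x → AE A (x : G) := by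
    intro x h q hq hd
    rw [Subgroup.orderOf_coe] at hd
    exact h q hq hd
  have hBE₁ : ∀ x : M, BE A x → BE A (x : G) := by
    intro x h q hq hd
    rw [Subgroup.orderOf_coe] at hd
    exact h q hq hd
  have hcomm₁ : ∀ x y : M, AE A x → BE A y → x * y = y * x → x = 1 ∨ y = 1 := by
    intro x y hx hy hxy
    rcases hcomm x y (hAE₁ x hx) (hBE₁ y hy) (congrArg Subtype.val hxy) with h | h
    · exact Or.inl (Subtype.ext h)
    · exact Or.inr (Subtype.ext h)
  -- `T ∩ M = W`
  have hTM : ∀ m ∈ M, m ∈ T → m ∈ W := by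
    intro m hm hmT
    obtain ⟨w, hw, k, hk, rfl⟩ := hdecT m hmT
    have hkM : k ∈ M := by
      have e : k = w⁻¹ * (w * k) := by group
      rw [e]
      exact M.mul_mem (M.inv_mem (hWM hw)) hm
    rw [hMK k hk hkM, mul_one]
    exact hw
  have hmkF : ∀ f ∈ F₂, ∃ w ∈ W, ((w : G) : G ⧸ K) = f := by
    intro f hf
    obtain ⟨t, rfl⟩ := QuotientGroup.mk_surjective f
    have htT : t ∈ T := hf
    obtain ⟨w, hw, k, hk, rfl⟩ := hdecT t htT
    refine ⟨w, hw, ?_⟩
    rw [QuotientGroup.eq]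
    have e : w⁻¹ * (w * k) = k := by group
    rw [e]
    exact hk
  have hC₁ : ∀ m : M, (∀ w ∈ W₁, m * w = w * m) → m ∈ W₁ := by
    intro m hm
    have h1 : ((m : G) : G ⧸ K) ∈ F₂ := by
      apply H01.centralizer_fitting_le
      rw [Subgroup.mem_centralizer_iff]
      intro f hf
      obtain ⟨w, hw, rfl⟩ := hmkF f hf
      have h2 := hm ⟨w, hWM hw⟩ (Subgroup.mem_subgroupOf.mpr hw)
      have h3 : (m : G) * w = w * m := congrArg Subtype.val h2
      rw [← QuotientGroup.mk_mul, ← QuotientGroup.mk_mul, h3]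
    exact Subgroup.mem_subgroupOf.mpr (hTM m m.2 h1)
  have hφs : Function.Surjective ((QuotientGroup.mk' K).comp M.subtype) := by
    intro q
    obtain ⟨g, rfl⟩ := QuotientGroup.mk_surjective q
    obtain ⟨m, hm, k, hk, rfl⟩ := hdec g
    refine ⟨⟨m, hm⟩, ?_⟩
    show ((m : G) : G ⧸ K) = ((m * k : G) : G ⧸ K)
    rw [QuotientGroup.eq]
    have e : m⁻¹ * (m * k) = k := by group
    rw [e]
    exact hk
  have hφi : Function.Injective ((QuotientGroup.mk' K).comp M.subtype) := by
    rw [injective_iff_map_eq_one]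
    intro x hx
    have h1 : ((x : G) : G ⧸ K) = 1 := hx
    exact Subtype.ext (hMK x ((QuotientGroup.eq_one_iff _).mp h1) x.2)
  have hN₁ : ∀ V : Subgroup M, V.Normal → Group.IsNilpotent V → V ≤ W₁ := by
    intro V hVn hVnil v hv
    have h1 : (V.map ((QuotientGroup.mk' K).comp M.subtype)).Normal := Subgroup.Normal.map hVn _ hφs
    have h2 : Group.IsNilpotent (V.map ((QuotientGroup.mk' K).comp M.subtype)) :=
      Group.nilpotent_of_surjective (((QuotientGroup.mk' K).comp M.subtype).subgroupMap V)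
        (MonoidHom.subgroupMap_surjective _ _)
    have h3 := H01.le_fitting h1 h2 (Subgroup.mem_map_of_mem _ hv)
    exact Subgroup.mem_subgroupOf.mpr (hTM v v.2 h3)
  have hWB₁ : ∀ w ∈ W₁, BE A w := by
    intro w hw q hq hd
    rw [← Subgroup.orderOf_coe] at hd
    exact hWB w (Subgroup.mem_subgroupOf.mp hw) q hq hd
  have hP2 := part2 A W₁ hdich₁ hcomm₁ hC₁ hN₁ hWB₁ ⟨a, haM⟩ p hp hpA (by rw [Subgroup.orderOf_mk]; exact hao)
  have hcardW₁ : Nat.card W₁ = Nat.card F₂ := by rw [hW₁, H01.card_subgroupOf_of_le hWM, hWcard]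
  have hcopU : Nat.Coprime (Nat.card W₁) W₁.index := by
    apply Nat.coprime_of_dvd
    intro q hq h1 h2
    haveI : Fact q.Prime := ⟨hq⟩
    rw [hcardW₁] at h1
    have h2' : q ∣ Nat.card (M ⧸ W₁) := h2
    obtain ⟨u, hu⟩ := exists_prime_orderOf_dvd_card' q h2'
    obtain ⟨m₁, rfl⟩ := QuotientGroup.mk_surjective u
    rcases hdich₁ m₁ with h | h
    · have h3 : orderOf ((QuotientGroup.mk' W₁) m₁) ∣ orderOf m₁ := orderOf_map_dvd _ m₁
      have h4 : orderOf ((QuotientGroup.mk' W₁) m₁) = q := hu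
      rw [h4] at h3
      exact hF₂B q hq h1 (h q hq h3)
    · have h3 := hP2 m₁ h
      have h4 : ((m₁ : M) : M ⧸ W₁) = 1 := (QuotientGroup.eq_one_iff _).mpr h3
      rw [h4, orderOf_one] at hu
      exact hq.one_lt.ne hu
  obtain ⟨U, hU⟩ := Subgroup.exists_left_complement'_of_coprime hcopU
  have hUdisj := hU.disjoint
  have hUsup := hU.sup_eq_top
  have hinf₂ : ∀ x, x ∈ W₁ → x ∈ U → x = 1 := fun x h1 h2 => (Subgroup.disjoint_def.mp hUdisj) h2 h1
  have hdec₂ : ∀ g : M, ∃ h ∈ U, ∃ n ∈ W₁, g = h * n := by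
    intro g
    have : g ∈ U ⊔ W₁ := by rw [hUsup]; trivial
    obtain ⟨h, hh, n, hn, rfl⟩ := Subgroup.mem_sup_of_normal_right.mp this
    exact ⟨h, hh, n, hn, rfl⟩
  have hW₁1 : W₁ ≠ ⊥ := by
    intro h
    have h1 : (⟨w₁, hWM hw₁W⟩ : M) ∈ W₁ := Subgroup.mem_subgroupOf.mpr hw₁W
    rw [h, Subgroup.mem_bot] at h1
    exact hw₁1 (congrArg Subtype.val h1)
  have hU1 : U ≠ ⊥ := by
    intro h
    rw [h, bot_sup_eq] at hUsup
    have h1 : (⟨a, haM⟩ : M) ∈ W₁ := by rw [hUsup]; trivial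
    have h2 := hWB a (Subgroup.mem_subgroupOf.mp h1)
    apply h2 p hp (by rw [hao]) hpA
  have hfree₂ : ∀ n ∈ W₁, ∀ h ∈ U, n * h = h * n → n = 1 ∨ h = 1 := by
    intro n hn h hh hc
    by_cases h1 : h = 1
    · exact Or.inr h1
    · have h2 : h ∉ W₁ := fun hm => h1 (hinf₂ h hm hh)
      have h3 : AE A h := by
        rcases hdich₁ h with h4 | h4
        · exact h4
        · exact absurd (hP2 h h4) h2
      rcases hcomm₁ h n h3 (hWB₁ n hn) hc.symm with h4 | h4
      · exact Or.inr h4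
      · exact Or.inl h4
  obtain ⟨hUF, hUK⟩ := frob_of_complement W₁ U hinf₂ hdec₂ hW₁1 hU1 hfree₂
  let φ : M ≃* (G ⧸ K) := MulEquiv.ofBijective ((QuotientGroup.mk' K).comp M.subtype) ⟨hφi, hφs⟩
  obtain ⟨hC₂, hk₂⟩ := frob_map φ U hUF
  -- the lower Frobenius group
  have hfT : Cfsg.IsFrobeniusComplement (W.subgroupOf T) ∧
      Cfsg.frobeniusKernel (W.subgroupOf T) = ((K.subgroupOf T : Subgroup T) : Set T) := by
    refine frob_of_complement (K.subgroupOf T) (W.subgroupOf T) ?_ ?_ ?_ ?_ ?_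
    · intro x h1 h2
      exact Subtype.ext (hdisj x (Subgroup.mem_subgroupOf.mp h1) (Subgroup.mem_subgroupOf.mp h2))
    · intro g
      obtain ⟨w, hw, k, hk, e⟩ := hdecT g g.2
      refine ⟨⟨w, hWT hw⟩, Subgroup.mem_subgroupOf.mpr hw, ⟨k, hKT hk⟩, Subgroup.mem_subgroupOf.mpr hk, ?_⟩
      exact Subtype.ext e
    · intro h
      apply hK1
      rw [eq_bot_iff]
      intro x hx
      have h1 : (⟨x, hKT hx⟩ : T) ∈ K.subgroupOf T := Subgroup.mem_subgroupOf.mpr hx
      rw [h, Subgroup.mem_bot] at h1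
      exact Subgroup.mem_bot.mpr (congrArg Subtype.val h1)
    · intro h
      apply hWne
      rw [eq_bot_iff]
      intro x hx
      have h1 : (⟨x, hWT hx⟩ : T) ∈ W.subgroupOf T := Subgroup.mem_subgroupOf.mpr hx
      rw [h, Subgroup.mem_bot] at h1
      exact Subgroup.mem_bot.mpr (congrArg Subtype.val h1)
    · intro n hn h hh hc
      rcases hfree n (Subgroup.mem_subgroupOf.mp hn) h (Subgroup.mem_subgroupOf.mp hh) (congrArg Subtype.val hc) with h1 | h1
      · exact Or.inl (Subtype.ext h1)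
      · exact Or.inr (Subtype.ext h1)
  have hlt : K < T := by
    refine lt_of_le_of_ne hKT ?_
    intro h
    have h1 : w₁ ∈ K := by rw [h]; exact hWT hw₁W
    exact hw₁1 (hdisj w₁ h1 hw₁W)
  refine ⟨K, T, inferInstance, hTn, hlt, ⟨W.subgroupOf T, hfT.1, hfT.2⟩, ⟨U.map φ.toMonoidHom, hC₂, ?_⟩⟩
  rw [hk₂, hUK]
  ext q
  constructor
  · rintro ⟨x, hx, rfl⟩
    exact ⟨x, hWT (Subgroup.mem_subgroupOf.mp hx), rfl⟩
  · rintro ⟨t, ht, rfl⟩
    obtain ⟨w, hw, k, hk, rfl⟩ := hdecT t ht
    refine ⟨⟨w, hWM hw⟩, Subgroup.mem_subgroupOf.mpr hw, ?_⟩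
    show ((w : G) : G ⧸ K) = (QuotientGroup.mk' K) (w * k)
    show ((w : G) : G ⧸ K) = ((w * k : G) : G ⧸ K)
    rw [QuotientGroup.eq]
    have e : w⁻¹ * (w * k) = k := by group
    rw [e]
    exact hk


/-- A finite solvable group whose prime graph (prime divisors of the order, two distinct primes joined when there is an element of order their product) is disconnected is a Frobenius group or a 2-Frobenius group (it has normal subgroups H < K with K a Frobenius group with kernel H and G/H a Frobenius group with kernel K/H). -/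
theorem result {G : Type*} [Group G] [Finite G] (hsol : Group.IsSolvable G)
    (hdisc : (∃ A : Set ℕ, (∃ a ∈ A, a.Prime ∧ a ∣ Nat.card G) ∧ (∃ b ∉ A, b.Prime ∧ b ∣ Nat.card G) ∧
      ∀ a ∈ A, ∀ b ∉ A, a.Prime → b.Prime → a ∣ Nat.card G → b ∣ Nat.card G → ¬ ∃ g : G, orderOf g = a * b)) :
    (∃ C : Subgroup G, Cfsg.IsFrobeniusComplement C) ∨
    (∃ (H K : Subgroup G) (_ : H.Normal), K.Normal ∧ H < K ∧
      (∃ C : Subgroup ↥K, Cfsg.IsFrobeniusComplement C ∧ Cfsg.frobeniusKernel C = (H.subgroupOf K : Set ↥K)) ∧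
      (∃ C : Subgroup (G ⧸ H), Cfsg.IsFrobeniusComplement C ∧ Cfsg.frobeniusKernel C = (K.map (QuotientGroup.mk' H) : Set (G ⧸ H)))) := by
  classical
obtain ⟨A, ⟨a, haA, hap, had⟩, ⟨b, hbA, hbp, hbd⟩, hno⟩ := hdisc
haveI : Nontrivial G := by
  rw [← Finite.one_lt_card_iff_nontrivial]
  exact lt_of_lt_of_le hap.one_lt (Nat.le_of_dvd Nat.card_pos had)
obtain ⟨D, hDn, hD1, hDc⟩ := exists_ab_normal G
have hDc1 : Nat.card D ≠ 1 := fun h => hD1 ((Subgroup.card_eq_one).mp h)
obtain ⟨p, hp, hpd⟩ := Nat.exists_prime_and_dvd hDc1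
have hdvd : ∀ q, q ∣ Nat.card D → q ∣ Nat.card G := fun q h => h.trans (Subgroup.card_subgroup_dvd_card D)
have key : ∀ q r : ℕ, q.Prime → r.Prime → q ∣ Nat.card D → r ∣ Nat.card D → q ≠ r →
    ∃ g : G, orderOf g = q * r := by
  intro q r hq hr h1 h2 hqr
  haveI := Fact.mk hq
  haveI := Fact.mk hr
  obtain ⟨x, hx⟩ := exists_prime_orderOf_dvd_card' q h1
  obtain ⟨y, hy⟩ := exists_prime_orderOf_dvd_card' r h2
  exact H17.exists_orderOf_mul_of_commute hq hr hqr
    (by rw [← Subgroup.orderOf_coe] at hx; exact hx) (by rw [← Subgroup.orderOf_coe] at hy; exact hy)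
    (hDc x x.2 y y.2)
by_cases hpA : p ∈ A
· have hle : D ≤ piCore A G := by
    apply H08.le_piCore hDn
    intro q hq hqd
    by_contra hqA
    have hpq : p ≠ q := fun e => hqA (e ▸ hpA)
    exact hno p hpA q hqA hp hq (hdvd p hpd) (hdvd q hqd) (key p q hp hq hpd hqd hpq)
  exact main A ⟨b, hbA, hbp, hbd⟩ (fun h => hD1 (le_bot_iff.mp (h ▸ hle))) hno
· have hle : D ≤ piCore Aᶜ G := by
    apply H08.le_piCore hDn
    intro q hq hqd
    by_contra hqA
    have hqA' : q ∈ A := by simpa using hqA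
    have hpq : q ≠ p := fun e => hpA (e ▸ hqA')
    exact hno q hqA' p hpA hq hp (hdvd q hqd) (hdvd p hpd) (key q p hq hp hqd hpd hpq)
  refine main Aᶜ ⟨a, by simpa using haA, hap, had⟩ (fun h => hD1 (le_bot_iff.mp (h ▸ hle))) ?_
  intro a' ha' b' hb' ha'p hb'p h1 h2
  rintro ⟨g, hg⟩
  have hb'A : b' ∈ A := by simpa using hb'
  exact hno b' hb'A a' ha' hb'p ha'p h2 h1 ⟨g, by rw [hg, mul_comm]⟩

end Cfsg.Agent.S3857
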