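import Cfsg.Statements.S3868
import Mathlib
import Cfsg.Agent.Lib.H19.CyclicSylow
import Cfsg.Agent.Lib.H18.MinCover
import Cfsg.Agent.Lib.H18.MinPC

set_option autoImplicit false
open Cfsg

namespace Cfsg.Agent.S3868

/-- Structure of the non-simple minimal non-p-closed groups. Call a finite group p-closed when its Sylow p-subgroups are normal, and minimal non-p-closed when it is not p-closed but every proper subgroup and every proper quotient is. If such a group G is not simple, then there is a prime q ≠ p such that G has order p · q^e, where e is the multiplicative order of q modulo p, and G has a normal subgroup A of order q^e that is elementary abelian and is a minimal normal subgroup of G (so G is the semidirect product of A by a group of order p acting irreducibly). -/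
theorem result {G : Type*} [Group G] [Finite G] {p : ℕ} [Fact p.Prime]
    (hnc : ¬ Cfsg.IsPClosed p G) (hsub : ∀ H : Subgroup G, H ≠ ⊤ → Cfsg.IsPClosed p ↥H)
    (hquo : ∀ (N : Subgroup G) [N.Normal], N ≠ ⊥ → Cfsg.IsPClosed p (G ⧸ N)) (hns : ¬ IsSimpleGroup G) :
    ∃ q : ℕ, q.Prime ∧ q ≠ p ∧ Nat.card G = p * q ^ orderOf (q : ZMod p) ∧
      ∃ A : Subgroup G, A.Normal ∧ Nat.card ↥A = q ^ orderOf (q : ZMod p) ∧ Cfsg.IsElementaryAbelian q A ∧
        ∀ B : Subgroup G, B.Normal → B ≤ A → B = ⊥ ∨ B = A := by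
  classical
have hp : p.Prime := Fact.out
have hnn : ∀ P : Sylow p G, ¬ (P : Subgroup G).Normal := by
  intro P hP
  apply hnc
  intro Q
  haveI := Sylow.unique_of_normal P hP
  rw [Subsingleton.elim Q P]
  exact hP
-- Step A
have hsupN : ∀ N : Subgroup G, N.Normal → N ≠ ⊥ → ∀ P : Sylow p G, (P : Subgroup G) ⊔ N = ⊤ := by
  intro N hN hne P
  haveI := hN
  by_contra hK
  set K := (P : Subgroup G) ⊔ N with hKdef
  have hPmapn : ((P : Subgroup G).map (QuotientGroup.mk' N)).Normal :=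
    hquo N hne (P.mapSurjective (QuotientGroup.mk'_surjective N))
  have hKn : K.Normal := by
    have h1 : K = ((P : Subgroup G).map (QuotientGroup.mk' N)).comap (QuotientGroup.mk' N) := by
      rw [Subgroup.comap_map_eq, QuotientGroup.ker_mk']
    rw [h1]
    exact hPmapn.comap _
  have hcl := hsub K hK
  have hPK : (P : Subgroup G) ≤ K := le_sup_left
  let R : Sylow p K := P.subtype hPK
  have hRn : (R : Subgroup K).Normal := hcl R
  apply hnn P
  constructor
  intro u hu g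
  have h1 : g * u * g⁻¹ ∈ K := hKn.conj_mem u (hPK hu) g
  obtain ⟨k, hk⟩ := H18.orderOf_of_mem_sylow P hu
  have h2 : orderOf (⟨g * u * g⁻¹, h1⟩ : K) = p ^ k := by
    rw [Subgroup.orderOf_mk, H18.orderOf_conj', hk]
  have h3 := H18.le_of_isPGroup_of_normal_sylow R hRn (H19.isPGroup_zpowers_of_orderOf h2)
    (Subgroup.mem_zpowers _)
  exact h3
-- Step B
have hnoP : ∀ T : Subgroup G, T.Normal → IsPGroup p T → T = ⊥ := by
  intro T hT hTp
  by_contra hne
  obtain ⟨P⟩ : Nonempty (Sylow p G) := inferInstance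
  have hsup := hsupN T hT hne P
  have hTP : T ≤ (P : Subgroup G) := by
    obtain ⟨Q, hQ⟩ := hTp.exists_le_sylow
    obtain ⟨g, rfl⟩ := MulAction.exists_smul_eq G Q P
    rw [Sylow.coe_subgroup_smul]
    intro t ht
    apply H18.mem_conj.mpr
    apply hQ
    have := hT.conj_mem t ht g⁻¹
    simpa using this
  rw [sup_eq_left.mpr hTP] at hsup
  apply hnn P
  rw [hsup]
  infer_instance
-- Step C
have hnotdvd : ∀ N : Subgroup G, N.Normal → N ≠ ⊥ → N ≠ ⊤ → ¬ p ∣ Nat.card N := by
  intro N hN hne htop hd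
  have hcl := hsub N htop
  obtain ⟨R⟩ : Nonempty (Sylow p N) := inferInstance
  have hRn := hcl R
  set R' := (R : Subgroup N).map N.subtype with hR'
  have hR'n : R'.Normal := by
    constructor
    rintro _ ⟨r, hr, rfl⟩ g
    have h1 : g * r * g⁻¹ ∈ N := hN.conj_mem r r.2 g
    obtain ⟨k, hk⟩ := IsPGroup.iff_orderOf.mp R.isPGroup' ⟨r, hr⟩
    have hk' : orderOf r = p ^ k := by
      have := Subgroup.orderOf_coe (⟨r, hr⟩ : (R : Subgroup N))
      rw [← hk]
      exact this
    have hk'' : orderOf (r : G) = p ^ k := by rw [Subgroup.orderOf_coe, hk']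
    have h2 : orderOf (⟨g * r * g⁻¹, h1⟩ : N) = p ^ k := by
      rw [Subgroup.orderOf_mk, H18.orderOf_conj', hk'']
    have h3 := H18.le_of_isPGroup_of_normal_sylow R hRn (H19.isPGroup_zpowers_of_orderOf h2)
      (Subgroup.mem_zpowers _)
    exact ⟨_, h3, rfl⟩
  have hbot := hnoP R' hR'n (R.isPGroup'.map _)
  have hR1 : (R : Subgroup N) = ⊥ := (Subgroup.map_eq_bot_iff_of_injective _ N.subtype_injective).mp hbot
  apply R.not_dvd_index
  rw [hR1, Subgroup.index_bot]
  exact hd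
-- elements of `p`-power order in a `p'` normal subgroup
have hone : ∀ N : Subgroup G, ¬ p ∣ Nat.card N → ∀ w ∈ N, ∀ k, orderOf w = p ^ k → w = 1 := by
  intro N hN w hw k hk
  have h1 : orderOf (⟨w, hw⟩ : N) ∣ Nat.card N := orderOf_dvd_natCard _
  rw [Subgroup.orderOf_mk, hk] at h1
  have hk0 : k = 0 := by
    by_contra h
    exact hN ((dvd_pow_self p h).trans h1)
  rw [hk0, pow_zero, orderOf_eq_one_iff] at hk
  exact hk
-- a commutator lemma
have hcommL : ∀ (L N : Subgroup G) (u n : G), L ≠ ⊤ → ¬ p ∣ Nat.card N → u ∈ L → n ∈ L →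
    (∀ k : ℕ, orderOf u = p ^ k → n * u * n⁻¹ * u⁻¹ ∈ N) → (∃ k, orderOf u = p ^ k) → n * u = u * n := by
  intro L N u n hL hNp huL hnL hc ⟨k, hk⟩
  have hcl := hsub L hL
  have hk' : orderOf (⟨u, huL⟩ : L) = p ^ k := by rw [Subgroup.orderOf_mk, hk]
  obtain ⟨S, hS⟩ := (H19.isPGroup_zpowers_of_orderOf hk').exists_le_sylow
  have hSn := hcl S
  have huS : (⟨u, huL⟩ : L) ∈ (S : Subgroup L) := hS (Subgroup.mem_zpowers _)
  have h1 : (⟨n, hnL⟩ : L) * ⟨u, huL⟩ * (⟨n, hnL⟩ : L)⁻¹ * (⟨u, huL⟩ : L)⁻¹ ∈ (S : Subgroup L) :=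
    Subgroup.mul_mem _ (hSn.conj_mem _ huS _) (Subgroup.inv_mem _ huS)
  obtain ⟨j, hj⟩ := IsPGroup.iff_orderOf.mp S.isPGroup' ⟨_, h1⟩
  have hj' : orderOf (n * u * n⁻¹ * u⁻¹) = p ^ j := by
    rw [← hj, Subgroup.orderOf_mk]
    exact Subgroup.orderOf_coe ((⟨n, hnL⟩ : L) * ⟨u, huL⟩ * (⟨n, hnL⟩ : L)⁻¹ * (⟨u, huL⟩ : L)⁻¹)
  have h2 := hone N hNp _ (hc k hk) j hj'
  calc n * u = n * u * n⁻¹ * u⁻¹ * (u * n) := by group
    _ = u * n := by rw [h2, one_mul]
-- Step D
have hindex : ∀ N : Subgroup G, N.Normal → N ≠ ⊥ → N ≠ ⊤ → ∀ P : Sylow p G,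
    Nat.card (P : Subgroup G) = p ∧ N.index = p := by
  intro N hN hne htop P
  haveI := hN
  have hNp := hnotdvd N hN hne htop
  have hsup := hsupN N hN hne P
  have hcop : (Nat.card (P : Subgroup G)).Coprime (Nat.card N) := by
    obtain ⟨k, hk⟩ := IsPGroup.iff_card.mp P.isPGroup'
    rw [hk]
    exact Nat.Coprime.pow_left _ ((Nat.Prime.coprime_iff_not_dvd hp).mpr hNp)
  have hinf : (P : Subgroup G) ⊓ N = ⊥ := (Subgroup.disjoint_of_coprime_natCard hcop).eq_bot
  have hcardG : Nat.card G = Nat.card (P : Subgroup G) * Nat.card N := by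
    have := H18.card_sup_mul_card_inf (P : Subgroup G) N
    rw [hsup, hinf, Subgroup.card_top, Subgroup.card_bot, mul_one] at this
    exact this
  have hNi : N.index = Nat.card (P : Subgroup G) := by
    have h1 := Subgroup.card_mul_index N
    rw [hcardG, mul_comm] at h1
    exact Nat.eq_of_mul_eq_mul_right Nat.card_pos h1
  have hcent : ∀ u ∈ (P : Subgroup G), Subgroup.zpowers u ≠ (P : Subgroup G) →
      ∀ n ∈ N, n * u = u * n := by
    intro u hu hne' n hn
    have hle : Subgroup.zpowers u ≤ (P : Subgroup G) := (Subgroup.zpowers_le).2 hu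
    have hlt : Subgroup.zpowers u < (P : Subgroup G) := lt_of_le_of_ne hle hne'
    have hL : Subgroup.zpowers u ⊔ N ≠ ⊤ := by
      intro h
      have h1 := H18.card_sup_mul_card_inf (Subgroup.zpowers u) N
      have h2 : Subgroup.zpowers u ⊓ N = ⊥ := by
        rw [eq_bot_iff, ← hinf]
        exact inf_le_inf_right _ hle
      rw [h, h2, Subgroup.card_top, Subgroup.card_bot, mul_one, hcardG] at h1
      have h3 := Nat.eq_of_mul_eq_mul_right Nat.card_pos h1
      exact hne' (Subgroup.eq_of_le_of_card_ge hle h3.le)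
    apply hcommL _ N u n hL hNp
      ((le_sup_left : Subgroup.zpowers u ≤ _) (Subgroup.mem_zpowers u))
      ((le_sup_right : N ≤ _) hn)
    · intro k _
      have := N.mul_mem hn (hN.conj_mem _ (N.inv_mem hn) u)
      convert this using 1
      group
    · exact H18.orderOf_of_mem_sylow P hu
  set C := (P : Subgroup G) ⊓ Subgroup.centralizer (N : Set G) with hC
  have hCn : C.Normal := by
    constructor
    rintro c ⟨hc1, hc2⟩ g
    have hg : g ∈ (P : Subgroup G) ⊔ N := hsup ▸ Subgroup.mem_top g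
    obtain ⟨a, ha, b, hb, rfl⟩ := H18.mem_sup_normal_right.mp hg
    have hbc : b * c = c * b := (Subgroup.mem_centralizer_iff.mp hc2) b hb
    have h1 : a * b * c * (a * b)⁻¹ = a * c * a⁻¹ := by
      calc a * b * c * (a * b)⁻¹ = a * (b * c) * b⁻¹ * a⁻¹ := by group
        _ = a * (c * b) * b⁻¹ * a⁻¹ := by rw [hbc]
        _ = a * c * a⁻¹ := by group
    rw [h1]
    refine ⟨Subgroup.mul_mem _ (Subgroup.mul_mem _ ha hc1) (Subgroup.inv_mem _ ha), ?_⟩
    exact (Subgroup.normal_centralizer (H := N)).conj_mem c hc2 a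
  have hCbot := hnoP C hCn (P.isPGroup'.to_le inf_le_left)
  have hgen : ∀ u ∈ (P : Subgroup G), u ≠ 1 → Subgroup.zpowers u = (P : Subgroup G) := by
    intro u hu hu1
    by_contra hne'
    have h1 := hcent u hu hne'
    have h2 : u ∈ C := ⟨hu, Subgroup.mem_centralizer_iff.mpr (fun n hn => h1 n hn)⟩
    rw [hCbot, Subgroup.mem_bot] at h2
    exact hu1 h2
  have hPne : (P : Subgroup G) ≠ ⊥ := by
    intro h0
    rw [h0, Subgroup.card_bot, one_mul] at hcardG
    apply htop
    exact Subgroup.eq_top_of_card_eq N hcardG.symm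
  obtain ⟨k, hk⟩ := IsPGroup.iff_card.mp P.isPGroup'
  have hk0 : k ≠ 0 := by
    rintro rfl
    rw [pow_zero, Subgroup.card_eq_one] at hk
    exact hPne hk
  obtain ⟨v, hv⟩ := exists_prime_orderOf_dvd_card' p (by rw [hk]; exact dvd_pow_self p hk0 : p ∣ Nat.card (P : Subgroup G))
  have hv' : orderOf (v : G) = p := by rw [Subgroup.orderOf_coe, hv]
  have hv1 : (v : G) ≠ 1 := by
    intro h0
    rw [h0, orderOf_one] at hv'
    exact hp.one_lt.ne hv'
  have h3 := hgen v v.2 hv1
  have hc : Nat.card (P : Subgroup G) = p := by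
    rw [← h3, Nat.card_zpowers, hv']
  exact ⟨hc, by rw [hNi, hc]⟩
-- Step E
obtain ⟨P⟩ : Nonempty (Sylow p G) := inferInstance
have hGnt : Nontrivial G := by
  by_contra h
  rw [not_nontrivial_iff_subsingleton] at h
  apply hnn P
  rw [Subsingleton.elim (P : Subgroup G) ⊤]
  infer_instance
obtain ⟨N, hN, hne, htop⟩ : ∃ N : Subgroup G, N.Normal ∧ N ≠ ⊥ ∧ N ≠ ⊤ := by
  by_contra hcon
  push Not at hcon
  apply hns
  refine ⟨?_⟩
  intro N hN
  by_cases h : N = ⊥
  · exact Or.inl h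
  · exact Or.inr (hcon N hN h)
haveI := hN
obtain ⟨hPc, hNi⟩ := hindex N hN hne htop P
have hNp := hnotdvd N hN hne htop
obtain ⟨x, hxo⟩ := exists_prime_orderOf_dvd_card' p (by rw [hPc] : p ∣ Nat.card (P : Subgroup G))
have hxo' : orderOf (x : G) = p := by rw [Subgroup.orderOf_coe, hxo]
have hzP : Subgroup.zpowers (x : G) = (P : Subgroup G) := by
  apply Subgroup.eq_of_le_of_card_ge ((Subgroup.zpowers_le).2 x.2)
  rw [hPc, Nat.card_zpowers, hxo']
have hsup := hsupN N hN hne P
have hx : ¬ ∀ n ∈ N, n * (x : G) = x * n := by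
  intro hc
  apply hnn P
  rw [← hzP]
  constructor
  intro u hu g
  have hg : g ∈ (P : Subgroup G) ⊔ N := hsup ▸ Subgroup.mem_top g
  rw [← hzP] at hg
  obtain ⟨a, ha, b, hb, rfl⟩ := H18.mem_sup_normal_right.mp hg
  obtain ⟨i, rfl⟩ := Subgroup.mem_zpowers_iff.mp hu
  have hbc : Commute b ((x : G) ^ i) := (show Commute b (x : G) from hc b hb).zpow_right i
  obtain ⟨j, rfl⟩ := Subgroup.mem_zpowers_iff.mp ha
  have h1 : (x : G) ^ j * b * (x : G) ^ i * ((x : G) ^ j * b)⁻¹ = (x : G) ^ i := by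
    have h2 : b * (x : G) ^ i = (x : G) ^ i * b := hbc.eq
    have h3 : Commute ((x : G) ^ j) ((x : G) ^ i) := (Commute.refl (x : G)).zpow_zpow j i
    calc (x : G) ^ j * b * (x : G) ^ i * ((x : G) ^ j * b)⁻¹
        = (x : G) ^ j * (b * (x : G) ^ i) * b⁻¹ * ((x : G) ^ j)⁻¹ := by group
      _ = (x : G) ^ j * ((x : G) ^ i * b) * b⁻¹ * ((x : G) ^ j)⁻¹ := by rw [h2]
      _ = ((x : G) ^ j * (x : G) ^ i) * ((x : G) ^ j)⁻¹ := by group
      _ = ((x : G) ^ i * (x : G) ^ j) * ((x : G) ^ j)⁻¹ := by rw [h3.eq]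
      _ = (x : G) ^ i := by group
  rw [h1]
  exact Subgroup.mem_zpowers_iff.mpr ⟨i, rfl⟩
obtain ⟨q, hq, hqp, hNq⟩ := H18.exists_prime_group hN hxo' hNp hNi (by
  intro Q hQN hQx hL c hc
  have hQp : ¬ p ∣ Nat.card Q := fun h => hNp (h.trans (Subgroup.card_dvd_of_le hQN))
  apply hcommL _ Q (x : G) c hL hQp
    ((le_sup_right : Subgroup.zpowers (x : G) ≤ _) (Subgroup.mem_zpowers _))
    ((le_sup_left : Q ≤ _) hc)
  · intro k _
    have h1 : (x : G) * c⁻¹ * (x : G)⁻¹ ∈ Q := by
      have hxn := hQx (Subgroup.mem_zpowers (x : G))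
      exact (Subgroup.mem_normalizer_iff.mp hxn c⁻¹).mp (Q.inv_mem hc)
    have := Q.mul_mem hc h1
    convert this using 1
    group
  · exact ⟨1, by rw [hxo', pow_one]⟩) hx
haveI : Fact q.Prime := ⟨hq⟩
have hmin : ∀ B : Subgroup G, B.Normal → B ≤ N → B = ⊥ ∨ B = N := by
  intro B hB hBN
  by_cases hB0 : B = ⊥
  · exact Or.inl hB0
  · right
    have hBtop : B ≠ ⊤ := by
      intro h
      rw [h] at hBN
      exact htop (eq_top_iff.mpr hBN)
    obtain ⟨-, hBi⟩ := hindex B hB hB0 hBtop P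
    have h1 := Subgroup.card_mul_index B
    have h2 := Subgroup.card_mul_index N
    rw [hBi] at h1
    rw [hNi] at h2
    have h3 : Nat.card B = Nat.card N := by
      have : Nat.card B * p = Nat.card N * p := by rw [h1, h2]
      exact Nat.eq_of_mul_eq_mul_right hp.pos this
    exact Subgroup.eq_of_le_of_card_ge hBN h3.ge
have hel := H18.elem_of_min hN hNq hne hmin
have hna : ¬ IsMulCommutative G := by
  intro h
  apply hnn P
  constructor
  intro u hu g
  have := (isMulCommutative_iff.mp h) g u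
  rw [this]
  simpa using hu
have hcardN := H18.card_of_irred hq hqp hna N hel hNi hmin
refine ⟨q, hq, hqp, ?_, N, hN, hcardN, hel, hmin⟩
have h2 := Subgroup.card_mul_index N
rw [hNi, hcardN] at h2
rw [← h2, mul_comm]

end Cfsg.Agent.S3868
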