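import Cfsg.Statements.S3870
import Mathlib
import Cfsg.Agent.Lib.H18.PGroup

set_option autoImplicit false
open Cfsg

namespace Cfsg.Agent.S3870

/-- Let G be a finite simple group whose Sylow p-subgroups are not normal but such that every proper subgroup of G has a normal Sylow p-subgroup. Then any two distinct Sylow p-subgroups of G intersect trivially, and for every Sylow p-subgroup P the normalizer of every non-identity subgroup of P lies in the normalizer of P. -/
theorem result {G : Type*} [Group G] [Finite G] [IsSimpleGroup G] {p : ℕ} [Fact p.Prime]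
    (hnc : ¬ Cfsg.IsPClosed p G) (hsub : ∀ H : Subgroup G, H ≠ ⊤ → Cfsg.IsPClosed p ↥H) :
    (∀ P Q : Sylow p G, P ≠ Q → (P : Subgroup G) ⊓ (Q : Subgroup G) = ⊥) ∧
      ∀ (P : Sylow p G) (R : Subgroup G), R ≤ P → R ≠ ⊥ →
        Subgroup.normalizer (R : Set G) ≤ Subgroup.normalizer ((P : Subgroup G) : Set G) := by
    classical
  -- Sylow subgroups are proper
  have hPtop : ∀ P : Sylow p G, (P : Subgroup G) ≠ ⊤ := by
    intro P hP
    apply hnc
    intro Q
    obtain ⟨g, rfl⟩ := MulAction.exists_smul_eq G P Q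
    rw [Sylow.coe_subgroup_smul, hP]
    have : ((⊤ : Subgroup G).map (MulAut.conj g).toMonoidHom) = ⊤ :=
      Subgroup.map_top_of_surjective _ (MulAut.conj g).surjective
    change ((⊤ : Subgroup G).map (MulAut.conj g).toMonoidHom).Normal
    rw [this]
    infer_instance
  have hTI : ∀ (P Q : Sylow p G), (P : Subgroup G) ⊓ (Q : Subgroup G) ≠ ⊥ → P = Q := by
    intro P Q
    induction hn : Nat.card G - Nat.card ((P : Subgroup G) ⊓ (Q : Subgroup G) : Subgroup G)
      using Nat.strong_induction_on generalizing P Q with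
    | _ n ih =>
    intro hD0
    by_contra hPQ
    set D : Subgroup G := (P : Subgroup G) ⊓ (Q : Subgroup G) with hD
    have hDP : D < (P : Subgroup G) := by
      refine lt_of_le_of_ne inf_le_left ?_
      intro h
      have h1 : (P : Subgroup G) ≤ Q := by rw [← h]; exact inf_le_right
      exact hPQ (Sylow.ext (H18.sylow_eq_of_le Q.2 h1))
    have hDQ : D < (Q : Subgroup G) := by
      refine lt_of_le_of_ne inf_le_right ?_
      intro h
      have h1 : (Q : Subgroup G) ≤ P := by rw [← h]; exact inf_le_left
      exact hPQ (Sylow.ext (H18.sylow_eq_of_le P.2 h1).symm)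
    obtain ⟨x, hxP, hxD, hxN⟩ := H18.exists_mem_sdiff_normalizer P.2 hDP
    obtain ⟨y, hyQ, hyD, hyN⟩ := H18.exists_mem_sdiff_normalizer Q.2 hDQ
    set N := Subgroup.normalizer (D : Set G) with hN
    have hNtop : N ≠ ⊤ := by
      intro h
      have hnorm : D.Normal := Subgroup.normalizer_eq_top_iff.1 h
      rcases Subgroup.Normal.eq_bot_or_eq_top hnorm with h1 | h1
      · exact hD0 h1
      · apply hPtop P
        rw [eq_top_iff, ← h1]
        exact hDP.le
    have hclosed := hsub N hNtop
    obtain ⟨R₀⟩ : Nonempty (Sylow p N) := inferInstance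
    have hR₀ := hclosed R₀
    -- `R` is the normal Sylow subgroup of `N`, viewed in `G`
    have hRp : IsPGroup p ((R₀ : Subgroup N).map N.subtype) :=
      R₀.2.map N.subtype
    obtain ⟨S, hS⟩ := hRp.exists_le_sylow
    have hinc : ∀ T : Sylow p G, ∀ z ∈ (T : Subgroup G), z ∈ N → z ∈ (S : Subgroup G) := by
      intro T z hz hzN
      have h1 : IsPGroup p ((T : Subgroup G).subgroupOf N) :=
        T.2.comap_of_injective N.subtype N.subtype_injective
      have h2 := H18.le_of_isPGroup_of_normal_sylow R₀ hR₀ h1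
      have h3 : (⟨z, hzN⟩ : N) ∈ (R₀ : Subgroup N) := h2 (Subgroup.mem_subgroupOf.2 hz)
      exact hS ⟨⟨z, hzN⟩, h3, rfl⟩
    have hDN : D ≤ N := Subgroup.le_normalizer
    have hstep : ∀ T : Sylow p G, D ≤ (T : Subgroup G) → ∀ z ∈ (T : Subgroup G), z ∉ D → z ∈ N → T = S := by
      intro T hDT z hz hzD hzN
      have hDS : D ≤ (T : Subgroup G) ⊓ (S : Subgroup G) :=
        le_inf hDT (fun w hw => hinc T w (hDT hw) (hDN hw))
      have hlt : Nat.card D < Nat.card ((T : Subgroup G) ⊓ (S : Subgroup G) : Subgroup G) := by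
        by_contra hge
        push Not at hge
        have h1 := Subgroup.eq_of_le_of_card_ge hDS hge
        apply hzD
        rw [h1]
        exact ⟨hz, hinc T z hz hzN⟩
      have hle : Nat.card ((T : Subgroup G) ⊓ (S : Subgroup G) : Subgroup G) ≤ Nat.card G :=
        Subgroup.card_le_card_group _
      apply ih (Nat.card G - Nat.card ((T : Subgroup G) ⊓ (S : Subgroup G) : Subgroup G)) (by omega) T S rfl
      intro hbot
      apply hD0
      rw [eq_bot_iff, ← hbot]
      exact hDS
    have e1 := hstep P inf_le_left x hxP hxD hxN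
    have e2 := hstep Q inf_le_right y hyQ hyD hyN
    exact hPQ (e1.trans e2.symm)
  refine ⟨fun P Q hPQ => ?_, ?_⟩
  · by_contra h
    exact hPQ (hTI P Q h)
  · intro P R hRP hR g hg
    rw [H18.mem_normalizer_iff_map_conj] at hg ⊢
    have h1 := hTI (H18.sylowConj P g) P (by
      rw [H18.coe_sylowConj]
      intro hbot
      apply hR
      rw [eq_bot_iff, ← hbot]
      refine le_inf ?_ hRP
      rw [← hg]
      exact Subgroup.map_mono hRP)
    have h2 := congrArg (fun T : Sylow p G => (T : Subgroup G)) h1
    simpa [H18.coe_sylowConj] using h2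

end Cfsg.Agent.S3870
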