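import Cfsg.Statements.S3872
import Mathlib
import Cfsg.Agent.Lib.H01.Basic
import Cfsg.Agent.Lib.H14.UniqueSub
import Cfsg.Agent.Lib.H18.Basic
import Cfsg.Agent.Lib.H18.PGroup
import Cfsg.Agent.Lib.H18.HallPet

set_option autoImplicit false
open Cfsg

namespace Cfsg.Agent.S3872

/-- Say that a finite group is p-exponent closed when its elements of order dividing p form a subgroup. Let G be a finite p-group that is not p-exponent closed, but all of whose proper subgroups and proper quotients are. Then G is generated by two elements, has nilpotency class at least p, has exponent p², has cyclic center, and has order at least p^(p+1). -/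
theorem result {G : Type*} [Group G] [Finite G] {p : ℕ} [Fact p.Prime] (hG : IsPGroup p G)
    (hnc : ¬ (∃ H : Subgroup G, (H : Set G) = {g : G | g ^ p = 1})) (hsub : ∀ K : Subgroup G, K ≠ ⊤ → (∃ H : Subgroup ↥K, (H : Set ↥K) = {g : ↥K | g ^ p = 1}))
    (hquo : ∀ (N : Subgroup G) [N.Normal], N ≠ ⊥ → (∃ H : Subgroup (G ⧸ N), (H : Set (G ⧸ N)) = {g : (G ⧸ N) | g ^ p = 1})) :
    (∃ x y : G, Subgroup.closure ({x, y} : Set G) = ⊤) ∧ (⊤ : Subgroup G).lowerCentralSeries (p - 1) ≠ ⊥ ∧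
      Monoid.exponent G = p ^ 2 ∧ IsCyclic ↥(Subgroup.center G) ∧ p ^ (p + 1) ≤ Nat.card G := by
  classical
have hp : p.Prime := Fact.out
have hEC : ∀ K : Subgroup G, K ≠ ⊤ → ∀ a ∈ K, ∀ b ∈ K, a ^ p = 1 → b ^ p = 1 → (a * b) ^ p = 1 := by
  intro K hK a ha b hb hap hbp
  obtain ⟨S, hS⟩ := hsub K hK
  have h1 : (⟨a, ha⟩ : K) ∈ S := by
    have : (⟨a, ha⟩ : K) ∈ (S : Set K) := by
      rw [hS]
      apply Subtype.ext
      simpa using hap
    exact this
  have h2 : (⟨b, hb⟩ : K) ∈ S := by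
    have : (⟨b, hb⟩ : K) ∈ (S : Set K) := by
      rw [hS]
      apply Subtype.ext
      simpa using hbp
    exact this
  have h3 : ((⟨a, ha⟩ : K) * ⟨b, hb⟩) ∈ (S : Set K) := S.mul_mem h1 h2
  rw [hS] at h3
  have h4 := congrArg Subtype.val h3
  simpa using h4
obtain ⟨x, y, hxp, hyp, hxy⟩ : ∃ x y : G, x ^ p = 1 ∧ y ^ p = 1 ∧ (x * y) ^ p ≠ 1 := by
  by_contra hcon
  push Not at hcon
  apply hnc
  refine ⟨{ carrier := {g | g ^ p = 1}, mul_mem' := ?_, one_mem' := by simp, inv_mem' := ?_ }, rfl⟩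
  · intro a b ha hb
    exact hcon a b ha hb
  · intro a ha
    show a⁻¹ ^ p = 1
    have ha' : a ^ p = 1 := ha
    rw [inv_pow, ha', inv_one]
have hgen : Subgroup.closure {x, y} = ⊤ := by
  by_contra h
  exact hxy (hEC _ h x (Subgroup.subset_closure (by simp)) y (Subgroup.subset_closure (by simp)) hxp hyp)
have hquo' : ∀ N : Subgroup G, N.Normal → N ≠ ⊥ → ∀ g : G, g ^ p ∈ N := by
  intro N hN hne g
  haveI := hN
  obtain ⟨S, hS⟩ := hquo N hne
  have hxS : (x : G ⧸ N) ∈ S := by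
    have : (x : G ⧸ N) ∈ (S : Set (G ⧸ N)) := by
      rw [hS]
      show (x : G ⧸ N) ^ p = 1
      rw [← QuotientGroup.mk_pow, hxp]
      rfl
    exact this
  have hyS : (y : G ⧸ N) ∈ S := by
    have : (y : G ⧸ N) ∈ (S : Set (G ⧸ N)) := by
      rw [hS]
      show (y : G ⧸ N) ^ p = 1
      rw [← QuotientGroup.mk_pow, hyp]
      rfl
    exact this
  have hle : Subgroup.closure {x, y} ≤ S.comap (QuotientGroup.mk' N) := by
    rw [Subgroup.closure_le]
    rintro a (rfl | rfl)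
    · exact hxS
    · exact hyS
  rw [hgen] at hle
  have hg : (g : G ⧸ N) ∈ S := hle (Subgroup.mem_top g)
  have h1 : (g : G ⧸ N) ∈ (S : Set (G ⧸ N)) := hg
  rw [hS] at h1
  have h2 : ((g ^ p : G) : G ⧸ N) = 1 := by
    rw [QuotientGroup.mk_pow]
    exact h1
  exact (QuotientGroup.eq_one_iff _).mp h2
haveI hGnt : Nontrivial G := by
  by_contra h
  rw [not_nontrivial_iff_subsingleton] at h
  exact hxy (Subsingleton.elim _ _)
have hall : ¬ ∀ g : G, g ^ p = 1 := fun h => hxy (h _)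
have hncomm : ¬ Commute x y := by
  intro h
  apply hxy
  rw [h.mul_pow, hxp, hyp, one_mul]
have hzw : ∀ w : G, Subgroup.zpowers w ≠ ⊤ := by
  intro w hw
  apply hncomm
  obtain ⟨i, rfl⟩ := Subgroup.mem_zpowers_iff.mp (hw ▸ Subgroup.mem_top x)
  obtain ⟨j, rfl⟩ := Subgroup.mem_zpowers_iff.mp (hw ▸ Subgroup.mem_top y)
  exact (Commute.refl w).zpow_zpow i j
have hzn : ∀ a ∈ Subgroup.center G, (Subgroup.zpowers a).Normal := by
  intro a ha
  constructor
  intro u hu g
  have hu' : u ∈ Subgroup.center G := (Subgroup.zpowers_le.mpr ha) hu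
  have := Subgroup.mem_center_iff.mp hu' g
  rw [this, mul_inv_cancel_right]
  exact hu
have hord : ∀ a : G, orderOf a = p → a ≠ 1 := by
  rintro a ha rfl
  rw [orderOf_one] at ha
  exact hp.one_lt.ne ha
-- cyclic centre
have huniq : ∀ a ∈ Subgroup.center G, ∀ b ∈ Subgroup.center G, orderOf a = p → orderOf b = p →
    b ∈ Subgroup.zpowers a := by
  intro a ha b hb hao hbo
  by_contra hba
  have hA := hzn a ha
  have hB := hzn b hb
  have hAne : Subgroup.zpowers a ≠ ⊥ := by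
    rw [Ne, Subgroup.zpowers_eq_bot]
    exact hord a hao
  have hBne : Subgroup.zpowers b ≠ ⊥ := by
    rw [Ne, Subgroup.zpowers_eq_bot]
    exact hord b hbo
  have hdvd : Nat.card (Subgroup.zpowers a ⊓ Subgroup.zpowers b : Subgroup G) ∣ p := by
    have := Subgroup.card_dvd_of_le (inf_le_right : Subgroup.zpowers a ⊓ Subgroup.zpowers b ≤ Subgroup.zpowers b)
    rwa [Nat.card_zpowers, hbo] at this
  rcases (Nat.dvd_prime hp).mp hdvd with h1 | h2
  · apply hall
    intro g
    have h3 : g ^ p ∈ Subgroup.zpowers a ⊓ Subgroup.zpowers b :=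
      ⟨hquo' _ hA hAne g, hquo' _ hB hBne g⟩
    rw [Subgroup.card_eq_one.mp h1, Subgroup.mem_bot] at h3
    exact h3
  · apply hba
    have h3 : Subgroup.zpowers a ⊓ Subgroup.zpowers b = Subgroup.zpowers b := by
      apply Subgroup.eq_of_le_of_card_ge inf_le_right
      rw [h2, Nat.card_zpowers, hbo]
    have h4 : b ∈ Subgroup.zpowers a ⊓ Subgroup.zpowers b := by
      rw [h3]
      exact Subgroup.mem_zpowers b
    exact h4.1
have hcyc : IsCyclic (Subgroup.center G) := by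
  apply H14.isCyclic_of_comm_uniqueP (p := p) (hG.to_subgroup _)
  · intro a b
    exact Subtype.ext (Subgroup.mem_center_iff.mp b.2 a)
  · intro a b ha hb
    have h1 := huniq a a.2 b b.2 (by rw [Subgroup.orderOf_coe, ha]) (by rw [Subgroup.orderOf_coe, hb])
    obtain ⟨k, hk⟩ := h1
    exact ⟨k, Subtype.ext (by simpa using hk)⟩
-- exponent
have hexp2 : ∀ g : G, g ^ (p ^ 2) = 1 := by
  haveI hnt : Nontrivial (Subgroup.center G) := hG.center_nontrivial
  have hdvd : p ∣ Nat.card (Subgroup.center G) := by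
    obtain ⟨k, hk⟩ := IsPGroup.iff_card.mp (hG.to_subgroup (Subgroup.center G))
    have hk0 : k ≠ 0 := by
      rintro rfl
      rw [pow_zero] at hk
      have := Finite.one_lt_card (α := Subgroup.center G)
      omega
    rw [hk]
    exact dvd_pow_self p hk0
  obtain ⟨z, hz⟩ := exists_prime_orderOf_dvd_card' p hdvd
  have hz' : orderOf (z : G) = p := by rw [Subgroup.orderOf_coe, hz]
  intro g
  have h1 := hquo' _ (hzn z z.2) (by
    rw [Ne, Subgroup.zpowers_eq_bot]
    exact hord _ hz') g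
  obtain ⟨i, hi⟩ := Subgroup.mem_zpowers_iff.mp h1
  rw [pow_two, pow_mul, ← hi, ← zpow_natCast, ← zpow_mul, mul_comm, zpow_mul, zpow_natCast, ← hz',
    pow_orderOf_eq_one, one_zpow]
have hexpo : Monoid.exponent G = p ^ 2 := by
  have h1 : Monoid.exponent G ∣ p ^ 2 := Monoid.exponent_dvd_iff_forall_pow_eq_one.mpr hexp2
  obtain ⟨k, hk, he⟩ := (Nat.dvd_prime_pow hp).mp h1
  have hk2 : k = 2 := by
    by_contra hne
    have hk1 : k ≤ 1 := by omega
    apply hall
    apply Monoid.exponent_dvd_iff_forall_pow_eq_one.mp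
    rw [he]
    exact (pow_dvd_pow p hk1).trans (by rw [pow_one])
  rw [he, hk2]
-- derived subgroup
have hNtop : Subgroup.normalClosure ({x} : Set G) ≠ ⊤ := by
  rcases eq_top_or_exists_le_coatom (Subgroup.zpowers x) with h | ⟨M, hM, hxM⟩
  · exact absurd h (hzw x)
  · haveI := (H01.isCoatom_normal_index hG hM).1
    intro h
    have h2 : Subgroup.normalClosure ({x} : Set G) ≤ M := by
      apply Subgroup.normalClosure_le_normal
      rintro a rfl
      exact hxM (Subgroup.mem_zpowers _)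
    rw [h] at h2
    exact hM.1 (eq_top_iff.mpr h2)
set N := Subgroup.normalClosure ({x} : Set G) with hN
have hNn : N.Normal := Subgroup.normalClosure_normal
have hNexp : ∀ n ∈ N, n ^ p = 1 := by
  let Ω : Subgroup G :=
    { carrier := {g | g ∈ N ∧ g ^ p = 1}
      mul_mem' := fun ha hb => ⟨N.mul_mem ha.1 hb.1, hEC N hNtop _ ha.1 _ hb.1 ha.2 hb.2⟩
      one_mem' := ⟨N.one_mem, one_pow _⟩
      inv_mem' := fun ha => ⟨N.inv_mem ha.1, by rw [inv_pow, ha.2, inv_one]⟩ }
  have hΩn : Ω.Normal := ⟨fun g hg h => ⟨hNn.conj_mem _ hg.1 h, by rw [conj_pow, hg.2]; group⟩⟩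
  have h2 : N ≤ Ω := by
    apply Subgroup.normalClosure_le_normal
    rintro a rfl
    exact ⟨Subgroup.subset_normalClosure rfl, hxp⟩
  exact fun n hn => (h2 hn).2
have hder : (⊤ : Subgroup G).lowerCentralSeries 1 ≤ N := by
  have hsup : Subgroup.zpowers y ⊔ N = ⊤ := by
    rw [eq_top_iff, ← hgen, Subgroup.closure_le]
    rintro a (ha | ha)
    · rw [ha]
      exact (le_sup_right : N ≤ _) (Subgroup.subset_normalClosure rfl)
    · rw [Set.mem_singleton_iff.mp ha]
      exact (le_sup_left : Subgroup.zpowers y ≤ _) (Subgroup.mem_zpowers _)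
  have hq : ∀ g : G, ∃ i : ℤ, (g : G ⧸ N) = (y : G ⧸ N) ^ i := by
    intro g
    have hg : g ∈ Subgroup.zpowers y ⊔ N := hsup ▸ Subgroup.mem_top g
    obtain ⟨a, ha, b, hb, rfl⟩ := H18.mem_sup_normal_right.mp hg
    obtain ⟨i, rfl⟩ := Subgroup.mem_zpowers_iff.mp ha
    refine ⟨i, ?_⟩
    rw [QuotientGroup.mk_mul, (QuotientGroup.eq_one_iff b).mpr hb, mul_one, QuotientGroup.mk_zpow]
  rw [Subgroup.top_lowerCentralSeries_one, commutator_def, Subgroup.commutator_le]
  intro g _ h _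
  obtain ⟨i, hi⟩ := hq g
  obtain ⟨j, hj⟩ := hq h
  apply (QuotientGroup.eq_one_iff _).mp
  rw [commutatorElement_def, QuotientGroup.mk_mul, QuotientGroup.mk_mul, QuotientGroup.mk_mul,
    QuotientGroup.mk_inv, QuotientGroup.mk_inv, hi, hj,
    ((Commute.refl (y : G ⧸ N)).zpow_zpow i j).eq]
  group
have hclass : (⊤ : Subgroup G).lowerCentralSeries (p - 1) ≠ ⊥ := by
  intro h
  apply hxy
  rw [H18.mul_pow_of_class_lt hp h (fun g hg => hNexp g (hder hg)) x y, hxp, hyp, one_mul]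
-- order
have hstrict : ∀ i, (⊤ : Subgroup G).lowerCentralSeries i ≠ ⊥ →
    p * Nat.card ((⊤ : Subgroup G).lowerCentralSeries (i + 1)) ≤
      Nat.card ((⊤ : Subgroup G).lowerCentralSeries i) := by
  intro i hi
  apply H18.card_mul_le_of_lt hG
  refine lt_of_le_of_ne (Subgroup.lowerCentralSeries_antitone _ (Nat.le_succ i)) ?_
  intro heq
  apply hi
  have hnil : Group.IsNilpotent G := hG.isNilpotent
  obtain ⟨n, hn⟩ := Subgroup.nilpotent_iff_lowerCentralSeries.mp hnil
  have hall : ∀ k, (⊤ : Subgroup G).lowerCentralSeries (i + k) = (⊤ : Subgroup G).lowerCentralSeries i := by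
    intro k
    induction k with
    | zero => rfl
    | succ k ih =>
      rw [← add_assoc, Subgroup.lowerCentralSeries_succ, ih, ← Subgroup.lowerCentralSeries_succ]
      exact heq
  rw [← hall n]
  rw [eq_bot_iff, ← hn]
  exact Subgroup.lowerCentralSeries_antitone _ (Nat.le_add_left n i)
have hchain : ∀ k, (⊤ : Subgroup G).lowerCentralSeries (k + 1) ≠ ⊥ →
    p ^ k * Nat.card ((⊤ : Subgroup G).lowerCentralSeries (k + 1)) ≤
      Nat.card ((⊤ : Subgroup G).lowerCentralSeries 1) := by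
  intro k
  induction k with
  | zero =>
    intro _
    simp
  | succ k ih =>
    intro hk
    have hk' : (⊤ : Subgroup G).lowerCentralSeries (k + 1) ≠ ⊥ := by
      intro h0
      apply hk
      rw [eq_bot_iff, ← h0]
      exact Subgroup.lowerCentralSeries_antitone _ (Nat.le_succ _)
    have h1 := hstrict _ hk'
    have h2 := ih hk'
    calc p ^ (k + 1) * Nat.card ((⊤ : Subgroup G).lowerCentralSeries (k + 1 + 1))
        = p ^ k * (p * Nat.card ((⊤ : Subgroup G).lowerCentralSeries (k + 1 + 1))) := by ring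
      _ ≤ p ^ k * Nat.card ((⊤ : Subgroup G).lowerCentralSeries (k + 1)) :=
          Nat.mul_le_mul_left _ h1
      _ ≤ _ := h2
have hlast : p ≤ Nat.card ((⊤ : Subgroup G).lowerCentralSeries (p - 1)) := by
  have h1 := hstrict _ hclass
  have h2 : 0 < Nat.card ((⊤ : Subgroup G).lowerCentralSeries (p - 1 + 1)) := Nat.card_pos
  nlinarith
have hp2 : 2 ≤ p := hp.two_le
have hG1 : p ^ (p - 2) * p ≤ Nat.card ((⊤ : Subgroup G).lowerCentralSeries 1) := by
  have h1 := hchain (p - 2) (by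
    rw [show p - 2 + 1 = p - 1 by omega]
    exact hclass)
  rw [show p - 2 + 1 = p - 1 by omega] at h1
  calc p ^ (p - 2) * p ≤ p ^ (p - 2) * Nat.card ((⊤ : Subgroup G).lowerCentralSeries (p - 1)) :=
        Nat.mul_le_mul_left _ hlast
    _ ≤ _ := h1
-- two coatoms
obtain ⟨M, hM, hxM⟩ : ∃ M : Subgroup G, IsCoatom M ∧ Subgroup.zpowers x ≤ M :=
  (eq_top_or_exists_le_coatom (Subgroup.zpowers x)).resolve_left (hzw x)
obtain ⟨M', hM', hyM'⟩ : ∃ M : Subgroup G, IsCoatom M ∧ Subgroup.zpowers y ≤ M :=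
  (eq_top_or_exists_le_coatom (Subgroup.zpowers y)).resolve_left (hzw y)
have hderM : ∀ M : Subgroup G, IsCoatom M → (⊤ : Subgroup G).lowerCentralSeries 1 ≤ M := by
  intro M hM
  obtain ⟨hn, hi⟩ := H01.isCoatom_normal_index hG hM
  haveI := hn
  have hcard : Nat.card (G ⧸ M) = p := hi
  haveI : Fact (Nat.card (G ⧸ M)).Prime := ⟨hcard ▸ hp⟩
  haveI : IsCyclic (G ⧸ M) := isCyclic_of_prime_card rfl
  rw [Subgroup.top_lowerCentralSeries_one, commutator_def, Subgroup.commutator_le]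
  intro g _ h _
  apply (QuotientGroup.eq_one_iff _).mp
  obtain ⟨c, hc⟩ := IsCyclic.exists_generator (α := G ⧸ M)
  obtain ⟨i, hi'⟩ := Subgroup.mem_zpowers_iff.mp (hc (g : G ⧸ M))
  obtain ⟨j, hj'⟩ := Subgroup.mem_zpowers_iff.mp (hc (h : G ⧸ M))
  rw [commutatorElement_def, QuotientGroup.mk_mul, QuotientGroup.mk_mul, QuotientGroup.mk_mul,
    QuotientGroup.mk_inv, QuotientGroup.mk_inv, ← hi', ← hj',
    ((Commute.refl c).zpow_zpow i j).eq]
  group
have hMne : M ≠ M' := by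
  rintro rfl
  apply hM.1
  rw [eq_top_iff, ← hgen, Subgroup.closure_le]
  rintro a (ha | ha)
  · rw [ha]
    exact hxM (Subgroup.mem_zpowers _)
  · rw [Set.mem_singleton_iff.mp ha]
    exact hyM' (Subgroup.mem_zpowers _)
have hMM : p * Nat.card (M ⊓ M' : Subgroup G) ≤ Nat.card M := by
  apply H18.card_mul_le_of_lt hG
  refine lt_of_le_of_ne inf_le_left ?_
  intro h
  have h2 : M ≤ M' := inf_eq_left.mp h
  apply hMne
  by_contra hne
  exact hM'.1 ((hM.2 M' (lt_of_le_of_ne h2 hne)))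
have hMG : p * Nat.card M ≤ Nat.card (⊤ : Subgroup G) := by
  apply H18.card_mul_le_of_lt hG
  exact lt_of_le_of_ne le_top hM.1
rw [Subgroup.card_top] at hMG
have hcG : Nat.card ((⊤ : Subgroup G).lowerCentralSeries 1) ≤ Nat.card (M ⊓ M' : Subgroup G) :=
  Subgroup.card_le_of_le (le_inf (hderM M hM) (hderM M' hM'))
refine ⟨⟨x, y, hgen⟩, hclass, hexpo, hcyc, ?_⟩
calc p ^ (p + 1) = p * (p * (p ^ (p - 2) * p)) := by
      obtain ⟨k, rfl⟩ : ∃ k, p = k + 2 := ⟨p - 2, by omega⟩
      simp only [Nat.add_sub_cancel]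
      ring
  _ ≤ p * (p * Nat.card ((⊤ : Subgroup G).lowerCentralSeries 1)) :=
      Nat.mul_le_mul_left _ (Nat.mul_le_mul_left _ hG1)
  _ ≤ p * (p * Nat.card (M ⊓ M' : Subgroup G)) :=
      Nat.mul_le_mul_left _ (Nat.mul_le_mul_left _ hcG)
  _ ≤ p * Nat.card M := Nat.mul_le_mul_left _ hMM
  _ ≤ Nat.card G := hMG

end Cfsg.Agent.S3872
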