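import Cfsg.Statements.S3873
import Mathlib
import Cfsg.Agent.Lib.H19.CyclicSylow
import Cfsg.Agent.Lib.H18.PGroup
import Cfsg.Agent.Lib.H18.MinPC

set_option autoImplicit false
open Cfsg

namespace Cfsg.Agent.S3873

/-- Say that a finite group is p-exponent closed when its elements of order dividing p form a subgroup. Let G be a finite group that is not p-exponent closed, but all of whose proper subgroups and proper quotients are, and suppose G is neither simple nor a p-group. Then there is a prime q ≠ p such that G has order p · q^e, where e is the multiplicative order of q modulo p, and G has a normal elementary abelian subgroup of order q^e that is a minimal normal subgroup of G. -/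
theorem result {G : Type*} [Group G] [Finite G] {p : ℕ} [Fact p.Prime]
    (hnc : ¬ (∃ H : Subgroup G, (H : Set G) = {g : G | g ^ p = 1})) (hsub : ∀ K : Subgroup G, K ≠ ⊤ → (∃ H : Subgroup ↥K, (H : Set ↥K) = {g : ↥K | g ^ p = 1}))
    (hquo : ∀ (N : Subgroup G) [N.Normal], N ≠ ⊥ → (∃ H : Subgroup (G ⧸ N), (H : Set (G ⧸ N)) = {g : (G ⧸ N) | g ^ p = 1}))
    (hns : ¬ IsSimpleGroup G) (hnp : ¬ IsPGroup p G) :
    ∃ q : ℕ, q.Prime ∧ q ≠ p ∧ Nat.card G = p * q ^ orderOf (q : ZMod p) ∧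
      ∃ A : Subgroup G, A.Normal ∧ Nat.card ↥A = q ^ orderOf (q : ZMod p) ∧ Cfsg.IsElementaryAbelian q A ∧
        ∀ B : Subgroup G, B.Normal → B ≤ A → B = ⊥ ∨ B = A := by
  classical
have hp : p.Prime := Fact.out
have hEC : ∀ K : Subgroup G, K ≠ ⊤ → ∀ a ∈ K, ∀ b ∈ K, a ^ p = 1 → b ^ p = 1 → (a * b) ^ p = 1 := by
  intro K hK a ha b hb hap hbp
  obtain ⟨S, hS⟩ := hsub K hK
  have h1 : (⟨a, ha⟩ : K) ∈ S := by
    have : (⟨a, ha⟩ : K) ∈ (S : Set K) := by
      rw [hS]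
      apply Subtype.ext
      simpa using hap
    exact this
  have h2 : (⟨b, hb⟩ : K) ∈ S := by
    have : (⟨b, hb⟩ : K) ∈ (S : Set K) := by
      rw [hS]
      apply Subtype.ext
      simpa using hbp
    exact this
  have h3 : ((⟨a, ha⟩ : K) * ⟨b, hb⟩) ∈ (S : Set K) := S.mul_mem h1 h2
  rw [hS] at h3
  have h4 := congrArg Subtype.val h3
  simpa using h4
obtain ⟨x, y, hxp, hyp, hxy⟩ : ∃ x y : G, x ^ p = 1 ∧ y ^ p = 1 ∧ (x * y) ^ p ≠ 1 := by
  by_contra hcon
  push Not at hcon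
  apply hnc
  refine ⟨{ carrier := {g | g ^ p = 1}, mul_mem' := ?_, one_mem' := by simp, inv_mem' := ?_ }, rfl⟩
  · intro a b ha hb
    exact hcon a b ha hb
  · intro a ha
    show a⁻¹ ^ p = 1
    have ha' : a ^ p = 1 := ha
    rw [inv_pow, ha', inv_one]
have hgen : Subgroup.closure {x, y} = ⊤ := by
  by_contra h
  exact hxy (hEC _ h x (Subgroup.subset_closure (by simp)) y (Subgroup.subset_closure (by simp)) hxp hyp)
have hquo' : ∀ N : Subgroup G, N.Normal → N ≠ ⊥ → ∀ g : G, g ^ p ∈ N := by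
  intro N hN hne g
  haveI := hN
  obtain ⟨S, hS⟩ := hquo N hne
  have hxS : (x : G ⧸ N) ∈ S := by
    have : (x : G ⧸ N) ∈ (S : Set (G ⧸ N)) := by
      rw [hS]
      show (x : G ⧸ N) ^ p = 1
      rw [← QuotientGroup.mk_pow, hxp]
      rfl
    exact this
  have hyS : (y : G ⧸ N) ∈ S := by
    have : (y : G ⧸ N) ∈ (S : Set (G ⧸ N)) := by
      rw [hS]
      show (y : G ⧸ N) ^ p = 1
      rw [← QuotientGroup.mk_pow, hyp]
      rfl
    exact this
  have hle : Subgroup.closure {x, y} ≤ S.comap (QuotientGroup.mk' N) := by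
    rw [Subgroup.closure_le]
    rintro a (rfl | rfl)
    · exact hxS
    · exact hyS
  rw [hgen] at hle
  have hg : (g : G ⧸ N) ∈ S := hle (Subgroup.mem_top g)
  have h1 : (g : G ⧸ N) ∈ (S : Set (G ⧸ N)) := hg
  rw [hS] at h1
  have h2 : ((g ^ p : G) : G ⧸ N) = 1 := by
    rw [QuotientGroup.mk_pow]
    exact h1
  exact (QuotientGroup.eq_one_iff _).mp h2
haveI hGnt : Nontrivial G := by
  by_contra h
  rw [not_nontrivial_iff_subsingleton] at h
  exact hnp (fun g => ⟨0, Subsingleton.elim _ _⟩)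
obtain ⟨N₀, hN₀, hne₀, htop₀⟩ : ∃ N : Subgroup G, N.Normal ∧ N ≠ ⊥ ∧ N ≠ ⊤ := by
  by_contra hcon
  push Not at hcon
  apply hns
  refine ⟨?_⟩
  intro N hN
  by_cases h : N = ⊥
  · exact Or.inl h
  · exact Or.inr (hcon N hN h)
obtain ⟨M, hMN, hMm⟩ := (Set.toFinite {N : Subgroup G | N.Normal ∧ N ≠ ⊥}).exists_le_minimal
  (a := N₀) ⟨hN₀, hne₀⟩
obtain ⟨hMn, hMne⟩ := hMm.1
haveI := hMn
have hmin : ∀ B : Subgroup G, B.Normal → B ≤ M → B = ⊥ ∨ B = M := by
  intro B hB hBM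
  by_cases hB0 : B = ⊥
  · exact Or.inl hB0
  · exact Or.inr (le_antisymm hBM (hMm.2 ⟨hB, hB0⟩ hBM))
have hMtop : M ≠ ⊤ := by
  intro h
  rw [h] at hMN
  exact htop₀ (eq_top_iff.mpr hMN)
let Ω : Subgroup G :=
  { carrier := {g | g ∈ M ∧ g ^ p = 1}
    mul_mem' := fun ha hb => ⟨M.mul_mem ha.1 hb.1, hEC M hMtop _ ha.1 _ hb.1 ha.2 hb.2⟩
    one_mem' := ⟨M.one_mem, one_pow _⟩
    inv_mem' := fun ha => ⟨M.inv_mem ha.1, by rw [inv_pow, ha.2, inv_one]⟩ }
have hΩn : Ω.Normal := ⟨fun g hg h => ⟨hMn.conj_mem _ hg.1 h, by rw [conj_pow, hg.2]; group⟩⟩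
have hΩle : Ω ≤ M := fun g hg => hg.1
have hM1 : ∀ g ∈ M, g ^ p = 1 → g = 1 := by
  rcases hmin Ω hΩn hΩle with h0 | h0
  · intro g hg hgp
    have : g ∈ Ω := ⟨hg, hgp⟩
    rw [h0] at this
    exact this
  · exfalso
    apply hnp
    intro g
    refine ⟨2, ?_⟩
    have h1 := hquo' M hMn hMne g
    rw [← h0] at h1
    rw [pow_two, pow_mul]
    exact h1.2
have hMp : ¬ p ∣ Nat.card M := by
  intro h
  obtain ⟨v, hv⟩ := exists_prime_orderOf_dvd_card' p h
  have hv' : orderOf (v : G) = p := by rw [Subgroup.orderOf_coe, hv]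
  have h1 : (v : G) ^ p = 1 := by rw [← hv']; exact pow_orderOf_eq_one _
  have h2 := hM1 v v.2 h1
  rw [h2, orderOf_one] at hv'
  exact hp.one_lt.ne hv'
have hcomm : ∀ u : G, u ^ p = 1 → ∀ Q : Subgroup G, Q ≤ M → (∀ c ∈ Q, u * c * u⁻¹ ∈ Q) →
    Q ⊔ Subgroup.zpowers u ≠ ⊤ → ∀ c ∈ Q, c * u = u * c := by
  intro u hup Q hQM hQu hL c hc
  have hcT : c ∈ Q ⊔ Subgroup.zpowers u := (le_sup_left : Q ≤ _) hc
  have huT : u ∈ Q ⊔ Subgroup.zpowers u := (le_sup_right : Subgroup.zpowers u ≤ _) (Subgroup.mem_zpowers u)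
  have h1 := hEC _ hL (c * u * c⁻¹) (Subgroup.mul_mem _ (Subgroup.mul_mem _ hcT huT) (Subgroup.inv_mem _ hcT))
    u⁻¹ (Subgroup.inv_mem _ huT) (by rw [conj_pow, hup]; group) (by rw [inv_pow, hup, inv_one])
  have h2 : c * u * c⁻¹ * u⁻¹ ∈ Q := by
    have := Q.mul_mem hc (hQu c⁻¹ (Q.inv_mem hc))
    convert this using 1
    group
  have h3 := hM1 _ (hQM h2) h1
  calc c * u = c * u * c⁻¹ * u⁻¹ * (u * c) := by group
    _ = u * c := by rw [h3, one_mul]
obtain ⟨z, hzp, hsupz⟩ : ∃ z : G, z ^ p = 1 ∧ M ⊔ Subgroup.zpowers z = ⊤ := by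
  by_contra hcon
  push Not at hcon
  have hxc := hcomm x hxp M le_rfl (fun c hc => hMn.conj_mem c hc x) (hcon x hxp)
  have hyc := hcomm y hyp M le_rfl (fun c hc => hMn.conj_mem c hc y) (hcon y hyp)
  have hcent : ∀ g : G, ∀ c ∈ M, c * g = g * c := by
    intro g c hc
    have hle : Subgroup.closure {x, y} ≤ Subgroup.centralizer ({c} : Set G) := by
      rw [Subgroup.closure_le]
      rintro a (rfl | rfl)
      · exact (Subgroup.mem_centralizer_singleton_iff).mpr (hxc c hc).symm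
      · exact (Subgroup.mem_centralizer_singleton_iff).mpr (hyc c hc).symm
    rw [hgen] at hle
    exact ((Subgroup.mem_centralizer_singleton_iff).mp (hle (Subgroup.mem_top g))).symm
  obtain ⟨P⟩ : Nonempty (Sylow p G) := inferInstance
  have hqp : IsPGroup p (G ⧸ M) := by
    intro g
    obtain ⟨g, rfl⟩ := QuotientGroup.mk_surjective g
    refine ⟨1, ?_⟩
    rw [pow_one, ← QuotientGroup.mk_pow]
    exact (QuotientGroup.eq_one_iff _).mpr (hquo' M hMn hMne g)
  have hPtop : (P : Subgroup G).map (QuotientGroup.mk' M) = ⊤ := by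
    have h2 : (⊤ : Subgroup (G ⧸ M)) = (P.mapSurjective (QuotientGroup.mk'_surjective M) : Sylow p (G ⧸ M)) :=
      (P.mapSurjective (QuotientGroup.mk'_surjective M)).is_maximal' (hqp.to_subgroup ⊤) le_top
    exact h2.symm
  have hsup : (P : Subgroup G) ⊔ M = ⊤ := by
    have h1 := Subgroup.comap_map_eq (QuotientGroup.mk' M) (P : Subgroup G)
    rw [hPtop, QuotientGroup.ker_mk', Subgroup.comap_top] at h1
    exact h1.symm
  have hPn : (P : Subgroup G).Normal := by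
    constructor
    intro u hu g
    have hg : g ∈ (P : Subgroup G) ⊔ M := hsup ▸ Subgroup.mem_top g
    obtain ⟨a, ha, b, hb, rfl⟩ := H18.mem_sup_normal_right.mp hg
    have h1 : a * b * u * (a * b)⁻¹ = a * u * a⁻¹ := by
      calc a * b * u * (a * b)⁻¹ = a * (b * u) * b⁻¹ * a⁻¹ := by group
        _ = a * (u * b) * b⁻¹ * a⁻¹ := by rw [hcent u b hb]
        _ = a * u * a⁻¹ := by group
    rw [h1]
    exact Subgroup.mul_mem _ (Subgroup.mul_mem _ ha hu) (Subgroup.inv_mem _ ha)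
  have hpel : ∀ w : G, w ^ p = 1 → w ∈ (P : Subgroup G) := by
    intro w hw
    have h0 : IsPGroup p (Subgroup.zpowers w) := by
      rcases (Nat.dvd_prime hp).mp (orderOf_dvd_of_pow_eq_one hw) with h | h
      · exact H19.isPGroup_zpowers_of_orderOf (k := 0) (by rw [h, pow_zero])
      · exact H19.isPGroup_zpowers_of_orderOf (k := 1) (by rw [h, pow_one])
    exact H18.le_of_isPGroup_of_normal_sylow P hPn h0 (Subgroup.mem_zpowers w)
  have hle : Subgroup.closure {x, y} ≤ (P : Subgroup G) := by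
    rw [Subgroup.closure_le]
    rintro a (rfl | rfl)
    · exact hpel _ hxp
    · exact hpel _ hyp
  rw [hgen] at hle
  apply hnp
  intro g
  obtain ⟨k, hk⟩ := P.isPGroup' ⟨g, hle (Subgroup.mem_top g)⟩
  exact ⟨k, by simpa using congrArg Subtype.val hk⟩
have hz1 : z ≠ 1 := by
  rintro rfl
  rw [Subgroup.zpowers_one_eq_bot, sup_bot_eq] at hsupz
  exact hMtop hsupz
have hzo : orderOf z = p := orderOf_eq_prime hzp hz1
have hcop : (Nat.card (Subgroup.zpowers z)).Coprime (Nat.card M) := by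
  rw [Nat.card_zpowers, hzo]
  exact (Nat.Prime.coprime_iff_not_dvd hp).mpr hMp
have hinf : Subgroup.zpowers z ⊓ M = ⊥ := (Subgroup.disjoint_of_coprime_natCard hcop).eq_bot
have hsup' : Subgroup.zpowers z ⊔ M = ⊤ := by rw [sup_comm]; exact hsupz
have hcardG : Nat.card G = p * Nat.card M := by
  have := H18.card_sup_mul_card_inf (Subgroup.zpowers z) M
  rw [hsup', hinf, Subgroup.card_top, Subgroup.card_bot, mul_one, Nat.card_zpowers, hzo] at this
  exact this
have hNi : M.index = p := by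
  have h1 := Subgroup.card_mul_index M
  rw [hcardG, mul_comm] at h1
  exact Nat.eq_of_mul_eq_mul_right Nat.card_pos h1
have hx : ¬ ∀ n ∈ M, n * z = z * n := by
  intro hc
  apply hnc
  refine ⟨Subgroup.zpowers z, ?_⟩
  ext g
  constructor
  · rintro ⟨i, rfl⟩
    show (z ^ i) ^ p = 1
    rw [← zpow_natCast, ← zpow_mul, mul_comm, zpow_mul, zpow_natCast, hzp, one_zpow]
  · intro hg
    have hg' : g ^ p = 1 := hg
    have hmem : g ∈ Subgroup.zpowers z ⊔ M := hsup' ▸ Subgroup.mem_top g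
    obtain ⟨a, ha, b, hb, rfl⟩ := H18.mem_sup_normal_right.mp hmem
    obtain ⟨i, rfl⟩ := Subgroup.mem_zpowers_iff.mp ha
    have hcm : Commute (z ^ i) b := ((show Commute b z from hc b hb).zpow_right i).symm
    have h1 : (z ^ i) ^ p = 1 := by
      rw [← zpow_natCast, ← zpow_mul, mul_comm, zpow_mul, zpow_natCast, hzp, one_zpow]
    rw [hcm.mul_pow, h1, one_mul] at hg'
    have h2 := hM1 b hb hg'
    rw [h2, mul_one]
    exact Subgroup.mem_zpowers_iff.mpr ⟨i, rfl⟩
obtain ⟨q, hq, hqp, hMq⟩ := H18.exists_prime_group hMn hzo hMp hNi (by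
  intro Q hQM hQz hL c hc
  apply hcomm z hzp Q hQM _ hL c hc
  intro d hd
  have hzn := hQz (Subgroup.mem_zpowers z)
  exact (Subgroup.mem_normalizer_iff.mp hzn d).mp hd) hx
haveI : Fact q.Prime := ⟨hq⟩
have hel := H18.elem_of_min hMn hMq hMne hmin
have hna : ¬ IsMulCommutative G := by
  intro h
  apply hx
  intro n _
  exact (isMulCommutative_iff.mp h) n z
have hcardN := H18.card_of_irred hq hqp hna M hel hNi hmin
refine ⟨q, hq, hqp, ?_, M, hMn, hcardN, hel, hmin⟩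
rw [hcardG, hcardN]

end Cfsg.Agent.S3873
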