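import Cfsg.Statements.S3889
import Mathlib

set_option autoImplicit false
open Cfsg

namespace Cfsg.Agent.S3889

/-- A finite abelian group that is the union of a family of proper subgroups any two of which intersect trivially is elementary abelian: its exponent is a prime. -/
theorem result {G : Type*} [CommGroup G] [Finite G] (𝓑 : Set (Subgroup G)) (hprop : ∀ B ∈ 𝓑, B ≠ ⊤)
    (hcov : ∀ g : G, ∃ B ∈ 𝓑, g ∈ B) (hdisj : ∀ B ∈ 𝓑, ∀ C ∈ 𝓑, B ≠ C → B ⊓ C = ⊥) :
    (Monoid.exponent G).Prime := by
    classical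
  -- two elements in different members of the partition have the same order
  have key : ∀ B ∈ 𝓑, ∀ a ∈ B, a ≠ 1 → ∀ b, b ∉ B → orderOf a = orderOf b := by
    intro B hB a haB ha b hb
    obtain ⟨C, hC, hbC⟩ := hcov b
    obtain ⟨D, hD, habD⟩ := hcov (a * b)
    have hBC : B ≠ C := by rintro rfl; exact hb hbC
    have hBD : B ≠ D := by
      rintro rfl
      apply hb
      have := B.mul_mem (B.inv_mem haB) habD
      simpa using this
    have hCD : C ≠ D := by
      rintro rfl
      have h1 : a ∈ C := by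
        have := C.mul_mem habD (C.inv_mem hbC)
        simpa using this
      have h2 : a ∈ B ⊓ C := ⟨haB, h1⟩
      rw [hdisj B hB C hC hBC] at h2
      exact ha h2
    apply Nat.dvd_antisymm
    · apply orderOf_dvd_of_pow_eq_one
      have h1 : (a * b) ^ orderOf b = a ^ orderOf b := by
        rw [mul_pow, pow_orderOf_eq_one, mul_one]
      have h2 : a ^ orderOf b ∈ B ⊓ D := ⟨B.pow_mem haB _, h1 ▸ D.pow_mem habD _⟩
      rw [hdisj B hB D hD hBD] at h2
      exact h2
    · apply orderOf_dvd_of_pow_eq_one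
      have h1 : (a * b) ^ orderOf a = b ^ orderOf a := by
        rw [mul_pow, pow_orderOf_eq_one, one_mul]
      have h2 : b ^ orderOf a ∈ C ⊓ D := ⟨C.pow_mem hbC _, h1 ▸ D.pow_mem habD _⟩
      rw [hdisj C hC D hD hCD] at h2
      exact h2
  have hne : ∀ B ∈ 𝓑, ∃ z, z ∉ B := by
    intro B hB
    by_contra h
    push Not at h
    exact hprop B hB (eq_top_iff.2 fun x _ => h x)
  have hall : ∀ x y : G, x ≠ 1 → y ≠ 1 → orderOf x = orderOf y := by
    intro x y hx hy
    obtain ⟨B, hB, hxB⟩ := hcov x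
    obtain ⟨z, hz⟩ := hne B hB
    have h1 := key B hB x hxB hx z hz
    by_cases hyB : y ∈ B
    · rw [h1, key B hB y hyB hy z hz]
    · rw [h1, ← key B hB x hxB hx z hz]
      exact key B hB x hxB hx y hyB
  -- nontriviality
  have hnt : ∃ x : G, x ≠ 1 := by
    obtain ⟨B, hB, -⟩ := hcov 1
    obtain ⟨z, hz⟩ := hne B hB
    refine ⟨z, ?_⟩
    rintro rfl
    exact hz B.one_mem
  obtain ⟨x, hx⟩ := hnt
  have hn1 : orderOf x ≠ 1 := fun h => hx (orderOf_eq_one_iff.1 h)
  set n := orderOf x with hn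
  have hn0 : 0 < n := orderOf_pos x
  have hprime : n.Prime := by
    obtain ⟨q, hq, hqn⟩ := Nat.exists_prime_and_dvd hn1
    obtain ⟨m, hm⟩ := hqn
    have hm0 : m ≠ 0 := by rintro rfl; simp at hm; omega
    have h1 : orderOf (x ^ m) = q := by
      rw [orderOf_pow' x hm0, ← hn, hm, Nat.gcd_eq_right (Dvd.intro_left q rfl), Nat.mul_div_cancel _ (Nat.pos_of_ne_zero hm0)]
    have h2 : x ^ m ≠ 1 := by
      intro h
      rw [h, orderOf_one] at h1
      exact hq.one_lt.ne h1
    have h3 := hall x (x ^ m) hx h2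
    rw [h1] at h3
    rw [← hn] at h3
    rw [h3]; exact hq
  have hexp : Monoid.exponent G = n := by
    have h1 : Monoid.exponent G ∣ n := by
      apply Monoid.exponent_dvd_of_forall_pow_eq_one
      intro y
      by_cases hy : y = 1
      · simp [hy]
      · rw [hn, hall x y hx hy, pow_orderOf_eq_one]
    rcases (Nat.dvd_prime hprime).1 h1 with h | h
    · rw [Monoid.exp_eq_one_iff] at h
      exact absurd (Subsingleton.elim x 1) hx
    · exact h
  rw [hexp]; exact hprime

end Cfsg.Agent.S3889
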