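import Cfsg.Statements.S3891
import Mathlib
import Cfsg.Agent.Lib.H18.MinCover

set_option autoImplicit false
open Cfsg

namespace Cfsg.Agent.S3891

/-- A cover of a group is a finite set of proper subgroups whose union is the whole group; it is minimal when no cover has fewer members, and nilpotent when all its members are nilpotent. Let G be a finite group with trivial center admitting a nilpotent minimal cover, and let P be a non-normal Sylow p-subgroup of G that is cyclic, or abelian but not elementary abelian. Then the centralizer of P is nilpotent and the normalizer of P is the unique maximal subgroup of G containing the centralizer of P. -/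
theorem result {G : Type*} [Group G] [Finite G] (hZ : Subgroup.center G = ⊥) (𝓐 : Finset (Subgroup G))
    (h𝓐 : ((∀ A ∈ 𝓐, A ≠ ⊤) ∧ (∀ g : G, ∃ A ∈ 𝓐, g ∈ A)) ∧ (∀ 𝓑 : Finset (Subgroup G), (∀ A ∈ 𝓑, A ≠ ⊤) ∧ (∀ g : G, ∃ A ∈ 𝓑, g ∈ A) → 𝓐.card ≤ 𝓑.card) ∧ (∀ A ∈ 𝓐, Group.IsNilpotent ↥A)) {p : ℕ} [Fact p.Prime] (P : Sylow p G)
    (hP : IsCyclic ↥(P : Subgroup G) ∨ (IsMulCommutative ↥(P : Subgroup G) ∧ ¬ Cfsg.IsElementaryAbelian p (P : Subgroup G)))
    (hnn : ¬ (P : Subgroup G).Normal) :
    Group.IsNilpotent ↥(Subgroup.centralizer ((P : Subgroup G) : Set G)) ∧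
      IsCoatom (Subgroup.normalizer ((P : Subgroup G) : Set G)) ∧
      ∀ M : Subgroup G, IsCoatom M → Subgroup.centralizer ((P : Subgroup G) : Set G) ≤ M →
        M = Subgroup.normalizer ((P : Subgroup G) : Set G) := by
  classical
have hab : IsMulCommutative ↥(P : Subgroup G) := by
  rcases hP with h | h
  · exact IsCyclic.isMulCommutative
  · exact h.1
have hH : (∃ x ∈ (P : Subgroup G), x ^ p ≠ 1) ∨ Nat.card (P : Subgroup G) ≤ p := by
  by_cases hx : ∃ x ∈ (P : Subgroup G), x ^ p ≠ 1
  · exact Or.inl hx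
  · push Not at hx
    rcases hP with h | h
    · right
      obtain ⟨g, hg⟩ := IsCyclic.exists_generator (α := (P : Subgroup G))
      have h1 := orderOf_eq_card_of_forall_mem_zpowers hg
      have h2 : g ^ p = 1 := Subtype.ext (by simpa using hx g g.2)
      have h3 := orderOf_dvd_of_pow_eq_one h2
      rw [h1] at h3
      exact Nat.le_of_dvd (Fact.out : p.Prime).pos h3
    · exact absurd ⟨h.1, hx⟩ h.2
obtain ⟨A, hA, hPA, hCA, hcoat, hunique, -⟩ := H18.mincover_main hZ h𝓐 P hab hnn hH
refine ⟨?_, hcoat, hunique⟩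
rw [hCA]
exact h𝓐.2.2 A hA

end Cfsg.Agent.S3891
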