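import Cfsg.Statements.S3892
import Mathlib
import Cfsg.Agent.Lib.H01.Coprime
import Cfsg.Agent.Lib.H18.MinCover

set_option autoImplicit false
open Cfsg

namespace Cfsg.Agent.S3892


open Equiv Equiv.Perm

theorem false_of_pattern {H : Type*} [Group H] [Finite H] (hZ : Subgroup.center H = ⊥)
    {𝓐 : Finset (Subgroup H)} (h𝓐 : H18.IsMinCover 𝓐) {p : ℕ} [Fact p.Prime] (P : Sylow p H)
    (hcard : Nat.card (P : Subgroup H) ≤ p) (hab : IsMulCommutative ↥(P : Subgroup H))
    {M : Subgroup H} (hM : M ≠ ⊤)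
    (hCM : Subgroup.centralizer (((P : Subgroup H)) : Set H) ≤ M) {s : H} (hs : s ∈ M)
    (hsN : s ∉ Subgroup.normalizer (((P : Subgroup H)) : Set H)) : False := by
  have hnn : ¬ (P : Subgroup H).Normal := fun hn => hsN (by
    rw [Subgroup.normalizer_eq_top_iff.mpr hn]; trivial)
  obtain ⟨A, hA, hPA, hCA, hcoat, huniq, -⟩ := H18.mincover_main hZ h𝓐 P hab hnn (Or.inr hcard)
  rcases eq_top_or_exists_le_coatom M with h | ⟨M', hM', hle⟩
  · exact hM h
  · have := huniq M' hM' (hCM.trans hle)
    exact hsN (this ▸ hle hs)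

/-- A Sylow subgroup generated by an element of order `p` if `p² ∤ |H|`. -/
theorem exists_sylow_zpowers {H : Type*} [Group H] [Finite H] {p : ℕ} [Fact p.Prime] (x : H)
    (hx : orderOf x = p) (hd : ¬ p ^ 2 ∣ Nat.card H) :
    ∃ P : Sylow p H, (P : Subgroup H) = Subgroup.zpowers x := by
  have hp : p.Prime := Fact.out
  have h1 : p ∣ Nat.card H := hx ▸ orderOf_dvd_natCard x
  have hf : (Nat.card H).factorization p = 1 := by
    have h2 : 1 ≤ (Nat.card H).factorization p :=
      (hp.pow_dvd_iff_le_factorization Nat.card_pos.ne').mp (by simpa using h1)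
    have h3 : ¬ 2 ≤ (Nat.card H).factorization p := fun h =>
      hd ((hp.pow_dvd_iff_le_factorization Nat.card_pos.ne').mpr h)
    omega
  refine ⟨Sylow.ofCard (Subgroup.zpowers x) ?_, rfl⟩
  rw [hf, pow_one, Nat.card_zpowers, hx]

theorem center_bot_of {n : ℕ} {H : Type*} [Group H] (ι : H →* Perm (Fin n))
    (hι : Function.Injective ι) (hA : ∀ σ : Perm (Fin n), sign σ = 1 → σ ∈ ι.range) (hn : 4 ≤ n) :
    Subgroup.center H = ⊥ := by
  classical
  rw [eq_bot_iff]
  intro z hz
  rw [Subgroup.mem_bot]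
  by_contra hz1
  have hz' : ι z ≠ 1 := fun h => hz1 (hι (by rw [h, map_one]))
  obtain ⟨a, ha⟩ : ∃ a, (ι z) a ≠ a := by
    by_contra hcon
    push Not at hcon
    exact hz' (Equiv.ext hcon)
  set b := (ι z) a with hb
  -- two more points
  obtain ⟨d, he⟩ : ∃ d : Fin n, d ≠ a ∧ d ≠ b := by
    by_contra hcon
    push Not at hcon
    have hsub : (Finset.univ : Finset (Fin n)) ⊆ {a, b} := by
      intro x _
      by_cases hxa : x = a
      · simp [hxa]
      · simp [hcon x hxa]
    have := Finset.card_le_card hsub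
    rw [Finset.card_univ, Fintype.card_fin] at this
    have h2 : ({a, b} : Finset (Fin n)).card ≤ 2 := Finset.card_le_two
    omega
  obtain ⟨e, he'⟩ : ∃ e : Fin n, e ≠ a ∧ e ≠ b ∧ e ≠ d := by
    by_contra hcon
    push Not at hcon
    have hsub : (Finset.univ : Finset (Fin n)) ⊆ {a, b, d} := by
      intro x _
      by_cases hxa : x = a
      · simp [hxa]
      · by_cases hxb : x = b
        · simp [hxb]
        · simp [hcon x hxa hxb]
    have := Finset.card_le_card hsub
    rw [Finset.card_univ, Fintype.card_fin] at this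
    have h2 : ({a, b, d} : Finset (Fin n)).card ≤ 3 := Finset.card_le_three
    omega
  have hde : d ≠ e := he'.2.2.symm
  have hda : d ≠ a := he.1
  set t := swap a d * swap d e with ht
  have hts : sign t = 1 := by
    rw [ht, map_mul, sign_swap hda.symm, sign_swap hde]; simp
  obtain ⟨t', ht'⟩ := hA t hts
  have hcomm := (Subgroup.mem_center_iff.mp hz) t'
  have h1 := congrArg (fun w => ι w a) hcomm
  simp only [map_mul, ht', Perm.coe_mul, Function.comp_apply] at h1
  rw [← hb] at h1
  have htb : t b = b := by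
    rw [ht, Perm.coe_mul, Function.comp_apply,
      swap_apply_of_ne_of_ne he.2.symm he'.2.1.symm,
      swap_apply_of_ne_of_ne ha he.2.symm]
  have hta : t a = d := by
    rw [ht, Perm.coe_mul, Function.comp_apply,
      swap_apply_of_ne_of_ne hda.symm he'.1.symm, swap_apply_left]
  rw [htb, hta] at h1
  have h2 : (ι z) d = (ι z) a := h1.symm
  exact hda ((ι z).injective h2)

/-- The three-cycle `(a b d)` does not normalize the group generated by `c`. -/
theorem not_mem_zpowers_conj {α : Type*} [DecidableEq α] {p : ℕ} (hp : p.Prime) (c : Perm α)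
    (hc : orderOf c = p) {a b d e : α} (hab : a ≠ b) (hbd : b ≠ d) (had : a ≠ d) (hae : a ≠ e)
    (h1 : c a = b) (h2 : c b = d) (h3 : c d = e) :
    (swap a b * swap b d) * c * (swap a b * swap b d)⁻¹ ∉ Subgroup.zpowers c := by
  intro hmem
  obtain ⟨k, hk⟩ := Subgroup.mem_zpowers_iff.mp hmem
  set s := swap a b * swap b d with hs
  have hsa : s a = b := by
    rw [hs, Perm.coe_mul, Function.comp_apply, swap_apply_of_ne_of_ne hab had, swap_apply_left]
  have hsb : s b = d := by
    rw [hs, Perm.coe_mul, Function.comp_apply, swap_apply_left, swap_apply_of_ne_of_ne had.symm hbd.symm]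
  have hsd : s d = a := by
    rw [hs, Perm.coe_mul, Function.comp_apply, swap_apply_right, swap_apply_right]
  have hsinvb : s⁻¹ b = a := by rw [Perm.inv_eq_iff_eq]; exact hsa.symm
  have hsinvd : s⁻¹ d = b := by rw [Perm.inv_eq_iff_eq]; exact hsb.symm
  have hatb : (s * c * s⁻¹) b = d := by
    rw [Perm.coe_mul, Perm.coe_mul, Function.comp_apply, Function.comp_apply, hsinvb, h1, hsb]
  have hatd : (s * c * s⁻¹) d = a := by
    rw [Perm.coe_mul, Perm.coe_mul, Function.comp_apply, Function.comp_apply, hsinvd, h2, hsd]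
  rw [← hk] at hatb hatd
  -- c^(k-1) fixes b
  have hfix : (c ^ (k - 1)) b = b := by
    have : c ^ k = c * c ^ (k - 1) := by
      rw [← zpow_one_add]; congr 1; ring
    rw [this, Perm.coe_mul, Function.comp_apply, ← h2] at hatb
    exact c.injective hatb
  by_cases hj : (p : ℤ) ∣ k - 1
  · have hone : c ^ (k - 1) = 1 := by
      rw [← orderOf_dvd_iff_zpow_eq_one, hc]; exact hj
    have hck : c ^ k = c := by
      have : c ^ k = c * c ^ (k - 1) := by
        rw [← zpow_one_add]; congr 1; ring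
      rw [this, hone, mul_one]
    rw [hck, h3] at hatd
    exact hae hatd.symm
  · have hcop : IsCoprime (k - 1) (p : ℤ) := by
      have : IsCoprime (p : ℤ) (k - 1) := (Nat.prime_iff_prime_int.mp hp).coprime_iff_not_dvd.mpr hj
      exact this.symm
    obtain ⟨u, v, huv⟩ := hcop
    have hcc : c = (c ^ (k - 1)) ^ u := by
      have h4 : c ^ (p : ℤ) = 1 := by
        rw [zpow_natCast, ← hc, pow_orderOf_eq_one]
      calc c = c ^ ((1 : ℤ)) := (zpow_one c).symm
        _ = c ^ (u * (k - 1) + v * (p : ℤ)) := by rw [huv]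
        _ = (c ^ (k - 1)) ^ u * (c ^ (p : ℤ)) ^ v := by
          rw [zpow_add, mul_comm u, zpow_mul, mul_comm v, zpow_mul]
        _ = (c ^ (k - 1)) ^ u := by rw [h4, one_zpow, mul_one]
    have hfix2 : c b = b := by
      rw [hcc]
      exact zpow_apply_eq_self_of_apply_eq_self hfix u
    rw [h2] at hfix2
    exact hbd hfix2.symm

theorem not_sq_dvd_factorial {n p : ℕ} [Fact p.Prime] (h1 : p ≤ n) (h2 : n < 2 * p) :
    ¬ p ^ 2 ∣ n.factorial := by
  have hp : p.Prime := Fact.out
  have hval : padicValNat p n.factorial = 1 := by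
    have h3 : n = p * 1 + (n - p) := by omega
    rw [h3, padicValNat_factorial_mul_add 1 (by omega), padicValNat_factorial_mul]
    simp
  rw [padicValNat_dvd_iff_le (Nat.factorial_ne_zero n), hval]
  omega

/-- The main case: a prime `p` with `n/2 < p`, `p` at least five and `p < n`. -/
theorem general_large {n p : ℕ} [Fact p.Prime] {H : Type*} [Group H] [Finite H]
    (ι : H →* Perm (Fin n)) (hι : Function.Injective ι)
    (hA : ∀ σ : Perm (Fin n), sign σ = 1 → σ ∈ ι.range) (hp5 : 5 ≤ p) (hpn : p < n) (hpn2 : n < 2 * p)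
    (hZ : Subgroup.center H = ⊥) {𝓐 : Finset (Subgroup H)} (h𝓐 : H18.IsMinCover 𝓐) : False := by
  classical
  have hp : p.Prime := Fact.out
  have hodd : Odd p := hp.odd_of_ne_two (by omega)
  let l : List (Fin n) := (List.finRange p).map (Fin.castLE hpn.le)
  have hlen : l.length = p := by simp [l]
  have hnd : l.Nodup := (List.nodup_finRange p).map (Fin.castLE_injective _)
  have hget : ∀ i (hi : i < l.length), (l[i] : Fin n).val = i := by
    intro i hi
    simp [l]
  set c := List.formPerm l with hc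
  have hcyc : c.IsCycle := List.isCycle_formPerm hnd (by omega)
  have hsupp : c.support.card = p := by
    rw [hc, List.support_formPerm_of_nodup _ hnd, List.toFinset_card_of_nodup hnd, hlen]
    intro x hx
    rw [hx] at hlen
    simp at hlen
    omega
  have hco : orderOf c = p := by rw [hcyc.orderOf, hsupp]
  have hcs : sign c = 1 := by
    rw [hcyc.sign, hsupp, hodd.neg_one_pow]; simp
  have hlt : ∀ i, i < p → i < l.length := fun i hi => by omega
  let pt : ∀ i, i < p → Fin n := fun i hi => l[i]'(hlt i hi)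
  have hptv : ∀ i hi, (pt i hi).val = i := fun i hi => hget i _
  have hcpt : ∀ i (hi : i + 1 < p), c (pt i (by omega)) = pt (i + 1) hi := by
    intro i hi
    exact List.formPerm_apply_lt_getElem l hnd i (by omega)
  set a := pt 0 (by omega) with ha
  set b := pt 1 (by omega) with hb
  set d := pt 2 (by omega) with hd
  set e := pt 3 (by omega) with he
  have hav : a.val = 0 := hptv 0 (by omega)
  have hbv : b.val = 1 := hptv 1 (by omega)
  have hdv : d.val = 2 := hptv 2 (by omega)
  have hev : e.val = 3 := hptv 3 (by omega)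
  have h1 : c a = b := hcpt 0 (by omega)
  have h2 : c b = d := hcpt 1 (by omega)
  have h3 : c d = e := hcpt 2 (by omega)
  have hab : a ≠ b := fun h => by rw [h] at hav; omega
  have hbd : b ≠ d := fun h => by rw [h] at hbv; omega
  have had : a ≠ d := fun h => by rw [h] at hav; omega
  have hae : a ≠ e := fun h => by rw [h] at hav; omega
  have hde : d ≠ e := fun h => by rw [h] at hdv; omega
  -- a point outside
  let f : Fin n := ⟨p, hpn⟩
  have hcf : c f = f := by
    apply List.formPerm_apply_of_notMem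
    intro hmem
    obtain ⟨x, -, hx⟩ := List.mem_map.mp hmem
    have := congrArg Fin.val hx
    simp [f] at this
    omega
  have hfa : f ≠ a := fun h => by
    have := congrArg Fin.val h
    simp only [hav, f] at this
    omega
  have hfb : f ≠ b := fun h => by
    have := congrArg Fin.val h
    simp only [hbv, f] at this
    omega
  have hfd : f ≠ d := fun h => by
    have := congrArg Fin.val h
    simp only [hdv, f] at this
    omega
  -- lifts
  obtain ⟨c', hc'⟩ := hA c hcs
  set s := swap a b * swap b d with hs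
  have hss : sign s = 1 := by
    rw [hs, map_mul, sign_swap hab, sign_swap hbd]; simp
  obtain ⟨s', hs'⟩ := hA s hss
  set t := swap a f * swap f b with ht
  have hts : sign t = 1 := by
    rw [ht, map_mul, sign_swap hfa.symm, sign_swap hfb]; simp
  obtain ⟨t', ht'⟩ := hA t hts
  have hco' : orderOf c' = p := by
    rw [← hco, ← hc']
    exact (orderOf_injective ι hι c').symm
  -- card
  have hdvd : Nat.card H ∣ n.factorial := by
    have h4 : Nat.card H = Nat.card ι.range := Nat.card_congr (MonoidHom.ofInjective hι).toEquiv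
    rw [h4]
    have := Subgroup.card_subgroup_dvd_card ι.range
    rwa [Nat.card_eq_fintype_card (α := Perm (Fin n)), Fintype.card_perm, Fintype.card_fin] at this
  have hnd2 : ¬ p ^ 2 ∣ Nat.card H := fun h =>
    not_sq_dvd_factorial hpn.le hpn2 (h.trans hdvd)
  obtain ⟨P, hP⟩ := exists_sylow_zpowers c' hco' hnd2
  have hPcard : Nat.card (P : Subgroup H) = p := by
    rw [hP, Nat.card_zpowers, hco']
  have hab' : IsMulCommutative ↥(P : Subgroup H) := by
    haveI := isCyclic_of_prime_card hPcard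
    exact IsCyclic.isMulCommutative
  -- the set stabilizer
  let Y : Subgroup (Perm (Fin n)) :=
    { carrier := {g | ∀ x, c (g x) ≠ g x ↔ c x ≠ x}
      one_mem' := fun x => by simp
      mul_mem' := by
        intro g h hg hh x
        show c (g (h x)) ≠ g (h x) ↔ _
        rw [hg (h x), hh x]
      inv_mem' := by
        intro g hg x
        have := hg (g⁻¹ x)
        have hh : g (g⁻¹ x) = x := by simp
        rw [hh] at this
        exact this.symm }
  have hNY : Subgroup.normalizer (((P : Subgroup H)) : Set H) ≤ Y.comap ι := by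
    have key : ∀ g ∈ Subgroup.normalizer (((P : Subgroup H)) : Set H), ∀ x,
        c x ≠ x → c ((ι g) x) ≠ (ι g) x := by
      intro g hg x hx hfix
      have hmem : g * c' * g⁻¹ ∈ (P : Subgroup H) :=
        H01.conj_mem_of_mem_normalizer hg (by rw [hP]; exact Subgroup.mem_zpowers c')
      rw [hP] at hmem
      obtain ⟨k, hk⟩ := Subgroup.mem_zpowers_iff.mp hmem
      have h5 : (ι g) * c * (ι g)⁻¹ = c ^ k := by
        rw [← hc', ← map_zpow, hk, map_mul, map_mul, map_inv]
      have h6 := congrArg (fun w => w ((ι g) x)) h5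
      have hh : ((ι g)⁻¹) ((ι g) x) = x := by simp
      simp only [Perm.coe_mul, Function.comp_apply, hh] at h6
      rw [zpow_apply_eq_self_of_apply_eq_self hfix k] at h6
      exact hx ((ι g).injective h6)
    intro g hg x
    constructor
    · intro hgx
      have := key g⁻¹ (Subgroup.inv_mem _ hg) _ hgx
      simpa [map_inv] using this
    · exact key g hg x
  have hY : Y.comap ι ≠ ⊤ := by
    intro htop
    have h5 : t' ∈ Y.comap ι := htop ▸ Subgroup.mem_top t'
    have h6 := h5 a
    rw [ht'] at h6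
    have hta : t a = f := by
      rw [ht, Perm.coe_mul, Function.comp_apply, swap_apply_of_ne_of_ne hfa.symm hab, swap_apply_left]
    rw [hta] at h6
    apply (h6.mpr (by rw [h1]; exact hab.symm))
    exact hcf
  have hsY : s' ∈ Y.comap ι := by
    intro x
    rw [hs']
    have hsa : s a = b := by
      rw [hs, Perm.coe_mul, Function.comp_apply, swap_apply_of_ne_of_ne hab had, swap_apply_left]
    have hsb : s b = d := by
      rw [hs, Perm.coe_mul, Function.comp_apply, swap_apply_left, swap_apply_of_ne_of_ne had.symm hbd.symm]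
    have hsd : s d = a := by
      rw [hs, Perm.coe_mul, Function.comp_apply, swap_apply_right, swap_apply_right]
    by_cases hxa : x = a
    · rw [hxa, hsa, h1, h2]
      exact ⟨fun _ => hab.symm, fun _ => hbd.symm⟩
    by_cases hxb : x = b
    · rw [hxb, hsb, h2, h3]
      exact ⟨fun _ => hbd.symm, fun _ => hde.symm⟩
    by_cases hxd : x = d
    · rw [hxd, hsd, h1, h3]
      exact ⟨fun _ => hde.symm, fun _ => hab.symm⟩
    have hsx : s x = x := by
      rw [hs, Perm.coe_mul, Function.comp_apply, swap_apply_of_ne_of_ne hxb hxd,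
        swap_apply_of_ne_of_ne hxa hxb]
    rw [hsx]
  have hsN : s' ∉ Subgroup.normalizer (((P : Subgroup H)) : Set H) := by
    intro hn
    have hmem : s' * c' * s'⁻¹ ∈ (P : Subgroup H) :=
      H01.conj_mem_of_mem_normalizer hn (by rw [hP]; exact Subgroup.mem_zpowers c')
    rw [hP] at hmem
    obtain ⟨k, hk⟩ := Subgroup.mem_zpowers_iff.mp hmem
    have h5 : s * c * s⁻¹ = c ^ k := by
      rw [← hc', ← hs', ← map_zpow, hk, map_mul, map_mul, map_inv]
    apply not_mem_zpowers_conj hp c hco hab hbd had hae h1 h2 h3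
    rw [← hs, h5]
    exact Subgroup.zpow_mem_zpowers c k
  exact false_of_pattern hZ h𝓐 P hPcard.le hab' hY
    ((Subgroup.centralizer_le_normalizer _).trans hNY) hsY hsN

/-- For each `n ≥ 6` a suitable prime exists. -/
theorem exists_prime_large (n : ℕ) (hn : 6 ≤ n) : ∃ p : ℕ, p.Prime ∧ 5 ≤ p ∧ p < n ∧ n < 2 * p := by
  by_cases h8 : n ≤ 7
  · exact ⟨5, by norm_num, by omega, by omega, by omega⟩
  rcases Nat.even_or_odd' n with ⟨k, rfl | rfl⟩
  · obtain ⟨p, hp, h1, h2⟩ := Nat.exists_prime_lt_and_le_two_mul k (by omega)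
    refine ⟨p, hp, by omega, ?_, by omega⟩
    rcases h2.lt_or_eq with h | h
    · exact h
    · exfalso
      have : 2 ∣ p := ⟨k, h⟩
      have h3 := (Nat.prime_dvd_prime_iff_eq Nat.prime_two hp).mp this
      omega
  · obtain ⟨p, hp, h1, h2⟩ := Nat.exists_prime_lt_and_le_two_mul k (by omega)
    exact ⟨p, hp, by omega, by omega, by omega⟩

section Small

set_option maxRecDepth 100000 in
theorem dec_S4 : ∀ g : Perm (Fin 4), g * (swap 0 1 * swap 1 2) = (swap 0 1 * swap 1 2) * g → sign g = 1 := by decide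

set_option maxRecDepth 100000 in
theorem dec_A5 : ∀ g : Perm (Fin 5), g * (swap 0 1 * swap 1 2) = (swap 0 1 * swap 1 2) * g → sign g = 1 → g 4 = 4 := by decide

set_option maxRecDepth 100000 in
theorem dec_S5 : ∀ g : Perm (Fin 5), g * (swap 0 1 * swap 1 2 * swap 2 3 * swap 3 4) = (swap 0 1 * swap 1 2 * swap 2 3 * swap 3 4) * g → sign g = 1 := by decide

set_option maxRecDepth 100000 in
theorem dec_ord3_4 : orderOf (swap 0 1 * swap 1 2 : Perm (Fin 4)) = 3 := by
  haveI : Fact (Nat.Prime 3) := ⟨by norm_num⟩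
  apply orderOf_eq_prime
  · decide
  · decide

set_option maxRecDepth 100000 in
theorem dec_ord3_5 : orderOf (swap 0 1 * swap 1 2 : Perm (Fin 5)) = 3 := by
  haveI : Fact (Nat.Prime 3) := ⟨by norm_num⟩
  apply orderOf_eq_prime
  · decide
  · decide

set_option maxRecDepth 100000 in
theorem dec_ord5_5 : orderOf (swap 0 1 * swap 1 2 * swap 2 3 * swap 3 4 : Perm (Fin 5)) = 5 := by
  haveI : Fact (Nat.Prime 5) := ⟨by norm_num⟩
  apply orderOf_eq_prime
  · decide
  · decide

theorem false_case_S4 (hZ : Subgroup.center (Perm (Fin 4)) = ⊥) {𝓐 : Finset (Subgroup (Perm (Fin 4)))}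
    (h𝓐 : H18.IsMinCover 𝓐) : False := by
  classical
  haveI : Fact (Nat.Prime 3) := ⟨by norm_num⟩
  set c : Perm (Fin 4) := swap 0 1 * swap 1 2 with hc
  obtain ⟨P, hP⟩ := exists_sylow_zpowers (p := 3) c dec_ord3_4 (by
    rw [Nat.card_eq_fintype_card, Fintype.card_perm, Fintype.card_fin]; decide)
  have hPcard : Nat.card (P : Subgroup (Perm (Fin 4))) = 3 := by
    rw [hP, Nat.card_zpowers, dec_ord3_4]
  have hab' : IsMulCommutative ↥(P : Subgroup (Perm (Fin 4))) := by
    haveI := isCyclic_of_prime_card hPcard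
    exact IsCyclic.isMulCommutative
  refine false_of_pattern hZ h𝓐 P hPcard.le hab' (M := alternatingGroup (Fin 4)) (s := swap 0 1 * swap 1 3) ?_ ?_ ?_ ?_
  · intro h
    have : (swap 0 1 : Perm (Fin 4)) ∈ alternatingGroup (Fin 4) := h ▸ Subgroup.mem_top _
    rw [Equiv.Perm.mem_alternatingGroup] at this
    exact absurd this (by decide)
  · intro g hg
    rw [Equiv.Perm.mem_alternatingGroup]
    apply dec_S4
    rw [Subgroup.mem_centralizer_iff] at hg
    exact (hg c (by rw [hP]; exact Subgroup.mem_zpowers c)).symm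
  · rw [Equiv.Perm.mem_alternatingGroup]
    decide
  · intro hn
    have hmem : (swap 0 1 * swap 1 3) * c * (swap 0 1 * swap 1 3)⁻¹ ∈ (P : Subgroup (Perm (Fin 4))) :=
      H01.conj_mem_of_mem_normalizer hn (by rw [hP]; exact Subgroup.mem_zpowers c)
    rw [hP] at hmem
    obtain ⟨k, hk⟩ := Subgroup.mem_zpowers_iff.mp hmem
    have h3 : c (3 : Fin 4) = 3 := by decide
    have h4 : (c ^ k) (3 : Fin 4) = 3 := zpow_apply_eq_self_of_apply_eq_self h3 k
    rw [hk] at h4
    revert h4
    decide

theorem false_case_S5 (hZ : Subgroup.center (Perm (Fin 5)) = ⊥) {𝓐 : Finset (Subgroup (Perm (Fin 5)))}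
    (h𝓐 : H18.IsMinCover 𝓐) : False := by
  classical
  haveI : Fact (Nat.Prime 5) := ⟨by norm_num⟩
  set c : Perm (Fin 5) := swap 0 1 * swap 1 2 * swap 2 3 * swap 3 4 with hc
  have hcard : Nat.card (Perm (Fin 5)) = 120 := by
    rw [Nat.card_eq_fintype_card, Fintype.card_perm, Fintype.card_fin]; rfl
  obtain ⟨P, hP⟩ := exists_sylow_zpowers (p := 5) c dec_ord5_5 (by rw [hcard]; decide)
  have hPcard : Nat.card (P : Subgroup (Perm (Fin 5))) = 5 := by
    rw [hP, Nat.card_zpowers, dec_ord5_5]
  have hab' : IsMulCommutative ↥(P : Subgroup (Perm (Fin 5))) := by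
    haveI := isCyclic_of_prime_card hPcard
    exact IsCyclic.isMulCommutative
  refine false_of_pattern hZ h𝓐 P hPcard.le hab' (M := alternatingGroup (Fin 5)) (s := swap 0 1 * swap 1 2) ?_ ?_ ?_ ?_
  · intro h
    have : (swap 0 1 : Perm (Fin 5)) ∈ alternatingGroup (Fin 5) := h ▸ Subgroup.mem_top _
    rw [Equiv.Perm.mem_alternatingGroup] at this
    exact absurd this (by decide)
  · intro g hg
    rw [Equiv.Perm.mem_alternatingGroup]
    apply dec_S5
    rw [Subgroup.mem_centralizer_iff] at hg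
    exact (hg c (by rw [hP]; exact Subgroup.mem_zpowers c)).symm
  · rw [Equiv.Perm.mem_alternatingGroup]
    decide
  · intro hn
    have hmem : (swap 0 1 * swap 1 2) * c * (swap 0 1 * swap 1 2)⁻¹ ∈ (P : Subgroup (Perm (Fin 5))) :=
      H01.conj_mem_of_mem_normalizer hn (by rw [hP]; exact Subgroup.mem_zpowers c)
    rw [hP] at hmem
    exact not_mem_zpowers_conj (p := 5) (by norm_num) c dec_ord5_5 (a := 0) (b := 1) (d := 2) (e := 3)
      (by decide) (by decide) (by decide) (by decide) (by decide) (by decide) (by decide) hmem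

theorem false_case_A5 (hZ : Subgroup.center ↥(alternatingGroup (Fin 5)) = ⊥)
    {𝓐 : Finset (Subgroup ↥(alternatingGroup (Fin 5)))} (h𝓐 : H18.IsMinCover 𝓐) : False := by
  classical
  haveI : Fact (Nat.Prime 3) := ⟨by norm_num⟩
  set c : Perm (Fin 5) := swap 0 1 * swap 1 2 with hc
  have hcs : c ∈ alternatingGroup (Fin 5) := by
    rw [Equiv.Perm.mem_alternatingGroup]; decide
  let c' : ↥(alternatingGroup (Fin 5)) := ⟨c, hcs⟩
  have hco : orderOf c' = 3 := by
    rw [Subgroup.orderOf_mk]; exact dec_ord3_5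
  have hcard : Nat.card (Perm (Fin 5)) = 120 := by
    rw [Nat.card_eq_fintype_card, Fintype.card_perm, Fintype.card_fin]; rfl
  obtain ⟨P, hP⟩ := exists_sylow_zpowers (p := 3) c' hco (by
    intro h
    have h1 := h.trans (Subgroup.card_subgroup_dvd_card (alternatingGroup (Fin 5)))
    rw [hcard] at h1
    revert h1
    decide)
  have hPcard : Nat.card (P : Subgroup ↥(alternatingGroup (Fin 5))) = 3 := by
    rw [hP, Nat.card_zpowers, hco]
  have hab' : IsMulCommutative ↥(P : Subgroup ↥(alternatingGroup (Fin 5))) := by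
    haveI := isCyclic_of_prime_card hPcard
    exact IsCyclic.isMulCommutative
  -- the stabilizer of `4`
  let M : Subgroup ↥(alternatingGroup (Fin 5)) :=
    { carrier := {g | (g : Perm (Fin 5)) 4 = 4}
      one_mem' := rfl
      mul_mem' := by
        intro a b ha hb
        show (a : Perm (Fin 5)) ((b : Perm (Fin 5)) 4) = 4
        rw [hb, ha]
      inv_mem' := by
        intro a ha
        show ((a : Perm (Fin 5)))⁻¹ 4 = 4
        rw [Perm.inv_eq_iff_eq]
        exact ha.symm }
  have hs : (swap 0 1 * swap 1 3 : Perm (Fin 5)) ∈ alternatingGroup (Fin 5) := by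
    rw [Equiv.Perm.mem_alternatingGroup]; decide
  let s' : ↥(alternatingGroup (Fin 5)) := ⟨_, hs⟩
  refine false_of_pattern hZ h𝓐 P hPcard.le hab' (M := M) (s := s') ?_ ?_ ?_ ?_
  · intro h
    have hs2 : (swap 0 4 * swap 4 1 : Perm (Fin 5)) ∈ alternatingGroup (Fin 5) := by
      rw [Equiv.Perm.mem_alternatingGroup]; decide
    have : (⟨_, hs2⟩ : ↥(alternatingGroup (Fin 5))) ∈ M := h ▸ Subgroup.mem_top _
    revert this
    show (swap 0 4 * swap 4 1 : Perm (Fin 5)) 4 = 4 → False
    decide
  · intro g hg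
    rw [Subgroup.mem_centralizer_iff] at hg
    have h1 := hg c' (by rw [hP]; exact Subgroup.mem_zpowers c')
    have h2 := congrArg Subtype.val h1
    exact dec_A5 g h2.symm (Equiv.Perm.mem_alternatingGroup.mp g.2)
  · show (swap 0 1 * swap 1 3 : Perm (Fin 5)) 4 = 4
    decide
  · intro hn
    have hmem : s' * c' * s'⁻¹ ∈ (P : Subgroup ↥(alternatingGroup (Fin 5))) :=
      H01.conj_mem_of_mem_normalizer hn (by rw [hP]; exact Subgroup.mem_zpowers c')
    rw [hP] at hmem
    obtain ⟨k, hk⟩ := Subgroup.mem_zpowers_iff.mp hmem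
    have h3 : c (3 : Fin 5) = 3 := by decide
    have h4 : (c ^ k) (3 : Fin 5) = 3 := zpow_apply_eq_self_of_apply_eq_self h3 k
    have h5 : c ^ k = (swap 0 1 * swap 1 3) * c * (swap 0 1 * swap 1 3)⁻¹ := by
      have := congrArg Subtype.val hk
      simpa [c', s'] using this
    rw [h5] at h4
    revert h4
    decide

end Small


/-- A cover of a group is a finite set of proper subgroups whose union is the whole group; it is minimal when no cover has fewer members, and nilpotent when all its members are nilpotent. The alternating groups of degree at least 5 and the symmetric groups of degree at least 4 have no nilpotent minimal cover. -/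
theorem result (n : ℕ) :
    (5 ≤ n → ¬ ∃ 𝓐 : Finset (Subgroup ↥(alternatingGroup (Fin n))), ((∀ A ∈ 𝓐, A ≠ ⊤) ∧ (∀ g : ↥(alternatingGroup (Fin n)), ∃ A ∈ 𝓐, g ∈ A)) ∧ (∀ 𝓑 : Finset (Subgroup ↥(alternatingGroup (Fin n))), (∀ A ∈ 𝓑, A ≠ ⊤) ∧ (∀ g : ↥(alternatingGroup (Fin n)), ∃ A ∈ 𝓑, g ∈ A) → 𝓐.card ≤ 𝓑.card) ∧ (∀ A ∈ 𝓐, Group.IsNilpotent ↥A)) ∧
    (4 ≤ n → ¬ ∃ 𝓐 : Finset (Subgroup (Equiv.Perm (Fin n))), ((∀ A ∈ 𝓐, A ≠ ⊤) ∧ (∀ g : (Equiv.Perm (Fin n)), ∃ A ∈ 𝓐, g ∈ A)) ∧ (∀ 𝓑 : Finset (Subgroup (Equiv.Perm (Fin n))), (∀ A ∈ 𝓑, A ≠ ⊤) ∧ (∀ g : (Equiv.Perm (Fin n)), ∃ A ∈ 𝓑, g ∈ A) → 𝓐.card ≤ 𝓑.card) ∧ (∀ A ∈ 𝓐, Group.IsNilpotent ↥A)) := by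
  classical
constructor
· rintro hn ⟨𝓐, h1, h2, h3⟩
  have h𝓐 : H18.IsMinCover 𝓐 := ⟨h1, h2, h3⟩
  let ι : ↥(alternatingGroup (Fin n)) →* Perm (Fin n) := (alternatingGroup (Fin n)).subtype
  have hι : Function.Injective ι := Subgroup.subtype_injective _
  have hA : ∀ σ : Perm (Fin n), sign σ = 1 → σ ∈ ι.range := by
    intro σ hσ
    exact ⟨⟨σ, Equiv.Perm.mem_alternatingGroup.mpr hσ⟩, rfl⟩
  have hZ := center_bot_of ι hι hA (by omega)
  by_cases h6 : 6 ≤ n
  · obtain ⟨p, hp, h5, hlt, hlt2⟩ := exists_prime_large n h6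
    haveI : Fact p.Prime := ⟨hp⟩
    exact general_large ι hι hA h5 hlt hlt2 hZ h𝓐
  · -- A₅
    have hn5 : n = 5 := by omega
    subst hn5
    exact false_case_A5 hZ h𝓐
· rintro hn ⟨𝓐, h1, h2, h3⟩
  have h𝓐 : H18.IsMinCover 𝓐 := ⟨h1, h2, h3⟩
  let ι : Perm (Fin n) →* Perm (Fin n) := MonoidHom.id _
  have hι : Function.Injective ι := Function.injective_id
  have hA : ∀ σ : Perm (Fin n), sign σ = 1 → σ ∈ ι.range := fun σ _ => ⟨σ, rfl⟩
  have hZ := center_bot_of ι hι hA hn
  by_cases h6 : 6 ≤ n
  · obtain ⟨p, hp, h5, hlt, hlt2⟩ := exists_prime_large n h6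
    haveI : Fact p.Prime := ⟨hp⟩
    exact general_large ι hι hA h5 hlt hlt2 hZ h𝓐
  · have hn5 : n = 4 ∨ n = 5 := by omega
    rcases hn5 with rfl | rfl
    · exact false_case_S4 hZ h𝓐
    · exact false_case_S5 hZ h𝓐

end Cfsg.Agent.S3892
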