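import Mathlib
import Cfsg.Statements.S3893
import Cfsg.Agent.Lib.H10.SzEl

set_option autoImplicit false

open Cfsg

namespace Cfsg.Agent.S3893

theorem result {F : Type*} [Field F] [Fintype F] (m : ℕ) (hm : 1 ≤ m) (hF : Fintype.card F = 2 ^ (2 * m + 1)) :
    ¬ ∃ 𝓐 : Finset (Subgroup ↥(Cfsg.Lie.Sz F (2 ^ (m + 1)))), ((∀ A ∈ 𝓐, A ≠ ⊤) ∧ (∀ g : ↥(Cfsg.Lie.Sz F (2 ^ (m + 1))), ∃ A ∈ 𝓐, g ∈ A)) ∧ (∀ 𝓑 : Finset (Subgroup ↥(Cfsg.Lie.Sz F (2 ^ (m + 1)))), (∀ A ∈ 𝓑, A ≠ ⊤) ∧ (∀ g : ↥(Cfsg.Lie.Sz F (2 ^ (m + 1))), ∃ A ∈ 𝓑, g ∈ A) → 𝓐.card ≤ 𝓑.card) ∧ (∀ A ∈ 𝓐, Group.IsNilpotent ↥A) := by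
  rintro ⟨𝓐, ⟨-, hcov⟩, hmin, hnil⟩
  classical
  haveI := H10.sz_charP hF
  set e := H10.szEquiv hm hF with he
  apply H10.no_nilpotent_min_cover hm hF (𝓐.image (Subgroup.comap e.toMonoidHom))
  · intro g
    obtain ⟨A, hA, hgA⟩ := hcov (e g)
    exact ⟨A.comap e.toMonoidHom, Finset.mem_image_of_mem _ hA, hgA⟩
  · intro 𝓑 ⟨hB1, hB2⟩
    have h1 := hmin (𝓑.image (Subgroup.map e.toMonoidHom)) ⟨by
        intro A hA
        obtain ⟨B, hB, rfl⟩ := Finset.mem_image.1 hA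
        intro h
        apply hB1 B hB
        rw [eq_top_iff]
        intro x _
        have : e x ∈ B.map e.toMonoidHom := by rw [h]; trivial
        obtain ⟨y, hy, hy'⟩ := this
        have : y = x := e.injective hy'
        rwa [← this], by
        intro g
        obtain ⟨B, hB, hgB⟩ := hB2 (e.symm g)
        refine ⟨B.map e.toMonoidHom, Finset.mem_image_of_mem _ hB, e.symm g, hgB, ?_⟩
        simp⟩
    exact (Finset.card_image_le).trans (h1.trans Finset.card_image_le)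
  · intro A hA
    obtain ⟨B, hB, rfl⟩ := Finset.mem_image.1 hA
    haveI := hnil B hB
    exact Group.nilpotent_of_mulEquiv (MulEquiv.ofBijective (e.toMonoidHom.subgroupComap B) ⟨by
      intro x y hxy
      apply Subtype.ext
      apply e.injective
      exact congrArg Subtype.val hxy, by
      rintro ⟨y, hy⟩
      refine ⟨⟨e.symm y, by simpa using hy⟩, ?_⟩
      apply Subtype.ext
      exact e.apply_symm_apply y⟩).symm

end Cfsg.Agent.S3893
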