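import Cfsg.Statements.S3946
import Cfsg.Agent.Lib.H26.Kegel
import Mathlib

set_option autoImplicit false
set_option linter.unusedVariables false

open Cfsg

namespace Cfsg.Agent.S3946

/-- Call an automorphism α of order n of a group G splitting when x · α(x) · α²(x) ⋯ α^(n−1)(x) = 1 for every x ∈ G. A finite group admitting a splitting automorphism of prime order is nilpotent (this contains the case of a fixed-point-free automorphism of prime order). -/
theorem result {G : Type*} [Group G] [Finite G] (α : MulAut G) (hp : (orderOf α).Prime)
    (hsplit : ∀ x : G, (((List.range (orderOf α)).map (fun i : ℕ => (α ^ i) x)).prod = 1)) : Group.IsNilpotent G := by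
  have h2 : ∀ (n : ℕ) (x : G), (α ^ n) x = (α.toMonoidHom)^[n] x := by
    intro n
    induction n with
    | zero => intro x; rfl
    | succ n ih =>
      intro x
      rw [pow_succ', MulAut.mul_apply, ih, Function.iterate_succ_apply']
      rfl
  refine Cfsg.Agent.H26.Kegel.nilpotent_of_split hp _ G α.toMonoidHom rfl ⟨?_, ?_⟩
  · funext x
    rw [← h2, pow_orderOf_eq_one]
    rfl
  · intro x
    have := hsplit x
    simp only [h2] at this
    exact this

end Cfsg.Agent.S3946
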