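import Cfsg.Statements.S4001
import Mathlib
import Cfsg.Agent.Lib.H20.Frob
import Cfsg.Agent.Lib.H14.UniqueSub
import Cfsg.Agent.Lib.H18.Sq7
import Cfsg.Agent.Lib.H01.Hall
import Cfsg.Agent.Lib.H19.AbelianSylow
import Cfsg.Agent.Lib.H08.NilCoprime
import Cfsg.Agent.Lib.H17.PrimeGraph
import Cfsg.Agent.Lib.H22.Codegree
import Cfsg.Agent.Lib.H26.FrobAct
import Cfsg.Agent.S3857

set_option autoImplicit false
open Cfsg

namespace Cfsg.Agent.S4001


set_option linter.unusedSectionVars false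
set_option linter.style.haveILetI false

universe u

open scoped Pointwise commutatorElement

theorem frob_facts {X : Type*} [Group X] [Finite X] (N C : Subgroup X)
    (hC : Cfsg.IsFrobeniusComplement C) (hker : Cfsg.frobeniusKernel C = (N : Set X)) :
    N.Normal ∧ Group.IsNilpotent N ∧ (∀ r ∈ C, r ≠ 1 → ∀ z ∈ N, z * r = r * z → z = 1) ∧
    (∀ x ∈ N, x ≠ 1 → ∀ y : X, x * y = y * x → y ∈ N) ∧
    Nat.card N * Nat.card C = Nat.card X ∧ Nat.Coprime (Nat.card N) (Nat.card C) ∧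
    N ≠ ⊥ ∧ (∀ x ∈ N, x ∈ C → x = 1) ∧ (∀ x : X, ∃ n ∈ N, ∃ c ∈ C, x = n * c) := by
  obtain ⟨N₁, hN₁, hn, hc, hnil, hfree⟩ := H26.FrobAct.frob_data C hC
  have hN : N₁ = N := SetLike.coe_injective (hN₁.trans hker)
  subst hN
  have hcard := hc.card_mul_card
  refine ⟨hn, hnil, hfree, ?_, hcard, ?_, ?_, ?_, ?_⟩
  · intro x hx hx1 y hxy
    by_contra hy
    have hy2 : y ∉ Cfsg.frobeniusKernel C := by
      rw [hker]
      exact hy
    have hy3 : ¬ (y = 1 ∨ ∀ g : X, y ∉ MulAut.conj g • C) := hy2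
    push Not at hy3
    obtain ⟨hy1, g, hg⟩ := hy3
    have hr : g⁻¹ * y * g ∈ C := (H20.mem_conj_smul_iff C g y).1 hg
    have hr1 : g⁻¹ * y * g ≠ 1 := by
      intro h
      apply hy1
      have : y = g * (g⁻¹ * y * g) * g⁻¹ := by group
      rw [this, h]
      group
    have hz : g⁻¹ * x * g ∈ N₁ := by
      have := hn.conj_mem x hx g⁻¹
      simpa using this
    have := hfree _ hr hr1 _ hz (by
      calc g⁻¹ * x * g * (g⁻¹ * y * g) = g⁻¹ * (x * y) * g := by group
        _ = g⁻¹ * (y * x) * g := by rw [hxy]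
        _ = g⁻¹ * y * g * (g⁻¹ * x * g) := by group)
    apply hx1
    have h2 : x = g * (g⁻¹ * x * g) * g⁻¹ := by group
    rw [h2, this]
    group
  · by_contra hnc
    obtain ⟨r, hr, hr1, hr2⟩ := Nat.Prime.not_coprime_iff_dvd.1 hnc
    haveI := Fact.mk hr
    obtain ⟨c, hco⟩ := exists_prime_orderOf_dvd_card' r hr2
    have hco' : orderOf (c : X) = r ^ 1 := by
      rw [Subgroup.orderOf_coe, hco, pow_one]
    have hA : IsPGroup r (Subgroup.zpowers (c : X)) := H19.isPGroup_zpowers_of_orderOf hco'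
    have hAN : Subgroup.zpowers (c : X) ≤ Subgroup.normalizer (N₁ : Set X) := by
      rw [@Subgroup.normalizer_eq_top _ _ N₁ hn]
      exact le_top
    have hmod := H19.card_modEq_inf_centralizer hA hAN
    have hbot : N₁ ⊓ Subgroup.centralizer ((Subgroup.zpowers (c : X) : Subgroup X) : Set X) = ⊥ := by
      rw [eq_bot_iff]
      rintro z ⟨hz, hzc⟩
      have hzc' : z * (c : X) = c * z := by
        have := Subgroup.mem_centralizer_iff.1 hzc (c : X) (Subgroup.mem_zpowers _)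
        exact this.symm
      have hc1 : (c : X) ≠ 1 := by
        intro h
        rw [h, orderOf_one] at hco'
        have := hr.one_lt
        rw [pow_one] at hco'
        omega
      exact Subgroup.mem_bot.2 (hfree _ c.2 hc1 z hz hzc')
    rw [hbot, Subgroup.card_bot] at hmod
    have h1 : r ∣ 1 := by
      have := (Nat.ModEq.dvd_iff hmod (dvd_refl r)).1 hr1
      exact this
    exact hr.one_lt.ne' (Nat.dvd_one.1 h1)
  · rintro rfl
    apply hC.2.1
    have h1 : Nat.card C = Nat.card X := by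
      simpa using hcard
    exact Subgroup.eq_top_of_card_eq C h1
  · intro x hx hx'
    have := Subgroup.disjoint_def.1 hc.disjoint hx hx'
    exact this
  · intro x
    obtain ⟨⟨n, c⟩, h⟩ := hc.2 x
    exact ⟨n, n.2, c, c.2, h.symm⟩

theorem mixed {G : Type*} [Group G] [Finite G] (H : Subgroup G) [hHn : H.Normal]
    (hHnil : Group.IsNilpotent H) (N' C' : Subgroup (G ⧸ H)) [hN' : N'.Normal]
    (hfree' : ∀ r ∈ C', r ≠ 1 → ∀ z ∈ N', z * r = r * z → z = 1)
    (hcop : Nat.Coprime (Nat.card N') (Nat.card H))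
    (c₀ : G) (hc₀N : QuotientGroup.mk' H c₀ ∈ N') (hc₀free : ∀ z ∈ H, z * c₀ = c₀ * z → z = 1)
    (p q : ℕ) (hp : p.Prime) (hq : q.Prime) (hpq : p ≠ q) (hpH : p ∣ Nat.card H)
    (r : G ⧸ H) (hr : r ∈ C') (hro : orderOf r = q) : ∃ g : G, orderOf g = p * q := by
  classical
  haveI := Fact.mk hp
  haveI : (Subgroup.center H).Characteristic := inferInstance
  set V : Subgroup G := (Subgroup.center H).map H.subtype with hV
  haveI hVn : V.Normal := inferInstance
  have hVH : V ≤ H := Subgroup.map_subtype_le _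
  have hVc : ∀ a b : V, a * b = b * a := by
    rintro ⟨_, a, ha, rfl⟩ ⟨_, b, hb, rfl⟩
    apply Subtype.ext
    show (a : G) * b = b * a
    have := (Subgroup.mem_center_iff.mp ha) b
    exact (congrArg Subtype.val this).symm
  have hVcomm : ∀ (v : V) (h : G), h ∈ H → h * v = v * h := by
    rintro ⟨_, a, ha, rfl⟩ h hh
    have := (Subgroup.mem_center_iff.mp ha) ⟨h, hh⟩
    exact congrArg Subtype.val this
  -- an element of order p in V
  obtain ⟨x₀, hx₀⟩ : ∃ x₀ : V, orderOf x₀ = p := by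
    obtain ⟨P⟩ : Nonempty (Sylow p H) := inferInstance
    haveI hPn : (P : Subgroup H).Normal :=
      Sylow.normal_of_normalizerCondition (fun K h => Group.normalizerCondition_of_isNilpotent K h) P
    obtain ⟨y, hy⟩ := exists_prime_orderOf_dvd_card' p hpH
    have hyP : y ∈ (P : Subgroup H) := H19.mem_sylow_of_normal (k := 1) (by simpa using hy) P hPn
    have hP1 : (P : Subgroup H) ≠ ⊥ := by
      intro h
      rw [h, Subgroup.mem_bot] at hyP
      rw [hyP, orderOf_one] at hy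
      exact hp.one_lt.ne hy
    obtain ⟨z, hzP, hz1, hzc⟩ := H18.exists_mem_normal_center (P : Subgroup H) hP1
    obtain ⟨k, hk⟩ := IsPGroup.iff_orderOf.1 P.isPGroup' ⟨z, hzP⟩
    rw [Subgroup.orderOf_mk] at hk
    have hpd : p ∣ orderOf z := by
      rw [hk]
      rcases k with _ | k
      · simp only [pow_zero, orderOf_eq_one_iff] at hk
        exact absurd hk hz1
      · exact dvd_pow_self p (by omega)
    have hord := orderOf_pow_orderOf_div (orderOf_pos z).ne' hpd
    set w := z ^ (orderOf z / p) with hw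
    have hwc : w ∈ Subgroup.center H := Subgroup.pow_mem _ hzc _
    refine ⟨⟨(w : G), ⟨w, hwc, rfl⟩⟩, ?_⟩
    rw [← Subgroup.orderOf_coe]
    show orderOf (w : G) = p
    rw [Subgroup.orderOf_coe, hord]
  have hx₀1 : x₀ ≠ 1 := by
    intro h
    rw [h, orderOf_one] at hx₀
    exact hp.one_lt.ne hx₀
  letI iV : CommGroup V := { (inferInstance : Group V) with mul_comm := hVc }
  let ρ₀ : G →* MulAut V := MulAut.conjNormal
  have hρ₀ : ∀ g : G, ∀ v : V, ((ρ₀ g v : V) : G) = g * v * g⁻¹ := fun g v => MulAut.conjNormal_apply g v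
  have hker : H ≤ ρ₀.ker := by
    intro h hh
    rw [MonoidHom.mem_ker]
    ext v
    show ((ρ₀ h v : V) : G) = v
    rw [hρ₀, hVcomm v h hh]
    group
  let ρ : G ⧸ H →* MulAut V := QuotientGroup.lift H ρ₀ hker
  have hρ : ∀ g : G, ∀ v : V, ((ρ (QuotientGroup.mk' H g) v : V) : G) = g * v * g⁻¹ := fun g v => by
    show ((ρ₀ g v : V) : G) = _
    exact hρ₀ g v
  let U : Subgroup V := (powMonoidHom p : V →* V).ker
  have hU : ∀ a : G ⧸ H, ∀ y ∈ U, ρ a y ∈ U := by
    intro a y hy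
    rw [MonoidHom.mem_ker] at hy ⊢
    show (ρ a y) ^ p = 1
    have hy' : y ^ p = 1 := hy
    rw [← map_pow, hy', map_one]
  haveI : Fintype N' := Fintype.ofFinite _
  haveI : Fintype C' := Fintype.ofFinite _
  have hx₀U : x₀ ∈ U := by
    rw [MonoidHom.mem_ker]
    show x₀ ^ p = 1
    rw [← hx₀]
    exact pow_orderOf_eq_one x₀
  have hcop' : (Nat.card N').Coprime (Nat.card V) :=
    Nat.Coprime.coprime_dvd_right (Subgroup.card_dvd_of_le hVH) hcop
  obtain ⟨c, hcU, hcfix, hc1⟩ := H26.FrobAct.exists_fix_ne_one ρ N' C'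
    (fun r _ z hz => hN'.conj_mem z hz r) hfree' U (fun a _ y hy => hU a y hy) (fun a _ y hy => hU a y hy)
    (fun x hxU hxfix => by
      have h1 := hxfix _ hc₀N
      have h2 := hρ c₀ x
      rw [h1] at h2
      have h3 : (x : G) * c₀ = c₀ * x := by
        calc (x : G) * c₀ = c₀ * x * c₀⁻¹ * c₀ := by rw [← h2]
          _ = c₀ * x := by group
      exact Subtype.ext (hc₀free (x : G) (hVH x.2) h3))
    hcop' hx₀U hx₀1
  have hcord : orderOf (c : G) = p := by
    rw [Subgroup.orderOf_coe]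
    apply orderOf_eq_prime _ hc1
    exact hcU
  obtain ⟨g, rfl⟩ := QuotientGroup.mk'_surjective H r
  have hgfix := hcfix _ hr
  have hgc : g * (c : G) = c * g := by
    have h2 := hρ g c
    rw [hgfix] at h2
    calc g * (c : G) = g * c * g⁻¹ * g := by group
      _ = c * g := by rw [← h2]
  have hqd : q ∣ orderOf g := by
    rw [← hro]
    exact orderOf_map_dvd _ _
  have hg₁ := orderOf_pow_orderOf_div (orderOf_pos g).ne' hqd
  refine H17.exists_orderOf_mul_of_commute hp hq hpq hcord hg₁ ?_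
  have hcm : Commute (c : G) g := hgc.symm
  exact (hcm.pow_right _)


/-- Let G be a 2-Frobenius group: it has normal subgroups H < K with K a Frobenius group with kernel H and G/H a Frobenius group with kernel K/H. Then G is solvable; K/H has odd order coprime to the order of H and to the order of G/K (it is the image of an odd-order Hall subgroup); G/K is cyclic; and the prime graph of G has exactly two connected components, both complete: for distinct primes p, q dividing the order of G, G has an element of order pq exactly when p and q either both divide the order of K/H or both do not. -/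
theorem result {G : Type*} [Group G] [Finite G] (H K : Subgroup G) [H.Normal] [K.Normal] (hlt : H < K)
    (hK : ∃ C : Subgroup ↥K, Cfsg.IsFrobeniusComplement C ∧ Cfsg.frobeniusKernel C = (H.subgroupOf K : Set ↥K))
    (hGH : ∃ C : Subgroup (G ⧸ H), Cfsg.IsFrobeniusComplement C ∧ Cfsg.frobeniusKernel C = (K.map (QuotientGroup.mk' H) : Set (G ⧸ H))) :
    Group.IsSolvable G ∧ Odd (Nat.card (↥K ⧸ H.subgroupOf K)) ∧
      Nat.Coprime (Nat.card (↥K ⧸ H.subgroupOf K)) (Nat.card ↥H * Nat.card (G ⧸ K)) ∧ IsCyclic (G ⧸ K) ∧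
      ∀ p q : ℕ, p.Prime → q.Prime → p ≠ q → p ∣ Nat.card G → q ∣ Nat.card G →
        ((∃ g : G, orderOf g = p * q) ↔ (p ∣ Nat.card (↥K ⧸ H.subgroupOf K) ↔ q ∣ Nat.card (↥K ⧸ H.subgroupOf K))) := by
  classical
obtain ⟨C₀, hC₀, hker₀⟩ := hK
obtain ⟨C', hC', hker'⟩ := hGH
have hle : H ≤ K := hlt.le
obtain ⟨hN₁n, hN₁nil, hN₁free, hN₁cent, hN₁card, hN₁cop, hN₁bot, hN₁inf, hN₁dec⟩ :=
  frob_facts (H.subgroupOf K) C₀ hC₀ hker₀
obtain ⟨hN'n, hN'nil, hN'free, hN'cent, hN'card, hN'cop, hN'bot, hN'inf, hN'dec⟩ :=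
  frob_facts (K.map (QuotientGroup.mk' H)) C' hC' hker'
set N' : Subgroup (G ⧸ H) := K.map (QuotientGroup.mk' H) with hN'def
set π : G →* G ⧸ H := QuotientGroup.mk' H with hπ
set a : ℕ := Nat.card (↥K ⧸ H.subgroupOf K) with ha
let e₁ : H.subgroupOf K ≃* H := Subgroup.subgroupOfEquivOfLe hle
haveI : Group.IsNilpotent (H.subgroupOf K) := hN₁nil
have hHnil : Group.IsNilpotent H := Group.nilpotent_of_surjective e₁.toMonoidHom e₁.surjective
have hcardH : Nat.card (H.subgroupOf K) = Nat.card H := Nat.card_congr e₁.toEquiv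
have hHpos : 0 < Nat.card H := Nat.card_pos
have hKcard : Nat.card K = a * Nat.card H := by
  have := Subgroup.card_eq_card_quotient_mul_card_subgroup (H.subgroupOf K)
  rwa [hcardH] at this
have haC : Nat.card C₀ = a := by
  rw [hcardH, hKcard, mul_comm] at hN₁card
  exact Nat.eq_of_mul_eq_mul_right hHpos hN₁card
have hN'a : Nat.card N' = a := by
  have := H01.card_map_mk_of_le H K hle
  rw [hKcard] at this
  exact Nat.eq_of_mul_eq_mul_right hHpos this
have hQ : Nat.card (G ⧸ H) * Nat.card H = Nat.card G := (Subgroup.card_eq_card_quotient_mul_card_subgroup H).symm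
have hapos : 0 < a := by
  rw [← haC]
  exact Nat.card_pos
have hGa : Nat.card G = Nat.card H * (a * Nat.card C') := by
  rw [← hQ, ← hN'card, hN'a]
  ring
have hb : Nat.card (G ⧸ K) = Nat.card C' := by
  have h1 : Nat.card G = Nat.card (G ⧸ K) * Nat.card K := Subgroup.card_eq_card_quotient_mul_card_subgroup K
  rw [hKcard, hGa] at h1
  have h2 : (Nat.card (G ⧸ K)) * (a * Nat.card H) = (Nat.card C') * (a * Nat.card H) := by
    rw [← h1]
    ring
  exact Nat.eq_of_mul_eq_mul_right (Nat.mul_pos hapos hHpos) h2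
have hcop1 : Nat.Coprime (Nat.card H) a := by
  rw [hcardH, haC] at hN₁cop
  exact hN₁cop
have hcop2 : Nat.Coprime a (Nat.card C') := by
  rw [hN'a] at hN'cop
  exact hN'cop
-- the complement in `G`
have hfree1 : ∀ c : K, c ∈ C₀ → c ≠ 1 → ∀ z ∈ H, z * (c : G) = c * z → z = 1 := by
  intro c hc hc1 z hz hzc
  have := hN₁free c hc hc1 ⟨z, hle hz⟩ (by
    show (⟨z, hle hz⟩ : K) ∈ H.subgroupOf K
    exact Subgroup.mem_subgroupOf.2 hz) (Subtype.ext hzc)
  exact congrArg Subtype.val this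
have hHbot : H ≠ ⊥ := by
  rintro rfl
  apply hN₁bot
  rw [eq_bot_iff]
  intro x hx
  have := Subgroup.mem_subgroupOf.1 hx
  rw [Subgroup.mem_bot] at this ⊢
  exact Subtype.ext this
have hNoE : ∀ x y : C₀, x * y = y * x → ∀ r : ℕ, r.Prime → orderOf x = r → orderOf y = r → y ∈ Subgroup.zpowers x := by
  intro x y hxy r hr hxo hyo
  have hxW : (((x : K) : G)) ∈ C₀.map K.subtype := ⟨x, x.2, rfl⟩
  have hyW : (((y : K) : G)) ∈ C₀.map K.subtype := ⟨y, y.2, rfl⟩
  have hrd : r ∣ a := by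
    rw [← haC, ← hxo]
    exact orderOf_dvd_natCard x
  have h := S3857.noE H (C₀.map K.subtype) hHnil hHbot (by
      rintro k hk _ ⟨w, hw, rfl⟩ hkw
      by_cases hw1 : w = 1
      · right
        rw [hw1]
        rfl
      · left
        exact hfree1 w hw hw1 k hk hkw)
    hxW hyW (by
      have := congrArg (fun t : C₀ => ((t : K) : G)) hxy
      simpa using this) r hr
    (by rw [Subgroup.orderOf_coe, Subgroup.orderOf_coe]; exact hxo)
    (by rw [Subgroup.orderOf_coe, Subgroup.orderOf_coe]; exact hyo)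
    (Nat.Coprime.coprime_dvd_right hrd hcop1)
  obtain ⟨k, hk⟩ := Subgroup.mem_zpowers_iff.1 h
  refine Subgroup.mem_zpowers_iff.2 ⟨k, ?_⟩
  apply Subtype.ext
  apply Subtype.ext
  simpa using hk
-- the map from the complement to N'
have hπmem : ∀ c : C₀, π ((c : K) : G) ∈ N' := fun c => ⟨_, (c : K).2, rfl⟩
let f₁ : C₀ →* N' := ((π.comp K.subtype).comp C₀.subtype).codRestrict N' (fun c => hπmem c)
have hf₁ : ∀ c : C₀, ((f₁ c : N') : G ⧸ H) = π ((c : K) : G) := fun c => rfl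
have hC₀H : ∀ c : C₀, π ((c : K) : G) = 1 → c = 1 := by
  intro c hc
  have h1 : ((c : K) : G) ∈ H := by
    have := (QuotientGroup.eq_one_iff _).1 hc
    exact this
  have h2 := hN₁inf (c : K) (Subgroup.mem_subgroupOf.2 h1) c.2
  exact Subtype.ext h2
have hf₁inj : Function.Injective f₁ := by
  rw [injective_iff_map_eq_one]
  intro c hc
  apply hC₀H c
  have h : ((f₁ c : N') : G ⧸ H) = ((1 : N') : G ⧸ H) := congrArg Subtype.val hc
  exact h
have hf₁sur : Function.Surjective f₁ := by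
  rintro ⟨_, k, hk, rfl⟩
  obtain ⟨n, hn, c, hc, hnc⟩ := hN₁dec ⟨k, hk⟩
  refine ⟨⟨c, hc⟩, ?_⟩
  apply Subtype.ext
  show π ((c : K) : G) = π k
  have hk' : k = (n : G) * c := by
    have := congrArg Subtype.val hnc
    simpa using this
  have hn1 : π (n : G) = 1 := (QuotientGroup.eq_one_iff _).2 (Subgroup.mem_subgroupOf.1 hn)
  rw [hk', map_mul, hn1, one_mul]
haveI : Group.IsNilpotent N' := hN'nil
haveI hC₀nil : Group.IsNilpotent C₀ := by
  refine Subgroup.isNilpotent_of_ker_le_center f₁ ?_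
  rw [(MonoidHom.ker_eq_bot_iff f₁).2 hf₁inj]
  exact bot_le
haveI : N'.Normal := hN'n
obtain ⟨c'₀, hc'₀, hc'₀1⟩ : ∃ c ∈ C', c ≠ 1 := by
  obtain h | ⟨x, hx, hx1⟩ := Subgroup.bot_or_exists_ne_one C'
  · exact absurd h hC'.1
  · exact ⟨x, hx, hx1⟩
-- odd order
have hodd : ¬ 2 ∣ Nat.card C₀ := by
  intro h2
  haveI : Fact (Nat.Prime 2) := ⟨Nat.prime_two⟩
  obtain ⟨t, ht⟩ := exists_prime_orderOf_dvd_card' 2 h2
  have ht1 : t ≠ 1 := by
    rintro rfl
    simp at ht
  have htbar := hπmem t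
  have hconj := hN'n.conj_mem _ htbar c'₀
  obtain ⟨c₁, hc₁⟩ := hf₁sur ⟨_, hconj⟩
  have hc₁val : π ((c₁ : K) : G) = c'₀ * π ((t : K) : G) * c'₀⁻¹ := congrArg Subtype.val hc₁
  have hc₁o : orderOf c₁ = 2 := by
    have h1 : orderOf (f₁ c₁) = orderOf c₁ := orderOf_injective f₁ hf₁inj c₁
    rw [← h1, hc₁, ← Subgroup.orderOf_coe]
    show orderOf (c'₀ * π ((t : K) : G) * c'₀⁻¹) = 2
    have h3 : c'₀ * π ((t : K) : G) * c'₀⁻¹ = MulAut.conj c'₀ (π ((t : K) : G)) := rfl
    rw [h3, MulEquiv.orderOf_eq]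
    have h4 : orderOf (f₁ t) = orderOf t := orderOf_injective f₁ hf₁inj t
    rw [ht, ← Subgroup.orderOf_coe] at h4
    exact h4
  have hu := S3857.uniq_of_noE hNoE 2 t c₁ ht hc₁o
  have hc₁t : c₁ = t := by
    obtain ⟨k, hk⟩ := Subgroup.mem_zpowers_iff.1 hu
    have hk2 : t ^ k = t ^ (k % 2 : ℤ) := by
      rw [← zpow_mod_orderOf, ht]
      rfl
    rcases Int.emod_two_eq_zero_or_one k with h0 | h0
    · rw [h0] at hk2
      simp only [zpow_zero] at hk2
      exfalso
      rw [← hk, hk2, orderOf_one] at hc₁o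
      omega
    · rw [h0] at hk2
      simp only [zpow_one] at hk2
      rw [← hk, hk2]
  rw [hc₁t] at hc₁val
  have hcomm : π ((t : K) : G) * c'₀ = c'₀ * π ((t : K) : G) := by
    calc π ((t : K) : G) * c'₀ = (c'₀ * π ((t : K) : G) * c'₀⁻¹) * c'₀ := by rw [← hc₁val]
      _ = c'₀ * π ((t : K) : G) := by group
  have := hN'free c'₀ hc'₀ hc'₀1 _ htbar hcomm
  exact ht1 (hC₀H t this)
have hC₀cyc : IsCyclic C₀ := S3857.cyc_of_noE hNoE hodd
haveI hN'cyc : IsCyclic N' := isCyclic_of_surjective f₁ hf₁sur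
-- the top
have hC'comm : ∀ x y : C', x * y = y * x := by
  intro x y
  have hcm := H22.commutator_mem_centralizer_of_cyclic N' (x : G ⧸ H) (y : G ⧸ H)
  obtain ⟨z, hz1⟩ : ∃ z : N', z ≠ 1 := by
    obtain h | ⟨x, hx, hx1⟩ := Subgroup.bot_or_exists_ne_one N'
    · exact absurd h hN'bot
    · exact ⟨⟨x, hx⟩, fun h => hx1 (congrArg Subtype.val h)⟩
  have hc := Subgroup.mem_centralizer_iff.1 hcm (z : G ⧸ H) z.2
  have hmem : (x : G ⧸ H) * y * (x : G ⧸ H)⁻¹ * (y : G ⧸ H)⁻¹ ∈ C' :=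
    C'.mul_mem (C'.mul_mem (C'.mul_mem x.2 y.2) (C'.inv_mem x.2)) (C'.inv_mem y.2)
  by_cases h1 : (x : G ⧸ H) * y * (x : G ⧸ H)⁻¹ * (y : G ⧸ H)⁻¹ = 1
  · apply Subtype.ext
    show (x : G ⧸ H) * y = y * x
    calc (x : G ⧸ H) * y = ((x : G ⧸ H) * y * (x : G ⧸ H)⁻¹ * (y : G ⧸ H)⁻¹) * (y * x) := by group
      _ = y * x := by rw [h1, one_mul]
  · exfalso
    apply hz1
    apply Subtype.ext
    exact hN'free _ hmem h1 (z : G ⧸ H) z.2 hc
have hNoE' : ∀ x y : C', x * y = y * x → ∀ r : ℕ, r.Prime → orderOf x = r → orderOf y = r → y ∈ Subgroup.zpowers x := by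
  intro x y hxy r hr hxo hyo
  have hrd : r ∣ Nat.card C' := by
    rw [← hxo]
    exact orderOf_dvd_natCard x
  have h := S3857.noE N' C' hN'nil hN'bot (by
      intro k hk w hw hkw
      by_cases hw1 : w = 1
      · exact Or.inr hw1
      · exact Or.inl (hN'free w hw hw1 k hk hkw))
    x.2 y.2 (by
      have := congrArg Subtype.val hxy
      simpa using this) r hr
    (by rw [Subgroup.orderOf_coe]; exact hxo)
    (by rw [Subgroup.orderOf_coe]; exact hyo)
    (Nat.Coprime.coprime_dvd_right hrd hN'cop)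
  obtain ⟨k, hk⟩ := Subgroup.mem_zpowers_iff.1 h
  refine Subgroup.mem_zpowers_iff.2 ⟨k, ?_⟩
  apply Subtype.ext
  simpa using hk
letI iC' : CommGroup C' := { (inferInstance : Group C') with mul_comm := hC'comm }
haveI hC'cyc0 : IsZGroup C' := by
  refine ⟨fun p hp P => ?_⟩
  haveI : Fact p.Prime := ⟨hp⟩
  refine H14.isCyclic_of_comm_uniqueP P.isPGroup' (fun x y => ?_) ?_
  · apply Subtype.ext
    exact hC'comm _ _
  · intro x y hx hy
    have hx' : orderOf (x : C') = p := by rw [Subgroup.orderOf_coe]; exact hx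
    have hy' : orderOf (y : C') = p := by rw [Subgroup.orderOf_coe]; exact hy
    obtain ⟨k, hk⟩ := Subgroup.mem_zpowers_iff.mp (S3857.uniq_of_noE hNoE' p (x : C') (y : C') hx' hy')
    refine Subgroup.mem_zpowers_iff.mpr ⟨k, ?_⟩
    apply Subtype.ext
    simpa using hk
haveI hC'cyc : IsCyclic C' := inferInstance
-- G/K cyclic
let ψ₀ : G ⧸ H →* G ⧸ K := QuotientGroup.map H K (MonoidHom.id G) hle
let ψ : C' →* G ⧸ K := ψ₀.comp C'.subtype
have hψ : Function.Surjective ψ := by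
  intro y
  obtain ⟨g, rfl⟩ := QuotientGroup.mk'_surjective K y
  obtain ⟨n, hn, c, hc, hnc⟩ := hN'dec (π g)
  refine ⟨⟨c, hc⟩, ?_⟩
  obtain ⟨k, hk, rfl⟩ := hn
  have h1 : ψ₀ (π g) = QuotientGroup.mk' K g := rfl
  have h2 : ψ₀ (π k) = 1 := by
    show QuotientGroup.mk' K k = 1
    exact (QuotientGroup.eq_one_iff _).2 hk
  show ψ₀ c = _
  rw [← h1, hnc, map_mul, h2, one_mul]
have hGKcyc : IsCyclic (G ⧸ K) := isCyclic_of_surjective ψ hψ
-- K/H cyclic, solvable
let θ : C₀ →* ↥K ⧸ H.subgroupOf K := (QuotientGroup.mk' (H.subgroupOf K)).comp C₀.subtype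
have hθ : Function.Surjective θ := by
  intro y
  obtain ⟨k, rfl⟩ := QuotientGroup.mk'_surjective _ y
  obtain ⟨n, hn, c, hc, hnc⟩ := hN₁dec k
  refine ⟨⟨c, hc⟩, ?_⟩
  show QuotientGroup.mk' (H.subgroupOf K) c = _
  have hn1 : QuotientGroup.mk' (H.subgroupOf K) n = 1 := (QuotientGroup.eq_one_iff n).2 hn
  rw [hnc, map_mul, hn1, one_mul]
have hKHcyc : IsCyclic (↥K ⧸ H.subgroupOf K) := isCyclic_of_surjective θ hθ
have hKsol : Group.IsSolvable K := by
  letI := hKHcyc.commGroup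
  haveI : Group.IsSolvable (H.subgroupOf K) := by
    haveI := hN₁nil
    infer_instance
  refine Group.isSolvable_of_ker_le_range (H.subgroupOf K).subtype (QuotientGroup.mk' (H.subgroupOf K)) ?_
  rw [QuotientGroup.ker_mk', Subgroup.range_subtype]
have hGsol : Group.IsSolvable G := by
  letI := hGKcyc.commGroup
  refine Group.isSolvable_of_ker_le_range K.subtype (QuotientGroup.mk' K) ?_
  rw [QuotientGroup.ker_mk', Subgroup.range_subtype]
-- mixed elements
have hmix : ∀ p q : ℕ, p.Prime → q.Prime → p ≠ q → p ∣ a → ¬ q ∣ a → (∃ g : G, orderOf g = p * q) → False := by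
  rintro p q hp hq hpq hpa hqa ⟨g, hg⟩
  have hpd : p ∣ orderOf g := by rw [hg]; exact dvd_mul_right _ _
  have hqd : q ∣ orderOf g := by rw [hg]; exact dvd_mul_left _ _
  have hxo := orderOf_pow_orderOf_div (orderOf_pos g).ne' hpd
  have hyo := orderOf_pow_orderOf_div (orderOf_pos g).ne' hqd
  set x := g ^ (orderOf g / p) with hx
  set y := g ^ (orderOf g / q) with hy
  have hxy : x * y = y * x := by
    rw [hx, hy]
    exact ((Commute.refl g).pow_pow _ _)
  have hxK : x ∈ K := by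
    have h1 : orderOf (QuotientGroup.mk' K x) ∣ p := by
      rw [← hxo]
      exact orderOf_map_dvd _ _
    have h2 : orderOf (QuotientGroup.mk' K x) ∣ Nat.card C' := by
      rw [← hb]
      exact orderOf_dvd_natCard _
    have hc : Nat.Coprime p (Nat.card C') := Nat.Coprime.coprime_dvd_left hpa hcop2
    have h3 := Nat.eq_one_of_dvd_coprimes hc h1 h2
    exact (QuotientGroup.eq_one_iff _).1 (orderOf_eq_one_iff.1 h3)
  have hxH : x ∉ H := by
    intro h
    have h1 : orderOf (⟨x, h⟩ : H) ∣ Nat.card H := orderOf_dvd_natCard _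
    rw [Subgroup.orderOf_mk, hxo] at h1
    have := Nat.Coprime.eq_one_of_dvd (Nat.Coprime.coprime_dvd_left h1 hcop1) hpa
    exact hp.one_lt.ne' this
  have hxπ1 : π x ≠ 1 := fun h => hxH ((QuotientGroup.eq_one_iff _).1 h)
  have hxπ : π x ∈ N' := ⟨x, hxK, rfl⟩
  have hyπ : π y ∈ N' := hN'cent _ hxπ hxπ1 _ (by rw [← map_mul, ← map_mul, hxy])
  have hyH : y ∈ H := by
    have h1 : orderOf (π y) ∣ q := by
      rw [← hyo]
      exact orderOf_map_dvd _ _
    have h2 : orderOf (π y) ∣ a := by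
      rw [← hN'a, ← Subgroup.orderOf_mk (π y) hyπ]
      exact orderOf_dvd_natCard _
    rcases (Nat.dvd_prime hq).1 h1 with h3 | h3
    · exact (QuotientGroup.eq_one_iff _).1 (orderOf_eq_one_iff.1 h3)
    · rw [h3] at h2
      exact absurd h2 hqa
  have hy1 : y ≠ 1 := by
    intro h
    rw [h, orderOf_one] at hyo
    exact hq.one_lt.ne hyo
  have := hN₁cent ⟨y, hle hyH⟩ (Subgroup.mem_subgroupOf.2 hyH)
    (fun h => hy1 (congrArg Subtype.val h)) ⟨x, hxK⟩ (Subtype.ext hxy.symm)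
  exact hxH (Subgroup.mem_subgroupOf.1 this)
-- existence
have hboth : ∀ p q : ℕ, p.Prime → q.Prime → p ≠ q → p ∣ a → q ∣ a → ∃ g : G, orderOf g = p * q := by
  intro p q hp hq hpq hpa hqa
  obtain ⟨c, hc⟩ := IsCyclic.exists_ofOrder_eq_natCard (α := C₀)
  have hd : p * q ∣ orderOf c := by
    rw [hc, haC]
    exact ((Nat.coprime_primes hp hq).2 hpq).mul_dvd_of_dvd_of_dvd hpa hqa
  have h1 := orderOf_pow_orderOf_div (orderOf_pos c).ne' hd
  refine ⟨(((c ^ (orderOf c / (p * q)) : C₀) : K) : G), ?_⟩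
  rw [Subgroup.orderOf_coe, Subgroup.orderOf_coe, h1]
have htop : ∀ p q : ℕ, p.Prime → q.Prime → p ≠ q → p ∣ Nat.card C' → q ∣ Nat.card C' → ∃ g : G, orderOf g = p * q := by
  intro p q hp hq hpq hpa hqa
  obtain ⟨c, hc⟩ := IsCyclic.exists_ofOrder_eq_natCard (α := C')
  have hd : p * q ∣ orderOf c := by
    rw [hc]
    exact ((Nat.coprime_primes hp hq).2 hpq).mul_dvd_of_dvd_of_dvd hpa hqa
  have h1 := orderOf_pow_orderOf_div (orderOf_pos c).ne' hd
  obtain ⟨g, hg⟩ := QuotientGroup.mk'_surjective H (((c ^ (orderOf c / (p * q)) : C') : G ⧸ H))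
  have h2 : orderOf (QuotientGroup.mk' H g) = p * q := by
    rw [hg, Subgroup.orderOf_coe, h1]
  have h3 : p * q ∣ orderOf g := by
    rw [← h2]
    exact orderOf_map_dvd _ _
  exact ⟨_, orderOf_pow_orderOf_div (orderOf_pos g).ne' h3⟩
have hbot' : ∀ p q : ℕ, p.Prime → q.Prime → p ≠ q → p ∣ Nat.card H → q ∣ Nat.card H → ∃ g : G, orderOf g = p * q := by
  intro p q hp hq hpq hpa hqa
  haveI := Fact.mk hp
  haveI := Fact.mk hq
  obtain ⟨x, hx⟩ := exists_prime_orderOf_dvd_card' p hpa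
  obtain ⟨y, hy⟩ := exists_prime_orderOf_dvd_card' q hqa
  have hxy : x * y = y * x := H08.nilpotent_coprime_commute (by
    rw [hx, hy]
    exact (Nat.coprime_primes hp hq).2 hpq)
  obtain ⟨z, hz⟩ := H17.exists_orderOf_mul_of_commute hp hq hpq hx hy hxy
  exact ⟨(z : G), by rw [Subgroup.orderOf_coe, hz]⟩
have hc₀ : ∃ c : C₀, c ≠ 1 := by
  obtain h | ⟨x, hx, hx1⟩ := Subgroup.bot_or_exists_ne_one C₀
  · exact absurd h hC₀.1
  · exact ⟨⟨x, hx⟩, fun h => hx1 (congrArg Subtype.val h)⟩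
obtain ⟨c₁, hc₁⟩ := hc₀
have hmid : ∀ p q : ℕ, p.Prime → q.Prime → p ≠ q → p ∣ Nat.card H → q ∣ Nat.card C' → ∃ g : G, orderOf g = p * q := by
  intro p q hp hq hpq hpH hqC
  haveI := Fact.mk hq
  obtain ⟨r, hr⟩ := exists_prime_orderOf_dvd_card' q hqC
  exact mixed H hHnil N' C' hN'free (by rw [hN'a]; exact hcop1.symm) ((c₁ : K) : G) (hπmem c₁)
    (fun z hz hzc => hfree1 c₁ c₁.2 (fun h => hc₁ (Subtype.ext h)) z hz hzc)
    p q hp hq hpq hpH (r : G ⧸ H) r.2 (by rw [Subgroup.orderOf_coe]; exact hr)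
refine ⟨hGsol, ?_, ?_, hGKcyc, ?_⟩
· rw [← haC]
  exact Nat.not_even_iff_odd.1 (fun h => hodd h.two_dvd)
· rw [hb]
  exact Nat.Coprime.mul_right hcop1.symm hcop2
· intro p q hp hq hpq hpG hqG
  constructor
  · intro hg
    constructor
    · intro hpa
      by_contra hqa
      exact hmix p q hp hq hpq hpa hqa hg
    · intro hqa
      by_contra hpa
      obtain ⟨g, hg⟩ := hg
      exact hmix q p hq hp hpq.symm hqa hpa ⟨g, by rw [hg, mul_comm]⟩
  · intro hiff
    by_cases hpa : p ∣ a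
    · exact hboth p q hp hq hpq hpa (hiff.1 hpa)
    · have hqa : ¬ q ∣ a := fun h => hpa (hiff.2 h)
      have hp' : p ∣ Nat.card H ∨ p ∣ Nat.card C' := by
        rw [hGa] at hpG
        rcases (Nat.Prime.dvd_mul hp).1 hpG with h | h
        · exact Or.inl h
        · rcases (Nat.Prime.dvd_mul hp).1 h with h | h
          · exact absurd h hpa
          · exact Or.inr h
      have hq' : q ∣ Nat.card H ∨ q ∣ Nat.card C' := by
        rw [hGa] at hqG
        rcases (Nat.Prime.dvd_mul hq).1 hqG with h | h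
        · exact Or.inl h
        · rcases (Nat.Prime.dvd_mul hq).1 h with h | h
          · exact absurd h hqa
          · exact Or.inr h
      rcases hp' with h1 | h1 <;> rcases hq' with h2 | h2
      · exact hbot' p q hp hq hpq h1 h2
      · exact hmid p q hp hq hpq h1 h2
      · obtain ⟨g, hg⟩ := hmid q p hq hp hpq.symm h2 h1
        exact ⟨g, by rw [hg, mul_comm]⟩
      · exact htop p q hp hq hpq h1 h2

end Cfsg.Agent.S4001
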