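import Cfsg.Statements.S4016
import Cfsg.Agent.Lib.H19.Sp9

set_option autoImplicit false
open Cfsg

namespace Cfsg.Agent.S4016

open scoped Pointwise

/-- Let G be a finite group and p a prime such that a Sylow p-subgroup P of G is cyclic and every subgroup of G of order prime to p is abelian. Then G has a normal p-complement or P is normal in G. -/
theorem result {G : Type*} [Group G] [Finite G] {p : ℕ}
    [Fact p.Prime] (P : Sylow p G) (hcyc : IsCyclic P)
    (hab : ∀ H : Subgroup G, ¬ p ∣ Nat.card H → IsMulCommutative H) :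
    Cfsg.HasNormalPComplement p G ∨ (P : Subgroup G).Normal := by
  
  have hH : Cfsg.Agent.H19.Sp.Hyp p G := by
    constructor
    · intro H hHp
      obtain ⟨S, hS⟩ := hHp.exists_le_sylow
      obtain ⟨g, rfl⟩ := MulAction.exists_smul_eq G P S
      rw [Sylow.coe_subgroup_smul] at hS
      haveI : IsCyclic (MulAut.conj g • (P : Subgroup G) : Subgroup G) :=
        isCyclic_of_surjective _ (Subgroup.equivSMul (MulAut.conj g) (P : Subgroup G)).surjective
      haveI : IsCyclic (H.subgroupOf (MulAut.conj g • (P : Subgroup G) : Subgroup G)) := inferInstance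
      exact isCyclic_of_surjective _ (Subgroup.subgroupOfEquivOfLe hS).surjective
    · intro H hHp x hx y hy
      have h1 := hab H hHp
      have h2 := h1.is_comm.comm ⟨x, hx⟩ ⟨y, hy⟩
      exact congrArg Subtype.val h2
  rcases Cfsg.Agent.H19.Sp.main _ G rfl hH with ⟨K, hKn, hK, n, hn⟩ | ⟨S, hSn, hS, hSi⟩
  · left
    refine ⟨P, K, hKn, ?_⟩
    have hG1 := Subgroup.card_mul_index K
    have hG2 := Subgroup.card_mul_index (P : Subgroup G)
    obtain ⟨a, ha⟩ := IsPGroup.iff_card.1 P.2
    have hpp : p.Prime := Fact.out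
    have hcopK : (p ^ a).Coprime (Nat.card K) :=
      Nat.Coprime.pow_left _ ((Nat.Prime.coprime_iff_not_dvd hpp).2 hK)
    have hcopI : (p ^ n).Coprime (P : Subgroup G).index :=
      Nat.Coprime.pow_left _ ((Nat.Prime.coprime_iff_not_dvd hpp).2 P.not_dvd_index)
    have h1 : p ^ a ∣ p ^ n := by
      apply hcopK.dvd_of_dvd_mul_left
      rw [← hn, hG1, ← hG2, ha]
      exact dvd_mul_right _ _
    have h2 : p ^ n ∣ p ^ a := by
      apply hcopI.dvd_of_dvd_mul_right
      rw [← ha, hG2, ← hG1, hn]
      exact dvd_mul_left _ _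
    have h3 : p ^ a = p ^ n := Nat.dvd_antisymm h1 h2
    apply Subgroup.isComplement'_of_coprime
    · rw [ha, h3, ← hn, hG1]
    · rw [ha]
      exact hcopK.symm
  · right
    have h1 := Cfsg.Agent.H19.Sp.sylow_eq_of_normal (hS.toSylow hSi) P hSn
    rw [← h1]
    exact hSn

end Cfsg.Agent.S4016
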