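import Cfsg.Statements.S4017
import Cfsg.Agent.Lib.H13.TP6

set_option autoImplicit false
open Cfsg

namespace Cfsg.Agent.S4017

open Cfsg.Agent.H13.TP in
/-- Let G be a finite group and let p and q be distinct primes dividing the order of G, with p odd. Suppose that p divides the order of every proper subgroup of G that is neither a q-group nor of order prime to q. Let q^a be the q-part of the order of G. If p > q^a − 1, or if p = q^a − 1 and the Sylow p-subgroups of G are abelian, then p and q are the only primes dividing the order of G. -/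
theorem result {G : Type*} [Group G] [Finite G]
    {p q : ℕ} (hp : p.Prime) (hq : q.Prime) (hpq : p ≠ q) (hp2 : p ≠ 2)
    (hpG : p ∣ Nat.card G) (hqG : q ∣ Nat.card G)
    (hmix : ∀ H : Subgroup G, H ≠ ⊤ → ¬ IsPGroup q H → q ∣ Nat.card H → p ∣ Nat.card H)
    (hlarge : q ^ (Nat.card G).factorization q - 1 < p ∨
      (p = q ^ (Nat.card G).factorization q - 1 ∧ ∀ P : Sylow p G, IsMulCommutative P)) :
    ∀ r : ℕ, r.Prime → r ∣ Nat.card G → r = p ∨ r = q := by
  haveI : Fact q.Prime := ⟨hq⟩
  haveI : Fact p.Prime := ⟨hp⟩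
  have hs : Star p q G := by
    intro H hH hqH
    by_contra hnp
    have hne : H ≠ ⊤ := by
      rintro rfl
      apply hH
      rwa [Nat.card_congr (Subgroup.topEquiv (G := G)).toEquiv]
    exact hH (hmix H hne hnp hqH)
  by_cases hc : ∀ T : Subgroup G, IsPGroup q T → ∀ x ∈ Subgroup.normalizer (T : Set G),
      (∃ k, orderOf x = p ^ k) → x ∈ Subgroup.centralizer (T : Set G)
  · exact conclusion_of_central hp hq hpq hs hqG hc
  push Not at hc
  obtain ⟨T, hT, x, hxN, ⟨k, hk⟩, hxC⟩ := hc
  obtain ⟨n, hn⟩ := IsPGroup.iff_card.mp hT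
  have hpos : Nat.card G ≠ 0 := Nat.card_pos.ne'
  set a := (Nat.card G).factorization q with ha
  have hna : n ≤ a := by
    have h1 : q ^ n ∣ Nat.card G := by
      rw [← hn]
      exact Subgroup.card_subgroup_dvd_card T
    exact (hq.pow_dvd_iff_le_factorization hpos).mp h1
  have hqa : q ^ n ≤ q ^ a := Nat.pow_le_pow_right hq.pos hna
  have hle : p + 1 ≤ Nat.card T := by
    by_contra hlt
    apply hxC
    rw [Subgroup.mem_centralizer_iff]
    intro b hb
    have h1 := pelt_central_small hp (T := T) (by omega) hk hxN hb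
    calc b * x = x * b * x⁻¹ * x := by rw [h1]
      _ = x * b := by group
  have hqa1 : 1 ≤ q ^ a := Nat.one_le_pow _ _ hq.pos
  rcases hlarge with hl | ⟨hl, hab⟩
  · omega
  have hqap : q ^ a = p + 1 := by omega
  have hTc : Nat.card T = q ^ a := by omega
  have hq2 : q = 2 := by
    by_contra hq2
    have h1 : Odd (q ^ a) := (hq.odd_of_ne_two hq2).pow
    rw [hqap] at h1
    have h2 : Odd p := hp.odd_of_ne_two hp2
    rw [Nat.odd_add_one] at h1
    exact h1 (by simpa using h2)
  subst hq2
  let Q : Sylow 2 G := Sylow.ofCard T (by rw [hTc])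
  have hQ : (Q : Subgroup G) = T := Sylow.coe_ofCard T _
  have C : Cfg p G Q x := by
    refine ⟨hp, hp2, ?_, ?_, ⟨k, hk⟩, ?_, ?_, hs⟩
    · rw [hQ]; omega
    · rw [hQ]; exact hxN
    · rw [hQ]; exact hxC
    · intro P a ha b hb
      haveI := hab P
      have h1 : (⟨a, ha⟩ : (P : Subgroup G)) * ⟨b, hb⟩ = ⟨b, hb⟩ * ⟨a, ha⟩ := mul_comm' _ _
      exact congrArg Subtype.val h1
  have hC : ∀ t ∈ (Q : Subgroup G), t ≠ 1 → Cen Q t := by
    intro t ht ht1
    by_cases h8 : 8 ≤ p + 1
    · exact C.cen_large h8 ht ht1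
    · have hp3 : 3 ≤ p := by
        have := hp.two_le
        omega
      have h4 : p + 1 = 4 := by
        have h5 : a < 3 := by
          by_contra h6
          have h7 : 2 ^ 3 ≤ 2 ^ a := Nat.pow_le_pow_right (by norm_num) (by omega)
          omega
        have hh : ∀ m : ℕ, m < 3 → 2 ^ m = p + 1 → p + 1 = 4 := by
          intro m hm hmm
          interval_cases m <;> simp at hmm <;> omega
        exact hh a h5 hqap
      exact C.path2 h4 ht ht1
  exact C.path1_concl hC

end Cfsg.Agent.S4017
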