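import Cfsg.Statements.S4035
import Cfsg.Agent.Lib.H19.FrobCount
import Cfsg.Agent.Lib.H18.Syl
import Cfsg.Agent.Lib.H19.Lifts

set_option autoImplicit false
open Cfsg

namespace Cfsg.Agent.S4035

open Cfsg.Agent.H19

theorem result {G : Type*} [Group G] [Finite G] {p : ℕ} [Fact p.Prime]
    (h : ∀ x : G, (orderOf x).Coprime p → ¬ p ∣ (ConjClasses.mk x).carrier.ncard) (P : Sylow p G) :
    (P : Subgroup G).Normal ∧ ∃ H : Subgroup G, H.Normal ∧ ¬ p ∣ Nat.card H ∧
      (P : Subgroup G) ⊓ H = ⊥ ∧ (P : Subgroup G) ⊔ H = ⊤ := by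
  classical
  have hpp : p.Prime := Fact.out
  have hindex : ¬ p ∣ (P : Subgroup G).index := P.not_dvd_index
  set M := (P : Subgroup G).index with hM
  have hPM : Nat.card P * M = Nat.card G := (P : Subgroup G).card_mul_index
  have hM0 : M ≠ 0 := by
    rintro h0
    rw [h0, mul_zero] at hPM
    exact Nat.card_pos.ne' hPM.symm
  -- `p'`-elements
  have hpM : ∀ x : G, x ^ M = 1 → (orderOf x).Coprime p := by
    intro x hx
    have h1 : orderOf x ∣ M := orderOf_dvd_of_pow_eq_one hx
    rw [Nat.coprime_comm, hpp.coprime_iff_not_dvd]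
    exact fun h2 => hindex (h2.trans h1)
  have hMp : ∀ x : G, (orderOf x).Coprime p → x ^ M = 1 := by
    intro x hx
    apply orderOf_dvd_iff_pow_eq_one.1
    have h1 : orderOf x ∣ Nat.card P * M := by rw [hPM]; exact orderOf_dvd_natCard x
    obtain ⟨k, hk⟩ := P.2.exists_card_eq
    rw [hk] at h1
    exact (Nat.Coprime.pow_right k hx).dvd_of_dvd_mul_left h1
  have hconj : ∀ x : G, x ^ M = 1 → ∃ g : G, g * x * g⁻¹ ∈ Subgroup.centralizer ((P : Subgroup G) : Set G) := by
    intro x hx
    have h1 := h x (hpM x hx)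
    have h2 := card_class_mul_card_centralizer x
    have h3 : ¬ p ∣ (Subgroup.centralizer ({x} : Set G)).index := by
      have h4 := (Subgroup.centralizer ({x} : Set G)).card_mul_index
      intro h5
      apply h1
      have h6 : (ConjClasses.mk x).carrier.ncard = (Subgroup.centralizer ({x} : Set G)).index := by
        apply Nat.eq_of_mul_eq_mul_right (Nat.card_pos (α := Subgroup.centralizer ({x} : Set G)))
        rw [h2, mul_comm, h4]
      rw [h6]; exact h5
    obtain ⟨g, hg⟩ := H18.exists_sylow_le_conj P _ h3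
    refine ⟨g, ?_⟩
    rw [Subgroup.mem_centralizer_iff]
    intro u hu
    obtain ⟨c, hc, rfl⟩ := hg hu
    have hc2 : c * x = x * c := by
      have := Subgroup.mem_centralizer_singleton_iff.1 hc
      exact this
    show (MulAut.conj g).toMonoidHom c * (g * x * g⁻¹) = g * x * g⁻¹ * (MulAut.conj g).toMonoidHom c
    simp only [MulEquiv.coe_toMonoidHom, MulAut.conj_apply]
    calc g * c * g⁻¹ * (g * x * g⁻¹) = g * (c * x) * g⁻¹ := by group
      _ = g * (x * c) * g⁻¹ := by rw [hc2]
      _ = _ := by group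
  -- counting
  set N := Subgroup.normalizer ((P : Subgroup G) : Set G) with hN
  set n := N.index with hn
  have hNcard : Nat.card N * n = Nat.card G := N.card_mul_index
  let C := Subgroup.centralizer ((P : Subgroup G) : Set G)
  have hCN : ∀ y ∈ C, y ∈ N := by
    intro y hy
    apply mem_normalizer_of_conj_le
    intro u hu
    have := Subgroup.mem_centralizer_iff.1 hy u hu
    rw [← this]; simpa using hu
  have hNC : ∀ ν ∈ N, ∀ y ∈ C, ν * y * ν⁻¹ ∈ C := by
    intro ν hν y hy
    rw [Subgroup.mem_centralizer_iff]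
    intro u hu
    have h1 : ν⁻¹ * u * ν ∈ (P : Subgroup G) := by
      have := (Subgroup.mem_normalizer_iff.1 (N.inv_mem hν) u).1 hu
      simpa using this
    have h2 := Subgroup.mem_centralizer_iff.1 hy _ h1
    calc u * (ν * y * ν⁻¹) = ν * ((ν⁻¹ * u * ν) * y) * ν⁻¹ := by group
      _ = ν * (y * (ν⁻¹ * u * ν)) * ν⁻¹ := by rw [h2]
      _ = ν * y * ν⁻¹ * u := by group
  haveI := Fintype.ofFinite G
  set XF := Finset.univ.filter (fun x : G => x ^ M = 1) with hXF
  set YF := Finset.univ.filter (fun y : G => y ^ M = 1 ∧ y ∈ C) with hYF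
  have h1XF : (1 : G) ∈ XF := by simp [hXF]
  have h1YF : (1 : G) ∈ YF := by simp [hYF, C.one_mem]
  -- Frobenius
  have hM_le : M ≤ XF.card := by
    have h1 : M ∣ sol G M := dvd_sol ⟨Nat.card P, by rw [← hPM, mul_comm]⟩
    have h2 : sol G M = XF.card := by
      rw [sol, Nat.card_eq_fintype_card, Fintype.card_subtype]
    rw [h2] at h1
    exact Nat.le_of_dvd (Finset.card_pos.2 ⟨1, h1XF⟩) h1
  -- `|P| |Y| ≤ |N|`
  have hcount1 : Nat.card P * YF.card ≤ Nat.card N := by
    have hmem : ∀ z : ↥(P : Subgroup G) × ↥YF, (z.1 : G) * z.2.1 ∈ N := by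
      rintro ⟨u, y, hy⟩
      exact N.mul_mem (Subgroup.le_normalizer u.2) (hCN y (Finset.mem_filter.1 hy).2.2)
    have h1 : Nat.card (↥(P : Subgroup G) × ↥YF) ≤ Nat.card N := by
      apply Nat.card_le_card_of_injective (fun z => (⟨(z.1 : G) * z.2.1, hmem z⟩ : N))
      rintro ⟨u, y, hy⟩ ⟨u', y', hy'⟩ heq
      have heq' : (u : G) * y = u' * y' := congrArg Subtype.val heq
      have hy1 := (Finset.mem_filter.1 hy).2
      have hy1' := (Finset.mem_filter.1 hy').2
      set w : G := (u' : G)⁻¹ * u with hw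
      have hwP : w ∈ (P : Subgroup G) := (P : Subgroup G).mul_mem ((P : Subgroup G).inv_mem u'.2) u.2
      have h2 : w * y = y' := by
        rw [hw, mul_assoc, heq']; group
      have h3 : Commute w y := (Subgroup.mem_centralizer_iff.1 hy1.2 w hwP)
      have h4 : w ^ M = 1 := by
        have := congrArg (· ^ M) h2
        simp only [h3.mul_pow, hy1.1, hy1'.1, mul_one] at this
        exact this
      have h5 : (orderOf w).Coprime p := hpM w h4
      obtain ⟨k, hk⟩ := P.2.exists_card_eq
      have h6 : orderOf w ∣ p ^ k := by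
        rw [← hk, ← Subgroup.orderOf_mk w hwP]
        exact orderOf_dvd_natCard _
      have h7 : orderOf w = 1 := Nat.eq_one_of_dvd_coprimes (Nat.Coprime.pow_right k h5) (dvd_refl _) h6
      have h8 : w = 1 := orderOf_eq_one_iff.1 h7
      have h9 : (u : G) = u' := by
        rw [hw] at h8
        exact (inv_mul_eq_one.1 h8).symm
      have h10 : y = y' := by rw [← h2, h8, one_mul]
      subst h10
      have h11 : u = u' := Subtype.ext h9
      subst h11
      rfl
    rw [Nat.card_prod, Nat.card_eq_fintype_card (α := ↥YF), Fintype.card_coe] at h1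
    exact h1
  -- covering
  have hcount2 : (XF.erase 1).card ≤ n * (YF.erase 1).card := by
    let Ψ : (G ⧸ N) × G → G := fun z => z.1.out * z.2 * (z.1.out)⁻¹
    haveI : Fintype (G ⧸ N) := Fintype.ofFinite _
    have hsub : XF.erase 1 ⊆ (Finset.univ ×ˢ (YF.erase 1)).image Ψ := by
      intro x hx
      rw [Finset.mem_erase] at hx
      have hxM : x ^ M = 1 := (Finset.mem_filter.1 hx.2).2
      obtain ⟨g, hg⟩ := hconj x hxM
      let a : G ⧸ N := ((g⁻¹ : G) : G ⧸ N)
      have ha : a.out⁻¹ * g⁻¹ ∈ N := by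
        rw [← QuotientGroup.eq]
        exact QuotientGroup.out_eq' a
      set ν := a.out⁻¹ * g⁻¹ with hν
      refine Finset.mem_image.2 ⟨(a, ν * (g * x * g⁻¹) * ν⁻¹), ?_, ?_⟩
      · simp only [hYF, Finset.mem_product, Finset.mem_univ, true_and, Finset.mem_erase, Finset.mem_filter]
        refine ⟨?_, ?_, hNC ν ha _ hg⟩
        · intro h0
          apply hx.1
          have : ν * g * x * (ν * g)⁻¹ = 1 := by
            rw [← h0]; group
          have h1 : x = (ν * g)⁻¹ * 1 * (ν * g) := by
            rw [← this]; group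
          rw [h1]; group
        · rw [conj_pow, conj_pow, hxM]; group
      · show a.out * (ν * (g * x * g⁻¹) * ν⁻¹) * (a.out)⁻¹ = x
        rw [hν]; group
    calc (XF.erase 1).card ≤ _ := Finset.card_le_card hsub
      _ ≤ (Finset.univ ×ˢ (YF.erase 1)).card := Finset.card_image_le
      _ = Nat.card (G ⧸ N) * (YF.erase 1).card := by
        rw [Finset.card_product, Finset.card_univ, Nat.card_eq_fintype_card]
      _ = n * (YF.erase 1).card := rfl
  have hn1 : n = 1 := by
    have hXe : XF.card = (XF.erase 1).card + 1 := (Finset.card_erase_add_one h1XF).symm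
    have hYe : YF.card = (YF.erase 1).card + 1 := (Finset.card_erase_add_one h1YF).symm
    have hn0 : n ≠ 0 := by
      rintro h0
      rw [h0, mul_zero] at hNcard
      exact Nat.card_pos.ne' hNcard.symm
    have hP0 : 0 < Nat.card P := Nat.card_pos
    have h5 : n * YF.card ≤ M := by
      apply Nat.le_of_mul_le_mul_left _ hP0
      calc Nat.card P * (n * YF.card) = (Nat.card P * YF.card) * n := by ring
        _ ≤ Nat.card N * n := Nat.mul_le_mul_right _ hcount1
        _ = Nat.card P * M := by rw [hNcard, hPM]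
    rw [hYe] at h5
    rw [hXe] at hM_le
    have h6 : n * ((YF.erase 1).card + 1) = n * (YF.erase 1).card + n := by ring
    omega
  have hPn : (P : Subgroup G).Normal := by
    have : N = ⊤ := Subgroup.index_eq_one.1 hn1
    exact Subgroup.normalizer_eq_top_iff.1 this
  refine ⟨hPn, ?_⟩
  -- Schur-Zassenhaus
  obtain ⟨H, hH⟩ := Subgroup.exists_right_complement'_of_coprime P.card_coprime_index
  have hHcard : Nat.card H = M := hH.symm.index_eq_card.symm
  have hHcop : ∀ x ∈ H, x ∈ C := by
    intro x hx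
    have h1 : x ^ M = 1 := by
      rw [← hHcard]
      have := pow_card_eq_one' (x := (⟨x, hx⟩ : H))
      exact congrArg Subtype.val this
    obtain ⟨g, hg⟩ := hconj x h1
    have h2 : g ∈ N := by
      have : N = ⊤ := Subgroup.index_eq_one.1 hn1
      rw [this]; trivial
    have h3 := hNC _ (N.inv_mem h2) _ hg
    have h4 : g⁻¹ * (g * x * g⁻¹) * g⁻¹⁻¹ = x := by group
    rwa [h4] at h3
  refine ⟨H, ?_, by rw [hHcard]; exact hindex, hH.disjoint.eq_bot, hH.sup_eq_top⟩
  constructor
  intro x hx g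
  have hg : g ∈ (P : Subgroup G) ⊔ H := by rw [hH.sup_eq_top]; trivial
  obtain ⟨u, hu, y, hy, rfl⟩ := Subgroup.mem_sup_of_normal_left.1 hg
  have h1 : y * x * y⁻¹ ∈ H := H.mul_mem (H.mul_mem hy hx) (H.inv_mem hy)
  have h2 := Subgroup.mem_centralizer_iff.1 (hHcop _ h1) u hu
  have h3 : u * y * x * (u * y)⁻¹ = u * (y * x * y⁻¹) * u⁻¹ := by group
  rw [h3, h2, mul_inv_cancel_right]
  exact h1

end Cfsg.Agent.S4035
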