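import Cfsg.Statements.S4113
import Cfsg.Agent.Lib.H19.Basic
import Mathlib

set_option autoImplicit false
open Cfsg

namespace Cfsg.Agent.S4113

open Cfsg.Agent.H19

/-- Let G be a finite group, M ≤ N non-trivial proper normal subgroups, and H a subgroup with HM = G and H ∩ M = 1. Then every element of G outside N acts fixed-point-freely on M (C_G(x) ≤ N for every x ∈ M, x ≠ 1) if and only if H ∩ gHg⁻¹ ≤ H ∩ N for every g outside H, with H proper and non-trivial and H ∩ N proper in H. -/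
theorem result {G : Type*} [Group G] [Finite G] (N M : Subgroup G) [N.Normal] [M.Normal] (hMN : M ≤ N) (hM1 : M ≠ ⊥) (hN2 : N ≠ ⊤)
    (H : Subgroup G) (hHM : H ⊔ M = ⊤) (hHM' : H ⊓ M = ⊥) :
    (∀ x ∈ M, x ≠ 1 → Subgroup.centralizer ({x} : Set G) ≤ N) ↔
      (H ≠ ⊥ ∧ H ≠ ⊤ ∧ H ⊓ N < H ∧ ∀ g : G, g ∉ H → H ⊓ H.map (MulAut.conj g).toMonoidHom ≤ N) := by
  classical
  -- decomposition G = H M
  have hdec : ∀ g : G, ∃ h ∈ H, ∃ m ∈ M, g = h * m := by
    intro g
    have hg : g ∈ H ⊔ M := by rw [hHM]; exact Subgroup.mem_top g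
    rw [← SetLike.mem_coe, Subgroup.mul_normal] at hg
    obtain ⟨h, hh, m, hm, rfl⟩ := hg
    exact ⟨h, hh, m, hm, rfl⟩
  have hdisj : ∀ x ∈ H, x ∈ M → x = 1 := by
    intro x hx hx'
    have : x ∈ H ⊓ M := ⟨hx, hx'⟩
    rw [hHM'] at this
    exact this
  -- H not inside N
  have hHN : ¬ H ≤ N := by
    intro hle
    apply hN2
    rw [eq_top_iff, ← hHM]
    exact sup_le hle hMN
  have hHbot : H ≠ ⊥ := by
    rintro rfl
    exact hHN bot_le
  have hHtop : H ≠ ⊤ := by
    rintro rfl
    apply hM1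
    rw [top_inf_eq] at hHM'
    exact hHM'
  have hlt : H ⊓ N < H := by
    refine lt_of_le_of_ne inf_le_left ?_
    intro heq
    apply hHN
    rw [← heq]
    exact inf_le_right
  constructor
  · intro hfp
    refine ⟨hHbot, hHtop, hlt, ?_⟩
    intro g hg y hy
    obtain ⟨hy1, hy2⟩ := Subgroup.mem_inf.1 hy
    rw [mem_map_conj] at hy2
    -- write g = h m
    obtain ⟨h, hh, m, hm, rfl⟩ := hdec g
    have hm1 : m ≠ 1 := by
      rintro rfl
      apply hg
      simpa using hh
    -- z := m⁻¹ h⁻¹ y h m ∈ H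
    -- so w := h⁻¹ y h ∈ H, and m⁻¹ w m ∈ H; mod M they agree
    set w := h⁻¹ * y * h with hw
    have hwH : w ∈ H := H.mul_mem (H.mul_mem (H.inv_mem hh) hy1) hh
    have hz : m⁻¹ * w * m ∈ H := by
      have : (h * m)⁻¹ * y * (h * m) = m⁻¹ * w * m := by
        simp only [hw]; group
      rwa [← this]
    -- w⁻¹ * (m⁻¹ w m) ∈ H ∩ M
    have h1 : w⁻¹ * (m⁻¹ * w * m) ∈ H := H.mul_mem (H.inv_mem hwH) hz
    have h2 : w⁻¹ * (m⁻¹ * w * m) ∈ M := by
      have hnorm : w⁻¹ * m⁻¹ * w ∈ M := by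
        have := Subgroup.Normal.conj_mem (inferInstance : M.Normal) m⁻¹ (M.inv_mem hm) w⁻¹
        simpa using this
      have : w⁻¹ * (m⁻¹ * w * m) = (w⁻¹ * m⁻¹ * w) * m := by group
      rw [this]
      exact M.mul_mem hnorm hm
    have h3 := hdisj _ h1 h2
    -- so m commutes with w
    have hcomm : m * w = w * m := by
      have h4 : m⁻¹ * w * m = w := by
        rw [← mul_right_inj w⁻¹]
        simpa using h3
      calc m * w = m * (m⁻¹ * w * m) := by rw [h4]
        _ = w * m := by group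
    have hwN : w ∈ N := by
      apply hfp m hm hm1
      rw [Subgroup.mem_centralizer_iff]
      intro z hz
      have hz' : z = m := hz
      rw [hz']
      exact hcomm
    -- y = h w h⁻¹ ∈ N
    have : y = h * w * h⁻¹ := by simp only [hw]; group
    rw [this]
    exact (inferInstance : N.Normal).conj_mem w hwN h
  · rintro ⟨-, -, -, hcond⟩ x hxM hx1 g hgC
    by_contra hgN
    -- g = h m
    obtain ⟨h, hh, m, hm, rfl⟩ := hdec g
    have hhN : h ∉ N := by
      intro hhN
      exact hgN (N.mul_mem hhN (hMN hm))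
    -- commutator map on M is injective
    have hfix : ∀ c ∈ M, c * h = h * c → c = 1 := by
      intro c hc hch
      by_contra hc1
      have hcH : c ∉ H := fun hcH => hc1 (hdisj c hcH hc)
      apply hhN
      apply hcond c hcH
      refine Subgroup.mem_inf.2 ⟨hh, ?_⟩
      rw [mem_map_conj]
      have : c⁻¹ * h * c = h := by
        rw [mul_assoc, ← hch]; simp
      rw [this]; exact hh
    -- every element of M h is M-conjugate to h
    let φ : M → M := fun a => ⟨a⁻¹ * (h * a * h⁻¹), by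
      apply M.mul_mem (M.inv_mem a.2)
      exact (inferInstance : M.Normal).conj_mem (a : G) a.2 h⟩
    have hφinj : Function.Injective φ := by
      intro a b hab
      have h1 : (a : G)⁻¹ * (h * a * h⁻¹) = (b : G)⁻¹ * (h * b * h⁻¹) := congrArg Subtype.val hab
      -- (b a⁻¹) commutes with h
      have h2 : ((b : G) * (a : G)⁻¹) * h = h * ((b : G) * (a : G)⁻¹) := by
        have h3 : (b : G) * (a : G)⁻¹ * (h * a * h⁻¹) = h * b * h⁻¹ := by
          calc (b : G) * (a : G)⁻¹ * (h * a * h⁻¹) = (b : G) * ((a : G)⁻¹ * (h * a * h⁻¹)) := by group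
            _ = (b : G) * ((b : G)⁻¹ * (h * b * h⁻¹)) := by rw [h1]
            _ = h * b * h⁻¹ := by group
        have h4 : (b : G) * (a : G)⁻¹ * h = h * b * h⁻¹ * (h * (a : G)⁻¹ * h⁻¹) * h := by
          rw [← h3]; group
        rw [h4]; group
      have h5 := hfix _ (M.mul_mem b.2 (M.inv_mem a.2)) h2
      ext
      exact (mul_inv_eq_one.1 h5).symm
    have hφsurj : Function.Surjective φ := Finite.surjective_of_injective hφinj
    -- h * m is conjugate to h by an element of M
    obtain ⟨a, ha⟩ := hφsurj ⟨h * m * h⁻¹, (inferInstance : M.Normal).conj_mem m hm h⟩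
    have ha' : (a : G)⁻¹ * (h * a * h⁻¹) = h * m * h⁻¹ := congrArg Subtype.val ha
    -- so a⁻¹ h a = h m
    have hconj : (a : G)⁻¹ * h * a = h * m := by
      have : (a : G)⁻¹ * (h * a * h⁻¹) * h = h * m * h⁻¹ * h := by rw [ha']
      calc (a : G)⁻¹ * h * a = (a : G)⁻¹ * (h * a * h⁻¹) * h := by group
        _ = h * m * h⁻¹ * h := this
        _ = h * m := by group
    -- x' := a x a⁻¹ commutes with h
    set x' := (a : G) * x * (a : G)⁻¹ with hx'
    have hx'M : x' ∈ M := (inferInstance : M.Normal).conj_mem x hxM a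
    have hx'1 : x' ≠ 1 := by
      intro h0
      apply hx1
      have : x = (a : G)⁻¹ * x' * a := by simp only [hx']; group
      rw [this, h0]; simp
    have hc0 := Subgroup.mem_centralizer_iff.1 hgC x rfl
    have hc1 : x * (h * m) = (h * m) * x := hc0
    rw [← hconj] at hc1
    have hc2 : x' * h = h * x' := by
      have h6 : (a : G) * (x * ((a : G)⁻¹ * h * a)) * (a : G)⁻¹ = (a : G) * (((a : G)⁻¹ * h * a) * x) * (a : G)⁻¹ := by
        rw [hc1]
      calc x' * h = (a : G) * (x * ((a : G)⁻¹ * h * a)) * (a : G)⁻¹ := by simp only [hx']; group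
        _ = (a : G) * (((a : G)⁻¹ * h * a) * x) * (a : G)⁻¹ := h6
        _ = h * x' := by simp only [hx']; group
    exact hx'1 (hfix x' hx'M hc2)

end Cfsg.Agent.S4113
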