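import Cfsg.Statements.S4127
import Cfsg.Agent.S4035
import Cfsg.Agent.Lib.H19.Lifts
import Cfsg.Agent.Lib.H19.FrobCount
import Cfsg.Agent.Lib.H18.Prod
import Cfsg.Agent.Lib.H18.Syl

set_option autoImplicit false
open Cfsg

namespace Cfsg.Agent.S4127

open Cfsg.Agent.H19

section
variable {G : Type*} [Group G] [Finite G]

theorem mem_zpowers_mul_left {x y : G} (hc : Commute x y) (hcop : (orderOf x).Coprime (orderOf y)) :
    x ∈ Subgroup.zpowers (x * y) := by
  have h1 : x ∈ Subgroup.zpowers (x ^ orderOf y) := mem_zpowers_pow_of_coprime hcop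
  have h2 : x ^ orderOf y = (x * y) ^ orderOf y := by
    rw [hc.mul_pow, pow_orderOf_eq_one, mul_one]
  rw [h2] at h1
  have h3 : Subgroup.zpowers ((x * y) ^ orderOf y) ≤ Subgroup.zpowers (x * y) := by
    rw [Subgroup.zpowers_le]
    exact Subgroup.pow_mem _ (Subgroup.mem_zpowers _) _
  exact h3 h1

theorem centralizer_mul {x y : G} (hc : Commute x y) (hcop : (orderOf x).Coprime (orderOf y)) :
    Subgroup.centralizer ({x * y} : Set G) =
      Subgroup.centralizer ({x} : Set G) ⊓ Subgroup.centralizer ({y} : Set G) := by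
  ext g
  simp only [Subgroup.mem_inf, Subgroup.mem_centralizer_singleton_iff]
  constructor
  · intro h
    have hcomm : Commute g (x * y) := h
    have hx : x ∈ Subgroup.zpowers (x * y) := mem_zpowers_mul_left hc hcop
    have hy : y ∈ Subgroup.zpowers (x * y) := by
      have := mem_zpowers_mul_left hc.symm hcop.symm
      rwa [hc.symm.eq] at this
    obtain ⟨i, hi⟩ := hx
    obtain ⟨j, hj⟩ := hy
    constructor
    · rw [← hi]
      exact (hcomm.zpow_right i).eq
    · rw [← hj]
      exact (hcomm.zpow_right j).eq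
  · rintro ⟨h1, h2⟩
    have h3 : Commute g x := h1
    have h4 : Commute g y := h2
    exact (h3.mul_right h4).eq

end

theorem result {G : Type*} [Group G] [Finite G] (p : ℕ) [Fact p.Prime]
    (a : ℕ) (hmax : ∀ y : G, ¬ p ^ (a + 1) ∣ (Subgroup.centralizer ({y} : Set G)).index)
    (hx : ∃ x : G, (∃ k : ℕ, orderOf x = p ^ k) ∧ (Subgroup.centralizer ({x} : Set G)).index = p ^ a) :
    Cfsg.HasNormalPComplement p G := by
  classical
  have hpp : p.Prime := Fact.out
  obtain ⟨x, ⟨k, hxk⟩, hxa⟩ := hx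
  set C := Subgroup.centralizer ({x} : Set G) with hC
  have hmemC : ∀ g : G, g ∈ C ↔ g * x = x * g := fun g => Subgroup.mem_centralizer_singleton_iff
  -- class sizes in `C`
  have hcl : ∀ y : C, (orderOf y).Coprime p → ¬ p ∣ (ConjClasses.mk y).carrier.ncard := by
    intro y hy hdvd
    have hyord : orderOf (y : G) = orderOf y := Subgroup.orderOf_coe y
    have hyx : Commute x (y : G) := ((hmemC y).mp y.2).symm
    have hcop : (orderOf x).Coprime (orderOf (y : G)) := by
      rw [hxk, hyord]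
      exact (Nat.Coprime.pow_right _ hy).symm
    have hcen := centralizer_mul hyx hcop
    set E := Subgroup.centralizer ({y} : Set C) with hE
    have h1 := card_class_mul_card_centralizer y
    have h2 := E.card_mul_index
    have h3 : (ConjClasses.mk y).carrier.ncard = E.index := by
      have hpos : 0 < Nat.card E := Nat.card_pos
      apply Nat.eq_of_mul_eq_mul_right hpos
      rw [h1, mul_comm E.index, h2]
    have h4 : (Subgroup.centralizer ({(y : G)} : Set G)).subgroupOf C = E := by
      ext z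
      rw [Subgroup.mem_subgroupOf, hE, Subgroup.mem_centralizer_singleton_iff,
        Subgroup.mem_centralizer_singleton_iff]
      constructor
      · intro h
        exact Subtype.ext h
      · intro h
        exact congrArg Subtype.val h
    have h5 : (Subgroup.centralizer ({x * (y : G)} : Set G)).index = p ^ a * E.index := by
      rw [hcen, ← hC, ← h4]
      have h6 := Subgroup.relIndex_mul_index (H := C ⊓ Subgroup.centralizer ({(y : G)} : Set G))
        (K := C) inf_le_left
      rw [← h6, hxa, mul_comm]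
      congr 1
      rw [inf_comm, Subgroup.inf_relIndex_right]
      rfl
    apply hmax (x * (y : G))
    rw [h5, pow_succ]
    rw [h3] at hdvd
    exact Nat.mul_dvd_mul_left _ hdvd
  obtain ⟨P₀⟩ : Nonempty (Sylow p C) := Sylow.nonempty
  obtain ⟨hP₀n, H, hHn, hHcop, hinf, hsup⟩ := Cfsg.Agent.S4035.result hcl P₀
  -- cardinalities in `C`
  have hTcard : Nat.card C = Nat.card (P₀ : Subgroup C) * Nat.card H := by
    have h1 := H18.card_sup_mul_card_inf (P₀ : Subgroup C) H
    rw [hinf, hsup, Subgroup.card_top, Subgroup.card_bot, mul_one] at h1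
    exact h1
  obtain ⟨b, hb⟩ := IsPGroup.iff_card.mp P₀.2
  have hHindex : H.index = p ^ b := by
    have h1 := H.card_mul_index
    have hpos : 0 < Nat.card H := Nat.card_pos
    apply Nat.eq_of_mul_eq_mul_left hpos
    rw [h1, hTcard, hb, mul_comm]
  have hHcop' : (Nat.card H).Coprime p := ((Nat.Prime.coprime_iff_not_dvd hpp).mpr hHcop).symm
  -- `p`-prime elements of `C` lie in `H`
  have hppH : ∀ y : C, (orderOf y).Coprime p → y ∈ H := by
    intro y hy
    have h1 : y ^ H.index ∈ H := Subgroup.pow_index_mem H y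
    have h2 : y ∈ Subgroup.zpowers (y ^ H.index) := by
      apply mem_zpowers_pow_of_coprime
      rw [hHindex]
      exact Nat.Coprime.pow_right _ hy
    exact (Subgroup.zpowers_le.mpr h1) h2
  -- `p`-elements of `C` centralize `H`
  have hpcomm : ∀ c : C, (∃ e, orderOf c = p ^ e) → ∀ y ∈ H, c * y = y * c := by
    rintro c ⟨e, he⟩ y hy
    have hc : c ∈ (P₀ : Subgroup C) := mem_sylow_of_normal he P₀ hP₀n
    have hdis : Disjoint (P₀ : Subgroup C) H := by
      rw [disjoint_iff]
      exact hinf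
    exact (Subgroup.commute_of_normal_of_disjoint _ _ hP₀n hHn hdis c y hc hy).eq
  set H₀ : Subgroup G := H.map C.subtype with hH₀
  have hH₀C : H₀ ≤ C := by
    rintro _ ⟨y, _, rfl⟩
    exact y.2
  have hH₀card : Nat.card H₀ = Nat.card H :=
    (Nat.card_congr (H.equivMapOfInjective _ C.subtype_injective).toEquiv).symm
  have hH₀ord : ∀ y ∈ H₀, (orderOf y).Coprime p := by
    intro y hy
    have h1 : orderOf y ∣ Nat.card H₀ := by
      have := orderOf_dvd_natCard (⟨y, hy⟩ : H₀)
      rwa [Subgroup.orderOf_mk] at this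
    rw [hH₀card] at h1
    exact Nat.Coprime.coprime_dvd_left h1 hHcop'
  -- a Sylow subgroup containing `x`; `G = C R`
  obtain ⟨R, hxR⟩ := exists_sylow_of_orderOf hxk
  have hGcard : Nat.card C * p ^ a = Nat.card G := by
    rw [← hxa]
    exact C.card_mul_index
  have hfact : ∀ g : G, ∃ c ∈ C, ∃ r ∈ (R : Subgroup G), g = c * r := by
    intro g
    have hA : C ≤ ⊤ := le_top
    have hB : (R : Subgroup G) ≤ ⊤ := le_top
    refine H18.eq_mul_of_card_eq hA hB ?_ (Subgroup.mem_top g)
    apply le_antisymm (H18.card_mul_card_le hA hB)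
    rw [Subgroup.card_top, ← hGcard]
    obtain ⟨e, he⟩ := IsPGroup.iff_card.mp (R.2.to_le (inf_le_right : C ⊓ (R : Subgroup G) ≤ R))
    have h1 : Nat.card (C ⊓ (R : Subgroup G) : Subgroup G) ∣ Nat.card C :=
      Subgroup.card_dvd_of_le inf_le_left
    have h2 : p ^ (e + a) ∣ Nat.card G := by
      rw [← hGcard, pow_add, ← he]
      exact Nat.mul_dvd_mul_right h1 _
    have h3 : p ^ (e + a) ∣ Nat.card (R : Subgroup G) := Sylow.pow_dvd_card_of_pow_dvd_card R h2
    have h4 := Nat.le_of_dvd Nat.card_pos h3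
    rw [pow_add, ← he] at h4
    calc Nat.card C * p ^ a * Nat.card (C ⊓ (R : Subgroup G) : Subgroup G)
        = Nat.card C * (Nat.card (C ⊓ (R : Subgroup G) : Subgroup G) * p ^ a) := by ring
      _ ≤ Nat.card C * Nat.card (R : Subgroup G) := Nat.mul_le_mul_left _ h4
  have hconjR : ∀ g : G, g * x * g⁻¹ ∈ (R : Subgroup G) := by
    intro g
    obtain ⟨c, hc, r, hr, hg⟩ := hfact g⁻¹
    have h1 : g = r⁻¹ * c⁻¹ := by
      have : g = (g⁻¹)⁻¹ := (inv_inv g).symm
      rw [this, hg, mul_inv_rev]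
    have hcx : c⁻¹ * x * c = x := by
      rw [mul_assoc, ← (hmemC c).mp hc, ← mul_assoc, inv_mul_cancel, one_mul]
    have h2 : g * x * g⁻¹ = r⁻¹ * x * r := by
      rw [h1, mul_inv_rev, inv_inv, inv_inv]
      calc r⁻¹ * c⁻¹ * x * (c * r) = r⁻¹ * (c⁻¹ * x * c) * r := by group
        _ = r⁻¹ * x * r := by rw [hcx]
    rw [h2]
    exact Subgroup.mul_mem _ (Subgroup.mul_mem _ (Subgroup.inv_mem _ hr) hxR) hr
  -- the normal closure of `x`
  set X := Subgroup.normalClosure ({x} : Set G) with hX
  haveI hXn : X.Normal := Subgroup.normalClosure_normal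
  have hxX : x ∈ X := Subgroup.subset_normalClosure (Set.mem_singleton x)
  have hXR : X ≤ (R : Subgroup G) := by
    rw [hX, Subgroup.normalClosure, Subgroup.closure_le]
    intro y hy
    rw [Group.mem_conjugatesOfSet_iff] at hy
    obtain ⟨w, hw, hwy⟩ := hy
    rw [Set.mem_singleton_iff] at hw
    subst hw
    obtain ⟨g, hg⟩ := isConj_iff.mp hwy
    rw [← hg]
    exact hconjR g
  have hXp : IsPGroup p X := R.2.to_le hXR
  -- `H₀` centralizes `X`
  have hXcen : ∀ n ∈ X, ∀ y ∈ H₀, y * n = n * y := by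
    set D := X ⊓ Subgroup.centralizer (H₀ : Set G) with hD
    have hDX : D ≤ X := inf_le_left
    have hmemD : ∀ g : G, g ∈ D ↔ g ∈ X ∧ ∀ y ∈ H₀, y * g = g * y := by
      intro g
      rw [hD, Subgroup.mem_inf, Subgroup.mem_centralizer_iff]
      constructor
      · rintro ⟨h1, h2⟩
        exact ⟨h1, fun y hy => h2 y hy⟩
      · rintro ⟨h1, h2⟩
        exact ⟨h1, fun y hy => h2 y hy⟩
    suffices hDeq : D = X by
      intro n hn
      rw [← hDeq] at hn
      exact ((hmemD n).mp hn).2
    by_contra hne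
    have hlt : D < X := lt_of_le_of_ne hDX hne
    haveI : Group.IsNilpotent X := hXp.isNilpotent
    obtain ⟨n, hnX, hnD, hnN⟩ := exists_mem_normalizer_of_lt hlt inferInstance
    apply hnD
    refine (hmemD n).mpr ⟨hnX, ?_⟩
    intro y hy
    set c := n⁻¹ * (y * n * y⁻¹) with hc
    have hcX : c ∈ X := X.mul_mem (X.inv_mem hnX) (hXn.conj_mem n hnX y)
    have hnconj : ∀ d ∈ D, n * d * n⁻¹ ∈ D := by
      intro d hd
      exact (Subgroup.mem_normalizer_iff.mp hnN d).mp hd
    -- `c` centralizes `D`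
    have hcD : ∀ d ∈ D, c * d = d * c := by
      intro d hd
      have h1 : y * d = d * y := ((hmemD d).mp hd).2 y hy
      have h2 : y * (n * d * n⁻¹) = (n * d * n⁻¹) * y := ((hmemD _).mp (hnconj d hd)).2 y hy
      have h1' : y⁻¹ * d * y = d := by
        rw [mul_assoc, ← h1, ← mul_assoc, inv_mul_cancel, one_mul]
      have h2' : y * n * d * n⁻¹ * y⁻¹ = n * d * n⁻¹ := by
        calc y * n * d * n⁻¹ * y⁻¹ = y * (n * d * n⁻¹) * y⁻¹ := by group
          _ = n * d * n⁻¹ := by rw [h2, mul_assoc, mul_inv_cancel, mul_one]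
      have h3 : (y * n * y⁻¹) * d * (y * n * y⁻¹)⁻¹ = n * d * n⁻¹ := by
        calc (y * n * y⁻¹) * d * (y * n * y⁻¹)⁻¹
            = y * n * (y⁻¹ * d * y) * n⁻¹ * y⁻¹ := by group
          _ = y * n * d * n⁻¹ * y⁻¹ := by rw [h1']
          _ = n * d * n⁻¹ := h2'
      have h4 : c * d * c⁻¹ = d := by
        rw [hc]
        calc n⁻¹ * (y * n * y⁻¹) * d * (n⁻¹ * (y * n * y⁻¹))⁻¹
            = n⁻¹ * ((y * n * y⁻¹) * d * (y * n * y⁻¹)⁻¹) * n := by group
          _ = n⁻¹ * (n * d * n⁻¹) * n := by rw [h3]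
          _ = d := by group
      rw [mul_inv_eq_iff_eq_mul] at h4
      exact h4
    -- `x ∈ D`, so `c ∈ C`
    have hxD : x ∈ D := by
      refine (hmemD x).mpr ⟨hxX, ?_⟩
      intro y' hy'
      exact (hmemC y').mp (hH₀C hy')
    have hcC : c ∈ C := (hmemC c).mpr (hcD x hxD)
    obtain ⟨e, he⟩ := orderOf_of_mem_isPGroup hXp hcX
    have hcord : orderOf (⟨c, hcC⟩ : C) = p ^ e := by
      rw [Subgroup.orderOf_mk]
      exact he
    -- `c` commutes with `H₀`
    have hcH : ∀ y' ∈ H₀, y' * c = c * y' := by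
      rintro _ ⟨y', hy', rfl⟩
      have := hpcomm ⟨c, hcC⟩ ⟨e, hcord⟩ y' hy'
      have h5 := congrArg Subtype.val this
      exact h5.symm
    have hcy : y * c = c * y := hcH y hy
    have hyn : y * n * y⁻¹ = n * c := by
      rw [hc]
      group
    have hpow : ∀ j : ℕ, y ^ j * n * (y ^ j)⁻¹ = n * c ^ j := by
      intro j
      induction j with
      | zero => simp
      | succ j ih =>
        calc y ^ (j + 1) * n * (y ^ (j + 1))⁻¹
            = y ^ j * (y * n * y⁻¹) * (y ^ j)⁻¹ := by
              rw [pow_succ]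
              group
          _ = y ^ j * (n * c) * (y ^ j)⁻¹ := by rw [hyn]
          _ = (y ^ j * n * (y ^ j)⁻¹) * (y ^ j * c * (y ^ j)⁻¹) := by group
          _ = n * c ^ j * c := by
              have hcomm : Commute (y ^ j) c := (Commute.pow_left hcy j)
              rw [ih, hcomm.eq, mul_assoc c, mul_inv_cancel, mul_one]
          _ = n * c ^ (j + 1) := by
              rw [pow_succ, mul_assoc]
    have h6 := hpow (orderOf y)
    rw [pow_orderOf_eq_one, one_mul, inv_one, mul_one] at h6
    have h7 : c ^ orderOf y = 1 := by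
      have := mul_left_cancel (a := n) (b := 1) (c := c ^ orderOf y) (by rw [mul_one]; exact h6)
      exact this.symm
    have h8 : orderOf c ∣ orderOf y := orderOf_dvd_of_pow_eq_one h7
    have h9 : (orderOf y).Coprime p := hH₀ord y hy
    have h10 : orderOf c = 1 := by
      have h11 : (orderOf c).Coprime p := Nat.Coprime.coprime_dvd_left h8 h9
      rw [he] at h11 ⊢
      rcases Nat.eq_zero_or_pos e with h0 | h0
      · rw [h0, pow_zero]
      · exfalso
        have h12 : p ∣ p ^ e := dvd_pow_self p h0.ne'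
        have h13 : p ∣ Nat.gcd (p ^ e) p := Nat.dvd_gcd h12 dvd_rfl
        rw [h11] at h13
        exact hpp.one_lt.ne' (Nat.dvd_one.mp h13)
    have hc1 : c = 1 := orderOf_eq_one_iff.mp h10
    rw [hc1, mul_one] at hyn
    rw [mul_inv_eq_iff_eq_mul] at hyn
    exact hyn
  -- `H₀` is normal
  have hH₀n : H₀.Normal := by
    constructor
    intro y hy g
    have h1 : g * y * g⁻¹ ∈ C := by
      rw [hmemC]
      have h2 : g⁻¹ * x * g ∈ X := by
        have := hXn.conj_mem x hxX g⁻¹
        simpa using this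
      have h3 := hXcen _ h2 y hy
      calc g * y * g⁻¹ * x = g * (y * (g⁻¹ * x * g)) * g⁻¹ := by group
        _ = g * ((g⁻¹ * x * g) * y) * g⁻¹ := by rw [h3]
        _ = x * (g * y * g⁻¹) := by group
    have hord : (orderOf (⟨g * y * g⁻¹, h1⟩ : C)).Coprime p := by
      rw [Subgroup.orderOf_mk]
      have : g * y * g⁻¹ = (MulAut.conj g) y := rfl
      rw [this, MulEquiv.orderOf_eq]
      exact hH₀ord y hy
    exact ⟨_, hppH _ hord, rfl⟩
  -- the complement
  obtain ⟨P⟩ : Nonempty (Sylow p G) := Sylow.nonempty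
  refine ⟨P, H₀, hH₀n, ?_⟩
  obtain ⟨c, hc⟩ := IsPGroup.iff_card.mp P.2
  have hGc : Nat.card G = p ^ (a + b) * Nat.card H := by
    rw [← hGcard, hTcard, hb, pow_add]
    ring
  have h1 : p ^ (a + b) ∣ Nat.card (P : Subgroup G) :=
    Sylow.pow_dvd_card_of_pow_dvd_card P (Dvd.intro _ hGc.symm)
  have h2 : p ^ c ∣ p ^ (a + b) := by
    have h3 : p ^ c ∣ Nat.card G := by
      rw [← hc]
      exact Subgroup.card_subgroup_dvd_card _
    rw [hGc] at h3
    exact Nat.Coprime.dvd_of_dvd_mul_right (Nat.Coprime.pow_left _ hHcop'.symm) h3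
  have hPcard : Nat.card (P : Subgroup G) = p ^ (a + b) := Nat.dvd_antisymm (by rw [hc]; exact h2) h1
  apply Subgroup.isComplement'_of_coprime
  · rw [hH₀card, hPcard, mul_comm, ← hGc]
  · rw [hH₀card, hPcard]
    exact Nat.Coprime.pow_right _ hHcop'

end Cfsg.Agent.S4127
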