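import Cfsg.Statements.S4198
import Mathlib

set_option autoImplicit false
set_option linter.unusedVariables false
open Cfsg

namespace Cfsg.Agent.S4198

open Equiv.Perm

/-! ### partitions -/

private noncomputable def erase1 {n : ℕ} (P : Nat.Partition (n + 1)) (h : 1 ∈ P.parts) :
    Nat.Partition n where
  parts := P.parts.erase 1
  parts_pos := fun hi => P.parts_pos (Multiset.mem_of_mem_erase hi)
  parts_sum := by
    have h1 := Multiset.sum_erase h
    have h2 := P.parts_sum
    omega

private lemma minPart_spec {n : ℕ} (P : Nat.Partition (n + 1)) :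
    ∃ m ∈ P.parts, ∀ x ∈ P.parts, m ≤ x := by
  have hne : {x | x ∈ P.parts}.Nonempty := by
    by_contra hcon
    rw [Set.not_nonempty_iff_eq_empty] at hcon
    have h0 : P.parts = 0 := by
      rw [Multiset.eq_zero_iff_forall_notMem]
      intro a ha
      have : a ∈ {x | x ∈ P.parts} := ha
      rw [hcon] at this
      exact this
    have h2 := P.parts_sum
    rw [h0] at h2
    simp at h2
  exact ⟨sInf _, Nat.sInf_mem hne, fun x hx => Nat.sInf_le hx⟩

private noncomputable def minPart {n : ℕ} (P : Nat.Partition (n + 1)) : ℕ :=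
  (minPart_spec P).choose

private lemma minPart_mem {n : ℕ} (P : Nat.Partition (n + 1)) : minPart P ∈ P.parts :=
  (minPart_spec P).choose_spec.1

private lemma minPart_le {n : ℕ} (P : Nat.Partition (n + 1)) {x : ℕ} (hx : x ∈ P.parts) :
    minPart P ≤ x :=
  (minPart_spec P).choose_spec.2 x hx

private lemma two_le_minPart {n : ℕ} (P : Nat.Partition (n + 1)) (h : 1 ∉ P.parts) :
    2 ≤ minPart P := by
  have h1 := P.parts_pos (minPart_mem P)
  by_contra hcon
  have : minPart P = 1 := by omega
  have h5 := minPart_mem P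
  rw [this] at h5
  exact h h5

private noncomputable def dec1 {n : ℕ} (P : Nat.Partition (n + 1)) (h : 1 ∉ P.parts) :
    Nat.Partition n where
  parts := (minPart P - 1) ::ₘ P.parts.erase (minPart P)
  parts_pos := by
    intro i hi
    rw [Multiset.mem_cons] at hi
    rcases hi with rfl | hi
    · have := two_le_minPart P h
      omega
    · exact P.parts_pos (Multiset.mem_of_mem_erase hi)
  parts_sum := by
    have h1 := Multiset.sum_erase (minPart_mem P)
    have h2 := P.parts_sum
    have h3 := two_le_minPart P h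
    rw [Multiset.sum_cons]
    omega

private noncomputable def stepMap {n : ℕ} (P : Nat.Partition (n + 1)) :
    Nat.Partition n × Bool := by
  classical
  exact if h : 1 ∈ P.parts then (erase1 P h, true) else (dec1 P h, false)

private lemma stepMap_inj {n : ℕ} : Function.Injective (stepMap (n := n)) := by
  classical
  intro P Q hPQ
  unfold stepMap at hPQ
  by_cases hP : 1 ∈ P.parts <;> by_cases hQ : 1 ∈ Q.parts
  · simp only [hP, hQ, dite_true, Prod.mk.injEq, and_true] at hPQ
    have h1 : P.parts.erase 1 = Q.parts.erase 1 := congrArg Nat.Partition.parts hPQ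
    apply Nat.Partition.ext
    rw [← Multiset.cons_erase hP, ← Multiset.cons_erase hQ, h1]
  · simp [hP, hQ] at hPQ
  · simp [hP, hQ] at hPQ
  · simp only [hP, hQ, dite_false, Prod.mk.injEq, and_true] at hPQ
    have h1 : (minPart P - 1) ::ₘ P.parts.erase (minPart P)
        = (minPart Q - 1) ::ₘ Q.parts.erase (minPart Q) := congrArg Nat.Partition.parts hPQ
    have hmP := two_le_minPart P hP
    have hmQ := two_le_minPart Q hQ
    have hle1 : minPart P - 1 ≤ minPart Q - 1 := by
      have : minPart Q - 1 ∈ (minPart P - 1) ::ₘ P.parts.erase (minPart P) := by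
        rw [h1]; exact Multiset.mem_cons_self _ _
      rw [Multiset.mem_cons] at this
      rcases this with h | h
      · omega
      · have := minPart_le P (Multiset.mem_of_mem_erase h)
        omega
    have hle2 : minPart Q - 1 ≤ minPart P - 1 := by
      have : minPart P - 1 ∈ (minPart Q - 1) ::ₘ Q.parts.erase (minPart Q) := by
        rw [← h1]; exact Multiset.mem_cons_self _ _
      rw [Multiset.mem_cons] at this
      rcases this with h | h
      · omega
      · have := minPart_le Q (Multiset.mem_of_mem_erase h)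
        omega
    have hm : minPart P = minPart Q := by omega
    rw [hm, Multiset.cons_inj_right] at h1
    apply Nat.Partition.ext
    rw [← Multiset.cons_erase (minPart_mem P), ← Multiset.cons_erase (minPart_mem Q), hm, h1]

private lemma card_step (n : ℕ) :
    Nat.card (Nat.Partition (n + 1)) ≤ 2 * Nat.card (Nat.Partition n) := by
  have h := Nat.card_le_card_of_injective _ (stepMap_inj (n := n))
  rw [Nat.card_prod, Nat.card_eq_fintype_card (α := Bool), Fintype.card_bool] at h
  omega

private lemma list_zero (L : List ℕ) (h : L.sum = 0) (hpos : ∀ x ∈ L, 0 < x) : L = [] := by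
  rcases L with _ | ⟨a, L⟩
  · rfl
  · have := hpos a (by simp)
    simp at h
    omega

private lemma list_one (L : List ℕ) (h : L.sum = 1) (hpos : ∀ x ∈ L, 0 < x) : L = [1] := by
  rcases L with _ | ⟨a, L⟩
  · simp at h
  · have h1 := hpos a (by simp)
    have h2 : ∀ x ∈ L, 0 < x := fun x hx => hpos x (by simp [hx])
    rw [List.sum_cons] at h
    have : a = 1 := by omega
    subst this
    have : L = [] := list_zero L (by omega) h2
    rw [this]

private lemma list_two (L : List ℕ) (h : L.sum = 2) (hpos : ∀ x ∈ L, 0 < x) :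
    L = [1, 1] ∨ L = [2] := by
  rcases L with _ | ⟨a, L⟩
  · simp at h
  · have h1 := hpos a (by simp)
    have h2 : ∀ x ∈ L, 0 < x := fun x hx => hpos x (by simp [hx])
    rw [List.sum_cons] at h
    have ha : a ≤ 2 := by omega
    interval_cases a
    · rw [list_one L (by omega) h2]; simp
    · rw [list_zero L (by omega) h2]; simp

private lemma list_three (L : List ℕ) (h : L.sum = 3) (hpos : ∀ x ∈ L, 0 < x) :
    L = [1, 1, 1] ∨ L = [1, 2] ∨ L = [2, 1] ∨ L = [3] := by
  rcases L with _ | ⟨a, L⟩
  · simp at h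
  · have h1 := hpos a (by simp)
    have h2 : ∀ x ∈ L, 0 < x := fun x hx => hpos x (by simp [hx])
    rw [List.sum_cons] at h
    have ha : a ≤ 3 := by omega
    interval_cases a
    · rcases list_two L (by omega) h2 with h3 | h3 <;> rw [h3] <;> simp
    · rw [list_one L (by omega) h2]; simp
    · rw [list_zero L (by omega) h2]; simp

private lemma list_four (L : List ℕ) (h : L.sum = 4) (hpos : ∀ x ∈ L, 0 < x) :
    (L : Multiset ℕ) = {1, 1, 1, 1} ∨ (L : Multiset ℕ) = {2, 1, 1} ∨
    (L : Multiset ℕ) = {2, 2} ∨ (L : Multiset ℕ) = {3, 1} ∨ (L : Multiset ℕ) = {4} := by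
  rcases L with _ | ⟨a, L⟩
  · simp at h
  · have h1 := hpos a (by simp)
    have h2 : ∀ x ∈ L, 0 < x := fun x hx => hpos x (by simp [hx])
    rw [List.sum_cons] at h
    have ha : a ≤ 4 := by omega
    interval_cases a
    · rcases list_three L (by omega) h2 with h3 | h3 | h3 | h3 <;> rw [h3] <;> decide
    · rcases list_two L (by omega) h2 with h3 | h3 <;> rw [h3] <;> decide
    · rw [list_one L (by omega) h2]; decide
    · rw [list_zero L (by omega) h2]; decide

private lemma list_five (L : List ℕ) (h : L.sum = 5) (hpos : ∀ x ∈ L, 0 < x) :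
    (L : Multiset ℕ) ∈ ({{5}, {4, 1}, {3, 2}, {3, 1, 1}, {2, 2, 1}, {2, 1, 1, 1},
      {1, 1, 1, 1, 1}} : Finset (Multiset ℕ)) := by
  rcases L with _ | ⟨a, L⟩
  · simp at h
  · have h1 := hpos a (by simp)
    have h2 : ∀ x ∈ L, 0 < x := fun x hx => hpos x (by simp [hx])
    rw [List.sum_cons] at h
    have ha : a ≤ 5 := by omega
    rw [← Multiset.cons_coe]
    interval_cases a
    · rcases list_four L (by omega) h2 with h3 | h3 | h3 | h3 | h3 <;> rw [h3] <;> decide
    · rcases list_three L (by omega) h2 with h3 | h3 | h3 | h3 <;> rw [h3] <;> decide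
    · rcases list_two L (by omega) h2 with h3 | h3 <;> rw [h3] <;> decide
    · rw [list_one L (by omega) h2]; decide
    · rw [list_zero L (by omega) h2]; decide

private lemma card_five : Nat.card (Nat.Partition 5) ≤ 8 := by
  classical
  let S : Finset (Multiset ℕ) := {{5}, {4, 1}, {3, 2}, {3, 1, 1}, {2, 2, 1}, {2, 1, 1, 1},
      {1, 1, 1, 1, 1}}
  have hS : S.card ≤ 8 := by decide
  have hmem : ∀ P : Nat.Partition 5, P.parts ∈ S := by
    intro P
    obtain ⟨L, hL⟩ := Quotient.exists_rep P.parts
    have hL' : (L : Multiset ℕ) = P.parts := hL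
    rw [← hL']
    apply list_five
    · have := P.parts_sum
      rw [← hL'] at this
      simpa using this
    · intro x hx
      apply P.parts_pos
      rw [← hL']
      simpa using hx
  let f : Nat.Partition 5 → S := fun P => ⟨P.parts, hmem P⟩
  have hf : Function.Injective f := by
    intro P Q h
    apply Nat.Partition.ext
    exact congrArg Subtype.val h
  have h := Nat.card_le_card_of_injective f hf
  rw [Nat.card_eq_fintype_card (α := S), Fintype.card_coe] at h
  omega

private lemma card_bound (n : ℕ) (hn : 5 ≤ n) : Nat.card (Nat.Partition n) ≤ 2 ^ (n - 2) := by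
  induction n, hn using Nat.le_induction with
  | base => exact card_five
  | succ k hk ih =>
    have h1 := card_step k
    have h2 : k + 1 - 2 = (k - 2) + 1 := by omega
    rw [h2, pow_succ]
    omega

/-! ### symmetric group -/

private lemma card_conj_perm_le (n : ℕ) :
    Nat.card (ConjClasses (Equiv.Perm (Fin n))) ≤ Nat.card (Nat.Partition n) := by
  choose r hr using (ConjClasses.exists_rep : ∀ c : ConjClasses (Equiv.Perm (Fin n)),
    ∃ a, ConjClasses.mk a = c)
  have hinj : Function.Injective (fun c => (r c).partition) := by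
    intro c d h
    have : IsConj (r c) (r d) := Equiv.Perm.partition_eq_of_isConj.2 h
    rw [← hr c, ← hr d]
    exact ConjClasses.mk_eq_mk_iff_isConj.2 this
  have h := Nat.card_le_card_of_injective _ hinj
  rwa [Fintype.card_fin] at h

/-! ### alternating versus symmetric -/

private abbrev A (n : ℕ) := alternatingGroup (Fin n)

private lemma mk_eq_of_even {n : ℕ} (x y : A n) (g : Equiv.Perm (Fin n))
    (hg : g ∈ alternatingGroup (Fin n)) (h : g * (x : Equiv.Perm (Fin n)) * g⁻¹ = y) :
    ConjClasses.mk x = ConjClasses.mk y := by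
  rw [ConjClasses.mk_eq_mk_iff_isConj, isConj_iff]
  refine ⟨⟨g, hg⟩, ?_⟩
  apply Subtype.ext
  simpa using h

private lemma not_mem_of_ne {n : ℕ} (x y : A n) (g : Equiv.Perm (Fin n))
    (h : g * (x : Equiv.Perm (Fin n)) * g⁻¹ = y) (hne : ConjClasses.mk x ≠ ConjClasses.mk y) :
    Equiv.Perm.sign g = -1 := by
  by_contra hcon
  rcases Int.units_eq_one_or (Equiv.Perm.sign g) with h1 | h1
  · exact hne (mk_eq_of_even x y g (Equiv.Perm.mem_alternatingGroup.2 h1) h)
  · exact hcon h1

private lemma fiber_two {n : ℕ} (x y z : A n) (g₁ g₂ : Equiv.Perm (Fin n))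
    (h₁ : g₁ * (x : Equiv.Perm (Fin n)) * g₁⁻¹ = z)
    (h₂ : g₂ * (y : Equiv.Perm (Fin n)) * g₂⁻¹ = z)
    (hx : ConjClasses.mk x ≠ ConjClasses.mk z) (hy : ConjClasses.mk y ≠ ConjClasses.mk z) :
    ConjClasses.mk x = ConjClasses.mk y := by
  have s1 := not_mem_of_ne x z g₁ h₁ hx
  have s2 := not_mem_of_ne y z g₂ h₂ hy
  refine mk_eq_of_even x y (g₂⁻¹ * g₁) ?_ ?_
  · rw [Equiv.Perm.mem_alternatingGroup, map_mul, map_inv, s1, s2]
    rfl
  · have : (y : Equiv.Perm (Fin n)) = g₂⁻¹ * z * g₂ := by
      rw [← h₂]; group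
    rw [this, ← h₁]; group

private lemma centralizer_le_of_ne {n : ℕ} (x z : A n) (g : Equiv.Perm (Fin n))
    (h : g * (x : Equiv.Perm (Fin n)) * g⁻¹ = z) (hne : ConjClasses.mk x ≠ ConjClasses.mk z) :
    Subgroup.centralizer {(x : Equiv.Perm (Fin n))} ≤ alternatingGroup (Fin n) := by
  intro c hc
  rw [Subgroup.mem_centralizer_singleton_iff] at hc
  rw [Equiv.Perm.mem_alternatingGroup]
  by_contra hcon
  have s1 := not_mem_of_ne x z g h hne
  have s2 : Equiv.Perm.sign c = -1 := by
    rcases Int.units_eq_one_or (Equiv.Perm.sign c) with h1 | h1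
    · exact absurd h1 hcon
    · exact h1
  apply hne
  refine mk_eq_of_even x z (g * c) ?_ ?_
  · rw [Equiv.Perm.mem_alternatingGroup, map_mul, s1, s2]
    rfl
  · rw [← h, mul_inv_rev]
    have : g * c * (x : Equiv.Perm (Fin n)) * (c⁻¹ * g⁻¹) = g * (c * x * c⁻¹) * g⁻¹ := by group
    rw [this, hc]
    group

/-- The modification of a cycle type: lower one chosen part by one. -/
private noncomputable def pick (m : Multiset ℕ) : ℕ := Classical.epsilon (fun a => a ∈ m)

private lemma pick_mem {m : Multiset ℕ} (h : m ≠ 0) : pick m ∈ m :=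
  Classical.epsilon_spec (Multiset.exists_mem_of_ne_zero h)

private noncomputable def F (m : Multiset ℕ) : Multiset ℕ := (pick m - 1) ::ₘ m.erase (pick m)

/-- the sign computed from the type only -/
private def sgn (m : Multiset ℕ) : ℤˣ := (m.map fun n => -(-1 : ℤˣ) ^ n).prod

private lemma sgn_of_odd {m : Multiset ℕ} (h : ∀ a ∈ m, Odd a) : sgn m = 1 := by
  unfold sgn
  apply Multiset.prod_eq_one
  intro x hx
  rw [Multiset.mem_map] at hx
  obtain ⟨a, ha, rfl⟩ := hx
  rw [(h a ha).neg_one_pow]
  simp

private lemma F_spec {m : Multiset ℕ} (h0 : m ≠ 0) (hodd : ∀ a ∈ m, Odd a) (h2 : ∀ a ∈ m, 2 ≤ a) :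
    sgn (F m) = -1 := by
  have hp := pick_mem h0
  have h3 := h2 _ hp
  obtain ⟨k, hk⟩ := hodd _ hp
  unfold F
  have h4 : sgn ((pick m - 1) ::ₘ m.erase (pick m)) =
      (-(-1 : ℤˣ) ^ (pick m - 1)) * sgn (m.erase (pick m)) := by
    simp [sgn]
  rw [h4, sgn_of_odd (fun a ha => hodd a (Multiset.mem_of_mem_erase ha))]
  have : Even (pick m - 1) := ⟨k, by omega⟩
  rw [this.neg_one_pow]
  simp

private lemma F_inj {m m' : Multiset ℕ} (h0 : m ≠ 0) (h0' : m' ≠ 0)
    (hodd : ∀ a ∈ m, Odd a) (hodd' : ∀ a ∈ m', Odd a)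
    (h2 : ∀ a ∈ m, 2 ≤ a) (h2' : ∀ a ∈ m', 2 ≤ a) (h : F m = F m') : m = m' := by
  have hp := pick_mem h0
  have hp' := pick_mem h0'
  have h3 := h2 _ hp
  have h3' := h2' _ hp'
  obtain ⟨k, hk⟩ := hodd _ hp
  obtain ⟨k', hk'⟩ := hodd' _ hp'
  unfold F at h
  have e1 : Even (pick m - 1) := ⟨k, by omega⟩
  have e2 : Even (pick m' - 1) := ⟨k', by omega⟩
  have hpp : pick m - 1 = pick m' - 1 := by
    have : pick m - 1 ∈ (pick m' - 1) ::ₘ m'.erase (pick m') := by
      rw [← h]; exact Multiset.mem_cons_self _ _
    rw [Multiset.mem_cons] at this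
    rcases this with h5 | h5
    · exact h5
    · exact absurd e1 (Nat.not_even_iff_odd.2 (hodd' _ (Multiset.mem_of_mem_erase h5)))
  have hpp' : pick m = pick m' := by omega
  rw [hpp, Multiset.cons_inj_right] at h
  rw [← Multiset.cons_erase hp, ← Multiset.cons_erase hp', h, hpp']

private theorem main_lt (n : ℕ) (hn : 5 ≤ n) :
    Nat.card (ConjClasses (alternatingGroup (Fin n))) <
      Nat.card (ConjClasses (Equiv.Perm (Fin n))) := by
  classical
  choose r hr using (ConjClasses.exists_rep : ∀ c : ConjClasses (A n), ∃ a, ConjClasses.mk a = c)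
  let mm : ConjClasses (A n) → Multiset ℕ := fun c => ((r c : A n) : Equiv.Perm (Fin n)).cycleType
  haveI : Nonempty (ConjClasses (A n)) := ⟨ConjClasses.mk 1⟩
  let s : Multiset ℕ → ConjClasses (A n) := Function.invFun mm
  have hs : ∀ c, mm (s (mm c)) = mm c := fun c => Function.invFun_eq ⟨c, rfl⟩
  let Φ : ConjClasses (A n) → Multiset ℕ := fun c => if s (mm c) = c then mm c else F (mm c)
  -- properties of non-sections
  have hns : ∀ c, s (mm c) ≠ c →
      (mm c ≠ 0 ∧ (∀ a ∈ mm c, Odd a) ∧ (∀ a ∈ mm c, 2 ≤ a) ∧ n ≤ (mm c).sum + 1) := by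
    intro c hc
    have hconj : IsConj ((r c : A n) : Equiv.Perm (Fin n)) ((r (s (mm c)) : A n) : _) :=
      Equiv.Perm.isConj_iff_cycleType_eq.2 (hs c).symm
    obtain ⟨g, hg⟩ := isConj_iff.1 hconj
    have hne : ConjClasses.mk (r c) ≠ ConjClasses.mk (r (s (mm c))) := by
      rw [hr, hr]; exact fun h => hc h.symm
    have hle := centralizer_le_of_ne _ _ g hg hne
    have h := Equiv.Perm.centralizer_le_alternating_iff.1 hle
    have hcard := h.2.1
    rw [Fintype.card_fin] at hcard
    refine ⟨?_, h.1, fun a ha => Equiv.Perm.two_le_of_mem_cycleType ha, hcard⟩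
    intro h0
    change ((r c : A n) : Equiv.Perm (Fin n)).cycleType = 0 at h0
    rw [h0] at hcard
    simp at hcard
    omega
  have hinj : Function.Injective Φ := by
    intro c d hcd
    change (if s (mm c) = c then mm c else F (mm c)) = (if s (mm d) = d then mm d else F (mm d))
      at hcd
    by_cases hc : s (mm c) = c <;> by_cases hd : s (mm d) = d
    · rw [if_pos hc, if_pos hd] at hcd
      rw [← hc, ← hd, hcd]
    · rw [if_pos hc, if_neg hd] at hcd
      exfalso
      obtain ⟨a1, a2, a3, a4⟩ := hns d hd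
      have h1 := F_spec a1 a2 a3
      rw [← hcd] at h1
      have h2 : sgn (mm c) = 1 := by
        have := Equiv.Perm.sign_of_cycleType' ((r c : A n) : Equiv.Perm (Fin n))
        rw [Equiv.Perm.mem_alternatingGroup.1 (r c).2] at this
        exact this.symm
      rw [h2] at h1
      exact absurd h1 (by decide)
    · rw [if_neg hc, if_pos hd] at hcd
      exfalso
      obtain ⟨a1, a2, a3, a4⟩ := hns c hc
      have h1 := F_spec a1 a2 a3
      rw [hcd] at h1
      have h2 : sgn (mm d) = 1 := by
        have := Equiv.Perm.sign_of_cycleType' ((r d : A n) : Equiv.Perm (Fin n))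
        rw [Equiv.Perm.mem_alternatingGroup.1 (r d).2] at this
        exact this.symm
      rw [h2] at h1
      exact absurd h1 (by decide)
    · rw [if_neg hc, if_neg hd] at hcd
      obtain ⟨a1, a2, a3, a4⟩ := hns c hc
      obtain ⟨b1, b2, b3, b4⟩ := hns d hd
      have hmm : mm c = mm d := F_inj a1 b1 a2 b2 a3 b3 hcd
      have hz : s (mm c) = s (mm d) := by rw [hmm]
      have c1 : IsConj ((r c : A n) : Equiv.Perm (Fin n)) ((r (s (mm c)) : A n) : _) :=
        Equiv.Perm.isConj_iff_cycleType_eq.2 (hs c).symm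
      have c2 : IsConj ((r d : A n) : Equiv.Perm (Fin n)) ((r (s (mm c)) : A n) : _) := by
        rw [hz]; exact Equiv.Perm.isConj_iff_cycleType_eq.2 (hs d).symm
      obtain ⟨g₁, hg₁⟩ := isConj_iff.1 c1
      obtain ⟨g₂, hg₂⟩ := isConj_iff.1 c2
      have := fiber_two _ _ _ g₁ g₂ hg₁ hg₂
        (by rw [hr, hr]; exact fun h => hc h.symm)
        (by rw [hr, hr, hz]; exact fun h => hd h.symm)
      rwa [hr, hr] at this
  -- the target set
  let T : Set (Multiset ℕ) := Set.range (fun σ : Equiv.Perm (Fin n) => σ.cycleType)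
  have hTfin : T.Finite := Set.finite_range _
  have hsub : Set.range Φ ⊆ T := by
    rintro _ ⟨c, rfl⟩
    change (if s (mm c) = c then mm c else F (mm c)) ∈ T
    split_ifs with hc
    · exact ⟨_, rfl⟩
    · obtain ⟨a1, a2, a3, a4⟩ := hns c hc
      have hp := pick_mem a1
      have h3 := a3 _ hp
      obtain ⟨k, hk⟩ := a2 _ hp
      obtain ⟨g, hg⟩ := (Equiv.Perm.exists_with_cycleType_iff (α := Fin n) (m := F (mm c))).2 (by
        constructor
        · unfold F
          rw [Multiset.sum_cons]
          have h1 := Multiset.sum_erase hp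
          have h2 : (mm c).sum ≤ n := by
            have := Equiv.Perm.sum_cycleType ((r c : A n) : Equiv.Perm (Fin n))
            have h4 := Finset.card_le_univ (((r c : A n) : Equiv.Perm (Fin n))).support
            rw [Fintype.card_fin] at h4
            change ((r c : A n) : Equiv.Perm (Fin n)).cycleType.sum ≤ n
            omega
          rw [Fintype.card_fin]
          omega
        · intro a ha
          unfold F at ha
          rw [Multiset.mem_cons] at ha
          rcases ha with rfl | ha
          · omega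
          · exact a3 _ (Multiset.mem_of_mem_erase ha))
      exact ⟨g, hg⟩
  -- a transposition is not hit
  have h2T : ({2} : Multiset ℕ) ∈ T := by
    obtain ⟨g, hg⟩ := (Equiv.Perm.exists_with_cycleType_iff (α := Fin n) (m := {2})).2 (by
      rw [Fintype.card_fin]
      simp
      omega)
    exact ⟨g, hg⟩
  have h2nr : ({2} : Multiset ℕ) ∉ Set.range Φ := by
    rintro ⟨c, hc⟩
    change (if s (mm c) = c then mm c else F (mm c)) = _ at hc
    split_ifs at hc with hc'
    · have h2 : sgn (mm c) = 1 := by
        have := Equiv.Perm.sign_of_cycleType' ((r c : A n) : Equiv.Perm (Fin n))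
        rw [Equiv.Perm.mem_alternatingGroup.1 (r c).2] at this
        exact this.symm
      rw [hc] at h2
      simp [sgn] at h2
    · obtain ⟨a1, a2, a3, a4⟩ := hns c hc'
      have hp := pick_mem a1
      unfold F at hc
      have hc2 := congrArg Multiset.sum hc
      rw [Multiset.sum_cons] at hc2
      have h1 := Multiset.sum_erase hp
      have h5 := a3 _ hp
      simp at hc2
      omega
  have hlt : (Set.range Φ).ncard < T.ncard :=
    Set.ncard_lt_ncard ⟨hsub, fun h => h2nr (h h2T)⟩ hTfin
  have h1 : Nat.card (ConjClasses (A n)) = (Set.range Φ).ncard := by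
    rw [← Nat.card_coe_set_eq, Nat.card_range_of_injective hinj]
  have h2 : Nat.card (ConjClasses (Equiv.Perm (Fin n))) = T.ncard := by
    choose r' hr' using (ConjClasses.exists_rep : ∀ c : ConjClasses (Equiv.Perm (Fin n)),
      ∃ a, ConjClasses.mk a = c)
    let Ψ : ConjClasses (Equiv.Perm (Fin n)) → Multiset ℕ := fun c => (r' c).cycleType
    have hΨ : Function.Injective Ψ := by
      intro c d h
      have : IsConj (r' c) (r' d) := Equiv.Perm.isConj_iff_cycleType_eq.2 h
      rw [← hr' c, ← hr' d]
      exact ConjClasses.mk_eq_mk_iff_isConj.2 this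
    have hr : Set.range Ψ = T := by
      ext m
      constructor
      · rintro ⟨c, rfl⟩
        exact ⟨_, rfl⟩
      · rintro ⟨σ, rfl⟩
        refine ⟨ConjClasses.mk σ, ?_⟩
        apply Equiv.Perm.isConj_iff_cycleType_eq.1
        apply ConjClasses.mk_eq_mk_iff_isConj.1
        rw [hr']
    rw [← hr, ← Nat.card_coe_set_eq, Nat.card_range_of_injective hΨ]
  rw [h1, h2]
  exact hlt

/-- For n ≥ 5 the alternating group of degree n has strictly fewer conjugacy classes than the symmetric group of degree n, and the symmetric group of degree n (whose classes correspond to the partitions of n) has at most 2^(n−2) conjugacy classes. -/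
theorem result (n : ℕ) (hn : 5 ≤ n) : Nat.card (ConjClasses (alternatingGroup (Fin n))) < Nat.card (ConjClasses (Equiv.Perm (Fin n))) ∧ Nat.card (ConjClasses (Equiv.Perm (Fin n))) ≤ 2 ^ (n - 2) := by
  exact ⟨main_lt n hn, (card_conj_perm_le n).trans (card_bound n hn)⟩

end Cfsg.Agent.S4198
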