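import Cfsg.Statements.S4347

set_option autoImplicit false
open Cfsg
open scoped Pointwise

namespace Cfsg.Agent.S4347

theorem exists_sylow_mem {G : Type*} [Group G] [Finite G] (p : ℕ) [Fact p.Prime] (x : G)
    (hx : ∃ k : ℕ, orderOf x = p ^ k) : ∃ P : Sylow p G, x ∈ P := by
  obtain ⟨k, hk⟩ := hx
  have hzp : IsPGroup p (Subgroup.zpowers x) := by
    rw [IsPGroup.iff_card]
    exact ⟨k, by rw [Nat.card_zpowers, hk]⟩
  obtain ⟨Q, hQ⟩ := hzp.exists_le_sylow
  exact ⟨Q, hQ (Subgroup.mem_zpowers x)⟩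

/-- Let G be a finite group and p a prime. Say a Sylow p-subgroup Q is redundant when every element of p-power order lies in some Sylow p-subgroup other than Q. Then G has no redundant Sylow p-subgroup if and only if some element of p-power order lies in exactly one Sylow p-subgroup. -/
theorem result {G : Type*} [Group G] [Finite G]
    (p : ℕ) [Fact p.Prime] :
    (¬ ∃ Q : Sylow p G, ∀ x : G, (∃ k : ℕ, orderOf x = p ^ k) → ∃ P : Sylow p G, P ≠ Q ∧ x ∈ P) ↔
      ∃ x : G, (∃ k : ℕ, orderOf x = p ^ k) ∧ ∃! P : Sylow p G, x ∈ P := by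
  constructor
  · intro h
    obtain ⟨Q⟩ : Nonempty (Sylow p G) := inferInstance
    have h' : ¬ ∀ x : G, (∃ k : ℕ, orderOf x = p ^ k) → ∃ P : Sylow p G, P ≠ Q ∧ x ∈ P :=
      fun hc => h ⟨Q, hc⟩
    push Not at h'
    obtain ⟨x, hx, hxQ⟩ := h'
    refine ⟨x, hx, ?_⟩
    obtain ⟨P, hP⟩ := exists_sylow_mem p x hx
    have hPQ : P = Q := by
      by_contra hne
      exact hxQ P hne hP
    subst hPQ
    refine ⟨P, hP, fun R hR => ?_⟩
    by_contra hne
    exact hxQ R hne hR
  · rintro ⟨x, ⟨k, hk⟩, P, hP, huniq⟩ ⟨Q, hQ⟩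
    obtain ⟨g, hg⟩ := MulAction.exists_smul_eq G P Q
    have hy : ∃ k : ℕ, orderOf (g * x * g⁻¹) = p ^ k := by
      refine ⟨k, ?_⟩
      rw [← hk]
      exact orderOf_injective (MulAut.conj g).toMonoidHom (MulAut.conj g).injective x
    obtain ⟨R, hRQ, hR⟩ := hQ _ hy
    -- g⁻¹ • R contains x, hence = P, hence R = Q
    have hR' : x ∈ ((g⁻¹ • R : Sylow p G) : Subgroup G) := by
      rw [Sylow.coe_subgroup_smul, Subgroup.mem_pointwise_smul_iff_inv_smul_mem]
      have hR2 : g * x * g⁻¹ ∈ (R : Subgroup G) := hR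
      simpa [MulAut.smul_def] using hR2
    have h1 := huniq _ hR'
    apply hRQ
    rw [← hg, ← h1, smul_smul]
    simp

end Cfsg.Agent.S4347
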