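import Cfsg.Statements.S4348
import Cfsg.Agent.Lib.H01.Fitting

set_option autoImplicit false
open Cfsg

namespace Cfsg.Agent.S4348

/-- Let G be a finite group, p a prime and P a Sylow p-subgroup of G, and let O_p(G) be the largest normal p-subgroup of G. If P/O_p(G) is cyclic, then some element of p-power order of G lies in exactly one Sylow p-subgroup. -/
theorem result {G : Type*} [Group G] [Finite G]
    (p : ℕ) [Fact p.Prime] (P : Sylow p G)
    [hn : ((Cfsg.pCore p G).subgroupOf (P : Subgroup G)).Normal]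
    (hc : IsCyclic ((P : Subgroup G) ⧸ (Cfsg.pCore p G).subgroupOf (P : Subgroup G))) :
    ∃ x : G, (∃ k : ℕ, orderOf x = p ^ k) ∧ ∃! Q : Sylow p G, x ∈ Q := by
  obtain ⟨g, hg⟩ := hc
  obtain ⟨y, rfl⟩ := QuotientGroup.mk_surjective g
  refine ⟨(y : G), ?_, P, y.2, ?_⟩
  · obtain ⟨n, hn⟩ := P.isPGroup' y
    have : orderOf y ∣ p ^ n := orderOf_dvd_of_pow_eq_one hn
    obtain ⟨k, _, hk⟩ := (Nat.dvd_prime_pow Fact.out).mp this
    exact ⟨k, by rw [Subgroup.orderOf_coe, hk]⟩
  · intro Q hQ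
    have hyQ : (y : G) ∈ (Q : Subgroup G) := hQ
    have hle : (P : Subgroup G) ≤ Q := by
      intro z hz
      obtain ⟨k, hk⟩ := Subgroup.mem_zpowers_iff.mp (hg ((⟨z, hz⟩ : (P : Subgroup G)) : _ ⧸ _))
      rw [← QuotientGroup.mk_zpow] at hk
      have h1 := QuotientGroup.eq.mp hk
      rw [Subgroup.mem_subgroupOf] at h1
      have h2 : ((y : G) ^ k)⁻¹ * z ∈ Cfsg.pCore p G := by
        simpa using h1
      have h3 := H01.pCore_le_sylow p Q h2
      have h4 : z = (y : G) ^ k * (((y : G) ^ k)⁻¹ * z) := by group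
      rw [h4]
      exact Q.mul_mem (Q.zpow_mem hyQ k) h3
    exact (Sylow.ext (P.3 Q.isPGroup' hle)).symm ▸ rfl

end Cfsg.Agent.S4348
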