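import Cfsg.Statements.S4349
import Mathlib
import Cfsg.Agent.Lib.H20.SY3
import Cfsg.Agent.Lib.H20.Basic

set_option autoImplicit false
set_option linter.unusedVariables false
set_option linter.unusedSectionVars false
set_option linter.style.haveILetI false
open Cfsg

namespace Cfsg.Agent.S4349

open Cfsg.Agent.H20.SY
open Equiv Equiv.Perm

section aux
variable {Ω : Type} [Fintype Ω] [DecidableEq Ω]

theorem period_iff (x : Perm Ω) {a : Ω} (ha : x a ≠ a) (i : ℕ) :
    (x ^ i) a = a ↔ (x.cycleOf a).support.card ∣ i := by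
  have hc : (x.cycleOf a).IsCycle := isCycle_cycleOf x ha
  have hm : (x.cycleOf a) a ≠ a := by
    rw [cycleOf_apply_self]; exact ha
  rw [← hc.orderOf, orderOf_dvd_iff_pow_eq_one, hc.pow_eq_one_iff' hm, cycleOf_pow_apply_self]

/-- The elementary abelian group attached to a pair of cycles of the same length. -/
theorem exists_pgroup_swap {x : Perm Ω} (hxord : ∃ k, orderOf x = 2 ^ k) {a b : Ω} (ha : x a ≠ a) (hb : x b ≠ b)
    (hab : ¬ x.SameCycle a b) (hl : (x.cycleOf a).support.card = (x.cycleOf b).support.card) :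
    ∃ T : Subgroup (Perm Ω), IsPGroup 2 T ∧ x ∈ T ∧ swap a b ∈ T := by
  have hper : ∀ i : ℕ, (x ^ i) a = a ↔ (x ^ i) b = b := by
    intro i
    rw [period_iff x ha, period_iff x hb, hl]
  have hmix : ∀ i j : ℕ, (x ^ i) a ≠ (x ^ j) b := by
    intro i j h
    apply hab
    refine ⟨(i : ℤ) - j, ?_⟩
    rw [sub_eq_neg_add, zpow_add, zpow_neg, zpow_natCast, zpow_natCast, Perm.mul_apply, Perm.inv_eq_iff_eq, h]
  have hsq : ∀ g : Perm Ω, (∀ i : ℕ, (g ((x ^ i) a) = (x ^ i) a ∧ g ((x ^ i) b) = (x ^ i) b) ∨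
      (g ((x ^ i) a) = (x ^ i) b ∧ g ((x ^ i) b) = (x ^ i) a)) →
      (∀ p, (∀ i : ℕ, p ≠ (x ^ i) a ∧ p ≠ (x ^ i) b) → g p = p) → g * g = 1 := by
    intro g hg1 hg2
    ext p
    rw [Perm.mul_apply]
    by_cases hp : ∀ i : ℕ, p ≠ (x ^ i) a ∧ p ≠ (x ^ i) b
    · rw [hg2 p hp, hg2 p hp]; rfl
    · push Not at hp
      obtain ⟨i, hi⟩ := hp
      by_cases hpa : p = (x ^ i) a
      · subst hpa
        rcases hg1 i with ⟨e1, e2⟩ | ⟨e1, e2⟩
        · rw [e1, e1]; rfl
        · rw [e1, e2]; rfl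
      · have hpb := hi hpa
        subst hpb
        rcases hg1 i with ⟨e1, e2⟩ | ⟨e1, e2⟩
        · rw [e2, e2]; rfl
        · rw [e2, e1]; rfl
  let E : Subgroup (Perm Ω) :=
    { carrier := {g | (∀ i : ℕ, (g ((x ^ i) a) = (x ^ i) a ∧ g ((x ^ i) b) = (x ^ i) b) ∨
          (g ((x ^ i) a) = (x ^ i) b ∧ g ((x ^ i) b) = (x ^ i) a)) ∧
          ∀ p, (∀ i : ℕ, p ≠ (x ^ i) a ∧ p ≠ (x ^ i) b) → g p = p}
      mul_mem' := by
        rintro g h ⟨hg1, hg2⟩ ⟨hh1, hh2⟩
        refine ⟨fun i => ?_, fun p hp => ?_⟩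
        · simp only [Perm.mul_apply]
          rcases hh1 i with ⟨e1, e2⟩ | ⟨e1, e2⟩ <;> rcases hg1 i with ⟨e3, e4⟩ | ⟨e3, e4⟩
          · left; rw [e1, e2, e3, e4]; exact ⟨rfl, rfl⟩
          · right; rw [e1, e2, e3, e4]; exact ⟨rfl, rfl⟩
          · right; rw [e1, e2, e3, e4]; exact ⟨rfl, rfl⟩
          · left; rw [e1, e2, e3, e4]; exact ⟨rfl, rfl⟩
        · rw [Perm.mul_apply, hh2 p hp, hg2 p hp]
      one_mem' := ⟨fun i => Or.inl ⟨rfl, rfl⟩, fun p _ => rfl⟩
      inv_mem' := by
        rintro g ⟨hg1, hg2⟩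
        have : g⁻¹ = g := inv_eq_of_mul_eq_one_left (hsq g hg1 hg2)
        rw [this]
        exact ⟨hg1, hg2⟩ }
  have hEp : IsPGroup 2 E := by
    rintro ⟨g, hg⟩
    refine ⟨1, Subtype.ext ?_⟩
    show g ^ (2 ^ 1) = 1
    rw [pow_one, sq]
    exact hsq g hg.1 hg.2
  have hxpos : 0 < orderOf x := orderOf_pos x
  have hconj : ∀ h ∈ E, x * h * x⁻¹ ∈ E := by
    rintro h ⟨hh1, hh2⟩
    refine ⟨fun i => ?_, fun p hp => ?_⟩
    · set j := i + orderOf x - 1 with hj
      have hxj : ∀ p, x ((x ^ j) p) = (x ^ i) p := by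
        intro p
        rw [← Perm.mul_apply, ← pow_succ', hj, Nat.sub_add_cancel (by omega), pow_add, pow_orderOf_eq_one, mul_one]
      have hxj' : ∀ p, x⁻¹ ((x ^ i) p) = (x ^ j) p := by
        intro p
        rw [Perm.inv_eq_iff_eq, hxj]
      simp only [Perm.mul_apply]
      rw [hxj', hxj']
      rcases hh1 j with ⟨e1, e2⟩ | ⟨e1, e2⟩
      · left; rw [e1, e2, hxj, hxj]; exact ⟨rfl, rfl⟩
      · right; rw [e1, e2, hxj, hxj]; exact ⟨rfl, rfl⟩
    · have hout : ∀ i : ℕ, x⁻¹ p ≠ (x ^ i) a ∧ x⁻¹ p ≠ (x ^ i) b := by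
        intro i
        constructor
        · intro e
          apply (hp (i + 1)).1
          rw [pow_succ', Perm.mul_apply, ← e]
          simp
        · intro e
          apply (hp (i + 1)).2
          rw [pow_succ', Perm.mul_apply, ← e]
          simp
      simp only [Perm.mul_apply]
      rw [hh2 _ hout]
      simp
  have hzp : IsPGroup 2 (Subgroup.zpowers x) := by
    obtain ⟨k, hk⟩ := hxord
    exact IsPGroup.of_card (n := k) (by rw [Nat.card_zpowers, hk])
  have hnorm : Subgroup.zpowers x ≤ Subgroup.normalizer (E : Set (Perm Ω)) := by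
    rw [Subgroup.zpowers_le]
    exact Cfsg.Agent.H20.mem_normalizer_of_conj_le E x hconj
  refine ⟨Subgroup.zpowers x ⊔ E, hzp.to_sup_of_normal_right' hEp hnorm,
    Subgroup.mem_sup_left (Subgroup.mem_zpowers x), Subgroup.mem_sup_right ?_⟩
  refine ⟨fun i => ?_, fun p hp => ?_⟩
  · by_cases h : (x ^ i) a = a
    · have h' : (x ^ i) b = b := (hper i).mp h
      right
      rw [h, h']
      simp
    · have h' : (x ^ i) b ≠ b := fun e => h ((hper i).mpr e)
      left
      have h1 : (x ^ i) a ≠ b := hmix i 0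
      have h2 : (x ^ i) b ≠ a := fun e => hmix 0 i e.symm
      exact ⟨swap_apply_of_ne_of_ne h h1, swap_apply_of_ne_of_ne h2 h'⟩
  · exact swap_apply_of_ne_of_ne (hp 0).1 (hp 0).2

end aux

/-- Let n ≥ 2 and let x be an element of 2-power order of the symmetric group of degree n. Then x lies in exactly one Sylow 2-subgroup if and only if x has at most two fixed points and the nontrivial cycles of x have pairwise different lengths. -/
theorem result (n : ℕ) (hn : 2 ≤ n)
    (x : Equiv.Perm (Fin n)) (hx : ∃ k : ℕ, orderOf x = 2 ^ k) :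
    (∃! P : Sylow 2 (Equiv.Perm (Fin n)), x ∈ P) ↔ (n ≤ x.support.card + 2 ∧ x.cycleType.Nodup) := by
  have hzp : IsPGroup 2 (Subgroup.zpowers x) := by
    obtain ⟨k, hk⟩ := hx
    exact IsPGroup.of_card (n := k) (by rw [Nat.card_zpowers, hk])
  constructor
  · rintro ⟨P, hP, huniq⟩
    have hall : ∀ T : Subgroup (Perm (Fin n)), IsPGroup 2 T → x ∈ T → T ≤ (P : Subgroup (Perm (Fin n))) := by
      intro T hT hxT
      obtain ⟨R, hR⟩ := hT.exists_le_sylow
      have : R = P := huniq R (hR hxT)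
      rw [← this]
      exact hR
    have hnot3 : ∀ a b c : Fin n, a ≠ b → a ≠ c → b ≠ c → swap a b ∈ (P : Subgroup (Perm (Fin n))) →
        swap a c ∈ (P : Subgroup (Perm (Fin n))) → False := by
      intro a b c hab hac hbc h1 h2
      have h3 := (P : Subgroup (Perm (Fin n))).mul_mem h1 h2
      obtain ⟨k, hk⟩ := IsPGroup.iff_orderOf.mp P.isPGroup' ⟨_, h3⟩
      rw [Subgroup.orderOf_mk, (isThreeCycle_swap_mul_swap_same hab hac hbc).orderOf] at hk
      have h4 : 2 ∣ 2 ^ k ∨ k = 0 := by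
        rcases Nat.eq_zero_or_pos k with h | h
        · exact Or.inr h
        · exact Or.inl (dvd_pow_self 2 h.ne')
      rcases h4 with h4 | h4
      · rw [← hk] at h4
        omega
      · rw [h4] at hk
        omega
    constructor
    · by_contra hcon
      have h3 : 2 < (x.supportᶜ).card := by
        rw [Finset.card_compl, Fintype.card_fin]
        omega
      obtain ⟨a, ha, b, hb, c, hc, hab, hac, hbc⟩ := Finset.two_lt_card.mp h3
      simp only [Finset.mem_compl, mem_support, not_not] at ha hb hc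
      have hcomm : ∀ u v : Fin n, u ≠ v → x u = u → x v = v → swap u v ∈ (P : Subgroup (Perm (Fin n))) := by
        intro u v huv hu hv
        have hord : orderOf (swap u v) = 2 := by
          apply orderOf_eq_prime
          · rw [sq, swap_mul_self]
          · exact fun h => huv (swap_eq_one_iff.mp h)
        have hzq : IsPGroup 2 (Subgroup.zpowers (swap u v)) :=
          IsPGroup.of_card (n := 1) (by rw [Nat.card_zpowers, hord, pow_one])
        have hc1 : x * swap u v * x⁻¹ = swap u v := by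
          rw [← swap_apply_apply, hu, hv]
        have hnorm : Subgroup.zpowers x ≤ Subgroup.normalizer (Subgroup.zpowers (swap u v) : Set (Perm (Fin n))) := by
          rw [Subgroup.zpowers_le]
          apply Cfsg.Agent.H20.mem_normalizer_of_conj_le
          rintro y ⟨i, rfl⟩
          show x * (swap u v ^ i) * x⁻¹ ∈ _
          rw [← conj_zpow, hc1]
          exact Subgroup.zpow_mem_zpowers _ _
        have hT := hzp.to_sup_of_normal_right' hzq hnorm
        exact hall _ hT (Subgroup.mem_sup_left (Subgroup.mem_zpowers x)) (Subgroup.mem_sup_right (Subgroup.mem_zpowers _))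
      exact hnot3 a b c hab hac hbc (hcomm a b hab ha hb) (hcomm a c hac ha hc)
    · by_contra hnd
      rw [cycleType_def, Multiset.nodup_map_iff_inj_on x.cycleFactorsFinset.nodup] at hnd
      push Not at hnd
      obtain ⟨c₁, hc₁, c₂, hc₂, hf, hne⟩ := hnd
      have hc₁' : c₁ ∈ x.cycleFactorsFinset := hc₁
      have hc₂' : c₂ ∈ x.cycleFactorsFinset := hc₂
      have hcy₁ := (mem_cycleFactorsFinset_iff.mp hc₁').1
      have hcy₂ := (mem_cycleFactorsFinset_iff.mp hc₂').1
      obtain ⟨a, ha⟩ := hcy₁.nonempty_support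
      obtain ⟨b, hb⟩ := hcy₂.nonempty_support
      have e₁ := cycle_is_cycleOf ha hc₁'
      have e₂ := cycle_is_cycleOf hb hc₂'
      have hma : x a ≠ a := by
        have := mem_support.mp ha
        rwa [(mem_cycleFactorsFinset_iff.mp hc₁').2 a ha] at this
      have hmb : x b ≠ b := by
        have := mem_support.mp hb
        rwa [(mem_cycleFactorsFinset_iff.mp hc₂').2 b hb] at this
      have hab : ¬ x.SameCycle a b := by
        intro h
        apply hne
        rw [e₁, e₂, h.cycleOf_eq]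
      have hl : (x.cycleOf a).support.card = (x.cycleOf b).support.card := by
        rw [← e₁, ← e₂]
        exact hf
      obtain ⟨T, hT, hxT, hsT⟩ := exists_pgroup_swap hx hma hmb hab hl
      have hsb : x.SameCycle b (x b) := ⟨1, by simp⟩
      have hmb' : x (x b) ≠ x b := fun h => hmb (x.injective h)
      have hab' : ¬ x.SameCycle a (x b) := fun h => hab (h.trans hsb.symm)
      have hl' : (x.cycleOf a).support.card = (x.cycleOf (x b)).support.card := by
        rw [← hsb.cycleOf_eq]; exact hl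
      obtain ⟨T', hT', hxT', hsT'⟩ := exists_pgroup_swap hx hma hmb' hab' hl'
      have hne1 : a ≠ b := fun h => hab (h ▸ SameCycle.refl x a)
      have hne2 : a ≠ x b := fun h => hab' (h ▸ SameCycle.refl x a)
      exact hnot3 a b (x b) hne1 hne2 (Ne.symm hmb) (hall T hT hxT hsT) (hall T' hT' hxT' hsT')
  · rintro ⟨h1, h2⟩
    have hAdm : Adm x := ⟨by rw [Fintype.card_fin]; exact h1, h2⟩
    obtain ⟨P, hP⟩ := hzp.exists_le_sylow
    have hxP : x ∈ (P : Subgroup (Perm (Fin n))) := hP (Subgroup.mem_zpowers x)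
    exact ⟨P, hxP, fun Q hQ => sylow_unique hAdm _ Q P hQ hxP rfl⟩

end Cfsg.Agent.S4349
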