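import Cfsg.Statements.S4394
import Cfsg.Agent.Lib.H20.SP4
import Cfsg.Agent.Lib.H03.PLength
import Cfsg.Agent.Lib.H06.PLen1
import Mathlib

set_option autoImplicit false
set_option linter.unusedVariables false
set_option linter.style.haveILetI false
set_option linter.unusedSectionVars false
set_option linter.unusedSimpArgs false

open Cfsg

namespace Cfsg.Agent.S4394

/-- Let X be a finite minimal non-nilpotent group (not nilpotent, every proper subgroup nilpotent) with a nontrivial normal Sylow p-subgroup P. If G is a finite p-solvable group whose Sylow p-subgroups are isomorphic to P, then G has p-length at most 1. -/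
theorem result {G X : Type*} [Group G] [Finite G] [Group X] [Finite X] (p : ℕ) [Fact p.Prime]
    (hX : Cfsg.IsMinimalNonNilpotent X) (P : Sylow p X) (hPn : (P : Subgroup X).Normal) (hP1 : (P : Subgroup X) ≠ ⊥)
    (hG : Cfsg.IsPSolvable p G) (Q : Sylow p G) (hQ : Nonempty (↥(Q : Subgroup G) ≃* ↥(P : Subgroup X))) : Cfsg.PLengthLE p 1 G := by
  classical
  obtain ⟨q, hq, α, hα⟩ := Cfsg.Agent.H20.SP.exists_spt_of_schmidt hX P hPn hP1
  obtain ⟨f⟩ := hQ
  obtain ⟨α₁, hα₁⟩ := hα.transport f.symm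
  have hU0 := Cfsg.Agent.H03.upper_succ_even (p := p) (G := G) (n := 0) (by simp)
  have hO := Cfsg.Agent.H03.pPrimeCore_quotient_comap_eq_bot (p := p)
    (upperPSeries p G 0).1 (upperPSeries p G 1).1 hU0
  have hπ := QuotientGroup.mk'_surjective (upperPSeries p G 1).1
  have hs := Cfsg.Agent.H03.isPSolvable_of_surjective hπ hG
  -- the Sylow subgroup of the quotient
  have hker : ∀ x ∈ (Q : Subgroup G), x ∈ (upperPSeries p G 1).1 → x = 1 := by
    intro x hx hxU
    have h1 : x ∈ pPrimeCore p G := Cfsg.Agent.H06.upper_one_le hxU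
    obtain ⟨k, hk⟩ := Q.2 ⟨x, hx⟩
    have h2 : x ^ p ^ k = 1 := congrArg Subtype.val hk
    have h3 := Cfsg.Agent.H06.coprime_card_pPrimeCore (p := p) (G := G)
    have h4 : orderOf (⟨x, h1⟩ : ↥(pPrimeCore p G)) ∣ Nat.card ↥(pPrimeCore p G) := orderOf_dvd_natCard _
    have h5 : orderOf (⟨x, h1⟩ : ↥(pPrimeCore p G)) ∣ p ^ k := by
      apply orderOf_dvd_of_pow_eq_one
      exact Subtype.ext h2
    have h6 : orderOf (⟨x, h1⟩ : ↥(pPrimeCore p G)) = 1 :=
      Nat.eq_one_of_dvd_coprimes (Nat.Coprime.pow_right k h3) h4 h5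
    exact congrArg Subtype.val (orderOf_eq_one_iff.1 h6)
  let φ : ↥(Q : Subgroup G) →* ↥((Q : Subgroup G).map (QuotientGroup.mk' (upperPSeries p G 1).1)) :=
    (QuotientGroup.mk' (upperPSeries p G 1).1).subgroupMap _
  have hφ : Function.Bijective φ := by
    refine ⟨?_, (QuotientGroup.mk' (upperPSeries p G 1).1).subgroupMap_surjective _⟩
    rw [injective_iff_map_eq_one]
    intro x hx
    have h1 := congrArg Subtype.val hx
    have h2 : (x : G) ∈ (upperPSeries p G 1).1 := (QuotientGroup.eq_one_iff _).1 h1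
    exact Subtype.ext (hker x x.2 h2)
  have he : (Q : Subgroup G).map (QuotientGroup.mk' (upperPSeries p G 1).1) =
      ((Q.mapSurjective hπ : Sylow p (G ⧸ (upperPSeries p G 1).1)) : Subgroup (G ⧸ (upperPSeries p G 1).1)) :=
    (Sylow.coe_mapSurjective hπ Q).symm
  obtain ⟨α₂, hα₂⟩ := hα₁.transport ((MulEquiv.ofBijective φ hφ).trans (MulEquiv.subgroupCongr he))
  have hn := Cfsg.Agent.H20.SP.normal_of_spt hs hO (Q.mapSurjective hπ) hα₂
  -- `Q ≤ O_{p',p}(G)`
  have hQ2 : (Q : Subgroup G) ≤ (upperPSeries p G 2).1 := by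
    have h2 := Cfsg.Agent.H03.upper_succ_odd (p := p) (G := G) (n := 1) (by simp)
    rw [h2]
    intro x hx
    rw [Subgroup.mem_comap]
    have h3 : ((Q.mapSurjective hπ : Sylow p (G ⧸ (upperPSeries p G 1).1)) : Subgroup (G ⧸ (upperPSeries p G 1).1)) ≤
        pCore p (G ⧸ (upperPSeries p G 1).1) :=
      Cfsg.Agent.H01.le_pCore hn (Sylow.isPGroup' _)
    apply h3
    rw [Sylow.coe_mapSurjective]
    exact ⟨x, hx, rfl⟩
  -- finish
  unfold PLengthLE
  have hshift := Cfsg.Agent.H03.upper_shift (p := p) (upperPSeries p G 2).1 rfl 1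
  have e3 : 2 * 1 + 1 = 1 + 2 := by norm_num
  rw [e3, hshift]
  have hπ₂ := QuotientGroup.mk'_surjective (upperPSeries p G 2).1
  have htop := Cfsg.Agent.H03.upper_one_top (Q.mapSurjective hπ₂) (by
    rw [Sylow.coe_mapSurjective]
    constructor
    rintro ⟨_, a, ha, rfl⟩ ⟨_, b, hb, rfl⟩
    apply Subtype.ext
    have h1 : (QuotientGroup.mk' (upperPSeries p G 2).1) a = 1 := (QuotientGroup.eq_one_iff _).2 (hQ2 ha)
    have h2 : (QuotientGroup.mk' (upperPSeries p G 2).1) b = 1 := (QuotientGroup.eq_one_iff _).2 (hQ2 hb)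
    change (QuotientGroup.mk' (upperPSeries p G 2).1) a = (QuotientGroup.mk' (upperPSeries p G 2).1) b
    rw [h1, h2])
  rw [htop, Subgroup.comap_top]

end Cfsg.Agent.S4394
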