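import Cfsg.Statements.S4409
import Cfsg.Agent.Lib.H20.AF4
import Cfsg.Agent.Lib.H08.HallHigman
import Cfsg.Agent.Lib.H01.Hall
import Cfsg.Agent.Lib.H01.Fitting
import Cfsg.Agent.Lib.H06.PSolvable
import Cfsg.Agent.Lib.H13.AsymH
import Mathlib

set_option autoImplicit false
set_option linter.unusedVariables false
set_option linter.unusedSectionVars false
set_option linter.style.haveILetI false
set_option linter.unusedSimpArgs false

open Cfsg

namespace Cfsg.Agent.S4409

open Cfsg.Agent.H20.AF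
open scoped commutatorElement

variable {S : Type*} [Group S] [Finite S]

theorem structure_case1 (X H : Subgroup S) (hX2 : IsPGroup 2 X) (hXn : X.Normal)
    (hHodd : Odd (Nat.card H))
    (hinv : ∀ Y : Subgroup S, Y ≤ X → H ≤ Subgroup.normalizer (Y : Set S) → HasA Y → Y = X)
    (hXA : HasA X) (hcX : ¬ ∀ a ∈ X, ∀ b ∈ X, a * b = b * a)
    (hcop : (Nat.card H).Coprime (Nat.card X)) (hHN : H ≤ Subgroup.normalizer (X : Set S))
    (hodd : ∀ h ∈ H, Odd (orderOf h))
    (hmvX : ∃ h ∈ H, ∃ x ∈ X, h * x * h⁻¹ ≠ x) (hR : ⁅X, H⁆ ≠ X) :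
    ∃ (X₀ : Subgroup S) (k : ℕ), X₀ ≤ X ∧ X₀.relIndex X = 2 ∧
      Nonempty (↥X₀ ≃* QuaternionGroup (2 ^ (k + 1))) ∧ X₀ ⊔ (X ⊓ Subgroup.centralizer (X₀ : Set S)) = X := by
  classical
  haveI : Fact (Nat.Prime 2) := ⟨Nat.prime_two⟩
  haveI hXnil : Group.IsNilpotent ↥X := hX2.isNilpotent
  have hXsolv : Group.IsSolvable ↥X := inferInstance
  obtain ⟨R, hRdef⟩ : ∃ R, R = ⁅X, H⁆ := ⟨_, rfl⟩
  rw [← hRdef] at hR
  have hRX : R ≤ X := by rw [hRdef]; exact H18.hh_comm_le hHN
  have hRH : H ≤ Subgroup.normalizer (R : Set S) := fun g hg => by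
    rw [hRdef]; exact H01.mem_normalizer_commutator (hHN hg) (Subgroup.le_normalizer hg)
  have hXR : X ≤ Subgroup.normalizer (R : Set S) := by
    rw [hRdef]; exact H13.le_normalizer_commutator_left X H
  have hRfree : ¬ HasA R := fun hA => hR (hinv R hRX hRH hA)
  have hRR : ⁅R, H⁆ = R := by
    rw [hRdef]
    exact H01.commutator_commutator_eq hHN hcop (Or.inr hXsolv)
  have hR1 : R ≠ ⊥ := by
    intro h0
    obtain ⟨h, hh, x, hx, hne⟩ := hmvX
    have h1 : ⁅x, h⁆ ∈ R := by
      rw [hRdef]; exact Subgroup.commutator_mem_commutator hx hh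
    rw [h0, Subgroup.mem_bot, commutatorElement_eq_one_iff_mul_comm] at h1
    apply hne
    rw [← h1]
    group
  obtain ⟨h₀, hh₀, hmv₀⟩ : ∃ h ∈ H, ∃ r ∈ R, h * r * h⁻¹ ≠ r := by
    by_contra hcon
    push Not at hcon
    apply hR1
    rw [← hRR, eq_bot_iff, Subgroup.commutator_le]
    intro r hr h hh
    rw [Subgroup.mem_bot, commutatorElement_eq_one_iff_mul_comm]
    have := hcon h hh r hr
    calc r * h = (h * r * h⁻¹) * h := by rw [this]
      _ = h * r := by group
  obtain ⟨hd, hty⟩ := af_main (hX2.to_le hRX) hRfree (hodd h₀ hh₀) (hRH hh₀) hmv₀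
  -- the centraliser part
  let C : Subgroup S := X ⊓ Subgroup.centralizer (H : Set S)
  have hsup : R ⊔ C = X := by
    rw [hRdef]
    exact H01.commutator_sup_centralizer hHN hcop (Or.inr hXsolv)
  have hCfix : ∀ c ∈ C, ∀ h ∈ H, h * c = c * h := by
    intro c hc h hh
    exact (Subgroup.mem_centralizer_iff.1 hc.2) h hh
  have hh₀C : h₀ ∈ Subgroup.normalizer (C : Set S) := by
    apply Cfsg.Agent.H20.mem_normalizer_of_conj_le
    intro y hy
    have : h₀ * y * h₀⁻¹ = y := by
      rw [hCfix y hy h₀ hh₀]; group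
    rw [this]; exact hy
  have hCle := comm_le_dof hRX hX2 (inf_le_left : C ≤ X) ((inf_le_left : C ≤ X).trans hXR) hd hh₀C hR1
  have hCcomm : ∀ c ∈ C, ∀ r ∈ R, r * c = c * r := by
    intro c hc r hr
    let f : ↥R →* ↥(Dof R) :=
      { toFun := fun x => ⟨⁅(x : S), c⁆, hCle x x.2 c hc⟩
        map_one' := by
          apply Subtype.ext
          simp
        map_mul' := by
          intro x y
          apply Subtype.ext
          show ⁅((x : S) * y), c⁆ = ⁅(x : S), c⁆ * ⁅(y : S), c⁆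
          have e1 : ⁅((x : S) * y), c⁆ = x * ⁅(y : S), c⁆ * (x : S)⁻¹ * ⁅(x : S), c⁆ := by
            simp only [commutatorElement_def]; group
          have hδy : ⁅(y : S), c⁆ ∈ Dof R := hCle y y.2 c hc
          have hδx : ⁅(x : S), c⁆ ∈ Dof R := hCle x x.2 c hc
          rw [e1, ← hd.cen _ hδy x x.2, mul_inv_cancel_right]
          exact hd.cen _ hδy _ (dof_le R hδx) }
    have hkill := H18.hh_kill_hom (A := Subgroup.zpowers h₀) (P := R)
      (by rw [Subgroup.zpowers_le]; exact hRH hh₀) hd.comm f ?_ ⟨r, hr⟩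
    · have h1 : ⁅r, c⁆ = 1 := congrArg Subtype.val hkill
      rwa [commutatorElement_eq_one_iff_mul_comm] at h1
    · intro a ha x
      apply Subtype.ext
      show ⁅a * (x : S) * a⁻¹, c⁆ = ⁅(x : S), c⁆
      obtain ⟨n, rfl⟩ := Subgroup.mem_zpowers_iff.1 ha
      have hc1 : Commute (h₀ ^ n) c := ((show Commute h₀ c from hCfix c hc h₀ hh₀).zpow_left n)
      have e1 : ⁅h₀ ^ n * (x : S) * (h₀ ^ n)⁻¹, c⁆ = h₀ ^ n * ⁅(x : S), c⁆ * (h₀ ^ n)⁻¹ := by
        simp only [commutatorElement_def]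
        have hc2 : c * h₀ ^ n = h₀ ^ n * c := hc1.symm
        have hc3 : c⁻¹ * h₀ ^ n = h₀ ^ n * c⁻¹ := by
          have := hc1.symm.inv_left
          exact this
        calc h₀ ^ n * (x : S) * (h₀ ^ n)⁻¹ * c * (h₀ ^ n * (x : S) * (h₀ ^ n)⁻¹)⁻¹ * c⁻¹
            = h₀ ^ n * (x : S) * ((h₀ ^ n)⁻¹ * c * h₀ ^ n) * (x : S)⁻¹ * (h₀ ^ n)⁻¹ * c⁻¹ := by group
          _ = h₀ ^ n * (x : S) * c * (x : S)⁻¹ * (h₀ ^ n)⁻¹ * c⁻¹ := by
              have hc6 : (h₀ ^ n)⁻¹ * c * h₀ ^ n = c := by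
                rw [mul_assoc, hc2]; group
              rw [hc6]
          _ = h₀ ^ n * (x : S) * c * (x : S)⁻¹ * (c⁻¹ * (h₀ ^ n)⁻¹) := by
              have hc4 : (h₀ ^ n)⁻¹ * c⁻¹ = c⁻¹ * (h₀ ^ n)⁻¹ := by
                have := hc1.inv_left.inv_right
                exact this
              rw [mul_assoc (h₀ ^ n * (x : S) * c * (x : S)⁻¹), hc4]
          _ = _ := by group
      rw [e1]
      have hδ : ⁅(x : S), c⁆ ∈ Dof R := hCle x x.2 c hc
      have hc5 : Commute h₀ ⁅(x : S), c⁆ := by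
        have := hd.fix _ hδ
        show h₀ * _ = _ * h₀
        calc h₀ * ⁅(x : S), c⁆ = (h₀ * ⁅(x : S), c⁆ * h₀⁻¹) * h₀ := by group
          _ = _ := by rw [this]
      have := (hc5.zpow_left n).eq
      rw [this]
      group
  -- an element outside `R`
  have hCR : ¬ C ≤ R := by
    intro hle
    apply hR
    apply le_antisymm hRX
    rw [← hsup]
    exact sup_le le_rfl hle
  obtain ⟨y, hyC, hyR⟩ := Set.not_subset.1 hCR
  have hyord : ∃ m : ℕ, orderOf y = 2 ^ m := by
    obtain ⟨m, hm⟩ := (IsPGroup.iff_orderOf.1 hX2) ⟨y, hyC.1⟩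
    exact ⟨m, by rwa [Subgroup.orderOf_mk] at hm⟩
  obtain ⟨n, hn1, hn2⟩ := exists_pow_sq_mem hyord hyR
  obtain ⟨y₁, hy₁⟩ : ∃ y₁, y₁ = y ^ (2 ^ n) := ⟨_, rfl⟩
  rw [← hy₁] at hn1 hn2
  have hy₁C : y₁ ∈ C := by rw [hy₁]; exact C.pow_mem hyC _
  let T : Set S := (R : Set S) ∪ {y₁}
  let B : Subgroup S := Subgroup.closure T
  have hBX : B ≤ X := by
    rw [Subgroup.closure_le]
    rintro a (ha | ha)
    · exact hRX ha
    · rw [Set.mem_singleton_iff.1 ha]; exact hy₁C.1
  have hRB : R ≤ B := fun a ha => Subgroup.subset_closure (Or.inl ha)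
  have hy₁B : y₁ ∈ B := Subgroup.subset_closure (Or.inr rfl)
  have hy₁c : ∀ x ∈ R, x * y₁ = y₁ * x := fun x hx => hCcomm y₁ hy₁C x hx
  have hBH : H ≤ Subgroup.normalizer (B : Set S) := by
    intro h hh
    apply Cfsg.Agent.H20.mem_normalizer_of_conj_le
    have hle : B ≤ B.comap (MulAut.conj h).toMonoidHom := by
      rw [Subgroup.closure_le]
      rintro a (ha | ha)
      · exact hRB (H01.conj_mem_of_mem_normalizer (hRH hh) ha)
      · rw [Set.mem_singleton_iff.1 ha]
        show h * y₁ * h⁻¹ ∈ B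
        rw [hCfix y₁ hy₁C h hh]
        simpa using hy₁B
    intro w hw
    exact hle hw
  have hBA : HasA B := hasA_of_centralizing hty hRB (hX2.to_le hBX) hy₁B hy₁c hn1
  have hBeq : B = X := hinv B hBX hBH hBA
  rcases hty with hty | hty
  · exfalso
    apply hcX
    rw [← hBeq]
    apply comm_closure
    rintro a (ha | ha) b (hb | hb)
    · exact hty.comm a ha b hb
    · rw [Set.mem_singleton_iff.1 hb]; exact hy₁c a ha
    · rw [Set.mem_singleton_iff.1 ha]; exact (hy₁c b hb).symm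
    · rw [Set.mem_singleton_iff.1 ha, Set.mem_singleton_iff.1 hb]
  · have hcases : ∀ b ∈ B, b ∈ R ∨ y₁⁻¹ * b ∈ R := by
      intro b hb
      induction hb using Subgroup.closure_induction with
      | mem x hx =>
        rcases hx with hx | hx
        · exact Or.inl hx
        · right
          rw [Set.mem_singleton_iff.1 hx]
          simp
      | one => exact Or.inl R.one_mem
      | mul a b _ _ ha hb =>
        rcases ha with ha | ha <;> rcases hb with hb | hb
        · exact Or.inl (R.mul_mem ha hb)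
        · right
          have e : y₁⁻¹ * (a * b) = a * (y₁⁻¹ * b) := by
            have h1 : y₁⁻¹ * a = a * y₁⁻¹ := by
              have := (show Commute a y₁ from hy₁c a ha).inv_right
              exact this.symm
            rw [← mul_assoc, h1, mul_assoc]
          rw [e]
          exact R.mul_mem ha hb
        · right
          rw [← mul_assoc]
          exact R.mul_mem ha hb
        · left
          obtain ⟨ra, hra⟩ : ∃ ra, ra = y₁⁻¹ * a := ⟨_, rfl⟩
          obtain ⟨rb, hrb⟩ : ∃ rb, rb = y₁⁻¹ * b := ⟨_, rfl⟩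
          rw [← hra] at ha
          rw [← hrb] at hb
          have ea : a = y₁ * ra := by rw [hra]; group
          have eb : b = y₁ * rb := by rw [hrb]; group
          have e : a * b = y₁ ^ 2 * (ra * rb) := by
            rw [ea, eb, sq]
            have := hy₁c ra ha
            calc y₁ * ra * (y₁ * rb) = y₁ * (ra * y₁) * rb := by group
              _ = y₁ * (y₁ * ra) * rb := by rw [this]
              _ = _ := by group
          rw [e]
          exact R.mul_mem hn2 (R.mul_mem ha hb)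
      | inv a _ ha =>
        rcases ha with ha | ha
        · exact Or.inl (R.inv_mem ha)
        · right
          obtain ⟨ra, hra⟩ : ∃ ra, ra = y₁⁻¹ * a := ⟨_, rfl⟩
          rw [← hra] at ha
          have ea : a = y₁ * ra := by rw [hra]; group
          have e : y₁⁻¹ * a⁻¹ = (y₁ ^ 2)⁻¹ * ra⁻¹ := by
            rw [ea, sq]
            have hc : ra⁻¹ * y₁⁻¹ = y₁⁻¹ * ra⁻¹ := by
              have := (show Commute ra y₁ from hy₁c ra ha).inv_inv
              exact this
            calc y₁⁻¹ * (y₁ * ra)⁻¹ = y₁⁻¹ * (ra⁻¹ * y₁⁻¹) := by group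
              _ = y₁⁻¹ * (y₁⁻¹ * ra⁻¹) := by rw [hc]
              _ = _ := by group
          rw [e]
          exact R.mul_mem (R.inv_mem hn2) (R.inv_mem ha)
    refine ⟨R, 0, hRX, ?_, hty.iso, ?_⟩
    · show (R.subgroupOf X).index = 2
      rw [Subgroup.index_eq_two_iff]
      refine ⟨⟨y₁, hy₁C.1⟩, ?_⟩
      rintro ⟨b, hb⟩
      show Xor (b * y₁ ∈ R) (b ∈ R)
      by_cases hbR : b ∈ R
      · right
        refine ⟨hbR, ?_⟩
        intro hm
        apply hn1
        have : y₁ = b⁻¹ * (b * y₁) := by group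
        rw [this]
        exact R.mul_mem (R.inv_mem hbR) hm
      · left
        refine ⟨?_, hbR⟩
        have hb' : b ∈ B := by rw [hBeq]; exact hb
        rcases hcases b hb' with h1 | h1
        · exact absurd h1 hbR
        · obtain ⟨r, hr⟩ : ∃ r, r = y₁⁻¹ * b := ⟨_, rfl⟩
          rw [← hr] at h1
          have eb : b = y₁ * r := by rw [hr]; group
          have e : b * y₁ = y₁ ^ 2 * r := by
            rw [eb, sq, mul_assoc, hy₁c r h1, mul_assoc]
          rw [e]
          exact R.mul_mem hn2 h1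
    · apply le_antisymm (sup_le hRX inf_le_left)
      rw [← hBeq]
      have hhh : B ≤ R ⊔ (B ⊓ Subgroup.centralizer (R : Set S)) := by
        rw [Subgroup.closure_le]
        rintro a (ha | ha)
        · exact (le_sup_left : R ≤ _) ha
        · rw [Set.mem_singleton_iff.1 ha]
          exact (le_sup_right : B ⊓ Subgroup.centralizer (R : Set S) ≤ _) ⟨hy₁B, Subgroup.mem_centralizer_iff.2 hy₁c⟩
      exact hhh

theorem structure_case2 (X H : Subgroup S) (hX2 : IsPGroup 2 X) (hXn : X.Normal)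
    (hHodd : Odd (Nat.card H))
    (hinv : ∀ Y : Subgroup S, Y ≤ X → H ≤ Subgroup.normalizer (Y : Set S) → HasA Y → Y = X)
    (hXA : HasA X) (hcX : ¬ ∀ a ∈ X, ∀ b ∈ X, a * b = b * a)
    (hcop : (Nat.card H).Coprime (Nat.card X)) (hHN : H ≤ Subgroup.normalizer (X : Set S))
    (hodd : ∀ h ∈ H, Odd (orderOf h)) (hQ : ⁅X, H⁆ = X) :
    (IsExtraspecial 2 ↥X ∧ 32 ≤ Nat.card ↥X) ∨ (IsSpecial 2 ↥X ∧ Nat.card ↥(Subgroup.center ↥X) = 4) := by
  classical
  haveI : Fact (Nat.Prime 2) := ⟨Nat.prime_two⟩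
  have hXnn : X ≤ Subgroup.normalizer (X : Set S) := Subgroup.le_normalizer
  have hHp : (Nat.card H).Coprime 2 := coprime_two_of_odd hHodd
  obtain ⟨a₀, ha₀, b₀, hb₀, hab₀⟩ : ∃ a ∈ X, ∃ b ∈ X, a * b ≠ b * a := by
    by_contra hcon
    push Not at hcon
    exact hcX hcon
  have hXnt : Nontrivial ↥X := ⟨⟨⟨a₀, ha₀⟩, 1, by
    intro he
    have : a₀ = 1 := congrArg Subtype.val he
    rw [this] at hab₀
    simp at hab₀⟩⟩
  -- the Frattini subgroup is central
  have hKX : Dof X ≤ X := dof_le X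
  have hKne : Dof X ≠ X := by
    intro he
    have h1 : (⊥ : Subgroup ↥X) ⊔ frattini ↥X = ⊤ := by
      rw [bot_sup_eq, eq_top_iff]
      intro x _
      have : (x : S) ∈ Dof X := by rw [he]; exact x.2
      exact (mem_dof_iff x).1 this
    have h2 := frattini_nongenerating h1
    exact bot_ne_top h2
  have hKH : H ≤ Subgroup.normalizer ((Dof X : Subgroup S) : Set S) := fun g hg =>
    H18.hh_char_map_normalized X (frattini ↥X) (hHN hg)
  have hKXn : X ≤ Subgroup.normalizer ((Dof X : Subgroup S) : Set S) := fun g hg =>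
    H18.hh_char_map_normalized X (frattini ↥X) (hXnn hg)
  have hKfree : ¬ HasA (Dof X) := fun hA => hKne (hinv _ hKX hKH hA)
  have hKcen : ∀ k ∈ Dof X, ∀ x ∈ X, k * x = x * k := by
    by_cases hfix : ∀ h ∈ H, ∀ k ∈ Dof X, h * k * h⁻¹ = k
    · intro z hz x₀ hx₀
      have h1 : X ≤ Subgroup.centralizer ({z} : Set S) := by
        apply H18.hh_kill hQ
        intro x hx a ha
        rw [Subgroup.mem_centralizer_singleton_iff]
        have h2 : x⁻¹ * z * x ∈ Dof X := by
          have := H01.conj_mem_of_mem_normalizer (hKXn (X.inv_mem hx)) hz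
          simpa using this
        have h3 := hfix a ha _ h2
        have h4 := hfix a ha z hz
        have h5 : a⁻¹ * z * a = z := by
          nth_rw 1 [← h4]
          group
        rw [commutatorElement_def]
        calc x * a * x⁻¹ * a⁻¹ * z = x * (a * (x⁻¹ * (a⁻¹ * z * a) * x) * a⁻¹) * (a * x⁻¹ * a⁻¹) := by
              group
          _ = x * (a * (x⁻¹ * z * x) * a⁻¹) * (a * x⁻¹ * a⁻¹) := by rw [h5]
          _ = x * (x⁻¹ * z * x) * (a * x⁻¹ * a⁻¹) := by rw [h3]
          _ = z * (x * a * x⁻¹ * a⁻¹) := by group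
      exact (Subgroup.mem_centralizer_singleton_iff.1 (h1 hx₀)).symm
    · push Not at hfix
      obtain ⟨h₀, hh₀, k₀, hk₀, hne₀⟩ := hfix
      obtain ⟨hd, hty⟩ := af_main (hX2.to_le hKX) hKfree (hodd h₀ hh₀) (hKH hh₀) ⟨k₀, hk₀, hne₀⟩
      have hK1 : Dof X ≠ ⊥ := by
        intro h0
        rw [h0, Subgroup.mem_bot] at hk₀
        subst hk₀
        simp at hne₀
      have hE := comm_le_dof hKX hX2 le_rfl hKXn hd (hHN hh₀) hK1
      rcases hty with hty | hty
      · intro k hk x hx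
        have h1 := hE k hk x hx
        rw [hty.dof, Subgroup.mem_bot, commutatorElement_eq_one_iff_mul_comm] at h1
        exact h1
      · exfalso
        -- `X = C_X(K) Φ(X)`
        let CK : Subgroup S := X ⊓ Subgroup.centralizer ((Dof X : Subgroup S) : Set S)
        have h1 : CK.subgroupOf X ⊔ frattini ↥X = ⊤ := by
          rw [eq_top_iff]
          rintro ⟨x, hx⟩ _
          obtain ⟨k, hk, hkc⟩ := q8_stab (hX2.to_le hKX) hty (hKXn hx) (fun u hu => hE u hu x hx)
          have hkX : k ∈ X := hKX hk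
          have e : (⟨x, hx⟩ : ↥X) = ⟨x * k⁻¹, X.mul_mem hx (X.inv_mem hkX)⟩ * ⟨k, hkX⟩ := by
            apply Subtype.ext
            simp
          rw [e]
          apply Subgroup.mul_mem_sup
          · exact ⟨X.mul_mem hx (X.inv_mem hkX), Subgroup.mem_centralizer_iff.2 hkc⟩
          · exact (mem_dof_iff (⟨k, hkX⟩ : ↥X)).1 hk
        have h2 := frattini_nongenerating h1
        obtain ⟨a, ha, b, hb, hab⟩ := hty.pair
        have h3 : (⟨b, hKX hb⟩ : ↥X) ∈ CK.subgroupOf X := by rw [h2]; trivial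
        have h4 := (Subgroup.mem_centralizer_iff.1 h3.2) a ha
        exact hab h4
  -- centre and commutators
  have hΦZ : frattini ↥X ≤ Subgroup.center ↥X := by
    intro x hx
    rw [Subgroup.mem_center_iff]
    intro g
    apply Subtype.ext
    exact (hKcen _ ((mem_dof_iff x).2 hx) g g.2).symm
  have hComΦ : commutator ↥X ≤ frattini ↥X := H01.commutator_le_frattini_of_isPGroup hX2
  let Z' : Subgroup S := (Subgroup.center ↥X).map X.subtype
  have hZX : Z' ≤ X := by
    rintro _ ⟨w, _, rfl⟩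
    exact w.2
  have hZne : Z' ≠ X := by
    intro he
    have : (⟨b₀, hb₀⟩ : ↥X) ∈ Subgroup.center ↥X := by
      have h1 : b₀ ∈ Z' := by rw [he]; exact hb₀
      obtain ⟨w, hw, hwe⟩ := h1
      have : w = ⟨b₀, hb₀⟩ := Subtype.ext hwe
      rwa [← this]
    have h2 := Subgroup.mem_center_iff.1 this ⟨a₀, ha₀⟩
    exact hab₀ (congrArg Subtype.val h2)
  have hZH : H ≤ Subgroup.normalizer ((Z' : Subgroup S) : Set S) := fun g hg =>
    H18.hh_char_map_normalized X (Subgroup.center ↥X) (hHN hg)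
  have hZfree : ¬ HasA Z' := fun hA => hZne (hinv _ hZX hZH hA)
  have hZcomm : ∀ a ∈ Z', ∀ b ∈ Z', a * b = b * a := by
    rintro _ ⟨a, ha, rfl⟩ _ ⟨b, hb, rfl⟩
    have := Subgroup.mem_center_iff.1 ha b
    exact (congrArg Subtype.val this).symm
  have hspec : IsSpecial 2 ↥X := by
    by_cases hfixZ : ∀ h ∈ H, ∀ z ∈ Z', h * z * h⁻¹ = z
    · have hZΦ : Subgroup.center ↥X ≤ frattini ↥X := by
        intro z hz
        have hzZ : (z : S) ∈ Z' := ⟨z, hz, rfl⟩
        have h1 := H18.hh_fixed_mod_frattini (p := 2) hX2 hHp hHN hQ z.2 (fun a ha => by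
          rw [hfixZ a ha _ hzZ, mul_inv_cancel]
          exact Subgroup.one_mem _)
        exact (mem_dof_iff z).1 h1
      have hΦeq : frattini ↥X = Subgroup.center ↥X := le_antisymm hΦZ hZΦ
      have hΦCom : frattini ↥X ≤ commutator ↥X := by
        apply H01.frattini_le_of_comm_pow (p := 2) _ le_rfl
        intro x
        let f : ↥X →* Abelianization ↥X := (powMonoidHom 2).comp Abelianization.of
        have hkill := H18.hh_kill_hom hHN hQ f (fun a ha y => by
          show (Abelianization.of _) ^ 2 = (Abelianization.of y) ^ 2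
          rw [← map_pow, ← map_pow]
          congr 1
          apply Subtype.ext
          have hyZ : ((y : S)) ^ 2 ∈ Z' :=
            ⟨y ^ 2, hΦZ (H01.pow_mem_frattini_of_isPGroup hX2 y), by simp⟩
          simp only [Subgroup.coe_pow]
          rw [conj_pow]
          exact hfixZ a ha _ hyZ) x
        have h1 : (Abelianization.of x) ^ 2 = 1 := hkill
        rw [← map_pow] at h1
        have h2 : x ^ 2 ∈ (Abelianization.of (G := ↥X)).ker := h1
        rwa [Abelianization.ker_of] at h2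
      exact ⟨hX2, hΦeq, by rw [← hΦeq]; exact le_antisymm hComΦ hΦCom⟩
    · push Not at hfixZ
      obtain ⟨h₀, hh₀, z₀, hz₀, hne₀⟩ := hfixZ
      obtain ⟨hd, hty⟩ := af_main (hX2.to_le hZX) hZfree (hodd h₀ hh₀) (hZH hh₀) ⟨z₀, hz₀, hne₀⟩
      rcases hty with hty | hty
      · have hUZ : (commutator ↥X).map X.subtype ≤ Z' := Subgroup.map_mono (hComΦ.trans hΦZ)
        have hUn : h₀ ∈ Subgroup.normalizer (((commutator ↥X).map X.subtype : Subgroup S) : Set S) :=
          H18.hh_char_map_normalized X (commutator ↥X) (hHN hh₀)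
        rcases hd.irr _ (by rw [hty.dof]; exact bot_le) hUZ hUn with he | he
        · exfalso
          rw [hty.dof] at he
          have h1 := Subgroup.commutator_mem_commutator (Subgroup.mem_top (⟨a₀, ha₀⟩ : ↥X)) (Subgroup.mem_top (⟨b₀, hb₀⟩ : ↥X))
          have h2 : (⁅a₀, b₀⁆ : S) ∈ (commutator ↥X).map X.subtype := ⟨_, h1, rfl⟩
          rw [he, Subgroup.mem_bot, commutatorElement_eq_one_iff_mul_comm] at h2
          exact hab₀ h2
        · have hCom : commutator ↥X = Subgroup.center ↥X :=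
            Subgroup.map_injective X.subtype_injective he
          exact ⟨hX2, le_antisymm hΦZ (by rw [← hCom]; exact hComΦ), hCom⟩
      · exfalso
        obtain ⟨a, ha, b, hb, hab⟩ := hty.pair
        exact hab (hZcomm a ha b hb)
  -- order of the centre
  have hZcard : Nat.card Z' = Nat.card (Subgroup.center ↥X) :=
    (Nat.card_congr ((Subgroup.center ↥X).equivMapOfInjective X.subtype X.subtype_injective).toEquiv).symm
  obtain ⟨j, hj⟩ := IsPGroup.iff_card.1 (hX2.to_subgroup (Subgroup.center ↥X))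
  have hj0 : j ≠ 0 := by
    rintro rfl
    rw [pow_zero] at hj
    haveI := hX2.center_nontrivial
    have h3 : Subgroup.center ↥X = ⊥ := Subgroup.card_eq_one.1 hj
    exact ((Subgroup.nontrivial_iff_ne_bot _).1 inferInstance) h3
  have hj2 : j ≤ 2 := by
    by_contra hlt
    have hj3 : 3 ≤ j := by omega
    have h8 : 8 ≤ Nat.card Z' := by
      rw [hZcard, hj]
      calc 8 = 2 ^ 3 := by norm_num
        _ ≤ 2 ^ j := Nat.pow_le_pow_right (by norm_num) hj3
    have hZexp : ∀ z ∈ Z', z ^ 2 = 1 := by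
      rintro _ ⟨w, hw, rfl⟩
      have := center_sq hspec w hw
      simpa using congrArg Subtype.val this
    have hnc : ¬ IsCyclic Z' := by
      intro hcyc
      obtain ⟨g, hg⟩ := IsCyclic.exists_generator (α := Z')
      have hord : orderOf g = Nat.card Z' := orderOf_eq_card_of_forall_mem_zpowers hg
      have h5 : g ^ 2 = 1 := Subtype.ext (by simpa using hZexp g g.2)
      have h6 : orderOf g ≤ 2 := orderOf_le_of_pow_eq_one (by norm_num) h5
      omega
    exact hZfree (hasA_of_abelian Z' (hX2.to_le hZX) hZcomm hnc h8)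
  have hj12 : j = 1 ∨ j = 2 := by omega
  rcases hj12 with rfl | rfl
  · left
    rw [pow_one] at hj
    refine ⟨⟨hspec, hj⟩, ?_⟩
    obtain ⟨m, hm1, hm⟩ := H18.extraspecial_card (p := 2) (E := ↥X) ⟨hspec, hj⟩
    have hm2 : m ≠ 1 := by
      rintro rfl
      obtain ⟨A, hAX, hAc, -, hA8⟩ := hXA
      have heq : A = X := Subgroup.eq_of_le_of_card_ge hAX (by rw [hA8, hm]; norm_num)
      apply hab₀
      subst heq
      have := hAc.is_comm.comm ⟨a₀, ha₀⟩ ⟨b₀, hb₀⟩
      exact congrArg Subtype.val this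
    rw [hm]
    have : 2 * 2 + 1 ≤ 2 * m + 1 := by omega
    calc 32 = 2 ^ (2 * 2 + 1) := by norm_num
      _ ≤ 2 ^ (2 * m + 1) := Nat.pow_le_pow_right (by norm_num) this
  · right
    exact ⟨hspec, by rw [hj]; norm_num⟩

/-- S4409 -/
theorem result {S : Type*} [Group S] [Finite S]
    [Group.IsSolvable S] (hO : Cfsg.pPrimeCore 2 S = ⊥)
    (h8 : ∃ A : Subgroup S, IsMulCommutative ↥A ∧ ¬ IsCyclic ↥A ∧ Nat.card ↥A = 8)
    (hmin : ∀ R : Subgroup S, R ≠ ⊤ → (∃ k : ℕ, R.index = 2 ^ k) →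
      ¬ ∃ A : Subgroup S, A ≤ R ∧ IsMulCommutative ↥A ∧ ¬ IsCyclic ↥A ∧ Nat.card ↥A = 8)
    (X : Sylow 2 S) :
    (X : Subgroup S).Normal ∧
      (IsMulCommutative ↥X ∨
        (Cfsg.IsExtraspecial 2 ↥X ∧ 32 ≤ Nat.card ↥X) ∨
        (∃ (X₀ : Subgroup S) (k : ℕ), X₀ ≤ (X : Subgroup S) ∧ X₀.relIndex (X : Subgroup S) = 2 ∧
          Nonempty (↥X₀ ≃* QuaternionGroup (2 ^ (k + 1))) ∧ X₀ ⊔ ((X : Subgroup S) ⊓ Subgroup.centralizer (X₀ : Set S)) = (X : Subgroup S)) ∨
        (Cfsg.IsSpecial 2 ↥X ∧ Nat.card ↥(Subgroup.center ↥X) = 4)) := by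
  classical
  haveI : Fact (Nat.Prime 2) := ⟨Nat.prime_two⟩
  have hmin' : ∀ R : Subgroup S, R ≠ ⊤ → (∃ k : ℕ, R.index = 2 ^ k) → ¬ HasA R := by
    rintro R hR hk ⟨A, h1, h2, h3, h4⟩
    exact hmin R hR hk ⟨A, h1, h2, h3, h4⟩
  obtain ⟨k, m, hmodd, hcard⟩ : ∃ k m, Odd m ∧ Nat.card S = 2 ^ k * m :=
    Nat.exists_eq_two_pow_mul_odd Nat.card_pos.ne'
  have hcop2 : m.Coprime (2 ^ k) := Nat.Coprime.pow_right _ (coprime_two_of_odd hmodd)
  obtain ⟨H, hHcard, -⟩ := H01.hall_containment (Nat.card S) S rfl m (2 ^ k) (by rw [hcard]; ring) hcop2 ⊥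
    (by simp)
  have hHodd : Odd (Nat.card H) := by rw [hHcard]; exact hmodd
  have hodd : ∀ h ∈ H, Odd (orderOf h) := by
    intro h hh
    have h1 : orderOf (⟨h, hh⟩ : H) ∣ Nat.card H := orderOf_dvd_natCard _
    rw [Subgroup.orderOf_mk] at h1
    exact Odd.of_dvd_nat hHodd h1
  -- `H`-invariant subgroups containing `A` are big
  have inv_eq : ∀ Y : Subgroup S, IsPGroup 2 Y → H ≤ Subgroup.normalizer (Y : Set S) → HasA Y → Nat.card Y = 2 ^ k := by
    intro Y hY2 hYH hA
    obtain ⟨b, hb⟩ := IsPGroup.iff_card.1 hY2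
    have hcY : (Nat.card Y).Coprime (Nat.card H) := by
      rw [hb, hHcard]
      exact Nat.Coprime.pow_left _ (Nat.Coprime.symm (coprime_two_of_odd hmodd))
    have h1 := H01.card_sup_of_le_normalizer hYH hcY
    have h2 := Subgroup.card_mul_index (Y ⊔ H)
    rw [← h1, hcard, hHcard, hb] at h2
    have h3 : 2 ^ b * (Y ⊔ H).index = 2 ^ k := by
      have hm0 : 0 < m := hmodd.pos
      have : m * (2 ^ b * (Y ⊔ H).index) = m * 2 ^ k := by
        calc m * (2 ^ b * (Y ⊔ H).index) = 2 ^ b * m * (Y ⊔ H).index := by ring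
          _ = 2 ^ k * m := h2
          _ = m * 2 ^ k := by ring
      exact Nat.eq_of_mul_eq_mul_left hm0 this
    have hb' : b ≤ k := by
      have hd : 2 ^ b ∣ 2 ^ k := ⟨_, h3.symm⟩
      exact (Nat.pow_dvd_pow_iff_le_right (by norm_num)).1 hd
    have hindex : (Y ⊔ H).index = 2 ^ (k - b) := by
      have : 2 ^ b * 2 ^ (k - b) = 2 ^ k := by rw [← pow_add]; congr 1; omega
      have h5 : 2 ^ b * (Y ⊔ H).index = 2 ^ b * 2 ^ (k - b) := by rw [h3, this]
      exact Nat.eq_of_mul_eq_mul_left (by positivity) h5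
    by_cases htop : Y ⊔ H = ⊤
    · rw [htop, Subgroup.index_top, mul_one] at h3
      rw [hb, h3]
    · exact absurd (hA.mono le_sup_left) (hmin' _ htop ⟨_, hindex⟩)
  -- `O₂(S)`
  haveI hQn : (pCore 2 S).Normal := H01.pCore_normal 2
  have hQ2 : IsPGroup 2 (pCore 2 S) := H01.pCore_isPGroup 2
  have hQC : Subgroup.centralizer ((pCore 2 S : Subgroup S) : Set S) ≤ pCore 2 S :=
    H08.hall_higman (H06.isPSolvable_of_isSolvable 2 S) hO
  have hQA : HasA (pCore 2 S) := by
    by_contra hfree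
    by_cases hmv : ∃ h : S, Odd (orderOf h) ∧ ∃ y ∈ pCore 2 S, h * y * h⁻¹ ≠ y
    · obtain ⟨h, hoddh, hne⟩ := hmv
      obtain ⟨hd, hty⟩ := af_main hQ2 hfree hoddh (by rw [Subgroup.normalizer_eq_top (pCore 2 S)]; exact Subgroup.mem_top _) hne
      obtain ⟨A, hc, hnc, h8'⟩ := h8
      exact no_A hQ2 hQn hQC hty hc hnc h8'
    · push Not at hmv
      have hall : ∀ g : S, Odd (orderOf g) → g = 1 := by
        intro g hg
        have h1 : g ∈ pCore 2 S := by
          apply hQC
          rw [Subgroup.mem_centralizer_iff]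
          intro y hy
          have := hmv g hg y hy
          calc y * g = (g * y * g⁻¹) * g := by rw [this]
            _ = g * y := by group
        obtain ⟨j, hj⟩ := (IsPGroup.iff_orderOf.1 hQ2) ⟨g, h1⟩
        rw [Subgroup.orderOf_mk] at hj
        rw [hj] at hg
        have hj0 : j = 0 := by
          by_contra hne
          obtain ⟨i, rfl⟩ := Nat.exists_eq_succ_of_ne_zero hne
          rw [pow_succ] at hg
          have := (Nat.odd_mul.1 hg).2
          exact absurd this (by decide)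
        subst hj0
        rw [pow_zero, orderOf_eq_one_iff] at hj
        exact hj
      have hS2 : IsPGroup 2 S := by
        intro g
        obtain ⟨a, b, hb, hab⟩ : ∃ a b, Odd b ∧ orderOf g = 2 ^ a * b :=
          Nat.exists_eq_two_pow_mul_odd (orderOf_pos g).ne'
        refine ⟨a, ?_⟩
        apply hall
        rw [orderOf_pow, hab, Nat.gcd_eq_right (Dvd.intro _ rfl)]
        rwa [Nat.mul_div_cancel_left _ (by positivity)]
      have htop : pCore 2 S = ⊤ := by
        rw [eq_top_iff]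
        apply H01.le_pCore (by infer_instance)
        exact hS2.to_subgroup ⊤
      obtain ⟨A, hc, hnc, h8'⟩ := h8
      apply hfree
      rw [htop]
      exact ⟨A, le_top, hc, hnc, h8'⟩
  have hQcard : Nat.card (pCore 2 S) = 2 ^ k :=
    inv_eq _ hQ2 (by rw [Subgroup.normalizer_eq_top (pCore 2 S)]; exact le_top) hQA
  -- the Sylow subgroup
  have hXQ : pCore 2 S ≤ (X : Subgroup S) := H01.pCore_le_sylow 2 X
  have hX2 : IsPGroup 2 (X : Subgroup S) := X.isPGroup'
  have hXcard : Nat.card (X : Subgroup S) = 2 ^ k := by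
    obtain ⟨b, hb⟩ := IsPGroup.iff_card.1 hX2
    have h1 := Subgroup.card_dvd_of_le hXQ
    rw [hb, hQcard] at h1
    have h2 : k ≤ b := (Nat.pow_dvd_pow_iff_le_right (by norm_num)).1 h1
    have h3 : Nat.card (X : Subgroup S) ∣ Nat.card S := Subgroup.card_subgroup_dvd_card _
    rw [hb, hcard] at h3
    have h4 : 2 ^ b ∣ 2 ^ k := by
      apply (Nat.Coprime.dvd_mul_right (Nat.Coprime.pow_left _ (Nat.Coprime.symm (coprime_two_of_odd hmodd)))).1
      exact h3
    have h5 : b ≤ k := (Nat.pow_dvd_pow_iff_le_right (by norm_num)).1 h4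
    have : b = k := by omega
    rw [hb, this]
  have hXeq : (X : Subgroup S) = pCore 2 S :=
    (Subgroup.eq_of_le_of_card_ge hXQ (by rw [hXcard, hQcard])).symm
  have hXn : (X : Subgroup S).Normal := by rw [hXeq]; exact hQn
  refine ⟨hXn, ?_⟩
  have hHN : H ≤ Subgroup.normalizer ((X : Subgroup S) : Set S) := by
    rw [Subgroup.normalizer_eq_top (X : Subgroup S)]; exact le_top
  have hXA : HasA (X : Subgroup S) := by rw [hXeq]; exact hQA
  have hinv : ∀ Y : Subgroup S, Y ≤ (X : Subgroup S) → H ≤ Subgroup.normalizer (Y : Set S) → HasA Y → Y = (X : Subgroup S) := by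
    intro Y hYX hYH hA
    apply Subgroup.eq_of_le_of_card_ge hYX
    rw [hXcard, inv_eq Y (hX2.to_le hYX) hYH hA]
  have hcop : (Nat.card H).Coprime (Nat.card (X : Subgroup S)) := by
    rw [hHcard, hXcard]; exact hcop2
  by_cases hab : ∀ a ∈ (X : Subgroup S), ∀ b ∈ (X : Subgroup S), a * b = b * a
  · left
    exact ⟨⟨fun a b => Subtype.ext (hab a a.2 b b.2)⟩⟩
  right
  have hmvX : ∃ h ∈ H, ∃ x ∈ (X : Subgroup S), h * x * h⁻¹ ≠ x := by
    by_contra hcon
    push Not at hcon
    have hHX : H ≤ (X : Subgroup S) := by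
      intro h hh
      rw [hXeq]
      apply hQC
      rw [Subgroup.mem_centralizer_iff]
      intro y hy
      have := hcon h hh y (by rw [hXeq]; exact hy)
      calc y * h = (h * y * h⁻¹) * h := by rw [this]
        _ = h * y := by group
    have hdis := Subgroup.disjoint_of_coprime_natCard hcop
    have hH1 : H = ⊥ := by
      rw [eq_bot_iff]
      intro h hh
      exact Subgroup.disjoint_def.1 hdis hh (hHX hh)
    obtain ⟨A, hAX, hAc, hAnc, hA8⟩ := hXA
    apply hab
    have hAeq : A = (X : Subgroup S) := hinv A hAX (by rw [hH1]; exact bot_le) ⟨A, le_rfl, hAc, hAnc, hA8⟩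
    rw [← hAeq]
    intro a ha b hb
    have := hAc.is_comm.comm ⟨a, ha⟩ ⟨b, hb⟩
    exact congrArg Subtype.val this
  by_cases hR : ⁅(X : Subgroup S), H⁆ = (X : Subgroup S)
  · rcases structure_case2 (X : Subgroup S) H hX2 hXn hHodd hinv hXA hab hcop hHN hodd hR with h1 | h1
    · exact Or.inl h1
    · exact Or.inr (Or.inr h1)
  · exact Or.inr (Or.inl (structure_case1 (X : Subgroup S) H hX2 hXn hHodd hinv hXA hab hcop hHN hodd hmvX hR))

end Cfsg.Agent.S4409
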