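import Mathlib
import Cfsg.Agent.Lib.H13.FrobFusion
import Cfsg.Agent.Lib.H01.Coprime4
import Cfsg.Agent.Lib.H01.Basic
import Cfsg.Agent.Lib.H06.Layer2
import Cfsg.Agent.Lib.H06.FittingHall
import Cfsg.Agent.Lib.H20.Basic
import Cfsg.Agent.Lib.H03.PConstr
import Cfsg.Statements.S4419

set_option autoImplicit false
set_option linter.unusedVariables false
set_option linter.style.haveILetI false
open Pointwise
open Cfsg

namespace Cfsg.Agent.S4419

open Subgroup

/-- subgroups of metacyclic groups are two-generated in a strong form -/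
theorem twoGen_of_metacyclic {R : Type*} [Group R] [Finite R] (hR : Cfsg.IsMetacyclic R)
    (Q : Subgroup R) : ∃ u ∈ Q, ∃ v ∈ Q, ∀ s ∈ Q, ∃ i j : ℤ, s = u ^ i * v ^ j := by
  classical
  obtain ⟨N, hN, hNc, hQc⟩ := hR
  -- generator of the image of `Q`
  let Q₀ : Subgroup (R ⧸ N) := Q.map (QuotientGroup.mk' N)
  haveI : IsCyclic Q₀ := Subgroup.isCyclic Q₀
  obtain ⟨⟨w, hw⟩, hwgen⟩ := IsCyclic.exists_generator (α := Q₀)
  obtain ⟨t, ht, rfl⟩ := hw
  -- generator of `Q ∩ N`
  let Q₁ : Subgroup N := Q.subgroupOf N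
  haveI : IsCyclic Q₁ := Subgroup.isCyclic Q₁
  obtain ⟨⟨n, hn⟩, hngen⟩ := IsCyclic.exists_generator (α := Q₁)
  refine ⟨t, ht, (n : R), Subgroup.mem_subgroupOf.mp hn, ?_⟩
  intro s hs
  obtain ⟨i, hi⟩ := Subgroup.mem_zpowers_iff.mp (hwgen ⟨QuotientGroup.mk' N s, s, hs, rfl⟩)
  have hi' : (QuotientGroup.mk' N t) ^ i = QuotientGroup.mk' N s := by
    have := congrArg Subtype.val hi
    simpa using this
  have h1 : t⁻¹ ^ i * s ∈ N := by
    rw [← QuotientGroup.eq_one_iff]
    have : ((t⁻¹ ^ i * s : R) : R ⧸ N) = ((QuotientGroup.mk' N t) ^ i)⁻¹ * QuotientGroup.mk' N s := by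
      simp
    rw [this, hi', inv_mul_cancel]
  have h2 : t⁻¹ ^ i * s ∈ Q := Q.mul_mem (Q.zpow_mem (Q.inv_mem ht) i) hs
  have h3 : (⟨t⁻¹ ^ i * s, h1⟩ : N) ∈ Q₁ := Subgroup.mem_subgroupOf.mpr h2
  obtain ⟨j, hj⟩ := Subgroup.mem_zpowers_iff.mp (hngen ⟨⟨t⁻¹ ^ i * s, h1⟩, h3⟩)
  refine ⟨i, j, ?_⟩
  have hj' : (n : R) ^ j = t⁻¹ ^ i * s := by
    have := congrArg (fun z : Q₁ => ((z : N) : R)) hj
    simpa using this
  rw [hj']
  simp

/-- the same for `p`-subgroups of `G` when the Sylow is metacyclic -/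
theorem twoGen_of_pgroup {G : Type*} [Group G] [Finite G] {p : ℕ} [Fact p.Prime] (S : Sylow p G)
    (hS : Cfsg.IsMetacyclic ↥(S : Subgroup G)) (Q : Subgroup G) (hQ : IsPGroup p Q) :
    ∃ u ∈ Q, ∃ v ∈ Q, ∀ s ∈ Q, ∃ i j : ℤ, s = u ^ i * v ^ j := by
  classical
  obtain ⟨S', hS'⟩ := hQ.exists_le_sylow
  obtain ⟨g, hg⟩ := Cfsg.Agent.H20.sylow_conj S S'
  have hle : ∀ x ∈ Q, g⁻¹ * x * g ∈ (S : Subgroup G) := fun x hx => (hg x).1 (hS' hx)
  -- pull back
  let Q' : Subgroup (S : Subgroup G) :=
    { carrier := {z | g * (z : G) * g⁻¹ ∈ Q}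
      one_mem' := by simp [Q.one_mem]
      mul_mem' := by
        intro a b ha hb
        have : g * ((a * b : (S : Subgroup G)) : G) * g⁻¹ = (g * a * g⁻¹) * (g * b * g⁻¹) := by
          simp only [Subgroup.coe_mul]; group
        show g * ((a * b : (S : Subgroup G)) : G) * g⁻¹ ∈ Q
        rw [this]
        exact Q.mul_mem ha hb
      inv_mem' := by
        intro a ha
        have : g * ((a⁻¹ : (S : Subgroup G)) : G) * g⁻¹ = (g * a * g⁻¹)⁻¹ := by
          simp only [Subgroup.coe_inv]; group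
        show g * ((a⁻¹ : (S : Subgroup G)) : G) * g⁻¹ ∈ Q
        rw [this]
        exact Q.inv_mem ha }
  obtain ⟨u, hu, v, hv, h⟩ := twoGen_of_metacyclic hS Q'
  refine ⟨g * u * g⁻¹, hu, g * v * g⁻¹, hv, ?_⟩
  intro s hs
  have hs' : (⟨g⁻¹ * s * g, hle s hs⟩ : (S : Subgroup G)) ∈ Q' := by
    show g * (g⁻¹ * s * g) * g⁻¹ ∈ Q
    convert hs using 1
    group
  obtain ⟨i, j, e⟩ := h _ hs'
  refine ⟨i, j, ?_⟩
  have e' : g⁻¹ * s * g = (u : G) ^ i * (v : G) ^ j := by
    have := congrArg Subtype.val e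
    simpa using this
  have e2 : s = g * (g⁻¹ * s * g) * g⁻¹ := by group
  rw [e2, e', conj_zpow, conj_zpow]
  group

/-- the Frattini quotient of a strongly two-generated `p`-group has at most `p²` elements -/
theorem card_frattini_quotient_le {K : Type*} [Group K] [Finite K] {p : ℕ} [Fact p.Prime]
    (hK : IsPGroup p K) (u v : K) (h : ∀ s : K, ∃ i j : ℤ, s = u ^ i * v ^ j) :
    Nat.card (K ⧸ frattini K) ≤ p ^ 2 := by
  classical
  have hp : 0 < p := (Fact.out : p.Prime).pos
  haveI : NeZero p := ⟨hp.ne'⟩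
  let f : ZMod p × ZMod p → K ⧸ frattini K := fun x =>
    ((u ^ (x.1.val) * v ^ (x.2.val) : K) : K ⧸ frattini K)
  have hf : Function.Surjective f := by
    intro y
    induction y using QuotientGroup.induction_on with
    | H s =>
      obtain ⟨i, j, rfl⟩ := h s
      refine ⟨((i : ZMod p), (j : ZMod p)), ?_⟩
      have hpow : ∀ (w : K) (n : ℤ), (w : K ⧸ frattini K) ^ n =
          (w : K ⧸ frattini K) ^ ((n : ZMod p).val) := by
        intro w n
        have h1 : (w : K ⧸ frattini K) ^ (p : ℤ) = 1 := by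
          rw [zpow_natCast, ← QuotientGroup.mk_pow]
          exact (QuotientGroup.eq_one_iff _).mpr
            (Cfsg.Agent.H01.pow_mem_frattini_of_isPGroup hK w)
        have h2 : orderOf (w : K ⧸ frattini K) ∣ p := by
          apply orderOf_dvd_of_pow_eq_one
          simpa using h1
        rw [← zpow_natCast]
        rw [zpow_eq_zpow_iff_modEq]
        have h3 : ((((n : ZMod p).val : ℤ)) : ZMod p) = (n : ZMod p) := by
          simp
        have h4 : (n : ℤ) ≡ ((n : ZMod p).val : ℤ) [ZMOD p] := by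
          rw [← ZMod.intCast_eq_intCast_iff, h3]
        exact h4.of_dvd (by exact_mod_cast h2)
      simp only [f, QuotientGroup.mk_mul, QuotientGroup.mk_pow]
      rw [QuotientGroup.mk_zpow, QuotientGroup.mk_zpow, hpow u i, hpow v j]
  have := Nat.card_le_card_of_surjective f hf
  rw [Nat.card_prod, Nat.card_zmod] at this
  rw [pow_two]
  exact this

/-- arithmetic core: a `q`-power order automorphism of a `p`-group of order `≤ p²` -/
theorem dvd_sq_sub_one {E : Type*} [Group E] [Finite E] {p q a : ℕ} [Fact p.Prime] [Fact q.Prime]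
    (hpq : p ≠ q) (hE : IsPGroup p E) (hcard : Nat.card E ≤ p ^ 2) (β : E →* E)
    (hβ : ∀ x, β^[q ^ a] x = x) (hne : ∃ x, β x ≠ x) : q ∣ p ^ 2 - 1 := by
  classical
  have hp : p.Prime := Fact.out
  have hq : q.Prime := Fact.out
  haveI : Fintype E := Fintype.ofFinite E
  let f : Function.End E := ⇑β
  have hf : f ^ q ^ a = 1 := by
    funext x
    have h1 : ((f ^ q ^ a : Function.End E) : E → E) = (⇑β)^[q ^ a] :=
      hom_coe_pow (fun g : Function.End E ↦ g) rfl (fun g h ↦ rfl) f (q ^ a)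
    rw [h1, hβ]
    rfl
  have hmod := Equiv.Perm.card_fixedPoints_modEq hf
  rw [← Nat.card_eq_fintype_card, ← Nat.card_eq_fintype_card] at hmod
  -- fixed points form a subgroup
  let F : Subgroup E := MonoidHom.eqLocus β (MonoidHom.id E)
  have hFcard : Nat.card (Function.fixedPoints (f : E → E)) = Nat.card F := by
    apply Nat.card_congr
    exact Equiv.subtypeEquivRight (fun x => Iff.rfl)
  rw [hFcard] at hmod
  obtain ⟨m, hm⟩ := IsPGroup.iff_card.mp hE
  have hFdvd : Nat.card F ∣ p ^ m := hm ▸ Subgroup.card_subgroup_dvd_card F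
  obtain ⟨k, hk, hFk⟩ := (Nat.dvd_prime_pow hp).mp hFdvd
  have hm2 : m ≤ 2 := by
    by_contra h
    push Not at h
    have : p ^ 3 ≤ p ^ m := Nat.pow_le_pow_right hp.pos h
    have h2 : p ^ 2 < p ^ 3 := Nat.pow_lt_pow_right hp.one_lt (by omega)
    rw [hm] at hcard
    omega
  have hkm : k < m := by
    apply lt_of_le_of_ne hk
    rintro rfl
    have h1 : Nat.card F = Nat.card E := by rw [hFk, hm]
    have h2 : F = ⊤ := Subgroup.eq_top_of_card_eq F h1
    obtain ⟨x, hx⟩ := hne
    apply hx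
    have : x ∈ F := by rw [h2]; trivial
    exact this
  rw [hm, hFk] at hmod
  have h3 : q ∣ p ^ m - p ^ k := (Nat.modEq_iff_dvd' (Nat.pow_le_pow_right hp.pos hk)).mp hmod.symm
  have hcop : Nat.Coprime q p := (Nat.coprime_primes hq hp).mpr (Ne.symm hpq)
  have h4 : p ^ m - p ^ k = p ^ k * (p ^ (m - k) - 1) := by
    rw [Nat.mul_sub, mul_one, ← pow_add]
    congr 2
    omega
  rw [h4] at h3
  have h5 : q ∣ p ^ (m - k) - 1 := (Nat.Coprime.pow_right k hcop).dvd_of_dvd_mul_left h3
  have hp2 : 2 ≤ p := hp.two_le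
  have h6 : m - k = 1 ∨ m - k = 2 := by omega
  rcases h6 with h6 | h6
  · rw [h6, pow_one] at h5
    apply h5.trans
    have : p ^ 2 - 1 = (p - 1) * (p + 1) := by
      obtain ⟨r, rfl⟩ : ∃ r, p = r + 1 := ⟨p - 1, by omega⟩
      simp only [Nat.add_sub_cancel]
      ring_nf
      omega
    rw [this]
    exact dvd_mul_right _ _
  · rwa [h6] at h5

/-- elements acting trivially on the Frattini quotient form a group -/
theorem zpowers_trivial {G : Type*} [Group G] [Finite G] (Q D : Subgroup G) (y : G)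
    (hy : y ∈ normalizer (Q : Set G)) (hD : ∀ k ∈ Q, y * k * y⁻¹ * k⁻¹ ∈ D) :
    ∀ a ∈ zpowers y, ∀ k ∈ Q, a * k * a⁻¹ * k⁻¹ ∈ D := by
  classical
  have hyQ : ∀ k ∈ Q, y * k * y⁻¹ ∈ Q := fun k hk =>
    (Subgroup.mem_normalizer_iff.mp hy k).1 hk
  have hn : ∀ n : ℕ, ∀ k ∈ Q, y ^ n * k * (y ^ n)⁻¹ * k⁻¹ ∈ D := by
    intro n
    induction n with
    | zero =>
      intro k _
      simp [D.one_mem]
    | succ n ih =>
      intro k hk
      have h1 := ih (y * k * y⁻¹) (hyQ k hk)
      have h2 := hD k hk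
      have e : y ^ (n + 1) * k * (y ^ (n + 1))⁻¹ * k⁻¹ =
          (y ^ n * (y * k * y⁻¹) * (y ^ n)⁻¹ * (y * k * y⁻¹)⁻¹) * (y * k * y⁻¹ * k⁻¹) := by
        rw [pow_succ]; group
      rw [e]
      exact D.mul_mem h1 h2
  intro a ha k hk
  obtain ⟨n, rfl⟩ := (mem_powers_iff_mem_zpowers).mpr ha
  exact hn n k hk

theorem core {G : Type*} [Group G] [Finite G] (p : ℕ) [Fact p.Prime] (S : Sylow p G)
    (hS : Cfsg.IsMetacyclic ↥(S : Subgroup G))
    (hcop : Nat.Coprime (Nat.card (G ⧸ Cfsg.pPrimePCore p G)) (p ^ 2 - 1))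
    (Q : Subgroup G) (hQ : IsPGroup p Q) (y : G) (hy : y ∈ normalizer (Q : Set G))
    (q a : ℕ) [Fact q.Prime] (hpq : p ≠ q) (hord : orderOf y = q ^ a) :
    y ∈ centralizer (Q : Set G) := by
  classical
  have hp : p.Prime := Fact.out
  have hq : q.Prime := Fact.out
  have hpqc : Nat.Coprime p q := (Nat.coprime_primes hp hq).mpr hpq
  by_contra hnot
  have hyQ : ∀ k ∈ Q, y * k * y⁻¹ ∈ Q := fun k hk =>
    (Subgroup.mem_normalizer_iff.mp hy k).1 hk
  have hyinvQ : ∀ k ∈ Q, y⁻¹ * k * y ∈ Q := fun k hk => by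
    have := (Subgroup.mem_normalizer_iff.mp (Subgroup.inv_mem _ hy) k).1 hk
    simpa using this
  obtain ⟨m, hm⟩ := IsPGroup.iff_card.mp hQ
  -- Part 1
  have hq1 : q ∣ Nat.card (G ⧸ Cfsg.pPrimePCore p G) := by
    set W := Cfsg.pPrimePCore p G with hW
    haveI hWn : W.Normal := Cfsg.Agent.H06.pPrimePCore_normal p G
    have hyW : y ∉ W := by
      intro h
      obtain ⟨k, hk⟩ := Cfsg.Agent.H06.exists_pow_mem_pPrimeCore p h
      have hcopk : Nat.Coprime (p ^ k) (orderOf y) := by
        rw [hord]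
        exact Nat.Coprime.pow _ _ hpqc
      have hyO : y ∈ pPrimeCore p G := by
        have h2 : y ∈ zpowers (y ^ p ^ k) := by
          have hb := Nat.gcd_eq_gcd_ab (p ^ k) (orderOf y)
          rw [Nat.Coprime.gcd_eq_one hcopk] at hb
          have e : y = (y ^ p ^ k) ^ (Nat.gcdA (p ^ k) (orderOf y)) := by
            calc y = y ^ ((1 : ℕ) : ℤ) := by simp
              _ = y ^ (((p ^ k : ℕ) : ℤ) * Nat.gcdA (p ^ k) (orderOf y) +
                    (orderOf y : ℤ) * Nat.gcdB (p ^ k) (orderOf y)) := by rw [hb]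
              _ = _ := by
                rw [zpow_add, zpow_mul, zpow_mul, zpow_natCast, zpow_natCast, pow_orderOf_eq_one]
                simp
          have h0 : (y ^ p ^ k) ^ (Nat.gcdA (p ^ k) (orderOf y)) ∈ zpowers (y ^ p ^ k) :=
            Subgroup.zpow_mem _ (Subgroup.mem_zpowers _) _
          rwa [← e] at h0
        exact (Subgroup.zpowers_le.mpr hk) h2
      apply hnot
      haveI hOn : (pPrimeCore p G).Normal := Cfsg.Agent.H03.pPrimeCore_normal'
      rw [Subgroup.mem_centralizer_iff]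
      intro z hz
      have h3 : y * z * y⁻¹ * z⁻¹ ∈ pPrimeCore p G := by
        have e3 : y * z * y⁻¹ * z⁻¹ = y * (z * y⁻¹ * z⁻¹) := by group
        rw [e3]
        exact (pPrimeCore p G).mul_mem hyO (hOn.conj_mem _ ((pPrimeCore p G).inv_mem hyO) z)
      have h4 : y * z * y⁻¹ * z⁻¹ ∈ Q := Q.mul_mem (hyQ z hz) (Q.inv_mem hz)
      have h5 : orderOf (y * z * y⁻¹ * z⁻¹) ∣ Nat.card (pPrimeCore p G) := by
        have := Subgroup.orderOf_dvd_natCard (pPrimeCore p G) h3
        exact this
      have h6 : orderOf (y * z * y⁻¹ * z⁻¹) ∣ p ^ m := by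
        have := Subgroup.orderOf_dvd_natCard Q h4
        rwa [hm] at this
      have h7 : Nat.Coprime (Nat.card (pPrimeCore p G)) (p ^ m) :=
        Nat.Coprime.pow_right _ (Cfsg.Agent.H06.coprime_card_pPrimeCore p)
      have h8 : orderOf (y * z * y⁻¹ * z⁻¹) = 1 := Nat.eq_one_of_dvd_coprimes h7 h5 h6
      rw [orderOf_eq_one_iff] at h8
      have h9 : y * z * y⁻¹ = z := mul_inv_eq_one.mp h8
      calc z * y = (y * z * y⁻¹) * y := by rw [h9]
        _ = y * z := by group
    have hne : (y : G ⧸ W) ≠ 1 := by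
      intro h
      exact hyW ((QuotientGroup.eq_one_iff y).mp h)
    have h1 : orderOf (y : G ⧸ W) ∣ q ^ a := by
      rw [← hord]
      exact orderOf_map_dvd (QuotientGroup.mk' W) y
    obtain ⟨b, hb, hb2⟩ := (Nat.dvd_prime_pow hq).mp h1
    have hb0 : b ≠ 0 := by
      rintro rfl
      rw [pow_zero, orderOf_eq_one_iff] at hb2
      exact hne hb2
    have h2 : q ∣ orderOf (y : G ⧸ W) := by
      rw [hb2]
      exact dvd_pow_self q hb0
    exact h2.trans (orderOf_dvd_natCard _)
  -- Part 2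
  have hq2 : q ∣ p ^ 2 - 1 := by
    let αe : Q ≃* Q :=
      { toFun := fun k => ⟨y * k * y⁻¹, hyQ k k.2⟩
        invFun := fun k => ⟨y⁻¹ * k * y, hyinvQ k k.2⟩
        left_inv := fun k => by
          apply Subtype.ext
          show y⁻¹ * (y * k * y⁻¹) * y = k
          group
        right_inv := fun k => by
          apply Subtype.ext
          show y * (y⁻¹ * k * y) * y⁻¹ = k
          group
        map_mul' := fun k l => by
          apply Subtype.ext
          show y * (k * l : G) * y⁻¹ = (y * k * y⁻¹) * (y * l * y⁻¹)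
          group }
    have hchar : frattini Q ≤ (frattini Q).comap αe.toMonoidHom := by
      have := (inferInstance : (frattini Q).Characteristic).fixed αe
      rw [this]
    let β : (Q ⧸ frattini Q) →* (Q ⧸ frattini Q) :=
      QuotientGroup.map (frattini Q) (frattini Q) αe.toMonoidHom hchar
    have hβmk : ∀ k : Q, β (k : Q ⧸ frattini Q) = ((αe k : Q) : Q ⧸ frattini Q) := fun k => rfl
    have hiter : ∀ (n : ℕ) (k : Q), (β^[n] (k : Q ⧸ frattini Q)) =
        ((⟨y ^ n * k * (y ^ n)⁻¹, by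
          induction n with
          | zero => simpa using k.2
          | succ n ih =>
            have := hyQ _ ih
            rw [pow_succ']
            convert this using 1
            group⟩ : Q) : Q ⧸ frattini Q) := by
      intro n k
      induction n with
      | zero =>
        simp
      | succ n ih =>
        rw [Function.iterate_succ_apply', ih, hβmk]
        congr 1
        apply Subtype.ext
        show y * (y ^ n * k * (y ^ n)⁻¹) * y⁻¹ = y ^ (n + 1) * k * (y ^ (n + 1))⁻¹
        rw [pow_succ']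
        group
    have hβ : ∀ x, β^[q ^ a] x = x := by
      intro x
      induction x using QuotientGroup.induction_on with
      | H k =>
        rw [hiter]
        congr 1
        apply Subtype.ext
        show y ^ q ^ a * k * (y ^ q ^ a)⁻¹ = k
        rw [← hord, pow_orderOf_eq_one]
        group
    have hne : ∃ x, β x ≠ x := by
      by_contra hall
      push Not at hall
      apply hnot
      have hD : ∀ k ∈ Q, y * k * y⁻¹ * k⁻¹ ∈ (frattini Q).map Q.subtype := by
        intro k hk
        have h1 := hall ((⟨k, hk⟩ : Q) : Q ⧸ frattini Q)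
        rw [hβmk] at h1
        have h2 := QuotientGroup.eq.mp h1
        have h3 : (αe ⟨k, hk⟩)⁻¹ * ⟨k, hk⟩ ∈ frattini Q := h2
        have h5 : (⟨k, hk⟩ : Q) * ((αe ⟨k, hk⟩)⁻¹ * ⟨k, hk⟩)⁻¹ * (⟨k, hk⟩ : Q)⁻¹ ∈ frattini Q :=
          Subgroup.Normal.conj_mem inferInstance _ ((frattini Q).inv_mem h3) _
        refine ⟨_, h5, ?_⟩
        show k * ((y * k * y⁻¹)⁻¹ * k)⁻¹ * k⁻¹ = y * k * y⁻¹ * k⁻¹
        group
      have h4 := Cfsg.Agent.H01.centralizes_of_trivial_on_frattini_quotient (zpowers y) Q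
        (by
          rw [Subgroup.zpowers_le]
          exact hy)
        (by
          rw [Nat.card_zpowers, hord]
          have h5 : Nat.card (frattini Q) ∣ p ^ m := by
            rw [← hm]
            exact Subgroup.card_subgroup_dvd_card _
          obtain ⟨b, _, hb⟩ := (Nat.dvd_prime_pow hp).mp h5
          rw [hb]
          exact (Nat.Coprime.pow _ _ hpqc).symm)
        (zpowers_trivial Q _ y hy hD)
      exact h4 (Subgroup.mem_zpowers y)
    have hEp : IsPGroup p (Q ⧸ frattini Q) := hQ.to_quotient _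
    have hcard : Nat.card (Q ⧸ frattini Q) ≤ p ^ 2 := by
      obtain ⟨u, hu, v, hv, h⟩ := twoGen_of_pgroup S hS Q hQ
      apply card_frattini_quotient_le hQ ⟨u, hu⟩ ⟨v, hv⟩
      rintro ⟨s, hs⟩
      obtain ⟨i, j, e⟩ := h s hs
      refine ⟨i, j, Subtype.ext ?_⟩
      simpa using e
    exact dvd_sq_sub_one hpq hEp hcard β hβ hne
  exact Nat.not_coprime_of_dvd_of_dvd hq.one_lt hq1 hq2 hcop

/-- Let p be a prime and G a finite group whose Sylow p-subgroups are metacyclic (a cyclic normal subgroup with cyclic quotient). Then G has a normal p-complement if and only if the order of G/O_{p′,p}(G) is coprime to p² − 1. -/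
theorem result {G : Type*} [Group G] [Finite G] (p : ℕ) [Fact p.Prime] (S : Sylow p G) (hS : Cfsg.IsMetacyclic ↥(S : Subgroup G)) : Cfsg.HasNormalPComplement p G ↔ Nat.Coprime (Nat.card (G ⧸ Cfsg.pPrimePCore p G)) (p ^ 2 - 1) := by
  classical
  have hp : p.Prime := Fact.out
  constructor
  · rintro ⟨P, N, hN, hc⟩
    -- `G/O_{p'}(G)` is a `p`-group
    have hNle : N ≤ pPrimeCore p G := by
      have hcardN : (Nat.card N).Coprime p := by
        have h1 := hc.card_mul_card
        have h2 : Nat.card N ∣ Nat.card G := Subgroup.card_subgroup_dvd_card N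
        have h3 := P.card_eq_multiplicity
        rw [h3] at h1
        have h4 := Nat.coprime_ordCompl hp (Nat.card_pos (α := G)).ne'
        have h5 : Nat.card N = Nat.card G / p ^ (Nat.card G).factorization p :=
          (Nat.div_eq_of_eq_mul_left (pow_pos hp.pos _) h1.symm).symm
        rw [h5]
        exact h4.symm
      exact le_sSup ⟨hN, hcardN⟩
    have htop : pPrimePCore p G = ⊤ := by
      haveI : (pPrimeCore p G).Normal := Cfsg.Agent.H03.pPrimeCore_normal'
      have hpg : IsPGroup p (G ⧸ pPrimeCore p G) := by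
        intro x
        induction x using QuotientGroup.induction_on with
        | H g =>
          have h1 : g ^ N.index ∈ N := Subgroup.pow_index_mem N g
          have h2 : N.index = Nat.card P := by
            have h3 := hc.card_mul_card
            have h4 := N.card_mul_index
            exact Nat.eq_of_mul_eq_mul_left (Nat.card_pos (α := N)) (h4.trans h3.symm)
          rw [h2, P.card_eq_multiplicity] at h1
          refine ⟨(Nat.card G).factorization p, ?_⟩
          rw [← QuotientGroup.mk_pow]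
          exact (QuotientGroup.eq_one_iff _).mpr (hNle h1)
      have h1 : pCore p (G ⧸ pPrimeCore p G) = ⊤ := by
        rw [eq_top_iff]
        apply Cfsg.Agent.H01.le_pCore inferInstance
        exact hpg.to_subgroup ⊤
      unfold pPrimePCore
      rw [h1, Subgroup.comap_top]
    rw [htop]
    have : Nat.card (G ⧸ (⊤ : Subgroup G)) = 1 := by
      rw [← Subgroup.index_eq_card, Subgroup.index_top]
    rw [this]
    exact Nat.coprime_one_left _
  · intro hcop
    apply Cfsg.Agent.H13.hasNormalPComplement_of_frobCond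
    intro Q hQ g hg hgc
    -- strong induction on the order of `g`
    induction hn : orderOf g using Nat.strong_induction_on generalizing g with
    | _ n ih =>
    subst hn
    by_cases h1 : orderOf g = 1
    · rw [orderOf_eq_one_iff] at h1
      rw [h1]
      exact Subgroup.one_mem _
    set q := (orderOf g).minFac with hqdef
    have hqp : q.Prime := Nat.minFac_prime h1
    haveI : Fact q.Prime := ⟨hqp⟩
    have hn0 : orderOf g ≠ 0 := (orderOf_pos g).ne'
    have hqd : q ∣ orderOf g := Nat.minFac_dvd _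
    have hpq : p ≠ q := by
      intro e
      rw [← e] at hqd
      exact hp.one_lt.ne' (Nat.Coprime.eq_one_of_dvd hgc.symm hqd)
    set a := (orderOf g).factorization q with ha
    set b := orderOf g / q ^ a with hb
    have hcb : q ^ a * b = orderOf g := Nat.ordProj_mul_ordCompl_eq_self _ _
    have hcopb : Nat.Coprime (q ^ a) b :=
      Nat.Coprime.pow_left _ (Nat.coprime_ordCompl hqp hn0)
    have ha1 : a ≠ 0 := (hqp.factorization_pos_of_dvd hn0 hqd).ne'
    have hq2 : 2 ≤ q ^ a := by
      calc 2 ≤ q := hqp.two_le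
        _ ≤ q ^ a := Nat.le_self_pow ha1 q
    by_cases hb1 : b = 1
    · rw [hb1, mul_one] at hcb
      exact core p S hS hcop Q hQ g hg q a hpq hcb.symm
    · have hbpos : 0 < b := Nat.pos_of_ne_zero (by
        intro h0
        rw [h0, mul_zero] at hcb
        exact hn0 hcb.symm)
      have hb2 : 2 ≤ b := by omega
      have hord1 : orderOf (g ^ q ^ a) = b :=
        orderOf_pow_of_dvd (by positivity) ⟨b, hcb.symm⟩
      have hord2 : orderOf (g ^ b) = q ^ a := by
        rw [orderOf_pow_of_dvd hbpos.ne' ⟨q ^ a, by rw [mul_comm]; exact hcb.symm⟩]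
        exact Nat.div_eq_of_eq_mul_left hbpos hcb.symm
      have hlt1 : b < orderOf g := by
        rw [← hcb]
        exact lt_mul_of_one_lt_left hbpos (by omega)
      have hlt2 : q ^ a < orderOf g := by
        rw [← hcb]
        exact lt_mul_of_one_lt_right (by omega) (by omega)
      have hmem1 : g ^ q ^ a ∈ centralizer (Q : Set G) := by
        apply ih b hlt1 (g ^ q ^ a) (Subgroup.pow_mem _ hg _) _ hord1
        rw [hord1]
        exact Nat.Coprime.coprime_dvd_left ⟨q ^ a, by rw [mul_comm]; exact hcb.symm⟩ hgc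
      have hmem2 : g ^ b ∈ centralizer (Q : Set G) := by
        apply ih (q ^ a) hlt2 (g ^ b) (Subgroup.pow_mem _ hg _) _ hord2
        rw [hord2]
        exact Nat.Coprime.coprime_dvd_left ⟨b, hcb.symm⟩ hgc
      have hbz := Nat.gcd_eq_gcd_ab (q ^ a) b
      rw [Nat.Coprime.gcd_eq_one hcopb] at hbz
      have e : g = (g ^ q ^ a) ^ (Nat.gcdA (q ^ a) b) * (g ^ b) ^ (Nat.gcdB (q ^ a) b) := by
        calc g = g ^ ((1 : ℕ) : ℤ) := by simp
          _ = g ^ (((q ^ a : ℕ) : ℤ) * Nat.gcdA (q ^ a) b + (b : ℤ) * Nat.gcdB (q ^ a) b) := by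
            rw [hbz]
          _ = _ := by
            rw [zpow_add, zpow_mul, zpow_mul, zpow_natCast, zpow_natCast]
      rw [e]
      exact Subgroup.mul_mem _ (Subgroup.zpow_mem _ hmem1 _) (Subgroup.zpow_mem _ hmem2 _)

end Cfsg.Agent.S4419
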