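import Cfsg.Statements.S4431
import Cfsg.Agent.Lib.H21.InducedBlock

set_option autoImplicit false
open Cfsg

namespace Cfsg.Agent.S4431

/-- Let H be a subgroup of the finite group G and b a block of H whose induced block B₀ in G is defined (relative to a maximal ideal M of the algebraic integers containing p). Let χ be an irreducible character of G, ψ ∈ b, and let η be the class function on H equal to p^a · χ on the p-regular elements of H and zero elsewhere, p^a being the p-part of the order of H. Then (a) if χ ∉ B₀, the number [η, ψ]/ψ(1) lies in the local ideal at M; (b) if χ ∈ B₀ has height zero, it does not. -/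
theorem result {G : Type*} [Group G] [Fintype G] (p : ℕ) [Fact p.Prime] (M : Ideal Cfsg.AlgInt) (hM : Cfsg.IsPModular p M) (H : Subgroup G) [Fintype H] (b : Set (Cfsg.IrrCharacter H)) (B₀ : Set (Cfsg.IrrCharacter G)) (hind : Cfsg.IsInducedBlock M H b B₀) (χ : Cfsg.IrrCharacter G) (ψ : Cfsg.IrrCharacter H) (hψ : ψ ∈ b) : (χ ∉ B₀ → Cfsg.MemLocalIdeal M (Cfsg.classInner (fun h : H => if p ∣ orderOf h then (0 : ℂ) else ((p ^ (Nat.card H).factorization p : ℕ) : ℂ) * (χ : G → ℂ) h) (ψ : H → ℂ) / (ψ : H → ℂ) 1)) ∧ (χ ∈ B₀ → Cfsg.blockHeight p B₀ (χ : G → ℂ) = 0 → ¬ Cfsg.MemLocalIdeal M (Cfsg.classInner (fun h : H => if p ∣ orderOf h then (0 : ℂ) else ((p ^ (Nat.card H).factorization p : ℕ) : ℂ) * (χ : G → ℂ) h) (ψ : H → ℂ) / (ψ : H → ℂ) 1)) := by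
  classical
  haveI := Fintype.ofFinite (Cfsg.IrrCharacter G)
  haveI := Fintype.ofFinite (Cfsg.IrrCharacter H)
  haveI : M.IsPrime := hM.2.1.isPrime
  have hp : p.Prime := Fact.out
  have hmH : (H21.pco p H : ℂ) ≠ 0 := Nat.cast_ne_zero.mpr (H21.pco_ne_zero p)
  have hlocH : MemLocalRing M (H21.pco p H : ℂ)⁻¹ :=
    (H22.mlr_inv (H22.mlr_natCast _) (H21.not_mli_natCast_of_odd hM H21.pco_not_dvd)).2
  constructor
  · intro hχ
    obtain ⟨χ₀, hχ₀⟩ := H22.block_nonempty hind.2.1
    have h1 := H21.induced_truncate hM hind hψ χ hχ₀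
    have h2 : H21.crt p χ₀ χ = 0 := by
      apply H21.crt_eq_zero hM
      intro hs
      apply hχ
      rw [H22.block_eq_of_mem hind.2.1 hχ₀]
      exact H22.sameBlock_symm hs
    have h3 : H22.om χ₀ (H21.bz p χ) = 0 := by
      have h4 := H21.om_bz (p := p) χ χ₀
      rw [h2, mul_zero] at h4
      exact (mul_eq_zero.mp h4).resolve_right (H22.irr_one_ne_zero' χ₀)
    rw [h3, mul_zero, sub_zero] at h1
    have h5 := H22.mli_mul_left h1 hlocH
    rwa [inv_mul_cancel_left₀ hmH] at h5
  · intro hχ h0 hmem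
    have h1 := H21.induced_truncate hM hind hψ χ hχ
    have hheight : (Cfsg.charDegree χ.1).factorization p = H21.minExp p B₀ := by
      have h2 := H21.minExp_le (p := p) hχ
      have h3 : Cfsg.blockHeight p B₀ (χ : G → ℂ)
          = (Cfsg.charDegree χ.1).factorization p - H21.minExp p B₀ := rfl
      omega
    have hu := (H21.unit_iff hM hind.2.1 hχ hχ).mpr hheight
    have h2 : MemLocalIdeal M ((H21.pco p H : ℂ) * (Cfsg.classInner (fun h : H => if p ∣ orderOf h then (0 : ℂ) else ((p ^ (Nat.card H).factorization p : ℕ) : ℂ) * (χ : G → ℂ) h) (ψ : H → ℂ) / (ψ : H → ℂ) 1)) :=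
      H22.mli_mul_left hmem (H22.mlr_natCast _)
    have h3 := H22.mli_sub h2 h1
    rw [sub_sub_cancel] at h3
    rcases (H22.mli_mul_iff (H22.mlr_natCast _) (H21.om_bz_mlr hM χ χ)).mp h3 with h4 | h4
    · exact H21.not_mli_natCast_of_odd hM H21.pco_not_dvd h4
    · exact hu h4

end Cfsg.Agent.S4431
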