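import Cfsg.Statements.S4748
import Cfsg.Agent.Lib.H22.TISolv
import Cfsg.Agent.Lib.H26.HHCore

set_option autoImplicit false
set_option linter.style.haveILetI false
set_option linter.unusedSectionVars false

open Cfsg

namespace Cfsg.Agent.S4748

open Cfsg.Agent.H21 Cfsg.Agent.H22
open scoped ComplexConjugate Pointwise

theorem result {G : Type*} [Group G] [Finite G] (p : ℕ) [Fact p.Prime] (hsolv : Cfsg.IsPSolvable p G) (P : Sylow p G) (hTI : ∀ g : G, g ∉ Subgroup.normalizer ((P : Subgroup G) : Set G) → (P : Subgroup G) ⊓ (MulAut.conj g • (P : Subgroup G)) = ⊥) (χ : G → ℂ) (hχ : Cfsg.IsCharacter G χ) (hfaith : ∀ g : G, χ g = χ 1 → g = 1) (hdeg : Cfsg.charDegree χ ^ 2 ≤ Nat.card ↥(P : Subgroup G)) : (P : Subgroup G).Normal := by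
  classical
  haveI : Fintype G := Fintype.ofFinite G
  by_contra hnot
  have hex : ∃ g, g ∉ Subgroup.normalizer ((P : Subgroup G) : Set G) := by
    by_contra h
    push Not at h
    apply hnot
    exact Subgroup.normalizer_eq_top_iff.mp (top_unique fun g _ => h g)
  obtain ⟨g₀, hg₀⟩ := hex
  have hO : pCore p G = ⊥ := by
    have h1 : pCore p G ≤ (P : Subgroup G) := Cfsg.Agent.H01.pCore_le_sylow p P
    have h2 : pCore p G ≤ ((g₀ • P : Sylow p G) : Subgroup G) := Cfsg.Agent.H01.pCore_le_sylow p (g₀ • P)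
    have h3 := le_inf h1 h2
    rw [Sylow.coe_subgroup_smul, hTI g₀ hg₀] at h3
    exact le_bot_iff.mp h3
  set K := pPrimeCore p G with hK
  haveI hKn : K.Normal := Cfsg.Agent.H03.pPrimeCore_normal'
  have hKc : (Nat.card K).Coprime p := Cfsg.Agent.H06.coprime_card_pPrimeCore p
  obtain ⟨a, ha⟩ := IsPGroup.iff_card.mp P.isPGroup'
  have hcop : (Nat.card K).Coprime (Nat.card (P : Subgroup G)) := by
    rw [ha]
    exact Nat.Coprime.pow_right a hKc
  have hinf : K ⊓ (P : Subgroup G) = ⊥ := (Subgroup.disjoint_of_coprime_natCard hcop).eq_bot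
  have hC : ∀ y ∈ (P : Subgroup G), y ≠ 1 → ∀ k ∈ K, k * y = y * k →
      ∀ z ∈ (P : Subgroup G), k * z = z * k := by
    intro y hy hy1 k hk hyk z hz
    have hkN : k ∈ Subgroup.normalizer ((P : Subgroup G) : Set G) := by
      by_contra hkN
      have h1 : y ∈ (P : Subgroup G) ⊓ (MulAut.conj k • (P : Subgroup G)) := by
        refine ⟨hy, (Subgroup.mem_smul_pointwise_iff_exists _ _ _).mpr ⟨y, hy, ?_⟩⟩
        rw [MulAut.smul_def, MulAut.conj_apply, hyk, mul_inv_cancel_right]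
      rw [hTI k hkN] at h1
      exact hy1 (by simpa using h1)
    have h1 : k * z * k⁻¹ ∈ (P : Subgroup G) := (Subgroup.mem_normalizer_iff.mp hkN z).mp hz
    have h2 : k * z * k⁻¹ * z⁻¹ ∈ (P : Subgroup G) := Subgroup.mul_mem _ h1 (Subgroup.inv_mem _ hz)
    have h3 : k * z * k⁻¹ * z⁻¹ ∈ K := by
      have h4 : k * z * k⁻¹ * z⁻¹ = k * (z * k⁻¹ * z⁻¹) := by group
      rw [h4]
      exact K.mul_mem hk (hKn.conj_mem _ (K.inv_mem hk) z)
    have h5 : k * z * k⁻¹ * z⁻¹ ∈ K ⊓ (P : Subgroup G) := ⟨h3, h2⟩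
    rw [hinf] at h5
    have h6 : k * z * k⁻¹ * z⁻¹ = 1 := by simpa using h5
    have h7 : k * z * k⁻¹ = z := by
      rw [mul_inv_eq_one] at h6
      exact h6
    rw [mul_inv_eq_iff_eq_mul] at h7
    exact h7
  have hχ' := hχ
  obtain ⟨n, ρ, rfl⟩ := hχ
  set R : G →* Matrix (Fin n) (Fin n) ℂ :=
    ((LinearMap.toMatrixAlgEquiv' : ((Fin n → ℂ) →ₗ[ℂ] (Fin n → ℂ)) ≃ₐ[ℂ] _).toAlgHom.toMonoidHom).comp ρ with hR
  have htr : ∀ g, (R g).trace = ρ.character g := by
    intro g
    show _ = LinearMap.trace ℂ (Fin n → ℂ) (ρ g)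
    rw [LinearMap.trace_eq_matrix_trace ℂ (Pi.basisFun ℂ (Fin n)), LinearMap.toMatrix_eq_toMatrix']
    rfl
  have hn : charDegree ρ.character = n := by
    have h1 := Cfsg.Agent.H21.one_eq_charDegree hχ'
    have h2 : ρ.character 1 = (n : ℂ) := by
      rw [← htr, map_one, Matrix.trace_one]
      simp
    rw [h2] at h1
    exact_mod_cast h1.symm
  rw [hn] at hdeg
  have hcomm : ∀ y ∈ (P : Subgroup G), ∀ k ∈ K, k * y = y * k := by
    intro y hy k hk
    have h1 := coprime_commute_of_small K (P : Subgroup G) hcop hC R hdeg hy hk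
    have h2 : k * y * (y * k)⁻¹ = 1 := by
      apply hfaith
      have h3 : R (k * y * (y * k)⁻¹) = R 1 := by
        rw [map_mul R (k * y), map_mul R k y, h1, ← map_mul R y k, ← map_mul, mul_inv_cancel]
      rw [← htr, ← htr, h3]
    exact mul_inv_eq_one.mp h2
  have hPK : (P : Subgroup G) ≤ K := by
    refine le_trans ?_ (Cfsg.Agent.H26.HHCore.centralizer_pPrimeCore_le hsolv hO)
    intro y hy
    refine Subgroup.mem_centralizer_iff.mpr fun k hk => ?_
    exact hcomm y hy k hk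
  have hbot : (P : Subgroup G) = ⊥ := by
    have h1 := le_inf hPK (le_refl (P : Subgroup G))
    rw [hinf] at h1
    exact le_bot_iff.mp h1
  apply hnot
  rw [hbot]
  infer_instance


end Cfsg.Agent.S4748
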