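import Cfsg.Statements.S5160
import Cfsg.Agent.Lib.H25.Sim2

set_option autoImplicit false
open Cfsg

namespace Cfsg.Agent.S5160

open Cfsg.Agent.H25 Cfsg.FusionSystem

/-- Let G be a finite group with nontrivial Sylow p-subgroup S and F its fusion system on S. Suppose (a) no nontrivial proper subgroup of S is strongly closed in F, and (b) the automorphisms of S induced by G are generated by those induced, for R running over the fully normalized radical centric subgroups of F, by the subgroup of N_G(R) generated by its elements of p-power order. Then F is simple. -/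
theorem result {G : Type*} [Group G] [Finite G] (p : ℕ) [Fact p.Prime] (S : Sylow p G) (hS1 : (S : Subgroup G) ≠ ⊥) (ha : ∀ T : Subgroup G, (Cfsg.groupFusionSystem (S : Subgroup G)).StronglyClosed T → T = ⊥ ∨ T = (S : Subgroup G)) (hb : Cfsg.autInducedBy ⊤ (S : Subgroup G) = ⨆ (R : Subgroup G) (_ : (Cfsg.groupFusionSystem (S : Subgroup G)).IsFullyNormalized R ∧ (Cfsg.groupFusionSystem (S : Subgroup G)).IsRadical p R ∧ (Cfsg.groupFusionSystem (S : Subgroup G)).IsCentric R), Cfsg.autInducedBy (Subgroup.closure {g : G | g ∈ Subgroup.normalizer (R : Set G) ∧ ∃ k : ℕ, orderOf g = p ^ k}) (S : Subgroup G)) : (Cfsg.groupFusionSystem (S : Subgroup G)).IsSimple p := by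
  have hF : (groupFusionSystem (S : Subgroup G)).IsSaturated p := Cfsg.Agent.H24.groupFusion_saturated S
  refine ⟨hF, hS1, fun T E hN => ?_⟩
  have hEs : E.IsSaturated p := hN.1.1
  have hI : E.IsInvariantIn (groupFusionSystem (S : Subgroup G)) := hN.1.2.2
  rcases ha T hI.2.1 with h | h
  · exact Or.inl h
  · subst h
    refine Or.inr ⟨rfl, ?_⟩
    have hgen : Cfsg.autInducedBy ⊤ (S : Subgroup G) ≤ E.autGroup (S : Subgroup G) := by
      rw [hb]
      refine iSup_le fun R => iSup_le fun hR => ?_
      refine (Subgroup.closure_le _).2 ?_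
      rintro α ⟨g, hg, hα⟩
      obtain ⟨hgR, hgE⟩ := sm_KR hI hR.1 hg
      have hgS : g ∈ Subgroup.normalizer ((S : Subgroup G) : Set G) := normalizer_of_aut hα
      have h1 := sm_chain hEs hI.1 hgS R hR.2.2 (fun y hy => conj_mem_of_normalizer hgR hy) hgE
      exact mem_autGroup_of_mp h1 hα
    intro P
    ext φ
    constructor
    · exact fun h => hI.1 P h
    · intro hφ
      have hPS : P ≤ (S : Subgroup G) := ((groupFusionSystem (S : Subgroup G)).le_of_mem hφ).1
      obtain ⟨α, hα, φ₀, hφ₀, h⟩ := hI.2.2.2 P hPS φ hφ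
      have hα' : α ∈ E.autGroup (S : Subgroup G) := by
        refine hgen ?_
        rw [← Cfsg.Agent.H24.autGroup_groupFusion (le_refl _)]
        exact hα
      have m1 := mp_of_mem hφ₀
      have m2 := Mp.of_mem_autGroup (le_refl _) hα'
      refine (m1.comp (fun x hx => m1.mem hx) m2).mem_hom fun x => ?_
      have hv : φ₀ x ∈ (S : Subgroup G) := (E.le_of_mem hφ₀).2 x
      rw [h x hv]
      show _ = toFun ((S : Subgroup G).subtype.comp α.toMonoidHom) (toFun φ₀ x)
      rw [toFun_coe φ₀ x]
      exact (toFun_aut α ⟨φ₀ x, hv⟩).symm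

end Cfsg.Agent.S5160
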