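import Cfsg.Statements.S5178
import Cfsg.Agent.Lib.H25.TvE

set_option autoImplicit false
universe u
open Cfsg

namespace Cfsg.Agent.S5178

open Cfsg.Agent.H25 Cfsg.FusionSystem

open scoped commutatorElement

/-- Let p be an odd prime, S a finite p-group containing an extraspecial subgroup Q of index p, and F a saturated fusion system over S whose largest subgroup normal in F is trivial. Then the centre of S equals the centre of Q. -/
theorem result {Ω : Type u} [Group Ω] {S : Subgroup Ω} [Finite S] (p : ℕ) [Fact p.Prime] (hp : Odd p) (hS : IsPGroup p S)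
    (Q : Subgroup Ω) (hQS : Q ≤ S) (hQ : Cfsg.IsExtraspecial p ↥Q) (hQi : (Q.subgroupOf S).index = p)
    (F : Cfsg.FusionSystem S) (hF : F.IsSaturated p) (hO : F.core = ⊥) :
    S ⊓ Subgroup.centralizer (S : Set Ω) = Q ⊓ Subgroup.centralizer (Q : Set Ω) := by
  classical
  haveI hfinQ : Finite Q := finite_of_le hQS
  have hp2 : p ≠ 2 := by
    rintro rfl
    have := Nat.odd_iff.1 hp
    omega
  obtain ⟨n, hn⟩ := IsPGroup.iff_card.1 hS
  have hQpg : IsPGroup p Q := hS.to_le hQS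
  have hQN : (Q.subgroupOf S).Normal := by
    apply Subgroup.normal_of_index_eq_minFac_card
    rw [hQi, hn]
    have hn0 : n ≠ 0 := by
      rintro rfl
      have h1 := Subgroup.index_dvd_card (Q.subgroupOf S)
      rw [hQi, hn, pow_zero, Nat.dvd_one] at h1
      exact (Fact.out : p.Prime).one_lt.ne' h1
    rw [Nat.Prime.pow_minFac (Fact.out : p.Prime) hn0]
  have hSN : S ≤ Subgroup.normalizer (Q : Set Ω) := by
    intro s hs
    have key : ∀ s ∈ S, ∀ y ∈ Q, s * y * s⁻¹ ∈ Q := by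
      intro s hs y hy
      have h1 := hQN.conj_mem ⟨y, hQS hy⟩ (Subgroup.mem_subgroupOf.mpr hy) ⟨s, hs⟩
      exact Subgroup.mem_subgroupOf.mp h1
    exact mem_normalizer_of_conj (key s hs) (fun y hy => by
      have := key s⁻¹ (S.inv_mem hs) y hy
      simpa using this)
  obtain ⟨K, hKdef⟩ : ∃ K, K = (Subgroup.center ↥Q).map Q.subtype := ⟨_, rfl⟩
  have hKQ : K ≤ Q := by
    rw [hKdef]
    exact Subgroup.map_subtype_le _
  have hKp : Nat.card K = p := by
    rw [hKdef, Subgroup.card_map_of_injective Q.subtype_injective]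
    exact hQ.2
  have hKc : K ≤ Subgroup.centralizer (S : Set Ω) := by
    rw [hKdef]
    exact center_central hS hSN (by rw [← hKdef]; exact hKp)
  have hcen : ∀ z ∈ Q, (∀ y ∈ Q, y * z = z * y) → z ∈ K := by
    intro z hz h
    rw [hKdef]
    refine ⟨⟨z, hz⟩, ?_, rfl⟩
    apply Subgroup.mem_center_iff.mpr
    rintro ⟨y, hy⟩
    exact Subtype.ext (h y hy)
  have hcmQ : ∀ x ∈ Q, ∀ y ∈ Q, x * y * x⁻¹ * y⁻¹ ∈ K := by
    intro x hx y hy
    have h1 : ⁅(⟨x, hx⟩ : Q), (⟨y, hy⟩ : Q)⁆ ∈ commutator ↥Q :=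
      Subgroup.commutator_mem_commutator (Subgroup.mem_top _) (Subgroup.mem_top _)
    rw [hQ.1.2.2] at h1
    rw [hKdef]
    exact ⟨_, h1, rfl⟩
  by_cases hz : S ⊓ Subgroup.centralizer (S : Set Ω) ≤ Q
  · apply le_antisymm
    · intro z hz'
      refine ⟨hz hz', ?_⟩
      show z ∈ Subgroup.centralizer (Q : Set Ω)
      rw [Subgroup.mem_centralizer_iff]
      intro y hy
      exact Subgroup.mem_centralizer_iff.1 hz'.2 y (hQS hy)
    · intro z hz'
      have h1 : z ∈ K := hcen z hz'.1 (fun y hy => Subgroup.mem_centralizer_iff.1 hz'.2 y hy)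
      exact ⟨hQS hz'.1, hKc h1⟩
  · exfalso
    obtain ⟨z₀, hz₀, hz₀Q⟩ := SetLike.not_le_iff_exists.1 hz
    have hz₀S := mem_ZS.mp hz₀
    have hdec : ∀ s ∈ S, ∃ q ∈ Q, ∃ i : ℤ, s = q * z₀ ^ i := by
      intro s hs
      have hA : Subgroup.zpowers z₀ ≤ Subgroup.normalizer (Q : Set Ω) := by
        rw [Subgroup.zpowers_le]
        exact hSN hz₀S.1
      have hL := eq_top_of_index_prime (L := (Q ⊔ Subgroup.zpowers z₀).subgroupOf S) hQi
        (fun y hy => Subgroup.mem_subgroupOf.mpr (Subgroup.mem_sup_left (Subgroup.mem_subgroupOf.mp hy)))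
        (x := ⟨z₀, hz₀S.1⟩) (Subgroup.mem_subgroupOf.mpr (Subgroup.mem_sup_right (Subgroup.mem_zpowers z₀)))
        (fun h => hz₀Q (Subgroup.mem_subgroupOf.mp h))
      have h1 : (⟨s, hs⟩ : S) ∈ (Q ⊔ Subgroup.zpowers z₀).subgroupOf S := by
        rw [hL]
        exact Subgroup.mem_top _
      obtain ⟨q, hq, a, ⟨i, rfl⟩, e⟩ := Cfsg.Agent.H01.exists_mul_of_mem_sup hA (Subgroup.mem_subgroupOf.mp h1)
      exact ⟨q, hq, i, e⟩
    have hzc : ∀ i : ℤ, ∀ s ∈ S, s * z₀ ^ i = z₀ ^ i * s := by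
      intro i s hs
      exact (Commute.zpow_right (show Commute s z₀ from hz₀S.2 s hs) i)
    have hC : TvC F p K := by
      refine ⟨hS, hF, hKQ.trans hQS, hKc, hKp, ?_, ?_⟩
      · intro s hs t ht
        obtain ⟨q₁, hq₁, i, rfl⟩ := hdec s hs
        obtain ⟨q₂, hq₂, j, rfl⟩ := hdec t ht
        have h1 := hcmQ q₁ hq₁ q₂ hq₂
        have e : q₁ * z₀ ^ i * (q₂ * z₀ ^ j) * (q₁ * z₀ ^ i)⁻¹ * (q₂ * z₀ ^ j)⁻¹ = q₁ * q₂ * q₁⁻¹ * q₂⁻¹ := by
          have h2 := hzc i q₂ (hQS hq₂)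
          have h3 := hzc j q₁ (hQS hq₁)
          have h4 : q₁ * z₀ ^ i * (q₂ * z₀ ^ j) = q₁ * q₂ * z₀ ^ i * z₀ ^ j := by
            rw [mul_assoc q₁ (z₀ ^ i), ← mul_assoc (z₀ ^ i), ← h2]
            group
          rw [h4]
          have h5 : (q₁ * z₀ ^ i)⁻¹ = q₁⁻¹ * z₀ ^ (-i) := by
            rw [mul_inv_rev, zpow_neg]
            have h6 := hzc (-i) q₁⁻¹ (hQS (Q.inv_mem hq₁))
            rw [zpow_neg] at h6
            exact h6.symm
          rw [h5]
          have h7 := hzc j q₁⁻¹ (hQS (Q.inv_mem hq₁))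
          calc q₁ * q₂ * z₀ ^ i * z₀ ^ j * (q₁⁻¹ * z₀ ^ (-i)) * (q₂ * z₀ ^ j)⁻¹
              = q₁ * q₂ * z₀ ^ i * (z₀ ^ j * q₁⁻¹) * z₀ ^ (-i) * (q₂ * z₀ ^ j)⁻¹ := by group
            _ = q₁ * q₂ * z₀ ^ i * (q₁⁻¹ * z₀ ^ j) * z₀ ^ (-i) * (q₂ * z₀ ^ j)⁻¹ := by rw [h7]
            _ = q₁ * q₂ * (z₀ ^ i * q₁⁻¹) * z₀ ^ j * z₀ ^ (-i) * (q₂ * z₀ ^ j)⁻¹ := by group
            _ = q₁ * q₂ * (q₁⁻¹ * z₀ ^ i) * z₀ ^ j * z₀ ^ (-i) * (q₂ * z₀ ^ j)⁻¹ := by
              rw [hzc i q₁⁻¹ (hQS (Q.inv_mem hq₁))]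
            _ = q₁ * q₂ * q₁⁻¹ * (z₀ ^ i * z₀ ^ j * z₀ ^ (-i)) * (q₂ * z₀ ^ j)⁻¹ := by group
            _ = q₁ * q₂ * q₁⁻¹ * z₀ ^ j * (q₂ * z₀ ^ j)⁻¹ := by
              congr 2
              rw [← zpow_add, ← zpow_add]
              congr 1
              ring
            _ = q₁ * q₂ * q₁⁻¹ * q₂⁻¹ := by group
        rw [e]
        exact h1
      · by_contra hcon
        push Not at hcon
        have h1 : Q ≤ K := fun y hy => hcen y hy (fun w hw => hcon w (hQS hw) y (hQS hy))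
        have h2 : K = Q := le_antisymm hKQ h1
        -- the commutator subgroup is trivial, but it has order `p`
        have h3 : commutator ↥Q = ⊥ := by
          rw [eq_bot_iff, commutator_def, Subgroup.commutator_le]
          rintro ⟨a, ha⟩ _ ⟨c, hc⟩ _
          rw [Subgroup.mem_bot]
          apply Subtype.ext
          have h4 := hcon a (hQS ha) c (hQS hc)
          show a * c * a⁻¹ * c⁻¹ = 1
          rw [h4]
          group
        rw [hQ.1.2.2] at h3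
        have h4 := hQ.2
        rw [h3] at h4
        have h5 : Nat.card (⊥ : Subgroup Q) = 1 := Nat.card_unique
        have := (Fact.out : p.Prime).one_lt
        omega
    have hmain := odd_main hC hp2 hO
    have h1 : z₀ ∈ K := by
      rw [← hmain]
      exact hz₀
    exact hz₀Q (hKQ h1)

end Cfsg.Agent.S5178
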