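import Cfsg.Statements.S5179
import Cfsg.Agent.Lib.H25.XS

set_option autoImplicit false
universe u
open Cfsg

namespace Cfsg.Agent.S5179

open Cfsg.Agent.H25 Cfsg.FusionSystem

/-- Let p be an odd prime, S a finite p-group of order at least p⁶ containing an extraspecial subgroup Q of index p, and F a saturated fusion system over S whose largest subgroup normal in F is trivial. Then no proper subgroup of Q is essential in F: an essential subgroup of F contained in Q equals Q. -/
theorem result {Ω : Type u} [Group Ω] {S : Subgroup Ω} [Finite S] (p : ℕ) [Fact p.Prime] (hp : Odd p) (hS : IsPGroup p S)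
    (Q : Subgroup Ω) (hQS : Q ≤ S) (hQ : Cfsg.IsExtraspecial p ↥Q) (hQi : (Q.subgroupOf S).index = p)
    (h6 : p ^ 6 ≤ Nat.card S)
    (F : Cfsg.FusionSystem S) (hF : F.IsSaturated p) (hO : F.core = ⊥)
    (E : Subgroup Ω) (hEQ : E ≤ Q) (hE : F.IsEssential p E) : E = Q := by
  classical
  by_contra hne
  have hfinQ : Finite Q := finite_of_le hQS
  have hpp : p.Prime := Fact.out
  have hnorm : (Q.subgroupOf S).Normal := by
    apply Subgroup.normal_of_index_eq_minFac_card
    rw [hQi]
    obtain ⟨n, hn⟩ := IsPGroup.iff_card.1 hS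
    have hn0 : n ≠ 0 := by
      rintro rfl
      rw [pow_zero] at hn
      have h1 : p ^ 6 ≤ 1 := hn ▸ h6
      have h2 : 1 < p ^ 6 := Nat.one_lt_pow (by norm_num) hpp.one_lt
      omega
    rw [hn, Nat.Prime.pow_minFac hpp hn0]
  have hSN : S ≤ Subgroup.normalizer (Q : Set Ω) := by
    intro s hs
    refine mem_normalizer_of_conj (fun y hy => ?_) (fun y hy => ?_)
    · have := hnorm.conj_mem ⟨y, hQS hy⟩ (Subgroup.mem_subgroupOf.mpr hy) ⟨s, hs⟩
      exact Subgroup.mem_subgroupOf.mp this
    · have := hnorm.conj_mem ⟨y, hQS hy⟩ (Subgroup.mem_subgroupOf.mpr hy) ⟨s, hs⟩⁻¹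
      simpa using Subgroup.mem_subgroupOf.mp this
  have h1 := xs_essential hS hF hQS hQ hSN hEQ hne hE
  have h2 := Subgroup.card_mul_index (Q.subgroupOf S)
  have h3 : Nat.card (Q.subgroupOf S) = Nat.card Q :=
    Nat.card_congr (Subgroup.subgroupOfEquivOfLe hQS).toEquiv
  rw [h3, hQi] at h2
  have h4 : p ^ 6 ≤ p ^ 3 * p := by
    calc p ^ 6 ≤ Nat.card S := h6
      _ = Nat.card Q * p := h2.symm
      _ ≤ p ^ 3 * p := Nat.mul_le_mul_right _ h1
  have h5 : p ^ 3 * p < p ^ 6 := by
    rw [← pow_succ]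
    exact Nat.pow_lt_pow_right hpp.one_lt (by norm_num)
  omega

end Cfsg.Agent.S5179
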