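import Cfsg.Statements.S5194
import Cfsg.Agent.Lib.H25.FusGT4

set_option autoImplicit false
open Cfsg

namespace Cfsg.Agent.S5194

open Cfsg.Agent.H25 Cfsg.FusionSystem

/-- Thompson's normal p-complement Theorem for fusion systems. Let F be a saturated fusion system over a finite p-group S such that p is odd or F is S₄-free (the symmetric group of degree 4 is not involved in any model of the normalizer system of a fully normalized F-centric subgroup), and let J(S) be the subgroup generated by the abelian subgroups of S of largest order. If the centralizer fusion system of Z(S) in F is the inner fusion system of C_S(Z(S)) = S and the normalizer fusion system of J(S) in F is the inner fusion system of N_S(J(S)) = S, then F is the inner fusion system of S. -/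
theorem result {Ω : Type*} [Group Ω] {S : Subgroup Ω} [Finite S] (p : ℕ) [Fact p.Prime] (hS : IsPGroup p S) (F : Cfsg.FusionSystem S) (hF : F.IsSaturated p) (hp : p ≠ 2 ∨ F.IsSectionFree p (Equiv.Perm (Fin 4))) (hC : ∀ C : Cfsg.FusionSystem (Cfsg.FusionSystem.centralizerIn S (S ⊓ Subgroup.centralizer (S : Set Ω))), F.IsCentralizerSystem (S ⊓ Subgroup.centralizer (S : Set Ω)) C → ∀ P : Subgroup Ω, C.Hom P = (Cfsg.innerFusionSystem (Cfsg.FusionSystem.centralizerIn S (S ⊓ Subgroup.centralizer (S : Set Ω)))).Hom P) (hN : ∀ N : Cfsg.FusionSystem (Cfsg.FusionSystem.normalizerIn S (Cfsg.thompsonSubgroupAOf S)), F.IsNormalizerSystem (Cfsg.thompsonSubgroupAOf S) N → ∀ P : Subgroup Ω, N.Hom P = (Cfsg.innerFusionSystem (Cfsg.FusionSystem.normalizerIn S (Cfsg.thompsonSubgroupAOf S))).Hom P) : ∀ P : Subgroup Ω, F.Hom P = (Cfsg.innerFusionSystem S).Hom P := by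
  have hsf : SF F p := hp
  refine (pn_iff_inner hS hF).mp (th_fusion hS hF hsf ?_ ?_)
  · obtain ⟨C, hC₀⟩ := exists_isCentralizerSystem (F := F) (Q := ZZ S) inf_le_left
    have h1 := hC C hC₀
    have hT : IsPGroup p (Cfsg.FusionSystem.centralizerIn S (ZZ S)) := hS.to_le inf_le_left
    have hPN := pn_of_inner hT h1
    intro P f hf ĥ hĥ hĥf hg
    have hPS : P ≤ S := hf.mp.le
    have hSC : S ≤ Cfsg.FusionSystem.centralizerIn S (ZZ S) := by
      intro s hs
      refine ⟨hs, Subgroup.mem_centralizer_iff.mpr ?_⟩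
      rintro z ⟨-, hz⟩
      exact (Subgroup.mem_centralizer_iff.mp hz s hs).symm
    refine hPN P f ⟨?_, hf.maps, hf.surj⟩
    obtain ⟨φ, hφ, hφf⟩ := hf.mp
    refine ⟨φ, ?_, hφf⟩
    rw [hC₀ P]
    refine ⟨hφ, hPS.trans hSC, fun x => hSC ((F.le_of_mem hφ).2 x), ?_⟩
    exact centralExt_iff.mpr ⟨ĥ, hĥ, fun x => by rw [hĥf _ x.2, hφf x], hg⟩
  · intro hW
    obtain ⟨N, hN₀⟩ := exists_isNormalizerSystem (F := F) hW
    have h1 := hN N hN₀
    rw [eq_NSys hW hN₀] at h1
    exact pn_of_inner (hS.to_le inf_le_left) h1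

end Cfsg.Agent.S5194
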