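import Cfsg.Statements.S5196
import Cfsg.Agent.Lib.H25.FusBad3

set_option autoImplicit false
universe u
open Cfsg

namespace Cfsg.Agent.S5196

open Cfsg.Agent.H25 Cfsg.FusionSystem

/-- Let p be an odd prime and W a positive characteristic p-functor: W assigns to every finite p-group Q (in a fixed universe) a subgroup W(Q), nontrivial when Q is, carried to W(R) by every isomorphism Q ≅ R; assume also Z(Q) ≤ W(Q) for every finite p-group Q. Suppose W satisfies the local condition: for every finite group G with Sylow p-subgroup P, O_p(G) ∩ Z(G) = O_p(G) ∩ Z(N_G(W(P))). Then W controls weak closure of elements in every saturated fusion system F over a finite p-group S: the centre of the normalizer fusion system of W(S) in F equals the centre of F. (For p = 2 no functor satisfies the local condition, so p is taken odd.) -/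
theorem result {p : ℕ} [Fact p.Prime] (hp : p ≠ 2) (W : ∀ (Q : Type u) [Group Q], Subgroup Q) (hW1 : ∀ (Q : Type u) [Group Q] [Finite Q], IsPGroup p Q → Nontrivial Q → W Q ≠ ⊥) (hW2 : ∀ (Q R : Type u) [Group Q] [Group R] [Finite Q], IsPGroup p Q → ∀ φ : Q ≃* R, (W Q).map φ.toMonoidHom = W R) (hWZ : ∀ (Q : Type u) [Group Q] [Finite Q], IsPGroup p Q → Subgroup.center Q ≤ W Q) (hC : ∀ (G : Type u) [Group G] [Finite G] (P : Sylow p G), Cfsg.pCore p G ⊓ Subgroup.center G = Cfsg.pCore p G ⊓ (Subgroup.center ↥(Subgroup.normalizer (((W ↥(P : Subgroup G)).map (P : Subgroup G).subtype : Subgroup G) : Set G))).map (Subgroup.normalizer (((W ↥(P : Subgroup G)).map (P : Subgroup G).subtype : Subgroup G) : Set G)).subtype) {Ω : Type u} [Group Ω] {S : Subgroup Ω} [Finite S] (hS : IsPGroup p S) (F : Cfsg.FusionSystem S) (hF : F.IsSaturated p) (N : Cfsg.FusionSystem (Cfsg.FusionSystem.normalizerIn S ((W ↥S).map S.subtype))) (hN : F.IsNormalizerSystem ((W ↥S).map S.subtype) N) : N.center = F.center := by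
  classical
  have hWh : FunctorHyp p W := ⟨hW1, hW2⟩
  have hL : LocalFix.{u} p 0 W := by
    intro G _ _ T hc z hzO hzpc h1 h2 g
    have hZ : z ∈ (T : Subgroup G) ⊓ Subgroup.centralizer ((T : Subgroup G) : Set G) := pc_le (p := p) (k := 0) _ hzpc
    have hTp : IsPGroup p (T : Subgroup G) := T.isPGroup'
    have hzN : z ∈ Subgroup.normalizer ((WW W (T : Subgroup G) : Subgroup G) : Set G) := by
      apply WW_conj ⟨hW1, hW2⟩ hTp
      exact mem_normalizer_of_conj (fun y hy => Subgroup.mul_mem _ (Subgroup.mul_mem _ hZ.1 hy) (Subgroup.inv_mem _ hZ.1))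
        (fun y hy => Subgroup.mul_mem _ (Subgroup.mul_mem _ (Subgroup.inv_mem _ hZ.1) hy) hZ.1)
    have hmem : z ∈ Cfsg.pCore p G ⊓ (Subgroup.center ↥(Subgroup.normalizer (((W ↥(T : Subgroup G)).map (T : Subgroup G).subtype : Subgroup G) : Set G))).map (Subgroup.normalizer (((W ↥(T : Subgroup G)).map (T : Subgroup G).subtype : Subgroup G) : Set G)).subtype := by
      refine ⟨hzO, ⟨z, hzN⟩, ?_, rfl⟩
      rw [SetLike.mem_coe, Subgroup.mem_center_iff]
      rintro ⟨n, hn⟩
      apply Subtype.ext
      show n * z = z * n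
      have := h1 n hn
      calc n * z = (n * z * n⁻¹) * n := by group
        _ = z * n := by rw [this]
    rw [← hC G T] at hmem
    have h3 := Subgroup.mem_center_iff.mp hmem.2 g
    rw [h3]
    group
  have hWS : WW W S ≤ S := WW_le S
  have hSN : S ≤ Subgroup.normalizer (WW W S : Set Ω) := fun s hs => WW_conj hWh hS (mem_normalizer_of_conj
      (fun y hy => S.mul_mem (S.mul_mem hs hy) (S.inv_mem hs)) (fun y hy => S.mul_mem (S.mul_mem (S.inv_mem hs) hy) hs))
  haveI hfinN : Finite (Cfsg.FusionSystem.normalizerIn S (WW W S)) := finite_of_le inf_le_left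
  apply le_antisymm
  · intro x hx
    have hcent : N.IsCentral N.center := H24.isCentral_center
    have hxS : x ∈ S := (hcent.1 hx).1
    have hxc : ∀ s ∈ S, s * x = x * s := by
      intro s hs
      have hsN : s ∈ Cfsg.FusionSystem.normalizerIn S (WW W S) := ⟨hs, hSN hs⟩
      have h1 := not_moves_of_isCentral hcent hx
      have h2 : (fun y => s * y * s⁻¹) x = x := by
        by_contra hne
        refine h1 ⟨⊤ ⊓ Cfsg.FusionSystem.normalizerIn S (WW W S), _, Mp.conj inf_le_right hsN, ⟨Subgroup.mem_top _, hcent.1 hx⟩, hne⟩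
      calc s * x = (s * x * s⁻¹) * s := by group
        _ = x * s := by rw [show s * x * s⁻¹ = x from h2]
    have hpc : x ∈ Cfsg.powerClosure p 0 (S ⊓ Subgroup.centralizer (S : Set Ω)) :=
      Subgroup.subset_closure ⟨x, ⟨hxS, Subgroup.mem_centralizer_iff.mpr hxc⟩, by simp⟩
    exact center_le_of_bad hWh hL hS hF hN ⟨hpc, hx⟩
  · rw [eq_NSys hWS hN]
    have hcent : F.IsCentral F.center := H24.isCentral_center
    have hle : F.center ≤ Cfsg.FusionSystem.normalizerIn S (WW W S) := le_inf hcent.1 (hcent.1.trans hSN)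
    exact (le_sSup (isCentral_nsys hcent hWS hle) : F.center ≤ (NSys F (WW W S) hWS).center)

end Cfsg.Agent.S5196
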