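import Cfsg.Statements.S5220
import Cfsg.Agent.Lib.H25.Gen5

set_option autoImplicit false
open Cfsg

namespace Cfsg.Agent.S5220

open Cfsg.Agent.H25 Cfsg.FusionSystem

/-- Let F be a saturated fusion system over a nontrivial finite p-group S, let J(S) be the subgroup generated by the abelian subgroups of S of largest order, and let V be the subgroup generated by the p-th powers of the elements of Z(S). Then F is generated by the centralizer fusion system of V and the normalizer fusion system of J(S): every fusion system over S containing the maps of both contains every map of F. -/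
theorem result {Ω : Type*} [Group Ω] {S : Subgroup Ω} [Finite S] (p : ℕ) [Fact p.Prime] (hS : IsPGroup p S) (F : Cfsg.FusionSystem S) (hF : F.IsSaturated p) (hS1 : S ≠ ⊥) (C : Cfsg.FusionSystem (Cfsg.FusionSystem.centralizerIn S (Cfsg.powerClosure p 1 (S ⊓ Subgroup.centralizer (S : Set Ω))))) (hC : F.IsCentralizerSystem (Cfsg.powerClosure p 1 (S ⊓ Subgroup.centralizer (S : Set Ω))) C) (N : Cfsg.FusionSystem (Cfsg.FusionSystem.normalizerIn S (Cfsg.thompsonSubgroupAOf S))) (hN : F.IsNormalizerSystem (Cfsg.thompsonSubgroupAOf S) N) (E : Cfsg.FusionSystem S) (hCE : C.IsSubsystemOf E) (hNE : N.IsSubsystemOf E) : F.IsSubsystemOf E := by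
  have hSC : S ≤ centralizerIn S (VV p S) := by
    intro s hs
    refine mem_centralizerIn.mpr ⟨hs, fun y hy => ?_⟩
    have h1 := pc_le (p := p) (k := 1) _ hy
    exact (Subgroup.mem_centralizer_iff.mp h1.2 s hs).symm
  have hSN : S ≤ normalizerIn S (thompsonSubgroupAOf S) := by
    intro s hs
    refine ⟨hs, tj_conj (mem_normalizer_of_conj (fun y hy => S.mul_mem (S.mul_mem hs hy) (S.inv_mem hs))
      (fun y hy => S.mul_mem (S.mul_mem (S.inv_mem hs) hy) hs))⟩
  have hC' : GenC F E (VV p S) := by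
    intro P f hVP hf hfix
    have hf' := hf
    obtain ⟨φ, hφ, hφf⟩ := hf
    refine ⟨φ, hCE P ?_, hφf⟩
    rw [hC P]
    refine ⟨hφ, (F.le_of_mem hφ).1.trans hSC, fun x => hSC ((F.le_of_mem hφ).2 x), ?_⟩
    refine centralExt_iff.mpr ⟨f, ?_, fun x => (hφf x).symm, hfix⟩
    rw [sup_eq_left.mpr hVP]
    exact hf'
  have hN' : GenN F E (thompsonSubgroupAOf S) := by
    intro P f hVP hf hg
    have hf' := hf
    obtain ⟨φ, hφ, hφf⟩ := hf
    refine ⟨φ, hNE P ?_, hφf⟩
    rw [hN P]
    refine ⟨hφ, (F.le_of_mem hφ).1.trans hSN, fun x => hSN ((F.le_of_mem hφ).2 x), ?_⟩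
    refine normalExt_iff.mpr ⟨f, ?_, fun x => (hφf x).symm, hg⟩
    rw [sup_eq_left.mpr hVP]
    exact hf'
  intro P φ hφ
  exact mem_hom_iff.mpr (gen_main hS hF hC' hN' P _ (mp_of_mem hφ))

end Cfsg.Agent.S5220
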