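import Cfsg.Statements.S5222
import Cfsg.Agent.Lib.H25.TatePhi

set_option autoImplicit false
open Cfsg

namespace Cfsg.Agent.S5222

open Cfsg.Agent.H25 Cfsg.FusionSystem

open scoped commutatorElement

/-- Let F be a saturated fusion system over a finite p-group S whose normalizer fusion system of S is the inner fusion system of S (Aut_F(S) is a p-group). Then for every subgroup Q of S with [S, S] ≤ Q ≤ Φ(S), the normalizer fusion system of Q in F is the inner fusion system of N_S(Q) = S. -/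
theorem result {Ω : Type*} [Group Ω] {S : Subgroup Ω} [Finite S] (p : ℕ) [Fact p.Prime] (hS : IsPGroup p S) (F : Cfsg.FusionSystem S) (hF : F.IsSaturated p) (hN : ∀ N : Cfsg.FusionSystem (Cfsg.FusionSystem.normalizerIn S S), F.IsNormalizerSystem S N → ∀ P : Subgroup Ω, N.Hom P = (Cfsg.innerFusionSystem (Cfsg.FusionSystem.normalizerIn S S)).Hom P) (Q : Subgroup Ω) (h1 : (commutator ↥S).map S.subtype ≤ Q) (h2 : Q ≤ (frattini ↥S).map S.subtype) : ∀ N : Cfsg.FusionSystem (Cfsg.FusionSystem.normalizerIn S Q), F.IsNormalizerSystem Q N → ∀ P : Subgroup Ω, N.Hom P = (Cfsg.innerFusionSystem (Cfsg.FusionSystem.normalizerIn S Q)).Hom P := by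
  classical
  have hQS : Q ≤ S := h2.trans (Subgroup.map_subtype_le _)
  have hcomm : ∀ x ∈ S, ∀ y ∈ S, x * y * x⁻¹ * y⁻¹ ∈ Q := by
    intro x hx y hy
    apply h1
    refine ⟨⁅(⟨x, hx⟩ : ↥S), (⟨y, hy⟩ : ↥S)⁆, ?_, rfl⟩
    exact Subgroup.commutator_mem_commutator (Subgroup.mem_top _) (Subgroup.mem_top _)
  have hSN : S ≤ Subgroup.normalizer (Q : Set Ω) := by
    intro s hs
    refine mem_normalizer_of_conj (fun q hq => ?_) (fun q hq => ?_)
    · have h3 := Q.mul_mem (hcomm s hs q (hQS hq)) hq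
      simpa using h3
    · have h3 := Q.mul_mem (hcomm s⁻¹ (S.inv_mem hs) q (hQS hq)) hq
      simpa using h3
  have hfar := far_of_fullyNormalized hS hF (fullyNormalized_of_normal' hQS hSN)
  have hsat : (normSys F Q S hQS le_rfl hSN).IsSaturated p := normSys_sat_of_eq (inf_eq_left.mpr hSN) hS hF hfar
  have hQn : (normSys F Q S hQS le_rfl hSN).IsNormal Q := isNormal_normSys
  -- automorphisms of `S`
  obtain ⟨N₀, hN₀⟩ := exists_isNormalizerSystem (F := F) (le_refl S)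
  have hN₁ := hN N₀ hN₀
  rw [eq_NSys (le_refl S) hN₀] at hN₁
  have hinn : ∀ f : Ω → Ω, Mp (normSys F Q S hQS le_rfl hSN) S f → ∀ x ∈ S, x⁻¹ * f x ∈ Q := by
    intro f hf x hx
    have hfF : Mp F S f := normSys_mp_F hf
    have hI : Iso F S S f := Iso.of_maps hfF (fun y hy => hfF.mem hy)
    have hm : Mp (NSys F S (le_refl S)) S f :=
      mp_NSys_of_ge (le_refl S) le_rfl hfF (le_normalizerIn (le_refl S)) ⟨hI.maps, hI.surj⟩
    obtain ⟨φ, hφ, hφf⟩ := hm
    rw [hN₁ S] at hφ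
    obtain ⟨-, s, hs, hφs⟩ := hφ
    have hsS : s ∈ S := hs.1
    have e : f x = s * x * s⁻¹ := by
      rw [← hφf ⟨x, hx⟩]
      exact hφs ⟨x, hx⟩
    rw [e]
    have h3 := hcomm x⁻¹ (S.inv_mem hx) s hsS
    have e2 : x⁻¹ * (s * x * s⁻¹) = x⁻¹ * s * x⁻¹⁻¹ * s⁻¹ := by group
    rw [e2]
    exact h3
  have hPN := pn_of_foc_frattini hS hsat hQn (foc_le_of_abelian_quot hS hsat hQn hcomm hinn) h2
  intro M hM
  rw [eq_NSys hQS hM]
  haveI hfin : Finite (Cfsg.FusionSystem.normalizerIn S Q) := finite_of_le inf_le_left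
  have hp₁ : IsPGroup p (Cfsg.FusionSystem.normalizerIn S Q) := hS.to_le inf_le_left
  have hsat₁ : (NSys F Q hQS).IsSaturated p := NSys_saturated hS hF hfar
  refine (pn_iff_inner hp₁ hsat₁).mp ?_
  refine fun A f hf => hPN A f ⟨?_, hf.maps, hf.surj⟩
  obtain ⟨h3, h4, h5, ĥ, hĥ, hĥf, hg⟩ := (mp_NSys_iff hQS).mp hf.mp
  exact mp_normSys_iff'.mpr ⟨h3, h4.trans inf_le_left, fun x hx => (h5 x hx).1, ĥ, hĥ, hĥf, hg⟩

end Cfsg.Agent.S5222
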