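import Cfsg.Statements.S5246
import Cfsg.Agent.Lib.H25.FusStable
import Cfsg.Agent.Lib.H13.Quadratic
import Cfsg.Agent.Lib.H24.FusGroup

set_option autoImplicit false
open Cfsg

namespace Cfsg.Agent.S5246

open Cfsg.Agent.H25 Cfsg.FusionSystem

section Gen

open scoped commutatorElement

variable {p : ℕ}

theorem mk_mem_pCore_iff {N A : Type*} [Group N] [Group A] [Finite N] [Finite A] [Fact p.Prime] (π : N →* A)
    (hπ : Function.Surjective π) (K : Subgroup N) [K.Normal] (hK : K = π.ker) (x : N) :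
    (QuotientGroup.mk x : N ⧸ K) ∈ Cfsg.pCore p (N ⧸ K) ↔ π x ∈ Cfsg.pCore p A := by
  subst hK
  let e := QuotientGroup.quotientKerEquivOfSurjective π hπ
  have h := Cfsg.Agent.H13.map_pCore_mulEquiv (p := p) e
  constructor
  · intro hx
    rw [← h]
    exact ⟨_, hx, rfl⟩
  · intro hx
    rw [← h] at hx
    obtain ⟨y, hy, hye⟩ := hx
    have h2 : y = QuotientGroup.mk x := e.injective hye
    rw [← h2]
    exact hy

variable {Ω : Type*} [Group Ω]

/-- The automorphism of `Q` induced by an element of the normalizer. -/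
def cj (Q : Subgroup Ω) : Subgroup.normalizer (Q : Set Ω) →* autInducedBy ⊤ Q :=
  MonoidHom.codRestrict Q.normalizerMonoidHom _ (fun s => mem_autInducedBy_of_conj (s := (s : Ω)) (Subgroup.mem_top _) (fun x => rfl))

theorem cj_surjective (Q : Subgroup Ω) : Function.Surjective (cj Q) := by
  rintro ⟨α, hα⟩
  obtain ⟨s, -, hs⟩ := exists_of_mem_autInducedBy hα
  have hsN : s ∈ Subgroup.normalizer (Q : Set Ω) := IsC.mem_normalizer hs
  refine ⟨⟨s, hsN⟩, ?_⟩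
  apply Subtype.ext
  apply MulEquiv.ext
  intro x
  apply Subtype.ext
  exact (hs x).symm

theorem cj_ker (Q : Subgroup Ω) : (Subgroup.centralizer (Q : Set Ω)).subgroupOf (Subgroup.normalizer (Q : Set Ω)) = (cj Q).ker := by
  ext s
  rw [Subgroup.mem_subgroupOf, Subgroup.mem_centralizer_iff, MonoidHom.mem_ker]
  constructor
  · intro h
    apply Subtype.ext
    apply MulEquiv.ext
    intro x
    apply Subtype.ext
    show (s : Ω) * x * (s : Ω)⁻¹ = x
    rw [← h x x.2]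
    group
  · intro h x hx
    have h1 := congrArg (fun b : autInducedBy ⊤ Q => (((b : MulAut Q) ⟨x, hx⟩ : Q) : Ω)) h
    have h2 : (s : Ω) * x * (s : Ω)⁻¹ = x := h1
    calc x * (s : Ω) = ((s : Ω) * x * (s : Ω)⁻¹) * (s : Ω) := by rw [h2]
      _ = _ := by group

theorem aux1 {G : Type*} [Group G] (a g b : G) (hb : b = g * a * g⁻¹) (hc : a⁻¹ * b * g = g * (a⁻¹ * b)) :
    b⁻¹ * a * b⁻¹ * (g * b * g⁻¹) = 1 := by
  have h1 : g * b * g⁻¹ = b * a⁻¹ * b := by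
    calc g * b * g⁻¹ = (g * a * g⁻¹) * (g * (a⁻¹ * b) * g⁻¹) := by group
      _ = b * (g * (a⁻¹ * b) * g⁻¹) := by rw [← hb]
      _ = b * ((a⁻¹ * b * g) * g⁻¹) := by rw [hc]
      _ = b * a⁻¹ * b := by group
  rw [h1]
  group

/-- Commutators and quadratic action. -/
theorem quad_of_comm {Q : Subgroup Ω} {g : Ω} {χ : MulAut Q} (hg : IsC g χ)
    (h : ⁅⁅Q, Subgroup.zpowers g⁆, Subgroup.zpowers g⁆ = ⊥) : Quad χ := by
  intro a
  apply Subtype.ext
  have hw : ⁅((a⁻¹ : Q) : Ω), g⁆ ∈ ⁅Q, Subgroup.zpowers g⁆ :=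
    Subgroup.commutator_mem_commutator (a⁻¹ : Q).2 (Subgroup.mem_zpowers g)
  have hc := Subgroup.commutator_mem_commutator hw (Subgroup.mem_zpowers g)
  rw [h, Subgroup.mem_bot, commutatorElement_eq_one_iff_mul_comm, commutatorElement_def] at hc
  have hχa : ((χ a : Q) : Ω) = g * a * g⁻¹ := hg a
  have hχχa : ((χ (χ a) : Q) : Ω) = g * (χ a : Q) * g⁻¹ := hg (χ a)
  have hχinv : ((χ a⁻¹ : Q) : Ω) = ((χ a : Q) : Ω)⁻¹ := by rw [map_inv]; rfl
  have hform : ((a⁻¹ : Q) : Ω) * g * ((a⁻¹ : Q) : Ω)⁻¹ * g⁻¹ = (a : Ω)⁻¹ * (χ a : Q) := by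
    rw [hχa]
    simp only [Subgroup.coe_inv, inv_inv]
    group
  rw [hform] at hc
  have := aux1 (a : Ω) g ((χ a : Q) : Ω) hχa hc
  simp only [Subgroup.coe_mul, hχinv, hχχa, OneMemClass.coe_one]
  exact this

theorem quad_fix {Q : Subgroup Ω} {χ : MulAut Q} (h : Quad χ) (a : Q) : χ (a⁻¹ * χ a) = a⁻¹ * χ a := by
  have h1 := h a
  rw [map_mul, map_inv]
  have h3 : (χ a⁻¹) * a * (χ a⁻¹) * (χ (χ a)) = 1 := h1
  rw [map_inv] at h3
  have h2 : χ (χ a) = χ a * a⁻¹ * χ a := by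
    calc χ (χ a) = ((χ a)⁻¹ * a * (χ a)⁻¹)⁻¹ * ((χ a)⁻¹ * a * (χ a)⁻¹ * χ (χ a)) := by group
      _ = _ := by rw [h3]; group
  rw [h2]
  group

theorem isC_pow {Q : Subgroup Ω} {g : Ω} {χ : MulAut Q} (hg : IsC g χ) (n : ℕ) : IsC (g ^ n) (χ ^ n) := by
  induction n with
  | zero => intro x; simp
  | succ n ih =>
    rw [pow_succ, pow_succ]
    exact ih.mul hg

theorem comm_of_quad [Finite Ω] {Q : Subgroup Ω} {g : Ω} {χ : MulAut Q} (hg : IsC g χ) (hq : Quad χ) :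
    ⁅⁅Q, Subgroup.zpowers g⁆, Subgroup.zpowers g⁆ = ⊥ := by
  rw [Subgroup.commutator_eq_bot_iff_le_centralizer, Subgroup.commutator_le]
  intro a ha h hh
  rw [Subgroup.mem_centralizer_iff]
  intro k hk
  obtain ⟨i, rfl⟩ := Subgroup.mem_zpowers_iff.mp hk
  suffices hsuff : g * ⁅a, h⁆ = ⁅a, h⁆ * g from ((show Commute g ⁅a, h⁆ from hsuff).zpow_left i)
  obtain ⟨n, rfl⟩ := (mem_powers_iff_mem_zpowers.mpr hh)
  have hn := isC_pow hg n
  have hval := hn ⟨a, ha⟩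
  have hu := quad_pow_apply hq ⟨a, ha⟩ n
  set a' : Q := ⟨a, ha⟩ with ha'
  set u : Q := a'⁻¹ * χ a' with hudef
  have hχa : χ a' = a' * u := by rw [hudef]; group
  have hw : ⁅a, g ^ n⁆ = ((a' * (a' * u ^ n)⁻¹ : Q) : Ω) := by
    rw [commutatorElement_def]
    rw [hu] at hval
    have h1 : g ^ n * a * (g ^ n)⁻¹ = ((a' * u ^ n : Q) : Ω) := hval.symm
    calc a * g ^ n * a⁻¹ * (g ^ n)⁻¹ = a * (g ^ n * a * (g ^ n)⁻¹)⁻¹ := by group
      _ = _ := by rw [h1]; rfl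
  rw [hw]
  have hfix := quad_fix hq a'
  rw [← hudef] at hfix
  have h2 := hg (a' * (a' * u ^ n)⁻¹)
  have h3 : χ (a' * (a' * u ^ n)⁻¹) = a' * (a' * u ^ n)⁻¹ := by
    rw [map_mul, map_inv, map_mul, map_pow, hfix, hχa]
    group
  rw [h3] at h2
  calc g * ((a' * (a' * u ^ n)⁻¹ : Q) : Ω) = (g * ((a' * (a' * u ^ n)⁻¹ : Q) : Ω) * g⁻¹) * g := by group
    _ = _ := by rw [← h2]

end Gen

/-- Let p be an odd prime, G a finite group and P a Sylow p-subgroup. Call a fusion system F p-stable when, for every fully normalized subgroup Q and every χ ∈ Aut_F(Q) acting quadratically on Q (that is, χ fixes a⁻¹χ(a) for every a ∈ Q; equivalently χ(a⁻¹)·a·χ(a⁻¹)·χ(χ(a)) = 1), χ lies in O_p(Aut_F(Q)). Then G is p-stable in the normalizer form (for every p-subgroup Q and x ∈ N_G(Q) with [Q, x, x] = 1, the image of x lies in O_p(N_G(Q)/C_G(Q))) if and only if the fusion system of G on P is p-stable. -/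
theorem result {Ω : Type*} [Group Ω] [Finite Ω] {p : ℕ} [Fact p.Prime] (hp : p ≠ 2) (P : Sylow p Ω) : Cfsg.IsNormalizerPStable p Ω ↔ (∀ Q : Subgroup Ω, (Cfsg.groupFusionSystem (P : Subgroup Ω)).IsFullyNormalized Q → ∀ χ : MulAut ↥Q, χ ∈ (Cfsg.groupFusionSystem (P : Subgroup Ω)).autGroup Q → (∀ a : ↥Q, (χ a⁻¹) * a * (χ a⁻¹) * (χ (χ a)) = 1) → χ ∈ ((Cfsg.pCore p ↥((Cfsg.groupFusionSystem (P : Subgroup Ω)).autGroup Q)).map ((Cfsg.groupFusionSystem (P : Subgroup Ω)).autGroup Q).subtype : Subgroup (MulAut ↥Q))) := by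
  classical
  constructor
  · intro hPS Q hQ χ hχ hq
    have hQP := hQ.1
    rw [Cfsg.Agent.H24.autGroup_groupFusion hQP] at hχ ⊢
    obtain ⟨s, -, hs⟩ := exists_of_mem_autInducedBy hχ
    have hsN : s ∈ Subgroup.normalizer (Q : Set Ω) := IsC.mem_normalizer hs
    have hp' : IsPGroup p Q := P.isPGroup'.to_le hQP
    have h1 := hPS Q hp' s hsN (comm_of_quad hs hq)
    have h2 := (mk_mem_pCore_iff (cj Q) (cj_surjective Q) _ (cj_ker Q) ⟨s, hsN⟩).mp h1
    have h3 : cj Q ⟨s, hsN⟩ = ⟨χ, hχ⟩ := by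
      apply Subtype.ext
      apply MulEquiv.ext
      intro x
      apply Subtype.ext
      exact (hs x).symm
    rw [h3] at h2
    exact ⟨⟨χ, hχ⟩, h2, rfl⟩
  · intro hF Q₀ hp₀ g₀ hg₀ hcomm
    obtain ⟨P₁, hP₁⟩ := hp₀.exists_le_sylow
    obtain ⟨t, ht⟩ := MulAction.exists_smul_eq Ω P₁ P
    set Q := Q₀.map (MulAut.conj t).toMonoidHom with hQdef
    have hQP : Q ≤ P := by
      rw [← ht]
      rintro _ ⟨x, hx, rfl⟩
      exact ⟨x, hP₁ hx, rfl⟩
    let e : Q₀ ≃* Q := Q₀.equivMapOfInjective (MulAut.conj t).toMonoidHom (MulEquiv.injective _)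
    have he : ∀ x : Q₀, ((e x : Q) : Ω) = t * x * t⁻¹ := fun x => rfl
    have hcq : ∀ (α : MulAut Q₀) (s : Ω), IsC s α → IsC (t * s * t⁻¹) (MulAut.congr e α) := by
      intro α s hα y
      have h1 : y = e (e.symm y) := by simp
      conv_lhs => rw [h1]
      have h2 : MulAut.congr e α (e (e.symm y)) = e (α (e.symm y)) := by simp
      rw [h2, he, hα]
      have h3 : ((y : Q) : Ω) = t * (e.symm y : Q₀) * t⁻¹ := by
        rw [← he, MulEquiv.apply_symm_apply]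
      rw [h3]
      group
    have hcq' : ∀ (α : MulAut Q) (s : Ω), IsC s α → IsC (t⁻¹ * s * t) ((MulAut.congr e).symm α) := by
      intro α s hα x
      have h1 : e ((MulAut.congr e).symm α x) = α (e x) := by
        simp [MulAut.congr]
      have h2 := congrArg Subtype.val h1
      rw [he, hα, he] at h2
      calc (((MulAut.congr e).symm α x : Q₀) : Ω)
          = t⁻¹ * (t * ((MulAut.congr e).symm α x : Q₀) * t⁻¹) * t := by group
        _ = t⁻¹ * (s * (t * x * t⁻¹) * s⁻¹) * t := by rw [h2]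
        _ = _ := by group
    have hmap : (autInducedBy ⊤ Q₀).map (MulAut.congr e).toMonoidHom = autInducedBy ⊤ Q := by
      apply le_antisymm
      · rintro _ ⟨α, hα, rfl⟩
        obtain ⟨s, -, hs⟩ := exists_of_mem_autInducedBy hα
        exact mem_autInducedBy_of_conj (Subgroup.mem_top _) (hcq α s hs)
      · intro α hα
        obtain ⟨s, -, hs⟩ := exists_of_mem_autInducedBy hα
        exact ⟨_, mem_autInducedBy_of_conj (Subgroup.mem_top _) (hcq' α s hs), MulEquiv.apply_symm_apply _ _⟩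
    have hχ₀C : IsC g₀ ((cj Q₀ ⟨g₀, hg₀⟩ : autInducedBy ⊤ Q₀) : MulAut Q₀) := fun x => rfl
    have hq₀ := quad_of_comm hχ₀C hcomm
    set χ₀ : MulAut Q₀ := ((cj Q₀ ⟨g₀, hg₀⟩ : autInducedBy ⊤ Q₀) : MulAut Q₀) with hχ₀
    have hχ : MulAut.congr e χ₀ ∈ (Cfsg.groupFusionSystem (P : Subgroup Ω)).autGroup Q := by
      rw [Cfsg.Agent.H24.autGroup_groupFusion hQP]
      exact mem_autInducedBy_of_conj (Subgroup.mem_top _) (hcq χ₀ g₀ hχ₀C)
    have h1 := PS.all (E := Cfsg.groupFusionSystem (P : Subgroup Ω)) (p := p) hF hQP hχ (quad_congr e hq₀)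
    rw [Cfsg.Agent.H24.autGroup_groupFusion hQP, ← hmap, ← mem_pCoreOf_map_iff] at h1
    obtain ⟨b, hb, hbe⟩ := h1
    have hb2 : b = cj Q₀ ⟨g₀, hg₀⟩ := Subtype.ext hbe
    rw [hb2] at hb
    exact (mk_mem_pCore_iff (cj Q₀) (cj_surjective Q₀) _ (cj_ker Q₀) ⟨g₀, hg₀⟩).mpr hb

end Cfsg.Agent.S5246
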