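import Cfsg.Statements.S5253
import Cfsg.Agent.Lib.H25.FusBad3

set_option autoImplicit false
universe u
open Cfsg

namespace Cfsg.Agent.S5253

open Cfsg.Agent.H25 Cfsg.FusionSystem

/-- Let p be a prime and W a positive characteristic p-functor with Z(Q) ≤ W(Q): W assigns to every finite p-group Q (in a fixed universe) a subgroup W(Q), nontrivial when Q is, carried to W(R) by every isomorphism Q ≅ R, and containing the centre of Q. Suppose that for every finite group G with Sylow p-subgroup P in which W(P) is not normal there is g ∈ P outside O_p(G) with [Z(O_p(G)), g, g] = 1. Then for every saturated fusion system F over a finite p-group S and every normalizer fusion system N of W(S) in F, every p-th power of an element of Z(S) that lies in the centre of N lies in the centre of F. -/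
theorem result {p : ℕ} [Fact p.Prime] (W : ∀ (Q : Type u) [Group Q], Subgroup Q) (hW1 : ∀ (Q : Type u) [Group Q] [Finite Q], IsPGroup p Q → Nontrivial Q → W Q ≠ ⊥) (hW2 : ∀ (Q R : Type u) [Group Q] [Group R] [Finite Q], IsPGroup p Q → ∀ φ : Q ≃* R, (W Q).map φ.toMonoidHom = W R) (hWZ : ∀ (Q : Type u) [Group Q] [Finite Q], IsPGroup p Q → Subgroup.center Q ≤ W Q) (hq : ∀ (G : Type u) [Group G] [Finite G] (P : Sylow p G), ¬ (((W ↥(P : Subgroup G)).map (P : Subgroup G).subtype : Subgroup G)).Normal → ∃ g : G, g ∈ (P : Subgroup G) ∧ g ∉ Cfsg.pCore p G ∧ ⁅⁅Subgroup.center ↥(Cfsg.pCore p G) |>.map (Cfsg.pCore p G).subtype, Subgroup.zpowers g⁆, Subgroup.zpowers g⁆ = ⊥) {Ω : Type u} [Group Ω] {S : Subgroup Ω} [Finite S] (hS : IsPGroup p S) (F : Cfsg.FusionSystem S) (hF : F.IsSaturated p) (N : Cfsg.FusionSystem (Cfsg.FusionSystem.normalizerIn S ((W ↥S).map S.subtype))) (hN : F.IsNormalizerSystem ((W ↥S).map S.subtype) N) : Subgroup.closure ((fun z => z ^ p) '' ((S ⊓ Subgroup.centralizer (S : Set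 Ω) : Subgroup Ω) : Set Ω)) ⊓ N.center ≤ F.center := by
  classical
  have hWh : FunctorHyp p W := ⟨hW1, hW2⟩
  have hL : LocalFix.{u} p 1 W := by
    intro G _ _ T hc z hzO hzpc h1 h2
    by_cases hn : ((W ↥(T : Subgroup G)).map (T : Subgroup G).subtype : Subgroup G).Normal
    · intro g
      refine h1 g (mem_normalizer_of_conj (fun x hx => hn.conj_mem x hx g) (fun x hx => ?_))
      simpa using hn.conj_mem x hx g⁻¹
    · obtain ⟨g, hgT, hgO, hq'⟩ := hq G T hn
      have hOn : (Cfsg.pCore p G).Normal := pCore_normal p G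
      have hOT : Cfsg.pCore p G ≤ (T : Subgroup G) := H01.pCore_le_sylow p T
      obtain ⟨B, hBdef⟩ : ∃ B, B = (Subgroup.center ↥(Cfsg.pCore p G)).map (Cfsg.pCore p G).subtype := ⟨_, rfl⟩
      rw [← hBdef] at hq'
      have hmemB : ∀ b, b ∈ B ↔ b ∈ Cfsg.pCore p G ∧ ∀ q ∈ Cfsg.pCore p G, q * b = b * q := by
        intro b
        rw [hBdef]
        constructor
        · rintro ⟨b₀, hb₀, rfl⟩
          refine ⟨b₀.2, fun q hq => ?_⟩
          have := Subgroup.mem_center_iff.mp hb₀ ⟨q, hq⟩
          exact congrArg Subtype.val this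
        · rintro ⟨hb, hbc⟩
          refine ⟨⟨b, hb⟩, Subgroup.mem_center_iff.mpr fun q => Subtype.ext (hbc q q.2), rfl⟩
      have hBn : B.Normal := by
        refine ⟨fun b hb g => ?_⟩
        obtain ⟨hb1, hb2⟩ := (hmemB b).mp hb
        refine (hmemB _).mpr ⟨hOn.conj_mem b hb1 g, fun q hq => ?_⟩
        have h3 := hb2 _ (hOn.conj_mem q hq g⁻¹)
        simp only [inv_inv] at h3
        calc q * (g * b * g⁻¹) = g * ((g⁻¹ * q * g) * b) * g⁻¹ := by group
          _ = g * (b * (g⁻¹ * q * g)) * g⁻¹ := by rw [h3]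
          _ = g * b * g⁻¹ * q := by group
      have hab : ∀ a ∈ B, ∀ b ∈ B, a * b = b * a := fun a ha b hb => ((hmemB b).mp hb).2 a ((hmemB a).mp ha).1
      have hQB : ∀ q ∈ Cfsg.pCore p G, ∀ b ∈ B, q * b = b * q := fun q hq b hb => ((hmemB b).mp hb).2 q hq
      have hgquad : ∀ v ∈ B, g * dl g v = dl g v * g := by
        intro v hv
        obtain ⟨u, hu⟩ : ∃ u, u = v * g * v⁻¹ * g⁻¹ := ⟨_, rfl⟩
        have h3 : u * g * u⁻¹ * g⁻¹ ∈ ⁅⁅B, Subgroup.zpowers g⁆, Subgroup.zpowers g⁆ := by
          rw [hu]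
          exact Subgroup.commutator_mem_commutator (Subgroup.commutator_mem_commutator hv (Subgroup.mem_zpowers g)) (Subgroup.mem_zpowers g)
        rw [hq', Subgroup.mem_bot] at h3
        have h4 : dl g v = u⁻¹ := by
          unfold dl
          rw [hu]
          group
        rw [h4]
        have h5 : Commute u g := by
          show u * g = g * u
          have h6 : u * g * u⁻¹ = g := by rwa [mul_inv_eq_one] at h3
          calc u * g = (u * g * u⁻¹) * u := by group
            _ = g * u := by rw [h6]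
        exact (h5.inv_left.eq).symm
      have hdlB : ∀ v ∈ B, dl g v ∈ B := fun v hv => B.mul_mem (hBn.conj_mem v hv g) (B.inv_mem hv)
      have hxp : ∃ k : ℕ, g ^ (p ^ k) = 1 := by
        obtain ⟨k, hk⟩ := T.isPGroup' ⟨g, hgT⟩
        refine ⟨k, ?_⟩
        have h := congrArg Subtype.val hk
        simpa using h
      obtain ⟨j, hj1, hj2⟩ := exists_step (p := p) (isOfFinOrder_of_finite g) hxp hgO
      obtain ⟨n₀, hn₀⟩ : ∃ n₀, n₀ = p ^ j := ⟨_, rfl⟩
      rw [← hn₀] at hj1 hj2
      have hp : p.Prime := Fact.out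
      have hnil : ∀ v ∈ B, (dl (g ^ n₀))^[1 * (p - 1) + 1] v = 1 := by
        intro v hv
        have h3 := dl_pow_quadratic (hgquad v hv) (hab _ (hdlB v hv) _ hv) n₀
        have h4 := dl_iterate_of_two h3 (p - 2)
        have e : 1 * (p - 1) + 1 = p - 2 + 2 := by
          have := hp.two_le
          omega
        rw [e]
        exact h4
      obtain ⟨R, hR1, hR2, hR3, hR4⟩ := agemo_of_elt T hOT hBn hab hQB (Subgroup.pow_mem _ hgT _) hj1 hj2 hnil
      intro g₀
      obtain ⟨h, hh, c, rfl, hc'⟩ := hR4 g₀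
      have hZB : ((T : Subgroup G) ⊓ Subgroup.centralizer ((T : Subgroup G) : Set G)) ≤ B := by
        intro y hy
        refine (hmemB y).mpr ⟨hc (Subgroup.mem_centralizer_iff.mpr fun q hq => ?_), fun q hq => ?_⟩
        · exact Subgroup.mem_centralizer_iff.mp hy.2 q (hOT hq)
        · exact Subgroup.mem_centralizer_iff.mp hy.2 q (hOT hq)
      have hcz : c * z = z * c := by
        have hle : Cfsg.powerClosure p 1 ((T : Subgroup G) ⊓ Subgroup.centralizer ((T : Subgroup G) : Set G)) ≤ Subgroup.centralizer {c} := by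
          refine (Subgroup.closure_le _).mpr ?_
          rintro y ⟨x, hx, rfl⟩
          rw [SetLike.mem_coe, Subgroup.mem_centralizer_iff]
          rintro c' rfl
          have := hc' x (hZB hx)
          rw [pow_one] at this ⊢
          exact this
        have := Subgroup.mem_centralizer_iff.mp (hle hzpc) c rfl
        exact this
      have h5 := h2 R hR1 hR2 hR3 h hh
      calc h * c * z * (h * c)⁻¹ = h * (c * z * c⁻¹) * h⁻¹ := by group
        _ = h * z * h⁻¹ := by rw [hcz]; group
        _ = z := h5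
  rintro z ⟨hz, hzN⟩
  refine center_le_of_bad hWh hL hS hF hN ⟨?_, hzN⟩
  refine (Subgroup.closure_mono ?_) hz
  rintro _ ⟨x, hx, rfl⟩
  exact ⟨x, hx, by simp⟩

end Cfsg.Agent.S5253
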