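import Cfsg.Statements.S5255
import Cfsg.Agent.Lib.H25.FusNormal

set_option autoImplicit false
open Cfsg

namespace Cfsg.Agent.S5255

open Cfsg.FusionSystem Cfsg.Agent.H25

variable {Ω : Type*} [Group Ω] {S : Subgroup Ω} {F : FusionSystem S}

/-- Let F be a saturated fusion system over a finite p-group S and T a subgroup of S strongly closed in F. Then T·C_S(T) is strongly closed in F. -/
theorem result {Ω : Type*} [Group Ω] {S : Subgroup Ω} [Finite S] (p : ℕ) [Fact p.Prime] (hS : IsPGroup p S) (F : Cfsg.FusionSystem S) (hF : F.IsSaturated p) (T : Subgroup Ω) (hT : F.StronglyClosed T) : F.StronglyClosed (T ⊔ Cfsg.FusionSystem.centralizerIn S T) := by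
  have hTS := hT.1
  set U := T ⊔ centralizerIn S T with hU
  have hUS : U ≤ S := sup_le hTS inf_le_left
  have hfinT : Finite T := finite_of_le hTS
  have strong : ∀ {P : Subgroup Ω} {h : Ω → Ω}, P ≤ T → Mp F P h → ∀ x ∈ P, h x ∈ T := by
    intro P h hR hh x hx
    obtain ⟨φ, hφ, hφh⟩ := hh
    have := hT.2 P hR φ hφ ⟨x, hx⟩
    rwa [hφh ⟨x, hx⟩] at this
  have hSN : S ≤ Subgroup.normalizer (T : Set Ω) := by
    intro s hs
    apply mem_normalizer_of_conj
    · intro x hx
      exact strong (le_refl T) (Mp.conj hTS hs) x hx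
    · intro x hx
      exact strong (le_refl T) (Mp.conj hTS (S.inv_mem hs)) x hx |> fun h => by simpa using h
  -- membership criterion for `U`
  have hmemU : ∀ {x}, x ∈ S → (∃ t ∈ T, ∀ y ∈ T, x * y * x⁻¹ = t * y * t⁻¹) → x ∈ U := by
    rintro x hxS ⟨t, ht, hty⟩
    have h1 : t⁻¹ * x ∈ centralizerIn S T := by
      refine mem_centralizerIn.mpr ⟨S.mul_mem (S.inv_mem (hTS ht)) hxS, fun y hy => ?_⟩
      have h8 : x * y = t * y * t⁻¹ * x := by
        rw [← hty y hy]; group
      calc y * (t⁻¹ * x) = t⁻¹ * (t * y * t⁻¹ * x) := by group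
        _ = t⁻¹ * (x * y) := by rw [h8]
        _ = _ := by group
    have h2 : x = t * (t⁻¹ * x) := by group
    rw [h2]
    exact U.mul_mem (Subgroup.mem_sup_left ht) (Subgroup.mem_sup_right h1)
  have hconjU : ∀ {x}, x ∈ U → ∃ t ∈ T, ∀ y ∈ T, x * y * x⁻¹ = t * y * t⁻¹ := by
    intro x hx
    rw [hU, sup_comm] at hx
    obtain ⟨c, hc, t, ht, rfl⟩ := mem_sup_of_le_normalizer (fun a ha => hSN (mem_centralizerIn.mp ha).1) hx
    obtain ⟨-, hc'⟩ := mem_centralizerIn.mp hc
    refine ⟨t, ht, fun y hy => ?_⟩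
    have hty : t * y * t⁻¹ ∈ T := T.mul_mem (T.mul_mem ht hy) (T.inv_mem ht)
    have h1 : c * (t * y * t⁻¹) = (t * y * t⁻¹) * c := (hc' _ hty).symm
    calc c * t * y * (c * t)⁻¹ = (c * (t * y * t⁻¹)) * c⁻¹ := by group
      _ = (t * y * t⁻¹) * c * c⁻¹ := by rw [h1]
      _ = _ := by group
  -- main induction on the index
  have key : ∀ n : ℕ, ∀ P : Subgroup Ω, P ≤ U → Nat.card S - Nat.card P = n → ∀ f, Mp F P f → ∀ x ∈ P, f x ∈ U := by
    intro n
    induction n using Nat.strong_induction_on with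
    | _ n ih =>
      intro P hPU hn f hf
      have hPS := hPU.trans hUS
      have IH : ∀ K, K ≤ U → Nat.card P < Nat.card K → ∀ h, Mp F K h → ∀ x ∈ K, h x ∈ U := by
        intro K hK hlt h hh
        have hK' := card_le_of_le (S := S) le_rfl (hK.trans hUS)
        exact ih (Nat.card S - Nat.card K) (by omega) K hK rfl h hh
      by_cases hTP : T ≤ P
      · -- the base case
        intro x hx
        have hI := Iso.of_mp hf
        have hfT : ∀ t ∈ T, f t ∈ T := fun t ht => strong (le_refl T) (hf.restrict hTP) t ht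
        have hIT : Iso F T T f := Iso.of_maps (hf.restrict hTP) hfT
        obtain ⟨k, hk, hk1, hk2⟩ := hIT.inv
        obtain ⟨t, ht, hty⟩ := hconjU (hPU hx)
        refine hmemU (hf.mem hx) ⟨f t, hfT t ht, fun y hy => ?_⟩
        have hky := hk.maps y hy
        have h1 := hty _ hky
        have h2 : f (x * k y * x⁻¹) = f x * y * (f x)⁻¹ := by
          rw [hf.map_mul (P.mul_mem hx (hTP hky)) (P.inv_mem hx), hf.map_mul hx (hTP hky), hf.map_inv hx, hk2 y hy]
        rw [← h2, h1, hf.map_mul (P.mul_mem (hTP ht) (hTP hky)) (P.inv_mem (hTP ht)),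
          hf.map_mul (hTP ht) (hTP hky), hf.map_inv (hTP ht), hk2 y hy]
      · -- `T` is not contained in `P`
        obtain ⟨Q, f₀, hQ, hf₀⟩ := exists_far hF hPS
        obtain ⟨h, hh, hI⟩ := exists_ext_normalizer hS hQ (isConj_iff.mpr ⟨f₀, hf₀⟩)
        have hP'S : hf.img ≤ S := by
          intro y hy
          obtain ⟨x, hx, rfl⟩ := (Mp.mem_img hf).mp hy
          exact hf.mem hx
        have hIP' := Iso.of_mp hf
        obtain ⟨h', hh', hI'⟩ := exists_ext_normalizer hS hQ
          (isConj_trans (isConj_symm (isConj_iff.mpr ⟨f, hIP'⟩)) (isConj_iff.mpr ⟨f₀, hf₀⟩))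
        -- growth inside `P T`
        have growth : ∀ R : Subgroup Ω, R ≤ S → ¬ T ≤ R → ∃ t ∈ T, t ∈ Subgroup.normalizer (R : Set Ω) ∧ t ∉ R := by
          intro R hR hTR
          have hH : R ⊔ T ≤ S := sup_le hR hTS
          have : Finite ↥(R ⊔ T) := finite_of_le hH
          have hne : R ≠ R ⊔ T := fun h => hTR (le_sup_right.trans (le_of_eq h.symm))
          obtain ⟨x, hx, hxR⟩ := exists_normalizer_not_mem (hS.to_le hH) (le_sup_left : R ≤ R ⊔ T) hne
          obtain ⟨hx1, hx2⟩ := mem_normalizerIn.mp hx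
          obtain ⟨r, hr, t, ht, rfl⟩ := mem_sup_of_le_normalizer (fun a ha => hSN (hR ha)) hx1
          have hrN := (le_normalizerIn hR hr).2
          refine ⟨t, ht, ?_, fun htR => hxR (R.mul_mem hr htR)⟩
          have := Subgroup.mul_mem _ (Subgroup.inv_mem _ hrN) hx2
          simpa using this
        -- Step I : `Q ≤ U`
        obtain ⟨t, htT, htN, htP⟩ := growth P hPS hTP
        have hK1 : P ≤ normalizerIn U P := fun x hx => ⟨hPU hx, (le_normalizerIn hPS hx).2⟩
        have hK1lt : P < normalizerIn U P :=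
          lt_of_le_of_ne hK1 fun h => htP (h ▸ ⟨Subgroup.mem_sup_left htT, htN⟩)
        have hK1S : normalizerIn U P ≤ S := inf_le_left.trans hUS
        have hK1N : normalizerIn U P ≤ normalizerIn S P := fun x hx => ⟨hUS hx.1, hx.2⟩
        have hstep1 := IH _ inf_le_left (card_lt_of_lt hK1S hK1lt) h (hh.restrict hK1N)
        have hQU : Q ≤ U := by
          intro y hy
          obtain ⟨x, hx, rfl⟩ := hI.surj y hy
          exact hstep1 x (hK1 hx)
        -- Step II : `P' ≤ U`
        obtain ⟨k, hk, hk1, hk2⟩ := hIP'.inv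
        have hTP' : ¬ T ≤ hf.img := by
          intro hle
          apply hTP
          have hkT : ∀ y ∈ T, k y ∈ T := fun y hy => strong (le_refl T) (hk.mp.restrict hle) y hy
          have hIT : Iso F T T k := Iso.of_maps (hk.mp.restrict hle) hkT
          intro y hy
          obtain ⟨z, hz, rfl⟩ := hIT.surj y hy
          exact hk.maps z (hle hz)
        obtain ⟨t', ht'T, ht'N, ht'P⟩ := growth _ hP'S hTP'
        have hH : hf.img ⊔ T ≤ S := sup_le hP'S hTS
        set K₂ := normalizerIn (hf.img ⊔ T) hf.img with hK₂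
        have hK₂N : K₂ ≤ normalizerIn S hf.img := fun x hx => ⟨hH hx.1, hx.2⟩
        have hK₂P : hf.img ≤ K₂ := fun x hx =>
          ⟨Subgroup.mem_sup_left hx, (le_normalizerIn hP'S hx).2⟩
        have hK₂lt : hf.img < K₂ :=
          lt_of_le_of_ne hK₂P fun h => ht'P (h ▸ ⟨Subgroup.mem_sup_right ht'T, ht'N⟩)
        have hh₂ := hh'.restrict hK₂N
        have hW : hh₂.img ≤ U := by
          intro y hy
          obtain ⟨x, hx, rfl⟩ := (Mp.mem_img hh₂).mp hy
          obtain ⟨r, hr, t₁, ht₁, rfl⟩ := mem_sup_of_le_normalizer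
            (fun a ha => hSN (hP'S ha)) hx.1
          have hrK : r ∈ K₂ := hK₂P hr
          have ht₁K : t₁ ∈ K₂ := by
            have h1 := K₂.mul_mem (K₂.inv_mem hrK) hx
            simpa using h1
          rw [hh₂.map_mul hrK ht₁K]
          refine U.mul_mem (hQU (hI'.maps r hr)) (Subgroup.mem_sup_left ?_)
          exact strong (P := T ⊓ K₂) inf_le_left (hh₂.restrict inf_le_right) t₁ ⟨ht₁, ht₁K⟩
        obtain ⟨k₂, hk₂, hk₂1, hk₂2⟩ := hh₂.inv
        have hcardW : Nat.card K₂ = Nat.card hh₂.img := (Iso.of_mp hh₂).card_eq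
        have hcard2 : Nat.card P < Nat.card hh₂.img := by
          rw [← hcardW, hIP'.card_eq]
          exact card_lt_of_lt (inf_le_left.trans hH) hK₂lt
        have hstep2 := IH _ hW hcard2 k₂ hk₂
        intro x hx
        have hy : f x ∈ hf.img := hIP'.maps x hx
        have h3 := hstep2 (h' (f x)) ((Mp.mem_img hh₂).mpr ⟨f x, hK₂P hy, rfl⟩)
        rwa [hk₂1 _ (hK₂P hy)] at h3
  refine ⟨hUS, fun R hR φ hφ x => ?_⟩
  have := key _ R hR rfl _ (mp_of_mem hφ) x x.2
  rwa [toFun_coe] at this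

end Cfsg.Agent.S5255
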