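import Cfsg.Statements.S5265
import Cfsg.Agent.Lib.H25.TvJ

set_option autoImplicit false
open Cfsg

namespace Cfsg.Agent.S5265

open Cfsg.Agent.H25 Cfsg.FusionSystem

/-- Let p be a prime, S a nontrivial finite p-group whose centre has index at most p², and F a saturated fusion system over S with no nontrivial normal subgroup and with hyperfocal subgroup equal to S. Then S is extraspecial of order p³; for odd p it has exponent p, and for p = 2 it is dihedral of order 8. -/
theorem result {Ω : Type*} [Group Ω] {S : Subgroup Ω} [Finite S] (p : ℕ) [Fact p.Prime] (hS : IsPGroup p ↥S) (F : Cfsg.FusionSystem S) (hF : F.IsSaturated p) (hS1 : S ≠ ⊥) (hcore : F.core = ⊥) (hhyp : F.hyperfocalSubgroup p = S) (hZ : (Subgroup.center ↥S).index ≤ p ^ 2) : Cfsg.IsExtraspecial p ↥S ∧ Nat.card S = p ^ 3 ∧ (p ≠ 2 → Monoid.exponent ↥S = p) ∧ (p = 2 → Nonempty (↥S ≃* DihedralGroup 4)) := by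
  classical
  have hp := (Fact.out : p.Prime)
  have hcoreS : F.core ≠ S := by
    intro h
    rw [hcore] at h
    exact hS1 h.symm
  obtain ⟨E, hE⟩ := exists_essential hS hF hcoreS
  have hES : E ≤ S := hE.1.1
  have hna' : ∃ a b : ↥S, a * b ≠ b * a := by
    by_contra hcon
    push Not at hcon
    have h1 : S ≤ E := by
      intro s hs
      refine hE.1.2 E (isConj_refl hES) (mem_centralizerIn.mpr ⟨hs, fun y hy => ?_⟩)
      exact congrArg Subtype.val (hcon ⟨y, hES hy⟩ ⟨s, hs⟩)
    have h2 : E = S := le_antisymm hES h1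
    subst h2
    exact essential_ne_self hS hF hE
  obtain ⟨K₀, hK₀Z, hK₀p, hK₀c⟩ := exists_K hS hna' hZ
  have hC : TvC F p (K₀.map S.subtype) := by
    refine ⟨hS, hF, Subgroup.map_subtype_le _, ?_, ?_, ?_, ?_⟩
    · rintro _ ⟨k, hk, rfl⟩
      rw [Subgroup.mem_centralizer_iff]
      intro s hs
      have := Subgroup.mem_center_iff.1 (hK₀Z hk) ⟨s, hs⟩
      exact congrArg Subtype.val this
    · rw [Subgroup.card_map_of_injective S.subtype_injective]
      exact hK₀p
    · intro s hs t ht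
      exact ⟨_, hK₀c ⟨s, hs⟩ ⟨t, ht⟩, rfl⟩
    · obtain ⟨a, b, hab⟩ := hna'
      exact ⟨a, a.2, b, b.2, fun h => hab (Subtype.ext h)⟩
  obtain ⟨K, hK⟩ : ∃ K, K = K₀.map S.subtype := ⟨_, rfl⟩
  rw [← hK] at hC
  obtain ⟨hP, a, ha, t, htK, hat⟩ := ess_tvp hC hE
  by_cases hp2 : p = 2
  · subst hp2
    have hKnt : Nontrivial K := by
      haveI hfinK : Finite K := finite_of_le hC.hKS
      apply (Finite.one_lt_card_iff_nontrivial).1
      rw [hC.hKp]
      exact one_lt_two
    obtain ⟨⟨k₀, hk₀⟩, hk₀n⟩ := exists_ne (1 : K)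
    have hk₀1 : k₀ ≠ 1 := fun h => hk₀n (Subtype.ext h)
    have hZK := two_main hC hk₀ hk₀1 hcore hhyp
    obtain ⟨hX, hcard⟩ := extra_final hC hZK hP
    refine ⟨hX, hcard, fun h => absurd rfl h, fun _ => ?_⟩
    have hk₀E : k₀ ∈ E := hP.zl (hC.kz hk₀)
    have hM₁ : Mvg F k₀ E := by
      refine ⟨hk₀E, a, ha, fun h => ?_⟩
      have hk1 : (⟨k₀, hk₀E⟩ : E) ≠ 1 := fun h' => hk₀1 (congrArg Subtype.val h')
      have hkK : ((⟨k₀, hk₀E⟩ : E) : Ω) ∈ K := hk₀
      rcases K_two hC hkK hk1 t htK with h1 | h1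
      · apply hat
        rw [h1, map_one]
        exact K.one_mem
      · apply hat
        rw [h1, h]
        exact hk₀
    obtain ⟨y, hyE, hyZ, hysq, -⟩ := mvg_data hC hk₀ hk₀1 hP hM₁
    exact dih_final hC hZK hk₀ hk₀1 hP hyE hyZ hysq (by rw [hcard]; norm_num)
  · have hZK := odd_main hC hp2 hcore
    obtain ⟨hX, hcard⟩ := extra_final hC hZK hP
    refine ⟨hX, hcard, fun _ => ?_, fun h => absurd h hp2⟩
    obtain ⟨x, hxS, hxP⟩ := hP.exists_x
    obtain ⟨u, huC, -⟩ := exists_isC (F := F) hP.le hxS (hP.normal hC hxS)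
    have hne : imO a K ≠ K := by
      intro h
      apply hat
      rw [← h, mem_imO]
      simpa using htK
    have hexp := odd_exp hC hp2 hZK hP hxS hxP huC ha hne
    haveI hnt : Nontrivial ↥S := by
      obtain ⟨a', b', hab⟩ := hna'
      by_contra hc
      rw [not_nontrivial_iff_subsingleton] at hc
      exact hab (Subsingleton.elim _ _)
    rw [Monoid.exponent_eq_prime_iff hp]
    intro g hg
    exact orderOf_eq_prime (Subtype.ext (hexp g g.2)) hg

end Cfsg.Agent.S5265
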