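import Cfsg.Statements.S5270
import Cfsg.Agent.Lib.H25.FusEss2
import Cfsg.Agent.Lib.H25.MaxClass

set_option autoImplicit false
open Cfsg

namespace Cfsg.Agent.S5270

open Cfsg.Agent.H25 Cfsg.FusionSystem

theorem aux {Ω : Type*} [Group Ω] {S : Subgroup Ω} [Finite S] {p : ℕ} [Fact p.Prime] (hS : IsPGroup p ↥S)
    {F : Cfsg.FusionSystem S} (hF : F.IsSaturated p) (Z2 Z1 : Subgroup Ω)
    (hZ2card : Nat.card Z2 = p ^ 2) (hZ1card : Nat.card Z1 = p) (hZ1Z2 : Z1 ≤ Z2) (hZ2S : Z2 ≤ S)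
    (hZ2N : S ≤ Subgroup.normalizer (Z2 : Set Ω)) (hZ1central : ∀ z ∈ Z1, ∀ s ∈ S, s * z = z * s)
    (hZ2comm1 : ∀ x ∈ Z2, ∀ s ∈ S, s * x * s⁻¹ * x⁻¹ ∈ Z1)
    (hZ1mem : ∀ x ∈ S, (∀ s ∈ S, s * x = x * s) → x ∈ Z1)
    (φ : ↥Z2 →* Ω) (hφ : φ ∈ F.Hom Z2) (hφZ : φ.range = Z2)
    (hmove : ∃ (z : Ω) (hz : z ∈ Z2), z ∈ Z1 ∧ φ ⟨z, hz⟩ ∉ Z1) : F.IsEssential p (S ⊓ Subgroup.centralizer (Z2 : Set Ω)) := by
  classical
  set C := S ⊓ Subgroup.centralizer (Z2 : Set Ω) with hCdef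
  have hZ2ab : ∀ a b : Z2, a * b = b * a := (IsPGroup.isMulCommutative_of_card_eq_prime_sq hZ2card).is_comm.comm
  haveI hZ2fin : Finite Z2 := finite_of_le hZ2S
  have hZ2comm : ∀ x ∈ Z2, ∀ y ∈ Z2, x * y = y * x := by
    intro x hx y hy
    have h1 := hZ2ab ⟨x, hx⟩ ⟨y, hy⟩
    exact congrArg Subtype.val h1
  -- commuting with an element outside `Z(S)`
  have hcommZ2 : ∀ y ∈ S, ∀ w ∈ Z2, w ∉ Z1 → y * w = w * y → y ∈ C := by
    intro y hy w hw hwZ hyw
    refine Subgroup.mem_inf.mpr ⟨hy, ?_⟩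
    let H : Subgroup Ω := Z2 ⊓ Subgroup.centralizer ({y} : Set Ω)
    have hH : H = Z2 := by
      have hle : H ≤ Z2 := inf_le_left
      have hZ1H : Z1 ≤ H := fun z hz => Subgroup.mem_inf.mpr ⟨hZ1Z2 hz,
        Subgroup.mem_centralizer_singleton_iff.mpr (hZ1central z hz y hy).symm⟩
      have hwH : w ∈ H := Subgroup.mem_inf.mpr ⟨hw, Subgroup.mem_centralizer_singleton_iff.mpr hyw.symm⟩
      have hdvd := Subgroup.card_dvd_of_le hle
      rw [hZ2card] at hdvd
      obtain ⟨j, hj, hcard⟩ := (Nat.dvd_prime_pow Fact.out).mp hdvd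
      have hlt : Nat.card Z1 < Nat.card H := card_lt_of_lt (S := S) (hle.trans hZ2S)
        (lt_of_le_of_ne hZ1H fun h => hwZ (h ▸ hwH))
      rw [hZ1card, hcard] at hlt
      have hp1 := (Fact.out : p.Prime).one_lt
      have hj2 : j = 2 := by
        interval_cases j
        · simp at hlt; omega
        · simp at hlt
        · rfl
      apply Subgroup.eq_of_le_of_card_ge hle
      rw [hcard, hj2, hZ2card]
    rw [Subgroup.mem_centralizer_iff]
    intro v hv
    have h1 : v ∈ H := by rw [hH]; exact hv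
    exact Subgroup.mem_centralizer_singleton_iff.mp (Subgroup.mem_inf.mp h1).2
  -- properties of `C`
  have hCS : C ≤ S := inf_le_left
  haveI hCfin : Finite C := finite_of_le hCS
  have hCeq : C = centralizerIn S Z2 := rfl
  have hZ2C : Z2 ≤ C := fun x hx => Subgroup.mem_inf.mpr ⟨hZ2S hx, by
    rw [Subgroup.mem_centralizer_iff]
    intro v hv
    exact hZ2comm v hv x hx⟩
  have hSNC : S ≤ Subgroup.normalizer (C : Set Ω) := by
    intro s hs
    rw [Subgroup.mem_normalizer_iff]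
    have key : ∀ (t : Ω), t ∈ S → ∀ x ∈ C, t * x * t⁻¹ ∈ C := by
      intro t ht x hx
      refine Subgroup.mem_inf.mpr ⟨S.mul_mem (S.mul_mem ht (hCS hx)) (S.inv_mem ht), ?_⟩
      rw [Subgroup.mem_centralizer_iff]
      intro v hv
      have h1 : t⁻¹ * v * t ∈ Z2 := by
        have := (Subgroup.mem_normalizer_iff.mp (hZ2N (S.inv_mem ht)) v).mp hv
        simpa using this
      have h2 := Subgroup.mem_centralizer_iff.mp (Subgroup.mem_inf.mp hx).2 _ h1
      calc v * (t * x * t⁻¹) = t * ((t⁻¹ * v * t) * x) * t⁻¹ := by group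
        _ = t * (x * (t⁻¹ * v * t)) * t⁻¹ := by rw [h2]
        _ = _ := by group
    intro x
    refine ⟨fun hx => key s hs x hx, fun hx => ?_⟩
    have := key s⁻¹ (S.inv_mem hs) _ hx
    simpa [mul_assoc] using this
  have hCfar : Far F p C := far_of_fullyNormalized hS hF (fullyNormalized_of_normal hCS hSNC)
  have hZ2far : Far F p Z2 := far_of_fullyNormalized hS hF (fullyNormalized_of_normal hZ2S hZ2N)
  have hcc : centralizerIn S C ≤ C := by
    intro c hc
    obtain ⟨hcS, hc'⟩ := mem_centralizerIn.mp hc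
    refine Subgroup.mem_inf.mpr ⟨hcS, ?_⟩
    rw [Subgroup.mem_centralizer_iff]
    intro v hv
    exact hc' v (hZ2C hv)
  -- the extension of `φ`
  obtain ⟨z, hz, hzZ1, hzmove⟩ := hmove
  have hφI : Iso F Z2 Z2 (toFun φ) := by
    refine ⟨mp_of_mem hφ, fun x hx => ?_, fun y hy => ?_⟩
    · rw [toFun_coe φ ⟨x, hx⟩]
      have h : φ ⟨x, hx⟩ ∈ φ.range := ⟨_, rfl⟩
      rw [hφZ] at h
      exact h
    · have h : y ∈ φ.range := by rw [hφZ]; exact hy
      obtain ⟨x, rfl⟩ := h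
      exact ⟨x, x.2, toFun_coe φ x⟩
  obtain ⟨ψ, hψ, hψφ⟩ := recept_ext hZ2far.recep hφI hZ2C (by
    intro c hc
    obtain ⟨hcS, hc'⟩ := Subgroup.mem_inf.mp hc
    exact Subgroup.subset_closure (mem_good_of_centralizes hφI hcS
      (fun x hx => (Subgroup.mem_centralizer_iff.mp hc' x hx).symm)))
  have hψZ : Iso F Z2 Z2 ψ := hφI.congr fun x hx => (hψφ x hx).symm
  have hψC : ∀ c ∈ C, ψ c ∈ C := fun c hc =>
    maps_centralizer hψ hψZ hZ2C hc (Subgroup.mem_inf.mp hc).2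
  have hψI : Iso F C C ψ := Iso.of_maps hψ hψC
  obtain ⟨w, hwdef⟩ : ∃ w, w = ψ z := ⟨_, rfl⟩
  have hzval : w = φ ⟨z, hz⟩ := by
    rw [hwdef, hψφ z hz, toFun_coe φ ⟨z, hz⟩]
  have hwZ2 : w ∈ Z2 := hwdef ▸ hψZ.maps z hz
  have hwZ1 : w ∉ Z1 := by
    rw [hzval]
    exact hzmove
  -- the index
  have hNS : normalizerIn S C = S := le_antisymm inf_le_left (le_inf le_rfl hSNC)
  have hidx : (C.subgroupOf (normalizerIn S C)).index = p := by
    rw [hNS]
    let f : ↥S →* ↥Z1 := MonoidHom.mk' (fun s => ⟨(s : Ω) * w * (s : Ω)⁻¹ * w⁻¹, hZ2comm1 w hwZ2 s s.2⟩) (by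
      intro s t
      apply Subtype.ext
      show ((s : Ω) * t) * w * ((s : Ω) * t)⁻¹ * w⁻¹ = ((s : Ω) * w * (s : Ω)⁻¹ * w⁻¹) * ((t : Ω) * w * (t : Ω)⁻¹ * w⁻¹)
      have h1 := hZ1central _ (hZ2comm1 w hwZ2 t t.2) s s.2
      calc ((s : Ω) * t) * w * ((s : Ω) * t)⁻¹ * w⁻¹
          = (s : Ω) * ((t : Ω) * w * (t : Ω)⁻¹ * w⁻¹) * (w * (s : Ω)⁻¹ * w⁻¹) := by group
        _ = ((t : Ω) * w * (t : Ω)⁻¹ * w⁻¹) * (s : Ω) * (w * (s : Ω)⁻¹ * w⁻¹) := by rw [h1]
        _ = ((t : Ω) * w * (t : Ω)⁻¹ * w⁻¹) * ((s : Ω) * w * (s : Ω)⁻¹ * w⁻¹) := by group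
        _ = _ := congrArg Subtype.val ((hZ2ab ⟨_, hZ1Z2 (hZ2comm1 w hwZ2 t t.2)⟩ ⟨_, hZ1Z2 (hZ2comm1 w hwZ2 s s.2)⟩)))
    have hker : C.subgroupOf S = f.ker := by
      ext s
      rw [Subgroup.mem_subgroupOf, MonoidHom.mem_ker]
      constructor
      · intro hs
        apply Subtype.ext
        show (s : Ω) * w * (s : Ω)⁻¹ * w⁻¹ = 1
        have h1 := Subgroup.mem_centralizer_iff.mp (Subgroup.mem_inf.mp hs).2 w hwZ2
        rw [← h1]
        group
      · intro hs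
        have h1 : (s : Ω) * w * (s : Ω)⁻¹ * w⁻¹ = 1 := congrArg Subtype.val hs
        apply hcommZ2 _ s.2 w hwZ2 hwZ1
        have h2 : (s : Ω) * w * (s : Ω)⁻¹ = w := by
          have := mul_inv_eq_one.mp h1
          exact this
        calc (s : Ω) * w = ((s : Ω) * w * (s : Ω)⁻¹) * s := by group
          _ = w * s := by rw [h2]
    rw [hker, Subgroup.index_ker]
    have hdvd : Nat.card f.range ∣ p := by
      rw [← hZ1card]
      exact Subgroup.card_subgroup_dvd_card _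
    rcases (Nat.dvd_prime Fact.out).mp hdvd with h | h
    · exfalso
      have hrange : f.range = ⊥ := Subgroup.card_eq_one.mp h |>.trans rfl
      apply hwZ1
      have hwc : ∀ s : S, (s : Ω) * w * (s : Ω)⁻¹ * w⁻¹ = 1 := by
        intro s
        have h1 : f s ∈ f.range := ⟨s, rfl⟩
        rw [hrange] at h1
        exact congrArg Subtype.val (Subgroup.mem_bot.mp h1)
      apply hZ1mem w (hZ2S hwZ2)
      intro s hs
      have h2 : s * w * s⁻¹ = w := mul_inv_eq_one.mp (hwc ⟨s, hs⟩)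
      calc s * w = (s * w * s⁻¹) * s := by group
        _ = w * s := by rw [h2]
    · exact h
  -- an element outside `C`
  have hCne : C ≠ S := by
    intro h
    have h1 := hidx
    rw [hNS, h] at h1
    have h2 : S.subgroupOf S = ⊤ := by
      rw [Subgroup.subgroupOf_eq_top]
    rw [h2, Subgroup.index_top] at h1
    have hp1 := (Fact.out : p.Prime).one_lt
    omega
  obtain ⟨g, hgS, hgC⟩ : ∃ g ∈ S, g ∉ C := by
    by_contra hcon
    push Not at hcon
    exact hCne (le_antisymm hCS hcon)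
  have hgN : g ∈ normalizerIn S C := ⟨hgS, hSNC hgS⟩
  have hβI := Iso.conj_normalizer (F := F) hCS hgS (hSNC hgS)
  refine essential_of_prime_index hS hCfar hcc hidx (autOfIso_mem hψI) hgN (autOfIso_mem hβI) (fun x => rfl) ?_
  intro s hsS hs
  -- conjugation relation
  have hrel : ∀ y (hy : y ∈ C), ψ (g * y * g⁻¹) = s * ψ y * s⁻¹ := by
    intro y hy
    have h1 := hs (autOfIso hψI ⟨y, hy⟩)
    have h2 : (autOfIso hψI * autOfIso hβI * (autOfIso hψI)⁻¹) (autOfIso hψI ⟨y, hy⟩) =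
        autOfIso hψI (autOfIso hβI ⟨y, hy⟩) := by
      simp [MulAut.mul_apply]
    rw [h2] at h1
    exact h1
  have hzC := hZ2C hz
  have h1 := hrel z hzC
  have hgz : g * z * g⁻¹ = z := by
    rw [hZ1central z hzZ1 g hgS]
    group
  rw [hgz] at h1
  have hsw : s * w = w * s := by
    calc s * w = (s * w * s⁻¹) * s := by group
      _ = w * s := by rw [hwdef, ← h1]
  have hsC := hcommZ2 s hsS w hwZ2 hwZ1 hsw
  apply hgC
  refine Subgroup.mem_inf.mpr ⟨hgS, ?_⟩
  rw [Subgroup.mem_centralizer_iff]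
  intro y hy
  have hyC := hZ2C hy
  have h3 := hrel y hyC
  have hψy : ψ y ∈ Z2 := hψZ.maps y hy
  have h4 : s * ψ y * s⁻¹ = ψ y := by
    rw [← Subgroup.mem_centralizer_iff.mp (Subgroup.mem_inf.mp hsC).2 _ hψy]
    group
  rw [h4] at h3
  have hgyC : g * y * g⁻¹ ∈ C := conj_mem_of_normalizer (hSNC hgS) hyC
  have h5 := hψ.inj hgyC hyC h3
  calc y * g = (g * y * g⁻¹) * g := by rw [h5]
    _ = g * y := by group


/-- Let p ≥ 5 be a prime, S a finite p-group of maximal class of order p^n with n ≥ 4, and F a saturated fusion system over S. If some map of F defined on the second centre Z₂(S) with image Z₂(S) does not carry Z(S) into itself, then the centralizer C_S(Z₂(S)) is an F-essential subgroup. -/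
theorem result {Ω : Type*} [Group Ω] {S : Subgroup Ω} [Finite S] (p : ℕ) [Fact p.Prime] (hS : IsPGroup p ↥S) (n : ℕ) (hn : Nat.card S = p ^ n) (h4 : 4 ≤ n) (hmax : Subgroup.lowerCentralSeries S (n - 2) ≠ ⊥) (F : Cfsg.FusionSystem S) (hF : F.IsSaturated p) (hp : 5 ≤ p) (φ : ↥((Subgroup.upperCentralSeries ↥S 2).map S.subtype) →* Ω) (hφ : φ ∈ F.Hom ((Subgroup.upperCentralSeries ↥S 2).map S.subtype)) (hφZ : φ.range = ((Subgroup.upperCentralSeries ↥S 2).map S.subtype)) (hmove : ∃ (z : Ω) (hz : z ∈ ((Subgroup.upperCentralSeries ↥S 2).map S.subtype)), z ∈ ((Subgroup.center ↥S).map S.subtype) ∧ φ ⟨z, hz⟩ ∉ ((Subgroup.center ↥S).map S.subtype)) : F.IsEssential p (S ⊓ Subgroup.centralizer (((Subgroup.upperCentralSeries ↥S 2).map S.subtype) : Set Ω)) := by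
  classical
  have hmax' : (⊤ : Subgroup ↥S).lowerCentralSeries (n - 2) ≠ ⊥ := by
    intro h
    apply hmax
    rw [← Subgroup.top_subtype_lowerCentralSeries, h, Subgroup.map_bot]
  obtain ⟨-, hcards⟩ := card_upperCentralSeries_of_maxClass hS hn (by omega) hmax'
  have hc2 : Nat.card (Subgroup.upperCentralSeries ↥S 2) = p ^ 2 := hcards 2 (by omega)
  have hc1 : Nat.card (Subgroup.center ↥S) = p := by
    have := hcards 1 (by omega)
    rwa [Subgroup.upperCentralSeries_one, pow_one] at this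
  have hZ2card : Nat.card ((Subgroup.upperCentralSeries ↥S 2).map S.subtype) = p ^ 2 := by
    rw [← hc2]
    exact Nat.card_congr (Subgroup.equivMapOfInjective _ _ S.subtype_injective).symm.toEquiv
  have hZ1card : Nat.card ((Subgroup.center ↥S).map S.subtype) = p := by
    rw [← hc1]
    exact Nat.card_congr (Subgroup.equivMapOfInjective _ _ S.subtype_injective).symm.toEquiv
  have hZ1Z2 : (Subgroup.center ↥S).map S.subtype ≤ (Subgroup.upperCentralSeries ↥S 2).map S.subtype := by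
    apply Subgroup.map_mono
    rw [← Subgroup.upperCentralSeries_one]
    exact Subgroup.upperCentralSeries_mono _ (by omega)
  refine aux hS hF _ _ hZ2card hZ1card hZ1Z2 (Subgroup.map_subtype_le _) (le_normalizer_map_normal _) ?_ (fun x hx s hs => comm_mem_center_map hx hs) ?_ φ hφ hφZ hmove
  · rintro _ ⟨z, hz, rfl⟩ s hs
    have := Subgroup.mem_center_iff.mp hz ⟨s, hs⟩
    exact congrArg Subtype.val this
  · intro x hx hc
    refine ⟨⟨x, hx⟩, ?_, rfl⟩
    apply Subgroup.mem_center_iff.mpr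
    intro s
    exact Subtype.ext (hc s s.2)

end Cfsg.Agent.S5270
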