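import Cfsg.Statements.S5274
import Cfsg.Agent.S5255
import Cfsg.Agent.Lib.H25.FusCyc

set_option autoImplicit false
open Cfsg

namespace Cfsg.Agent.S5274

open Cfsg.FusionSystem Cfsg.Agent.H25

/-- Let F be a saturated fusion system over a finite 2-group S. Suppose that every element of S is F-conjugate to an element of the centre Z(S) (some map of F defined on the cyclic subgroup it generates sends it into Z(S)). Then S is abelian. -/
theorem result {Ω : Type*} [Group Ω] {S : Subgroup Ω} [Finite S] (hS : IsPGroup 2 ↥S) (F : Cfsg.FusionSystem S) (hF : F.IsSaturated 2) (h : ∀ x ∈ S, ∃ z ∈ S ⊓ Subgroup.centralizer (S : Set Ω), F.IsConjElt x z) : IsMulCommutative ↥S := by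
  classical
  have zle : ∀ {z}, z ∈ S ⊓ Subgroup.centralizer (S : Set Ω) → Subgroup.zpowers z ≤ S ⊓ Subgroup.centralizer (S : Set Ω) := by
    intro z hz
    rwa [Subgroup.zpowers_le]
  -- step 1: `x ~ x⁻¹` implies `x² = 1`.
  have step1 : ∀ x ∈ S, F.IsConjElt x x⁻¹ → x * x = 1 := by
    intro x hx hxi
    obtain ⟨z, hz, hxz⟩ := h x hx
    obtain ⟨g, hg, hgx⟩ := isConjElt_iso hxz
    obtain ⟨f, hf, hfx⟩ := isConjElt_iso hxi
    rw [Subgroup.zpowers_inv] at hf
    obtain ⟨k, hk, hk1, hk2⟩ := hg.inv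
    have hα := (hk.comp hf).comp hg
    have hxm := mem_zpowers_self x
    have hzm := mem_zpowers_self z
    have hkz : k z = x := by rw [← hgx]; exact hk1 x hxm
    have hαz : (g ∘ (f ∘ k)) z = z⁻¹ := by
      simp only [Function.comp]
      rw [hkz, hfx, hg.mp.map_inv hxm, hgx]
    obtain ⟨β₀, hβ₀, hβ₀z⟩ := central_extends hS hF (zle hz) (zle hz) hα
    have hβz : β₀ z = z⁻¹ := by rw [hβ₀z z hzm]; exact hαz
    have hzS : z ∈ S := hz.1
    set b := autOfIso hβ₀ with hb
    have hbA : b ∈ F.autGroup S := autOfIso_mem hβ₀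
    have hbz : ((b ⟨z, hzS⟩ : S) : Ω) = z⁻¹ := hβz
    have hbzi : ((b ⟨z, hzS⟩⁻¹ : S) : Ω) = z := by
      rw [map_inv]
      show ((b ⟨z, hzS⟩ : S) : Ω)⁻¹ = z
      rw [hbz, inv_inv]
    obtain ⟨a, m, hm, ho⟩ := Nat.exists_eq_two_pow_mul_odd (orderOf_pos b).ne'
    have hpowz : ∀ n : ℕ, (Even n → (((b ^ n) ⟨z, hzS⟩ : S) : Ω) = z) ∧ (Odd n → (((b ^ n) ⟨z, hzS⟩ : S) : Ω) = z⁻¹) := by
      intro n
      induction n with
      | zero => simp
      | succ n ih =>
        constructor
        · intro hn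
          have hn' : Odd n := by
            rcases Nat.even_or_odd n with h1 | h1
            · exact absurd hn (by simpa [Nat.even_add_one] using h1)
            · exact h1
          rw [pow_succ', MulAut.mul_apply]
          have h2 := ih.2 hn'
          have e : (b ^ n) ⟨z, hzS⟩ = (⟨z, hzS⟩ : S)⁻¹ := Subtype.ext h2
          rw [e]
          exact hbzi
        · intro hn
          have hn' : Even n := by
            rcases Nat.even_or_odd n with h1 | h1
            · exact h1
            · exact absurd hn (by simpa [Nat.odd_add_one] using h1)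
          rw [pow_succ', MulAut.mul_apply]
          have h2 := ih.1 hn'
          have e : (b ^ n) ⟨z, hzS⟩ = (⟨z, hzS⟩ : S) := Subtype.ext h2
          rw [e]
          exact hbz
    have hpow : (b ^ m) ^ 2 ^ a = 1 := by
      rw [← pow_mul, mul_comm, ← ho, pow_orderOf_eq_one]
    obtain ⟨s, hs, hsx⟩ := inner_of_pow hS hF (Subgroup.pow_mem _ hbA m) hpow
    have h3 := hsx ⟨z, hzS⟩
    rw [(hpowz m).2 hm] at h3
    have h4 : s * z = z * s := Subgroup.mem_centralizer_iff.mp hz.2 s hs
    have h5 : z⁻¹ = z := by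
      rw [h3]
      show s * z * s⁻¹ = z
      rw [h4]
      group
    have hzz : z * z = 1 := by
      have : z * z = z * z⁻¹ := by rw [h5]
      rw [this, mul_inv_cancel]
    apply hg.mp.inj (Subgroup.mul_mem _ hxm hxm) (Subgroup.one_mem _)
    rw [hg.mp.map_mul hxm hxm, hgx, hzz, hg.mp.map_one]
  -- step 2: involutions commute.
  have step2 : ∀ a ∈ S, ∀ b ∈ S, a * a = 1 → b * b = 1 → a * b = b * a := by
    intro a ha b hb haa hbb
    have hc : a * b ∈ S := S.mul_mem ha hb
    have hai : a⁻¹ = a := inv_eq_of_mul_eq_one_left haa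
    have hbi : b⁻¹ = b := inv_eq_of_mul_eq_one_left hbb
    have h1 : F.IsConjElt (a * b) (a * b)⁻¹ := by
      have hzS : Subgroup.zpowers (a * b) ≤ S := by rwa [Subgroup.zpowers_le]
      refine isConjElt_of_iso (Mp.conj hzS ha) ?_
      show a * (a * b) * a⁻¹ = (a * b)⁻¹
      rw [hai, mul_inv_rev, hai, hbi, ← mul_assoc, haa, one_mul]
    have h2 := step1 _ hc h1
    have h3 : a * b = (a * b)⁻¹ := (inv_eq_of_mul_eq_one_left h2).symm
    rw [mul_inv_rev, hai, hbi] at h3
    exact h3
  -- step 3: the subgroup generated by involutions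
  let A := Subgroup.closure {a : Ω | a ∈ S ∧ a * a = 1}
  have hAS : A ≤ S := (Subgroup.closure_le _).mpr fun a ha => ha.1
  have hAcomm : ∀ x ∈ A, ∀ y ∈ A, x * y = y * x := by
    intro x hx y hy
    have hc := Subgroup.isMulCommutative_closure (k := {a : Ω | a ∈ S ∧ a * a = 1})
      (fun a ha b hb => step2 a ha.1 b hb.1 ha.2 hb.2)
    have := hc.is_comm.comm ⟨x, hx⟩ ⟨y, hy⟩
    exact congrArg Subtype.val this
  have hAsq : ∀ x ∈ A, x * x = 1 := by
    intro x hx
    induction hx using Subgroup.closure_induction with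
    | mem x hx => exact hx.2
    | one => simp
    | mul a b ha hb iha ihb =>
      calc a * b * (a * b) = a * (b * a) * b := by group
        _ = a * (a * b) * b := by rw [hAcomm b hb a ha]
        _ = (a * a) * (b * b) := by group
        _ = 1 := by rw [iha, ihb, one_mul]
    | inv a _ iha =>
      rw [← mul_inv_rev, iha, inv_one]
  have hAsc : F.StronglyClosed A := by
    refine ⟨hAS, fun R hRA φ hφ x => ?_⟩
    refine Subgroup.subset_closure ⟨(F.le_of_mem hφ).2 x, ?_⟩
    rw [← map_mul]
    have : x * x = 1 := Subtype.ext (hAsq x (hRA x.2))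
    rw [this, map_one]
  have hU := Cfsg.Agent.S5255.result 2 hS F hF A hAsc
  -- step 4: everything centralizes `A`
  have hAC : A ≤ centralizerIn S A := fun a ha =>
    mem_centralizerIn.mpr ⟨hAS ha, fun y hy => hAcomm y hy a ha⟩
  have hUC : A ⊔ centralizerIn S A ≤ centralizerIn S A := sup_le hAC le_rfl
  have step4 : ∀ x ∈ S, ∀ a ∈ S, a * a = 1 → a * x = x * a := by
    intro x hx a ha haa
    obtain ⟨z, hz, hxz⟩ := h x hx
    obtain ⟨g, hg, hgx⟩ := isConjElt_iso hxz
    obtain ⟨k, hk, hk1, hk2⟩ := hg.inv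
    have hzU : Subgroup.zpowers z ≤ A ⊔ centralizerIn S A := by
      rw [Subgroup.zpowers_le]
      apply Subgroup.mem_sup_right
      refine mem_centralizerIn.mpr ⟨hz.1, fun y hy => ?_⟩
      exact (Subgroup.mem_centralizer_iff.mp hz.2 y (hAS hy))
    obtain ⟨φ, hφ, hφk⟩ := hk.mp
    have h1 := hU.2 _ hzU φ hφ ⟨z, mem_zpowers_self z⟩
    rw [hφk] at h1
    have hkz : k z = x := by rw [← hgx]; exact hk1 x (mem_zpowers_self x)
    simp only [hkz] at h1
    have h2 := hUC h1
    exact (mem_centralizerIn.mp h2).2 a (Subgroup.subset_closure ⟨ha, haa⟩)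
  -- step 5: induction on the order
  have step5 : ∀ n : ℕ, ∀ a ∈ S, orderOf a = n → ∀ s ∈ S, s * a = a * s := by
    intro n
    induction n using Nat.strong_induction_on with
    | _ n ih =>
      intro a ha hao s hs
      by_cases haa : a * a = 1
      · exact (step4 s hs a ha haa).symm
      -- `a²` is central
      have hlt : orderOf (a * a) < orderOf a := by
        obtain ⟨k, hk⟩ := hS ⟨a, ha⟩
        have hk' : a ^ 2 ^ k = 1 := congrArg Subtype.val hk
        obtain ⟨j, -, hj⟩ := (Nat.dvd_prime_pow Nat.prime_two).mp (orderOf_dvd_of_pow_eq_one hk')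
        have hj2 : 2 ≤ j := by
          by_contra hcon
          have : j ≤ 1 := by omega
          have h2 : orderOf a ∣ 2 := by
            rw [hj]
            exact pow_dvd_pow 2 this |>.trans (by norm_num)
          apply haa
          rw [← pow_two]
          exact orderOf_dvd_iff_pow_eq_one.mp h2
        obtain ⟨i, rfl⟩ : ∃ i, j = i + 1 := ⟨j - 1, by omega⟩
        rw [← pow_two, orderOf_pow' _ (by norm_num), hj, Nat.gcd_eq_right (by rw [pow_succ]; exact dvd_mul_left _ _)]
        rw [pow_succ, Nat.mul_div_cancel _ (by norm_num)]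
        have : 0 < 2 ^ i := by positivity
        omega
      have haaS : a * a ∈ S := S.mul_mem ha ha
      have haaZ : a * a ∈ S ⊓ Subgroup.centralizer (S : Set Ω) := by
        refine ⟨haaS, Subgroup.mem_centralizer_iff.mpr fun y hy => ?_⟩
        exact ih _ (hao ▸ hlt) _ haaS rfl y hy
      obtain ⟨z, hz, haz⟩ := h a ha
      obtain ⟨g, hg, hga⟩ := isConjElt_iso haz
      have hzz : z * z ∈ S ⊓ Subgroup.centralizer (S : Set Ω) := Subgroup.mul_mem _ hz hz
      have hle : Subgroup.zpowers (a * a) ≤ Subgroup.zpowers a := by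
        rw [Subgroup.zpowers_le]
        exact Subgroup.mul_mem _ (mem_zpowers_self a) (mem_zpowers_self a)
      have h1 : F.IsConjElt (a * a) (z * z) := by
        refine isConjElt_of_iso (hg.mp.restrict hle) ?_
        rw [hg.mp.map_mul (mem_zpowers_self a) (mem_zpowers_self a), hga]
      obtain ⟨g', hg', hg'a⟩ := isConjElt_iso h1
      obtain ⟨β, hβ, hβa⟩ := central_extends hS hF (zle haaZ) (zle hzz) hg'
      obtain ⟨k, hk, hk1, hk2⟩ := hβ.inv
      have hβa' : β (a * a) = z * z := by rw [hβa _ (mem_zpowers_self _), hg'a]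
      have hzS := hz.1
      set y := k z with hy
      have hyS : y ∈ S := hk.maps z hzS
      have hkz : k (z * z) = a * a := by
        rw [← hβa']
        exact hk1 _ haaS
      have hyy : y * y = a * a := by
        rw [hy, ← hk.mp.map_mul hzS hzS, hkz]
      have hyC : ∀ t ∈ S, t * y = y * t := by
        intro t ht
        obtain ⟨u, hu, rfl⟩ := hk.surj t ht
        rw [hy, ← hk.mp.map_mul hu hzS, ← hk.mp.map_mul hzS hu]
        rw [Subgroup.mem_centralizer_iff.mp hz.2 u hu]
      -- `t = a y⁻¹` is an involution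
      have htS : a * y⁻¹ ∈ S := S.mul_mem ha (S.inv_mem hyS)
      have hyiC : a * y⁻¹ = y⁻¹ * a := by
        have := hyC a ha
        calc a * y⁻¹ = y⁻¹ * (y * a) * y⁻¹ := by group
          _ = y⁻¹ * (a * y) * y⁻¹ := by rw [this]
          _ = _ := by group
      have htt : (a * y⁻¹) * (a * y⁻¹) = 1 := by
        calc (a * y⁻¹) * (a * y⁻¹) = a * (y⁻¹ * a) * y⁻¹ := by group
          _ = a * (a * y⁻¹) * y⁻¹ := by rw [hyiC]
          _ = (a * a) * (y * y)⁻¹ := by group
          _ = 1 := by rw [hyy, mul_inv_cancel]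
      have h5 := step4 s hs _ htS htt
      have e : a = (a * y⁻¹) * y := by group
      calc s * a = s * ((a * y⁻¹) * y) := by rw [← e]
        _ = (s * (a * y⁻¹)) * y := by group
        _ = ((a * y⁻¹) * s) * y := by rw [h5]
        _ = (a * y⁻¹) * (s * y) := by group
        _ = (a * y⁻¹) * (y * s) := by rw [hyC s hs]
        _ = ((a * y⁻¹) * y) * s := by group
        _ = a * s := by rw [← e]
  refine ⟨⟨fun a b => Subtype.ext ?_⟩⟩
  exact (step5 _ b b.2 rfl a a.2)

end Cfsg.Agent.S5274
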