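import Cfsg.Statements.S5295
import Cfsg.Agent.Lib.H25.GlJ2

set_option autoImplicit false
universe u
open Cfsg

namespace Cfsg.Agent.S5295

open Cfsg.Agent.H25 Cfsg.FusionSystem

/-- Let F be a saturated fusion system over a finite p-group S with p odd. Then the centre Z(F) of F is a direct factor of Z(S): there is a subgroup K of Z(S) with Z(F) ∩ K = 1 and Z(F)K = Z(S). (At the prime 2 this can fail.) -/
theorem result {Ω : Type u} [Group Ω] {S : Subgroup Ω} [Finite S] (p : ℕ) [Fact p.Prime] (hp : p ≠ 2) (hS : IsPGroup p S)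
    (F : Cfsg.FusionSystem S) (hF : F.IsSaturated p) :
    ∃ K : Subgroup Ω, K ≤ (S ⊓ Subgroup.centralizer (S : Set Ω)) ∧ F.center ⊓ K = ⊥ ∧ F.center ⊔ K = (S ⊓ Subgroup.centralizer (S : Set Ω)) := by
  classical
  have hW : FunctorHyp.{u} p WJ := functorHyp_WJ
  have hL : LocalFix.{u} p 0 WJ := localFix_J hp
  have hpp : p.Prime := Fact.out
  obtain ⟨J, hJd⟩ : ∃ J, J = WW WJ S := ⟨_, rfl⟩
  have hJS : J ≤ S := hJd ▸ WW_le S
  have hSN : S ≤ Subgroup.normalizer (J : Set Ω) := hJd ▸ S_le_norm_WW hW hS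
  have hNS : normalizerIn S J = S := inf_eq_left.mpr hSN
  have hsat : (normSys F J S hJS le_rfl hSN).IsSaturated p :=
    normSys_sat_of_eq hNS hS hF (far_of_fullyNormalized hS hF (fullyNormalized_of_normal' hJS hSN))
  have hJn : (normSys F J S hJS le_rfl hSN).IsNormal J := isNormal_normSys
  have hCJ : centralizerIn S J ≤ J := by
    intro x hx
    have hxS : x ∈ S := hx.1
    have hJT : J = thompsonSubgroupAOf S := by rw [hJd, WW_WJ]
    rw [hJT]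
    refine centralizer_thompson_le hxS ?_
    rw [← hJT]
    exact hx.2
  have hcon : (normSys F J S hJS le_rfl hSN).IsConstrained p := ⟨hsat, J, hJn, H24.centric_of_normal hJn hCJ⟩
  obtain ⟨L, _, ι, hfL, hr, ⟨T, hT⟩, hCL⟩ := H24.exists_model hS hcon
  have hιinj := hr.1
  obtain ⟨E₀, hE₀⟩ : ∃ E₀, E₀ = normSys F J S hJS le_rfl hSN := ⟨_, rfl⟩
  rw [← hE₀] at hr
  -- structure of the model
  obtain ⟨O, hO⟩ : ∃ O, O = pCore p L := ⟨_, rfl⟩
  rw [← hO] at hCL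
  haveI hOn : O.Normal := hO ▸ Cfsg.Agent.H01.pCore_normal p
  have hOT : O ≤ (T : Subgroup L) := hO ▸ Cfsg.Agent.H01.pCore_le_sylow p T
  obtain ⟨Zt, hZt⟩ : ∃ Zt, Zt = (T : Subgroup L) ⊓ Subgroup.centralizer ((T : Subgroup L) : Set L) := ⟨_, rfl⟩
  haveI hCOn : (Subgroup.centralizer (O : Set L)).Normal := normal_centralizer_of_normal O
  have hZtC : Zt ≤ Subgroup.centralizer (O : Set L) := by
    rw [hZt]
    intro x hx
    exact Subgroup.centralizer_le (fun y hy => hOT hy) hx.2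
  obtain ⟨B, hB⟩ : ∃ B, B = Subgroup.normalClosure (Zt : Set L) := ⟨_, rfl⟩
  haveI hBn : B.Normal := by
    rw [hB]
    infer_instance
  have hBC : B ≤ Subgroup.centralizer (O : Set L) := by
    rw [hB]
    exact Subgroup.normalClosure_le_normal hZtC
  have hBO : B ≤ O := hBC.trans hCL
  have hBab : ∀ a ∈ B, ∀ b ∈ B, a * b = b * a := fun a ha b hb =>
    (Subgroup.mem_centralizer_iff.mp (hBC ha) b (hBO hb)).symm
  have hZtB : Zt ≤ B := by
    rw [hB]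
    exact Subgroup.subset_normalClosure
  have hBT : B ≤ (T : Subgroup L) := hBO.trans hOT
  have hιZ : ∀ (w : S), (w : Ω) ∈ S ⊓ Subgroup.centralizer (S : Set Ω) → ι w ∈ Zt := by
    intro w hw
    rw [hZt]
    refine ⟨by rw [hT]; exact ⟨w, rfl⟩, ?_⟩
    show ι w ∈ Subgroup.centralizer _
    rw [Subgroup.mem_centralizer_iff]
    intro t ht
    rw [SetLike.mem_coe, hT] at ht
    obtain ⟨s, rfl⟩ := ht
    rw [← map_mul, ← map_mul]
    congr 1
    apply Subtype.ext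
    exact Subgroup.mem_centralizer_iff.mp hw.2 s s.2
  -- elements fixed by the model are not moved by the system
  have hnotmoves : ∀ y : S, (∀ g : L, g * ι y * g⁻¹ = ι y) → ¬ Moves E₀ (y : Ω) := by
    rintro y hy ⟨R, f, hf, hyR, hne⟩
    obtain ⟨g, hg⟩ := exists_conj_of_mp hr hf
    obtain ⟨h', h'', h1⟩ := hg ⟨y, hyR⟩
    rw [show (⟨((⟨y, hyR⟩ : R) : Ω), h''⟩ : S) = y from Subtype.ext rfl, hy g] at h1
    apply hne
    have := hιinj h1
    exact congrArg Subtype.val this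
  have hfixed_of_notmoves : ∀ y : S, (y : Ω) ∈ S ⊓ Subgroup.centralizer (S : Set Ω) → ¬ Moves E₀ (y : Ω) → ∀ g : L, g * ι y * g⁻¹ = ι y := by
    intro y hy hnm g
    have hzle : Subgroup.zpowers (y : Ω) ≤ S := (Subgroup.zpowers_le).mpr y.2
    obtain ⟨f, hf, hfv⟩ := mp_of_conj hr hzle g (by
      intro w
      obtain ⟨i, hi⟩ := w.2
      have h1 : ι (Subgroup.inclusion hzle w) = ι y ^ i := by
        rw [← map_zpow]
        congr 1
        apply Subtype.ext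
        simpa using hi.symm
      rw [h1]
      have h2 : g * ι y ^ i * g⁻¹ ∈ (T : Subgroup L) := by
        apply hBT
        exact hBn.conj_mem _ (B.zpow_mem (hZtB (hιZ y hy)) i) g
      rw [hT] at h2
      exact h2)
    obtain ⟨h', h2⟩ := hfv ⟨y, Subgroup.mem_zpowers _⟩
    have hfy : f y = y := by
      by_contra hne
      exact hnm ⟨_, f, hf, Subgroup.mem_zpowers _, hne⟩
    have h3 : (⟨f (y : Ω), h'⟩ : S) = y := Subtype.ext hfy
    have h4 : Subgroup.inclusion hzle (⟨y, Subgroup.mem_zpowers _⟩ : Subgroup.zpowers (y : Ω)) = y := Subtype.ext rfl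
    rw [h4] at h2
    change ι ⟨f (y : Ω), h'⟩ = _ at h2
    rw [h3] at h2
    exact h2.symm
  have hFE : ∀ y : Ω, ¬ Moves F y → ¬ Moves E₀ y := by
    rintro y hy ⟨R, f, hf, hyR, hne⟩
    rw [hE₀] at hf
    exact hy ⟨R, f, normSys_mp_F hf, hyR, hne⟩
  have hEN : ∀ y : Ω, ¬ Moves E₀ y → ¬ Moves (NSys F (WW WJ S) (WW_le S)) y := by
    rintro y hy ⟨R, f, hf, hyR, hne⟩
    refine hy ⟨R, f, ?_, hyR, hne⟩
    obtain ⟨hm, hR, hfR, ĥ, hĥ, hĥf, hg⟩ := (mp_NSys_iff (WW_le S)).mp hf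
    rw [hE₀]
    refine mp_normSys_iff'.mpr ⟨hm, hR.trans inf_le_left, fun x hx => (hfR x hx).1, ĥ, ?_, hĥf, ?_⟩
    · rw [hJd]
      exact hĥ
    · rw [hJd]
      exact hg
  -- transfer
  letI cB : CommGroup B := { (inferInstance : Group B) with mul_comm := fun a b => Subtype.ext (hBab a a.2 b b.2) }
  obtain ⟨Φ, hΦ⟩ : ∃ Φ : L →* MulAut B, Φ = MulAut.conjNormal := ⟨_, rfl⟩
  have hΦa : ∀ (g : L) (b : B), ((Φ g b : B) : L) = g * (b : L) * g⁻¹ := fun g b => by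
    rw [hΦ]
    exact MulAut.conjNormal_apply g b
  obtain ⟨ν, hν⟩ : ∃ ν, ν = trHom Φ (T : Subgroup L) := ⟨_, rfl⟩
  obtain ⟨m, hm⟩ : ∃ m, m = (T : Subgroup L).index := ⟨_, rfl⟩
  have hmp : ¬ p ∣ m := by
    rw [hm]
    exact T.not_dvd_index
  obtain ⟨Zs, hZs⟩ : ∃ Zs, Zs = S ⊓ Subgroup.centralizer (S : Set Ω) := ⟨_, rfl⟩
  rw [← hZs] at hιZ hfixed_of_notmoves ⊢
  have hZsS : Zs ≤ S := hZs ▸ inf_le_left
  obtain ⟨ι₀, hι₀⟩ : ∃ ι₀ : Zs →* B, ∀ w : Zs, ((ι₀ w : B) : L) = ι ⟨w, hZsS w.2⟩ := by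
    refine ⟨{ toFun := fun w => ⟨ι ⟨w, hZsS w.2⟩, hZtB (hιZ _ w.2)⟩, map_one' := ?_, map_mul' := ?_ }, fun w => rfl⟩
    · apply Subtype.ext
      exact map_one ι
    · intro a b
      apply Subtype.ext
      exact map_mul ι ⟨a, hZsS a.2⟩ ⟨b, hZsS b.2⟩
  have hι₀inj : Function.Injective ι₀ := by
    intro a b hab
    have h1 := congrArg Subtype.val hab
    rw [hι₀, hι₀] at h1
    have h2 := hιinj h1
    have h3 := congrArg Subtype.val h2
    exact Subtype.ext h3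
  have hνT : ∀ w : Zs, ∀ g : L, Φ g (ν (ι₀ w)) = ν (ι₀ w) := by
    intro w g
    rw [hν]
    refine trHom_fixed Φ _ (fun t ht => ?_) g
    apply Subtype.ext
    rw [hΦa, hι₀]
    have h1 := hιZ ⟨w, hZsS w.2⟩ w.2
    rw [hZt] at h1
    have h2 := Subgroup.mem_centralizer_iff.mp h1.2 t ht
    rw [h2]
    group
  have hcenterZ : F.center ≤ Zs := by
    intro x hx
    have hcent : F.IsCentral F.center := H24.isCentral_center
    have hxS : x ∈ S := hcent.1 hx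
    rw [hZs]
    refine ⟨hxS, Subgroup.mem_centralizer_iff.mpr fun s hs => ?_⟩
    have h1 := mem_center_iff_central hx
    have h2 : (fun y => s * y * s⁻¹) x = x := by
      by_contra hne
      exact h1 ⟨⊤ ⊓ S, _, Mp.conj inf_le_right hs, ⟨Subgroup.mem_top _, hxS⟩, hne⟩
    calc s * x = (s * x * s⁻¹) * s := by group
      _ = x * s := by rw [show s * x * s⁻¹ = x from h2]
  have hcfix : ∀ w : Zs, (w : Ω) ∈ F.center → ν (ι₀ w) = (ι₀ w) ^ m := by
    intro w hw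
    rw [hν, hm]
    refine trHom_of_fixed Φ _ (fun g => ?_)
    apply Subtype.ext
    rw [hΦa, hι₀]
    have h1 := hfixed_of_notmoves ⟨w, hZsS w.2⟩ w.2 (hFE _ (mem_center_iff_central hw))
    exact h1 g
  -- the complement
  obtain ⟨K, hK⟩ : ∃ K, K = ((ν.comp ι₀).ker).map Zs.subtype := ⟨_, rfl⟩
  have hKm : ∀ w (hw : w ∈ Zs), w ∈ K ↔ ν (ι₀ ⟨w, hw⟩) = 1 := by
    intro w hw
    rw [hK]
    constructor
    · rintro ⟨w', hw', rfl⟩
      exact hw'
    · intro h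
      exact ⟨⟨w, hw⟩, h, rfl⟩
  have hKZ : K ≤ Zs := by
    rw [hK]
    rintro _ ⟨w, -, rfl⟩
    exact w.2
  refine ⟨K, hKZ, ?_, ?_⟩
  · -- trivial intersection
    rw [eq_bot_iff]
    rintro c ⟨hc, hcK⟩
    have hcZ := hcenterZ hc
    have h1 := (hKm c hcZ).mp hcK
    rw [hcfix ⟨c, hcZ⟩ hc] at h1
    have h2 : (⟨c, hcZ⟩ : Zs) ^ m = 1 := by
      apply hι₀inj
      rw [map_pow, h1, map_one]
    have h3 : c ^ m = 1 := congrArg Subtype.val h2
    obtain ⟨k, hk⟩ := hS ⟨c, hZsS hcZ⟩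
    have h4 : c ^ p ^ k = 1 := congrArg Subtype.val hk
    have hcop : Nat.Coprime (p ^ k) m := Nat.Coprime.pow_left _ ((Nat.Prime.coprime_iff_not_dvd hpp).mpr hmp)
    have h5 := (pow_gcd_eq_one (a := c)).mpr ⟨h4, h3⟩
    rw [Nat.Coprime.gcd_eq_one hcop, pow_one] at h5
    exact h5
  · refine le_antisymm (sup_le hcenterZ hKZ) ?_
    intro w hw
    -- the transfer image
    have hy0T : ((ν (ι₀ ⟨w, hw⟩) : B) : L) ∈ ι.range := by
      rw [← hT]
      exact hBT (ν (ι₀ ⟨w, hw⟩)).2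
    obtain ⟨y, hy⟩ := hy0T
    have hyfix : ∀ g : L, g * ι y * g⁻¹ = ι y := by
      intro g
      have h1 := congrArg Subtype.val (hνT ⟨w, hw⟩ g)
      rw [hΦa, ← hy] at h1
      exact h1
    have hyZ : (y : Ω) ∈ Zs := by
      rw [hZs]
      refine ⟨y.2, Subgroup.mem_centralizer_iff.mpr fun s hs => ?_⟩
      have h1 := hyfix (ι ⟨s, hs⟩)
      have h2 : ι ⟨s, hs⟩ * ι y = ι y * ι ⟨s, hs⟩ := by
        calc ι ⟨s, hs⟩ * ι y = (ι ⟨s, hs⟩ * ι y * (ι ⟨s, hs⟩)⁻¹) * ι ⟨s, hs⟩ := by group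
          _ = ι y * ι ⟨s, hs⟩ := by rw [h1]
      rw [← map_mul, ← map_mul] at h2
      exact congrArg Subtype.val (hιinj h2)
    have hyC : (y : Ω) ∈ F.center := by
      refine mem_center_of_not_moves hS hF y.2 (fun s hs => ?_) (bad_main hW hL hS hF (k := 0) ?_ (hEN _ (hnotmoves y hyfix)))
      · rw [hZs] at hyZ
        exact Subgroup.mem_centralizer_iff.mp hyZ.2 s hs
      · rw [← hZs]
        exact Subgroup.subset_closure ⟨y, hyZ, by simp⟩
    -- a root of `y`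
    obtain ⟨a, b, hab⟩ : IsCoprime (m : ℤ) (Nat.card S : ℤ) := by
      rw [Nat.isCoprime_iff_coprime]
      obtain ⟨n, hn⟩ := (IsPGroup.iff_card).mp hS
      rw [hn]
      exact (Nat.Coprime.pow_left _ ((Nat.Prime.coprime_iff_not_dvd hpp).mpr hmp)).symm
    obtain ⟨y₀, hy₀⟩ : ∃ y₀ : Zs, y₀ = ⟨y, hyZ⟩ := ⟨_, rfl⟩
    obtain ⟨c₀, hc₀⟩ : ∃ c₀ : Zs, c₀ = y₀ ^ a := ⟨_, rfl⟩
    have hcard : y₀ ^ (Nat.card S : ℤ) = 1 := by
      apply Subtype.ext
      have h1 : (y : S) ^ Nat.card S = 1 := pow_card_eq_one'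
      have h2 : ((y : S) ^ Nat.card S : S).1 = 1 := by rw [h1]; rfl
      rw [hy₀, zpow_natCast]
      exact h2
    have hcm : c₀ ^ m = y₀ := by
      have h1 : y₀ ^ ((a : ℤ) * m + b * Nat.card S) = y₀ := by rw [hab, zpow_one]
      rw [zpow_add, zpow_mul, mul_comm b, zpow_mul, hcard, one_zpow, mul_one, zpow_natCast] at h1
      rw [hc₀]
      exact h1
    have hc₀C : (c₀ : Ω) ∈ F.center := by
      rw [hc₀, hy₀]
      exact Subgroup.zpow_mem _ hyC a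
    have hι₀y : ι₀ y₀ = ν (ι₀ ⟨w, hw⟩) := by
      apply Subtype.ext
      rw [hι₀, ← hy, hy₀]
    have hνc : ν (ι₀ c₀) = ν (ι₀ ⟨w, hw⟩) := by
      rw [hcfix c₀ hc₀C, ← map_pow, hcm, hι₀y]
    have hK' : ((c₀⁻¹ * ⟨w, hw⟩ : Zs) : Ω) ∈ K := by
      rw [hKm _ (c₀⁻¹ * ⟨w, hw⟩ : Zs).2]
      show ν (ι₀ (c₀⁻¹ * ⟨w, hw⟩)) = 1
      rw [map_mul, map_mul, map_inv, map_inv, hνc, inv_mul_cancel]
    have hweq : w = (c₀ : Ω) * ((c₀⁻¹ * ⟨w, hw⟩ : Zs) : Ω) := by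
      have : (c₀ * (c₀⁻¹ * ⟨w, hw⟩) : Zs) = ⟨w, hw⟩ := by group
      exact (congrArg Subtype.val this).symm
    rw [hweq]
    exact Subgroup.mul_mem_sup hc₀C hK'

end Cfsg.Agent.S5295
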