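import Cfsg.Statements.S5299
import Cfsg.Agent.Lib.H25.FusSub
import Cfsg.Agent.Lib.H25.Sec

set_option autoImplicit false
universe u
open Cfsg

namespace Cfsg.Agent.S5299

open Cfsg.Agent.H25 Cfsg.FusionSystem

/-- Let F be a saturated fusion system over a finite p-group S, H a finite group and Q a p-subgroup of H. If Q is not involved in S (no section of S is isomorphic to Q), then F is H-free: H is involved in no model of the normalizer system of a fully normalized centric subgroup. -/
theorem result {Ω : Type u} [Group Ω] {S : Subgroup Ω} [Finite S] (p : ℕ) [Fact p.Prime] (hS : IsPGroup p S)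
    (F : Cfsg.FusionSystem S) (hF : F.IsSaturated p) (H : Type*) [Group H] [Finite H] (Q : Subgroup H) (hQ : IsPGroup p Q)
    (hfree : ¬ Cfsg.Involves (↥Q) (↥S)) : F.IsSectionFree p H := by
  intro R _ _ N _ L _ ι hL hinv
  obtain ⟨hfin, -, ⟨T, hT⟩, -⟩ := hL
  haveI := hfin
  have h1 : Sec (↥Q) H := Sec.of_inj Q.subtype Q.subtype_injective
  have h2 : Sec (↥Q) L := h1.trans (Sec.of_involves hinv)
  have h3 := Sec.of_sylow_range hQ h2 ι T hT
  have h4 : Sec (↥(normalizerIn S R)) (↥S) :=
    Sec.of_inj (Subgroup.inclusion (inf_le_left : normalizerIn S R ≤ S)) (Subgroup.inclusion_injective _)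
  exact hfree (h3.trans h4).involves

end Cfsg.Agent.S5299
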