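import Cfsg.Statements.S5320
import Cfsg.Agent.Lib.H25.SimP8
import Cfsg.Agent.Lib.H25.SimT6

set_option autoImplicit false
open Cfsg

namespace Cfsg.Agent.S5320

open Cfsg.Agent.H25

/-- For a finite field F of odd order, the 2-fusion system of the projective symplectic group PSp(4,F) on a Sylow 2-subgroup is simple. -/
theorem result {F : Type*} [Field F] [Fintype F] (hodd : Fintype.card F % 2 = 1) (S : Sylow 2 (Cfsg.PSp 2 F)) :
    (Cfsg.groupFusionSystem (S : Subgroup (Cfsg.PSp 2 F))).IsSimple 2 := by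
  classical
  haveI : NeZero (2 : F) := ⟨two_ne_of_odd hodd⟩
  haveI : Fact (Nat.Prime 2) := ⟨Nat.prime_two⟩
  haveI : Finite (Sp4 F) := Subtype.finite
  have hF : Odd (Fintype.card F) := Nat.odd_iff.2 hodd
  obtain ⟨Q₀⟩ : Nonempty (Sylow 2 (Matrix.SpecialLinearGroup (Fin 2) F)) := inferInstance
  obtain ⟨k, hk, ⟨e⟩⟩ := Cfsg.Agent.Lead.sl2_sylow_quat hF Q₀
  let f : QuaternionGroup (2 ^ k) →* Matrix.SpecialLinearGroup (Fin 2) F :=
    (Q₀ : Subgroup (Matrix.SpecialLinearGroup (Fin 2) F)).subtype.comp e.symm.toMonoidHom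
  have hf : Function.Injective f := fun x y h => e.symm.injective (Subtype.ext h)
  have hQf : ∀ c, c ∈ (Q₀ : Subgroup (Matrix.SpecialLinearGroup (Fin 2) F)) ↔ ∃ x, f x = c := by
    intro c
    constructor
    · intro hc
      exact ⟨e ⟨c, hc⟩, by simp [f]⟩
    · rintro ⟨x, rfl⟩
      exact (e.symm x).2
  have hfm : ∀ x, f x ∈ (Q₀ : Subgroup (Matrix.SpecialLinearGroup (Fin 2) F)) := fun x => (hQf _).2 ⟨x, rfl⟩
  have hm : (m1S : Matrix.SpecialLinearGroup (Fin 2) F) ∈ (Q₀ : Subgroup (Matrix.SpecialLinearGroup (Fin 2) F)) := by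
    rw [← f_an f hf]
    exact hfm _
  have hcen : ∀ c ∈ (Q₀ : Subgroup (Matrix.SpecialLinearGroup (Fin 2) F)),
      (∀ d ∈ (Q₀ : Subgroup (Matrix.SpecialLinearGroup (Fin 2) F)), c * d = d * c) → c = 1 ∨ c = m1S := by
    intro c hc hd
    obtain ⟨x, rfl⟩ := (hQf _).1 hc
    exact f_center f hf hk x fun y => hd _ (hfm y)
  have hex : ∃ b ∈ (Q₀ : Subgroup (Matrix.SpecialLinearGroup (Fin 2) F)), b * b = m1S :=
    ⟨f (QuaternionGroup.xa 0), hfm _, f_xa_sq f hf _⟩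
  have hgen : ∀ R : Subgroup (Matrix.SpecialLinearGroup (Fin 2) F),
      (∀ x ∈ (Q₀ : Subgroup (Matrix.SpecialLinearGroup (Fin 2) F)), ∀ y ∈ (Q₀ : Subgroup (Matrix.SpecialLinearGroup (Fin 2) F)),
        x * x = m1S → y * y = m1S → x * y⁻¹ ∈ R) → (Q₀ : Subgroup (Matrix.SpecialLinearGroup (Fin 2) F)) ≤ R := by
    intro R hR c hc
    obtain ⟨x, rfl⟩ := (hQf _).1 hc
    exact f_gen f hf hk R (fun a b ha hb => hR _ (hfm a) _ (hfm b) ha hb) x
  have hS : ∀ h ∈ Subgroup.normalizer ((Q₀ : Subgroup (Matrix.SpecialLinearGroup (Fin 2) F)) : Set (Matrix.SpecialLinearGroup (Fin 2) F)),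
      ∀ m : ℕ, h ^ 2 ^ m = 1 → h ∈ (Q₀ : Subgroup (Matrix.SpecialLinearGroup (Fin 2) F)) := by
    intro h hh m hm'
    have hzp : IsPGroup 2 (Subgroup.zpowers h) := by
      refine IsPGroup.of_card (n := Nat.log 2 (orderOf h)) ?_
      rw [Nat.card_zpowers]
      obtain ⟨j, -, hj⟩ := (Nat.dvd_prime_pow Nat.prime_two).1 (orderOf_dvd_of_pow_eq_one hm')
      rw [hj, Nat.log_pow (by norm_num)]
    have h1 := hzp.inf_normalizer_sylow Q₀
    have h2 : h ∈ Subgroup.zpowers h ⊓ Subgroup.normalizer (Q₀ : Set (Matrix.SpecialLinearGroup (Fin 2) F)) :=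
      ⟨Subgroup.mem_zpowers h, hh⟩
    rw [h1] at h2
    exact h2.2
  have hoddc : (∀ h ∈ Subgroup.normalizer ((Q₀ : Subgroup (Matrix.SpecialLinearGroup (Fin 2) F)) : Set (Matrix.SpecialLinearGroup (Fin 2) F)),
      ∀ r : ℕ, Odd r → h ^ r = 1 → ∀ x ∈ (Q₀ : Subgroup (Matrix.SpecialLinearGroup (Fin 2) F)), h * x = x * h) ∨
      Q8L (Q₀ : Subgroup (Matrix.SpecialLinearGroup (Fin 2) F)) := by
    by_cases hk2 : 2 ≤ k
    · left
      intro h hh r hr hrh c hc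
      obtain ⟨x, rfl⟩ := (hQf _).1 hc
      refine f_odd_central f hf hk2 h (fun y => ?_) hr hrh x
      exact (hQf _).1 ((Subgroup.mem_normalizer_iff.1 hh _).1 (hfm y))
    · right
      have hk1 : k = 1 := by omega
      subst hk1
      exact q8l_of f hf hQf
  obtain ⟨P, hP⟩ := SW_sylow hF Q₀
  have hp : IsPGroup 2 (SW (Q₀ : Subgroup (Matrix.SpecialLinearGroup (Fin 2) F))) := by
    rw [← hP]
    exact P.isPGroup'
  let S₀ : Sylow 2 (Cfsg.PSp 2 F) := P.mapSurjective prP4_surj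
  have hS₀ : (S₀ : Subgroup (Cfsg.PSp 2 F)) = (SW (Q₀ : Subgroup (Matrix.SpecialLinearGroup (Fin 2) F))).map (prP4 F) := by
    show (P.mapSurjective prP4_surj : Subgroup (Cfsg.PSp 2 F)) = _
    rw [Sylow.coe_mapSurjective, hP]
  refine simple_of_crit_conj S₀ S ?_ ?_ ?_
  · rw [hS₀]
    intro hbot
    have h1 : prP4 F (tS : Sp4 F) ∈ (SW (Q₀ : Subgroup (Matrix.SpecialLinearGroup (Fin 2) F))).map (prP4 F) := ⟨_, tS_mem_SW hm, rfl⟩
    rw [hbot] at h1
    rcases prP4_eq_one.1 (Subgroup.mem_bot.1 h1) with h2 | h2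
    · exact tS_ne_one h2
    · exact tS_ne_z h2
  · rw [hS₀]
    exact GCa_SW hodd hm hcen hex hgen hp
  · rw [hS₀]
    exact GCb_SW hodd hm hcen hex hp hS hoddc

end Cfsg.Agent.S5320
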