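import Cfsg.Statements.S5343
import Cfsg.Agent.Lib.H25.RealS2

set_option autoImplicit false
universe u
open Cfsg

namespace Cfsg.Agent.S5343

open Cfsg.Agent.H25 Cfsg.FusionSystem

theorem aux {Ω : Type u} [Group Ω] {S : Subgroup Ω} {p : ℕ} [Fact p.Prime] {F : Cfsg.FusionSystem S} (hsimple : F.IsSimple p) (n : ℕ) :
    ∀ (G : Type u) [Group G] [Finite G] (ι : ↥S →* G), Nat.card G = n → F.IsRealizedBy ι → (∃ T : Sylow p G, (T : Subgroup G) = ι.range) →
      ∃ (G : Type u) (_ : Group G) (_ : Finite G) (_ : IsSimpleGroup G) (ι : ↥S →* G), F.IsRealizedBy ι ∧ ∃ T : Sylow p G, (T : Subgroup G) = ι.range := by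
  induction n using Nat.strong_induction_on with
  | _ n ih =>
    intro G _ _ ι hn hr hT
    obtain ⟨R, hR⟩ := hT
    have hι := hr.1
    by_cases hsim : ∀ N : Subgroup G, N.Normal → N = ⊥ ∨ N = ⊤
    · haveI hnt : Nontrivial G := by
        obtain ⟨x, hx, hx1⟩ := (Subgroup.bot_or_exists_ne_one S).resolve_left hsimple.2.1
        exact ⟨⟨ι ⟨x, hx⟩, 1, fun h => hx1 (by
          have := hι (h.trans (map_one ι).symm)
          exact Subtype.mk.inj this)⟩⟩
      exact ⟨G, inferInstance, inferInstance, ⟨fun N hN => hsim N hN⟩, ι, hr, R, hR⟩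
    · push Not at hsim
      obtain ⟨N, hNn, hNb, hNt⟩ := hsim
      haveI := hNn
      have hEn := EN_normal hr R hR N
      rcases hsimple.2.2 (ttN ι N) (EN hι N) hEn with ht | ⟨ht, hH⟩
      · -- the quotient
        have hr' := realized_quot hr R hR N ht
        have hlt : Nat.card (G ⧸ N) < n := by
          rw [← hn, Subgroup.card_eq_card_quotient_mul_card_subgroup N]
          have h1 : 1 < Nat.card N := by
            haveI : Nontrivial N := (Subgroup.nontrivial_iff_ne_bot N).2 hNb
            exact Finite.one_lt_card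
          have h2 : 0 < Nat.card (G ⧸ N) := Nat.card_pos
          nlinarith
        refine ih _ hlt (G ⧸ N) _ rfl hr' ⟨R.mapSurjective (QuotientGroup.mk'_surjective N), ?_⟩
        rw [Sylow.coe_mapSurjective, hR, MonoidHom.range_comp]
      · -- the normal subgroup
        have hmem : ∀ x : S, ι x ∈ N := fun x => (mem_ttN.1 (ht.ge x.2)).2
        let ι' : ↥S →* N := ι.codRestrict N hmem
        have hι' : Function.Injective ι' := fun a b h => hι (congrArg Subtype.val h)
        have hr' : F.IsRealizedBy ι' := by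
          refine ⟨hι', fun P hP φ hφ => ⟨fun h => ?_, ?_⟩⟩
          · rw [← hH] at h
            obtain ⟨hPP, hv, g, hgN, hg⟩ := EN_hom h
            exact ⟨⟨g, hgN⟩, fun x => Subtype.ext (hg x)⟩
          · rintro ⟨g, hg⟩
            rw [← hH]
            refine EN_hom_of (hP.trans ht.ge) (fun x => ht.ge (hφ x)) g.2 (fun x => ?_)
            exact congrArg Subtype.val (hg x)
        have hlt : Nat.card N < n := by
          rw [← hn]
          refine lt_of_le_of_ne (Subgroup.card_le_card_group N) (fun h => hNt (Subgroup.eq_top_of_card_eq N h))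
        refine ih _ hlt N _ rfl hr' ?_
        obtain ⟨D, hD⟩ := EN_sylow R hR N
        refine ⟨D, hD.trans ?_⟩
        ext x
        constructor
        · rintro ⟨y, rfl⟩
          exact ⟨⟨y, ttN_le y.2⟩, rfl⟩
        · rintro ⟨y, rfl⟩
          exact ⟨⟨y, ht.ge y.2⟩, rfl⟩

/-- Let F be a simple saturated fusion system over a finite p-group S that is realized by some finite group on a Sylow p-subgroup. Then F is realized by a finite simple group on a Sylow p-subgroup. -/
theorem result {Ω : Type u} [Group Ω] {S : Subgroup Ω} [Finite S] (p : ℕ) [Fact p.Prime] (hS : IsPGroup p S) (F : Cfsg.FusionSystem S) (hsimple : F.IsSimple p) (hreal : F.IsRealizable p) : ∃ (G : Type u) (_ : Group G) (_ : Finite G) (_ : IsSimpleGroup G) (ι : ↥S →* G), F.IsRealizedBy ι ∧ ∃ T : Sylow p G, (T : Subgroup G) = ι.range := by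
  obtain ⟨G, _, _, ι, hr, hT⟩ := hreal
  exact aux hsimple _ G ι rfl hr hT

end Cfsg.Agent.S5343
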