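import Cfsg.Statements.S5522
import Mathlib
import Cfsg.Agent.Lib.H27.GolayAlg

set_option autoImplicit false
set_option linter.unusedSimpArgs false
set_option linter.unusedVariables false
set_option linter.style.haveILetI false
set_option maxRecDepth 100000
open Cfsg
open scoped Pointwise

namespace Cfsg.Agent.S5522

open Cfsg.Agent.H27.Golay

/-- Mask of the dodecad of squares. -/
def Dm : ℕ := 340831

theorem squareDodecad_eq : Spor.squareDodecad = fs Dm := by
  decide +kernel

/-- Pointwise stabiliser of a list inside the stabiliser of the dodecad. -/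
def fixD (l : List ℕ) : Subgroup (Equiv.Perm GolayPt) :=
  fixG l ⊓ MulAction.stabilizer (Equiv.Perm GolayPt) (fs Dm)

theorem mem_fixD {l : List ℕ} {g : Equiv.Perm GolayPt} :
    g ∈ fixD l ↔ g ∈ fixG l ∧ g • fs Dm = fs Dm := Iff.rfl

def isFixD (l : List ℕ) (t : ℕ) : Bool := isFix l t && Nat.beq (am t Dm) Dm

theorem P_mem_fixD {l : List ℕ} (hl : ∀ i ∈ l, i < 24) {t : ℕ} (h : isFixD l t = true) :
    P t ∈ fixD l := by
  rw [isFixD, Bool.and_eq_true] at h
  refine ⟨P_mem_fixG hl h.1, ?_⟩
  show P t • fs Dm = fs Dm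
  rw [← fs_am (isM24_permOK (isFix_isM24 h.1)), Nat.eq_of_beq_eq_true h.2]

theorem stepD {l : List ℕ} {b m : ℕ} {T : List ℕ} (hl : ∀ i ∈ l, i < 24) (hb : b < 24)
    (hT : allL (isFixD l) T = true) (hi : imgMask b T = m)
    (h2 : ∀ g ∈ fixD l, g (pt b) ∈ fs m) {g : Equiv.Perm GolayPt} (hg : g ∈ fixD l) :
    ∃ t ∈ T, permOK t = true ∧ ∃ g' ∈ fixD (b :: l), g = P t * g' := by
  have h3 := h2 g hg
  rw [mem_fs, ← hi, testBit_imgMask] at h3
  obtain ⟨t, ht, hty⟩ := h3
  have hf := allL_spec hT t ht
  have hPt := P_mem_fixD hl hf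
  have hok : permOK t = true := by
    rw [isFixD, Bool.and_eq_true] at hf
    exact isM24_permOK (isFix_isM24 hf.1)
  have hPb : P t (pt b) = g (pt b) := by
    rw [P_pt hok hb, hty, pt_idx]
  refine ⟨t, ht, hok, (P t)⁻¹ * g, ⟨⟨M24.mul_mem (M24.inv_mem hPt.1.1) hg.1.1, ?_⟩, ?_⟩, by simp⟩
  · intro i hi'
    rcases List.mem_cons.1 hi' with rfl | hi'
    · rw [Equiv.Perm.mul_apply, ← hPb]; simp
    · rw [Equiv.Perm.mul_apply, hg.1.2 i hi', Equiv.Perm.inv_eq_iff_eq, hPt.1.2 i hi']
  · exact Subgroup.mul_mem _ (Subgroup.inv_mem _ hPt.2) hg.2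

theorem orbit_check {l : List ℕ} {b m : ℕ} (hb : b < 24) (hbD : Dm.testBit b = true)
    (hbl : b ∉ l)
    (h : allBelow (fun i => (m.testBit i) || decide (i ∈ l) || !(Dm.testBit i)) 24 = true)
    {g : Equiv.Perm GolayPt} (hg : g ∈ fixD l) : g (pt b) ∈ fs m := by
  refine mem_fs_of_check' hb h hg.1 hbl ?_
  have h1 : g (pt b) ∈ fs Dm := by
    rw [apply_mem_of_smul_eq hg.2, mem_fs, idx_pt' hb]
    exact hbD
  exact mem_fs.1 h1

def M1 : List ℕ := [984818244535754528103549039458486304, 233233386906768391987032901617288256, 235742061483406767849477376128910432, 642026626081851459412623021573211264, 879625693134708752067995883059348672, 445545763657309050880227477812217088, 838127774253295018847781861836522784, 808017424765127922428093681722525056, 479911567098918105692038360497980832, 321052369375284577462031329287800320, 936387645834130189017006441359279680]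
def M2 : List ℕ := [984818244535754528103549039458486304, 735500604421669808992593446508235808, 735487641475210312359759341757206560, 969192610918565898168936684552525856, 233959790473158824216177681506574368, 965338963119640587914710321726563360, 721046562558839904869265658136834080, 601930637354377878261354464644510752, 235379565287160066622594956605341728, 606676711139852856892877066189490208]
def M3 : List ℕ := [984818244535754528103549039458486304, 486073779993727295785104656607348768, 303972014349329906305369256209090592, 899214583888558003150069357295700000, 424698032726113400716592269113985056, 928718206277989008510816407558424608, 809399594410595785774724965859756064, 858988336336270505570052787752405024, 648441755269428208718993426702993440]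
def M4 : List ℕ := [984818244535754528103549039458486304, 719923664328491199848526586197411872, 608405391266436187982588441666881568, 715872302521680643580706198532491296, 970499966350631336865513127433832480, 227578386318009578406903204956702752, 609271311764373893382231684089481248, 232652365823391711183829569059784736]


theorem M1_ok : allL (isFixD [0]) M1 = true := by decide +kernel
theorem M2_ok : allL (isFixD [1, 0]) M2 = true := by decide +kernel
theorem M3_ok : allL (isFixD [2, 1, 0]) M3 = true := by decide +kernel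
theorem M4_ok : allL (isFixD [3, 2, 1, 0]) M4 = true := by decide +kernel

/-- the conjugating element -/
def cC : ℕ := 21679624536146255938424847651179585
def Dp : ℕ := 13111679

theorem cC_ok : isM24 cC = true := by decide +kernel
theorem cC_D : am cC Dp = Dm := by decide +kernel

def isId (u : ℕ) : Bool := allBelow (fun i => Nat.beq (pa u i) i) 24

theorem P_eq_one_of_isId {u : ℕ} (hu : permOK u = true) (h : isId u = true) : P u = 1 := by
  ext p
  rw [P_apply hu, Nat.eq_of_beq_eq_true (allBelow_spec h _ (idx_lt p)), pt_idx]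
  rfl

theorem isId_of_P_eq_one {u : ℕ} (hu : permOK u = true) (h : P u = 1) : isId u = true := by
  apply allBelow_of
  intro i hi
  have h1 := congrArg (fun f : Equiv.Perm GolayPt => idx (f (pt i))) h
  simp only [idx_P hu, idx_pt' hi, Equiv.Perm.coe_one, id_eq] at h1
  rw [h1]
  exact Nat.beq_refl _

theorem T67_check : allL (fun a => allL (fun b =>
    !(Nat.beq (am (pcomp a b) Dp) Dp) || isId (pcomp a b)) T7) T6 = true := by
  decide +kernel

theorem allT6_ok : allL (isFix [3, 2, 1, 0, 23]) T6 = true := level6.hT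
theorem allT7_ok : allL (isFix [5, 3, 2, 1, 0, 23]) T7 = true := level7.hT

/-- The pointwise stabiliser of five points of the dodecad inside `M12` is trivial. -/
theorem fixD_trivial {h : Equiv.Perm GolayPt} (hh : h ∈ fixD [4, 3, 2, 1, 0]) : h = 1 := by
  have hcok := isM24_permOK cC_ok
  set c := P cC with hc
  have hcM : c ∈ M24 := P_mem_M24 cC_ok
  have himg : ∀ i j, i < 24 → j ∈ [4, 3, 2, 1, 0] → pa cC i = j → ((c⁻¹ * h * c) (pt i) = pt i) := by
    intro i j hi hj hij
    simp only [Equiv.Perm.mul_apply]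
    rw [hc, P_pt hcok hi, hij, hh.1.2 j hj, ← hij, ← P_pt hcok hi]
    simp
  have hh' : c⁻¹ * h * c ∈ fixG [3, 2, 1, 0, 23] := by
    refine ⟨M24.mul_mem (M24.mul_mem (M24.inv_mem hcM) hh.1.1) hcM, ?_⟩
    intro i hi
    simp only [List.mem_cons, List.not_mem_nil, or_false] at hi
    rcases hi with rfl | rfl | rfl | rfl | rfl
    · exact himg _ 4 (by norm_num) (by simp) (by decide +kernel)
    · exact himg _ 3 (by norm_num) (by simp) (by decide +kernel)
    · exact himg _ 2 (by norm_num) (by simp) (by decide +kernel)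
    · exact himg _ 1 (by norm_num) (by simp) (by decide +kernel)
    · exact himg _ 0 (by norm_num) (by simp) (by decide +kernel)
  obtain ⟨t₆, ht₆, hf₆, g₁, hg₁, e₁⟩ := level6.exists_mul hh'
  obtain ⟨t₇, ht₇, hf₇, g₂, hg₂, e₂⟩ := level7.exists_mul hg₁
  have hg₂1 : g₂ = 1 := by
    have : g₂ ∈ fixG baseL := hg₂
    rw [fix_base_trivial, Subgroup.mem_bot] at this
    exact this
  have hok₆ := isM24_permOK (isFix_isM24 hf₆)
  have hok₇ := isM24_permOK (isFix_isM24 hf₇)
  have hK : c⁻¹ * h * c = P (pcomp t₆ t₇) := by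
    rw [e₁, e₂, hg₂1, mul_one, P_pcomp hok₆ hok₇]
  have hokK := permOK_pcomp hok₆ hok₇
  -- it preserves `Dp`
  have hDp : fs Dm = c • fs Dp := by
    rw [← cC_D, fs_am hcok]
  have hstab : P (pcomp t₆ t₇) • fs Dp = fs Dp := by
    rw [← hK]
    have h1 : h • fs Dm = fs Dm := hh.2
    rw [hDp] at h1
    calc (c⁻¹ * h * c) • fs Dp = c⁻¹ • (h • (c • fs Dp)) := by
          rw [mul_smul, mul_smul]
      _ = c⁻¹ • (c • fs Dp) := by rw [h1]
      _ = fs Dp := by simp
  have hlt : am (pcomp t₆ t₇) Dp < 2 ^ 24 := am_lt hokK _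
  have heq : am (pcomp t₆ t₇) Dp = Dp := by
    apply fs_injOn hlt (by decide +kernel)
    rw [fs_am hokK, hstab]
  have hchk := allL_spec (allL_spec T67_check t₆ ht₆) t₇ ht₇
  rw [heq, Bool.or_eq_true] at hchk
  have hid : isId (pcomp t₆ t₇) = true := by
    rcases hchk with h3 | h3
    · simp [Nat.beq_refl] at h3
    · exact h3
  have h1 := P_eq_one_of_isId hokK hid
  rw [← hK] at h1
  have h2 : h = c * (c⁻¹ * h * c) * c⁻¹ := by group
  rw [h2, h1]
  simp

/-- Fixed point outside the dodecad. -/
def DcL : List ℕ := [5, 7, 10, 11, 14, 15, 17, 19, 20, 21, 22, 23]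

theorem DcL_lt : ∀ i ∈ DcL, i < 24 := by decide
theorem DcL_out : ∀ i ∈ DcL, Dm.testBit i = false := by decide +kernel

def noFix (u : ℕ) : Bool := allL (fun i => !(Nat.beq (pa u i) i)) DcL

/-- the check on the powers -/
def chkP (u2 u3 : ℕ) : Bool :=
  !(isId u2) && !(isId u3) &&
    isId (pcomp (pcomp (pcomp u3 u3) (pcomp u3 u3)) (pcomp (pcomp u3 u3) (pcomp u3 u3)))

def chk (u : ℕ) : Bool :=
  permOK u && (!(noFix u) || chkP (pcomp u u) (pcomp (pcomp u u) u))

theorem allM11 : allL (fun a => allL (fun b => allL (fun c => allL (fun d =>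
    chk (pcomp a (pcomp b (pcomp c d)))) M4) M3) M2) M1 = true := by
  decide +kernel

theorem exists_of_not_allL {f : ℕ → Bool} {l : List ℕ} (h : allL f l ≠ true) :
    ∃ x ∈ l, f x ≠ true := by
  induction l with
  | nil => exact absurd rfl h
  | cons a as ih =>
    by_cases ha : f a = true
    · have h2 : allL f as ≠ true := by
        intro h3
        apply h
        show Bool.rec false (allL f as) (f a) = true
        rw [ha]; exact h3
      obtain ⟨x, hx, hf⟩ := ih h2
      exact ⟨x, List.mem_cons_of_mem _ hx, hf⟩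
    · exact ⟨a, List.mem_cons_self, ha⟩

theorem result (g : Equiv.Perm Cfsg.GolayPt) (hg : g ∈ Cfsg.Spor.M11) (hord : (orderOf g).Prime) :
    ∃ x : Cfsg.GolayPt, x ∉ Cfsg.Spor.squareDodecad ∧ g x = x := by
  classical
  rw [squareDodecad_eq]
  have hgD : g ∈ fixD [0] := by
    obtain ⟨⟨hM, hS⟩, h0⟩ := hg
    refine ⟨⟨hM, ?_⟩, ?_⟩
    · intro i hi
      simp only [List.mem_cons, List.not_mem_nil, or_false] at hi
      subst hi
      exact h0
    · have : g • Spor.squareDodecad = Spor.squareDodecad := hS
      rw [squareDodecad_eq] at this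
      exact this
  have hl0 : ∀ i ∈ [0], i < 24 := by simp
  have hl1 : ∀ i ∈ [1, 0], i < 24 := by simp
  have hl2 : ∀ i ∈ [2, 1, 0], i < 24 := by simp
  have hl3 : ∀ i ∈ [3, 2, 1, 0], i < 24 := by simp
  obtain ⟨a, ha, oka, g₁, hg₁, e₁⟩ := stepD (b := 1) (m := 340830) hl0 (by norm_num) M1_ok
    (by decide +kernel)
    (fun g hg => orbit_check (by norm_num) (by decide +kernel) (by simp) (by decide +kernel) hg) hgD
  obtain ⟨b, hb, okb, g₂, hg₂, e₂⟩ := stepD (b := 2) (m := 340828) hl1 (by norm_num) M2_ok
    (by decide +kernel)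
    (fun g hg => orbit_check (by norm_num) (by decide +kernel) (by simp) (by decide +kernel) hg) hg₁
  obtain ⟨c, hc, okc, g₃, hg₃, e₃⟩ := stepD (b := 3) (m := 340824) hl2 (by norm_num) M3_ok
    (by decide +kernel)
    (fun g hg => orbit_check (by norm_num) (by decide +kernel) (by simp) (by decide +kernel) hg) hg₂
  obtain ⟨d, hd, okd, g₄, hg₄, e₄⟩ := stepD (b := 4) (m := 340816) hl3 (by norm_num) M4_ok
    (by decide +kernel)
    (fun g hg => orbit_check (by norm_num) (by decide +kernel) (by simp) (by decide +kernel) hg) hg₃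
  have hg₄1 := fixD_trivial hg₄
  set u := pcomp a (pcomp b (pcomp c d)) with hu
  have hcd := permOK_pcomp okc okd
  have hbcd := permOK_pcomp okb hcd
  have hok : permOK u = true := permOK_pcomp oka hbcd
  have hgu : g = P u := by
    rw [e₁, e₂, e₃, e₄, hg₄1, mul_one, hu, P_pcomp oka hbcd, P_pcomp okb hcd, P_pcomp okc okd]
  have hchk : chk u = true :=
    allL_spec (allL_spec (allL_spec (allL_spec allM11 a ha) b hb) c hc) d hd
  rw [chk, Bool.and_eq_true, Bool.or_eq_true] at hchk
  rcases hchk.2 with h1 | h1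
  · -- a fixed point
    have h2 : noFix u ≠ true := by
      intro h3
      rw [h3] at h1
      simp at h1
    obtain ⟨i, hi, hf⟩ := exists_of_not_allL h2
    have hfix : Nat.beq (pa u i) i = true := by
      cases hb : Nat.beq (pa u i) i with
      | true => rfl
      | false =>
        rw [hb] at hf
        exact absurd rfl hf
    have hilt : i < 24 := DcL_lt i hi
    refine ⟨pt i, ?_, ?_⟩
    · rw [mem_fs, idx_pt' hilt, DcL_out i hi]
      simp
    · rw [hgu, P_pt hok hilt, Nat.eq_of_beq_eq_true hfix]
  · exfalso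
    rw [chkP, Bool.and_eq_true, Bool.and_eq_true] at h1
    obtain ⟨⟨h2, h3⟩, h24⟩ := h1
    have ok2 := permOK_pcomp hok hok
    have ok3 := permOK_pcomp ok2 hok
    have ok6 := permOK_pcomp ok3 ok3
    have ok12 := permOK_pcomp ok6 ok6
    have ok24 := permOK_pcomp ok12 ok12
    have e2 : P (pcomp u u) = g ^ 2 := by
      rw [P_pcomp hok hok, hgu, pow_two]
    have e3 : P (pcomp (pcomp u u) u) = g ^ 3 := by
      rw [P_pcomp ok2 hok, e2, hgu]
      exact (pow_succ (P u) 2).symm
    have e6 : P (pcomp (pcomp (pcomp u u) u) (pcomp (pcomp u u) u)) = g ^ 6 := by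
      rw [P_pcomp ok3 ok3, e3, ← pow_add]
    have e12 : P (pcomp (pcomp (pcomp (pcomp u u) u) (pcomp (pcomp u u) u))
        (pcomp (pcomp (pcomp u u) u) (pcomp (pcomp u u) u))) = g ^ 12 := by
      rw [P_pcomp ok6 ok6, e6, ← pow_add]
    have hg24 : g ^ 24 = 1 := by
      have := P_eq_one_of_isId ok24 h24
      rw [P_pcomp ok12 ok12, e12, ← pow_add] at this
      exact this
    have hdvd : orderOf g ∣ 24 := orderOf_dvd_of_pow_eq_one hg24
    have hcases : orderOf g = 2 ∨ orderOf g = 3 := by
      have hd2 : orderOf g ∣ 2 ^ 3 * 3 := by simpa using hdvd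
      rcases (Nat.Prime.dvd_mul hord).1 hd2 with h | h
      · left
        exact (Nat.prime_dvd_prime_iff_eq hord Nat.prime_two).1 (hord.dvd_of_dvd_pow h)
      · right
        exact (Nat.prime_dvd_prime_iff_eq hord Nat.prime_three).1 h
    rcases hcases with h | h
    · have hp : g ^ 2 = 1 := by rw [← h]; exact pow_orderOf_eq_one g
      rw [← e2] at hp
      have := isId_of_P_eq_one ok2 hp
      rw [this] at h2
      simp at h2
    · have hp : g ^ 3 = 1 := by rw [← h]; exact pow_orderOf_eq_one g
      rw [← e3] at hp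
      have := isId_of_P_eq_one ok3 hp
      rw [this] at h3
      simp at h3

end Cfsg.Agent.S5522
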