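import Cfsg.Statements.S5615
import Cfsg.Agent.Lib.H27.GolayIso

set_option autoImplicit false
open scoped Pointwise
open Cfsg

namespace Cfsg.Agent.S5615

set_option maxRecDepth 100000

open Cfsg.Agent.H27.Golay

/-- The trios through the base octad. -/
def L15 : List ℕ := [1939272540217013321775, 1558880523963924103215, 1873677615554124464175, 1627024485863970193455, 1717006401055492292655, 1783947901926702727215, 1506152382669512654895, 1992757286203725856815, 2224566552406830235695, 1276937189697154859055, 2142866756436389675055, 1356646394750946132015, 1414382538532493344815, 2085454871808685785135, 1182811963095412523055]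

/-- Ordered pairs of distinct trios through the base octad. -/
def L210 : List ℕ := [7361605137165505948605502937905350848954415, 8848192371395913996854147357991866384662575, 7683405898852229709718683937924364948881455, 8108333479217092623408549537050655459524655, 8424455779244285934173622723507771683258415, 7112603530012762455438288401640555588763695, 9410530216862747845746726752711498386260015, 10505218525998895187760979110981189335400495, 6030165385355602152377257393976307248939055, 10119402147850798184895721261444150488875055, 6406581463677809795490216915444586315399215, 6679232693921931044414344892461555501908015, 9848282188166550315840745953252861628530735, 5585671570059023829248218804299657015083055, 9157955645070299799551108930503862609133615, 8848192371395913996853766965975613295444015, 7683405898852229709718303545908111859662895, 8108333479217092623408169145034402370306095, 8424455779244285934173242331491518594039855, 7112603530012762455437908009624302499545135, 9410530216862747845746346360695245297041455, 10505218525998895187760598718964936246181935, 6030165385355602152376877001960054159720495, 10119402147850798184895340869427897399656495, 6406581463677809795489836523428333226180655,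 6679232693921931044413964500445302412689455, 9848282188166550315840365561236608539312175, 5585671570059023829247838412283403925864495, 9157955645070299799551423727595452809494575, 7361605137165505948605437342980687960096815, 7683405898852229709718618342999702060023855, 8108333479217092623408483942125992570667055, 8424455779244285934173557128583108794400815, 7112603530012762455438222806715892699906095, 9410530216862747845746661157786835497402415, 10505218525998895187760913516056526446542895, 6030165385355602152377191799051644360081455, 10119402147850798184895655666519487600017455, 6406581463677809795490151320519923426541615, 6679232693921931044414279297536892613050415, 9848282188166550315840680358328198739673135, 5585671570059023829248153209374994126225455, 9157955645070299799551177074465762655223855, 7361605137165505948605190689850997805826095, 8848192371395913996853835109937513341534255, 8108333479217092623408237288996302416396335, 8424455779244285934173310475453418640130095, 7112603530012762455437976153586202545635375, 9410530216862747845746414504657145343131695, 10505218525998895187760666862926836292272175, 6030165385355602152376945145921954205810735, 10119402147850798184895409013389797445746735,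 6406581463677809795489904667390233272270895, 6679232693921931044414032644407202458779695, 9848282188166550315840433705198508585402415, 5585671570059023829247906556245303971954735, 9157955645070299799551267056380954177323055, 7361605137165505948605280671766189327925295, 8848192371395913996853925091852704863633455, 7683405898852229709718461671785203427852335, 8424455779244285934173400457368610162229295, 7112603530012762455438066135501394067734575, 9410530216862747845746504486572336865230895, 10505218525998895187760756844842027814371375, 6030165385355602152377035127837145727909935, 10119402147850798184895498995304988967845935, 6406581463677809795489994649305424794370095, 6679232693921931044414122626322393980878895, 9848282188166550315840523687113700107501615, 5585671570059023829247996538160495494053935, 9157955645070299799551333997881825387757615, 7361605137165505948605347613267060538359855, 8848192371395913996853992033353576074068015, 7683405898852229709718528613286074638286895, 8108333479217092623408394212412365148930095, 7112603530012762455438133077002265278169135, 9410530216862747845746571428073208075665455, 10505218525998895187760823786342899024805935, 6030165385355602152377102069338016938344495,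 10119402147850798184895565936805860178280495, 6406581463677809795490061590806296004804655, 6679232693921931044414189567823265191313455, 9848282188166550315840590628614571317936175, 5585671570059023829248063479661366704488495, 9157955645070299799551056202362568197685295, 7361605137165505948605069817747803348287535, 8848192371395913996853714237834318883995695, 7683405898852229709718250817766817448214575, 8108333479217092623408116416893107958857775, 8424455779244285934173189603350224182591535, 9410530216862747845746293632553950885593135, 10505218525998895187760545990823641834733615, 6030165385355602152376824273818759748272175, 10119402147850798184895288141286602988208175, 6406581463677809795489783795287038814732335, 6679232693921931044413911772304008001241135, 9848282188166550315840312833095314127863855, 5585671570059023829247785684142109514416175, 9157955645070299799551542807266102410887215, 7361605137165505948605556422651337561489455, 8848192371395913996854200842737853097197615, 7683405898852229709718737422670351661416495, 8108333479217092623408603021796642172059695, 8424455779244285934173676208253758395793455, 7112603530012762455438341886386542301298735, 10505218525998895187761032595727176047935535,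 6030165385355602152377310878722293961474095, 10119402147850798184895774746190137201410095, 6406581463677809795490270400190573027934255, 6679232693921931044414398377207542214443055, 9848282188166550315840799437998848341065775, 5585671570059023829248272289045643727618095, 9157955645070299799551774616532305515266095, 7361605137165505948605788231917540665868335, 8848192371395913996854432652004056201576495, 7683405898852229709718969231936554765795375, 8108333479217092623408834831062845276438575, 8424455779244285934173908017519961500172335, 7112603530012762455438573695652745405677615, 9410530216862747845747012046723688203173935, 6030165385355602152377542687988497065852975, 10119402147850798184896006555456340305788975, 6406581463677809795490502209456776132313135, 6679232693921931044414630186473745318821935, 9848282188166550315841031247265051445444655, 5585671570059023829248504098311846831996975, 9157955645070299799550826987169595839889455, 7361605137165505948604840602554830990491695, 8848192371395913996853485022641346526199855, 7683405898852229709718021602573845090418735, 8108333479217092623407887201700135601061935, 8424455779244285934172960388157251824795695, 7112603530012762455437626066290035730300975,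 9410530216862747845746064417360978527797295, 10505218525998895187760316775630669476937775, 10119402147850798184895058926093630630412335, 6406581463677809795489554580094066456936495, 6679232693921931044413682557111035643445295, 9848282188166550315840083617902341770068015, 5585671570059023829247556468949137156620335, 9157955645070299799551692916736335074705455, 7361605137165505948605706532121570225307695, 8848192371395913996854350952208085761015855, 7683405898852229709718887532140584325234735, 8108333479217092623408753131266874835877935, 8424455779244285934173826317723991059611695, 7112603530012762455438491995856774965116975, 9410530216862747845746930346927717762613295, 10505218525998895187761182705197408711753775, 6030165385355602152377460988192526625292335, 6406581463677809795490420509660805691752495, 6679232693921931044414548486677774878261295, 9848282188166550315840949547469081004884015, 5585671570059023829248422398515876391436335, 9157955645070299799550906696374649631162415, 7361605137165505948604920311759884781764655, 8848192371395913996853564731846400317472815, 7683405898852229709718101311778898881691695, 8108333479217092623407966910905189392334895, 8424455779244285934173040097362305616068655,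 7112603530012762455437705775495089521573935, 9410530216862747845746144126566032319070255, 10505218525998895187760396484835723268210735, 6030165385355602152376674767830841181749295, 10119402147850798184895138635298684421685295, 6679232693921931044413762266316089434718255, 9848282188166550315840163327107395561340975, 5585671570059023829247636178154190947893295, 9157955645070299799550964432518431178375215, 7361605137165505948604978047903666328977455, 8848192371395913996853622467990181864685615, 7683405898852229709718159047922680428904495, 8108333479217092623408024647048970939547695, 8424455779244285934173097833506087163281455, 7112603530012762455437763511638871068786735, 9410530216862747845746201862709813866283055, 10505218525998895187760454220979504815423535, 6030165385355602152376732503974622728962095, 10119402147850798184895196371442465968898095, 6406581463677809795489692025442901795422255, 9848282188166550315840221063251177108553775, 5585671570059023829247693914297972495106095, 9157955645070299799551635504851707370815535, 7361605137165505948605649120236942521417775, 8848192371395913996854293540323458057125935, 7683405898852229709718830120255956621344815, 8108333479217092623408695719382247131988015,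 8424455779244285934173768905839363355721775, 7112603530012762455438434583972147261227055, 9410530216862747845746872935043090058723375, 10505218525998895187761125293312781007863855, 6030165385355602152377403576307898921402415, 10119402147850798184895867443775742161338415, 6406581463677809795490363097776177987862575, 6679232693921931044414491074793147174371375, 5585671570059023829248364986631248687546415, 9157955645070299799550732861942994097553455, 7361605137165505948604746477328229248155695, 8848192371395913996853390897414744783863855, 7683405898852229709717927477347243348082735, 8108333479217092623407793076473533858725935, 8424455779244285934172866262930650082459695, 7112603530012762455437531941063433987964975, 9410530216862747845745970292134376785461295, 10505218525998895187760222650404067734601775, 6030165385355602152376500933399185648140335, 10119402147850798184894964800867028888076335, 6406581463677809795489460454867464714600495, 6679232693921931044413588431884433901109295, 9848282188166550315839989492675740027732015]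

/-- Forest data on the ordered pairs. -/
def inf210 : ℕ := 0x540170440110440150500cf0500d00600d105204304203e0400c705401b03400f0440190500ca04203f03204a02205302008706409205008906008a05205104008205408c04008004408e05409704008405008505007d04007804007905403d0520c40520cf0520d00620cb0300730620d10500700540430420c706007705009904407905209904407605009703407305209705407a05407004008e05008c04208e0600920440780420110600a30400a205201705200e0500a604201905009e05405404406105201603200f05405a0420150540b705200404200d0520090120000540b90400ad0340c104200503200c0520080340c20520020620070400c306209f06402d0440310300c10300c205402e0340340500b90520a602402c0540350500bc0420a20200530420ad03404a04004f0520a90500510520b303004a06404602405306004605405105404c04404e0320660540a403206f0440a20640a005004305206c04206d04206805206e05409c06003905003d04003e01400005205904003106400703003403400c05205e04205f05205a02002c06205c05400b0620570540080500290500240420c30740cc0520b70500270320c10320c204001f0540c40540c60540d00520b905002204208205000804401f02208705000a05000b03000c05000405208504208405402901000004000505402404201f0500160400150500170740ae0400190620260440ad04001105202103000f05000e06001306001404006105202e03406606406904406804005f03203405005905406c05406203406f05005402202c04203103006f02408704408204207904408404006d05006e05408303006604207606408b042078054089000000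

/-- The root of the forest. -/
def root210 : ℕ := 7361605137165505948605502937905350848954415

/-- The octads disjoint from the base octad. -/
def L30 : List ℕ := [6889680, 4038912, 5538256, 832080, 6656640, 3216208, 5780352, 6100032, 3421328, 6337856, 628112, 5350928, 3704512, 7079696, 337856, 7903248, 1161408, 4536592, 2890176, 7612992, 1903248, 4819776, 2141072, 2460752, 5024896, 1584464, 7409024, 2702848, 4202192, 1351424]

/-- The octads disjoint from the base octad through the point `4`. -/
def L15p : List ℕ := L30.filter (fun Q => bitb Q 4)

/-- The points off the base octad. -/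
def l16 : List ℕ := [4, 6, 7, 8, 9, 10, 11, 12, 13, 15, 16, 18, 19, 20, 21, 22]

/-- Octads separating all the points, with at least five points off the base octad. -/
def sep16 : List ℕ := [4845570, 13938692, 7221256, 10170384, 6053905, 7417889, 15515712, 2019456, 7622914, 8077824, 11654144]

/-- First component of a pair. -/
def c1 (c : ℕ) : ℕ := Nat.land c 4722366482869645213695
/-- Second component of a pair. -/
def c2 (c : ℕ) : ℕ := Nat.shiftRight c 72

/-- The pair of trios of a code. -/
noncomputable def dec2 (c : ℕ) : Finset (Finset GolayPt) × Finset (Finset GolayPt) := (tr (c1 c), tr (c2 c))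

/-- The action test on pairs. -/
def act2 (π c d : ℕ) : Bool :=
  Bool.rec false (trAct π (c2 c) (c2 d)) (trAct π (c1 c) (c1 d))

theorem L15_sub : ∀ c ∈ L15, c ∈ trioL ∧ O0 ∈ trF c := by decide +kernel

theorem L210_sub : allL (fun c => Bool.rec false (memL (c2 c) trioL) (memL (c1 c) trioL)) L210 = true := by
  decide +kernel

theorem L210_mem {c : ℕ} (hc : c ∈ L210) : c1 c ∈ trioL ∧ c2 c ∈ trioL := by
  have h := allL_spec L210_sub c hc
  cases h1 : memL (c1 c) trioL with
  | false => rw [h1] at h; cases h
  | true =>
    rw [h1] at h
    exact ⟨(memL_iff _ _).1 h1, (memL_iff _ _).1 h⟩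

theorem reach210 : ∀ c ∈ L210, ∃ r ∈ [root210], dec2 c ∈ Orb (fs O0) (dec2 r) :=
  forest_reach (fs O0) dec2 L210 act2 gensO 144 (packL 144 L210) inf210 [root210]
    (fun π hπ => ⟨P_mem_M24 (gensO_spec hπ).1, (gensO_spec hπ).2⟩)
    (fun π hπ c hc d hd h => by
      have hm := (gensO_spec hπ).1
      obtain ⟨a1, a2⟩ := L210_mem hc
      obtain ⟨b1, b2⟩ := L210_mem hd
      unfold act2 at h
      cases h1 : trAct π (c1 c) (c1 d) with
      | false => rw [h1] at h; cases h
      | true =>
        rw [h1] at h
        show (P π • tr (c1 c), P π • tr (c2 c)) = _
        rw [(trAct_spec hm a1 b1).1 h1, (trAct_spec hm a2 b2).1 h]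
        rfl)
    (by decide +kernel) (by decide +kernel) (by decide +kernel)

theorem pairs_cover : allL (fun a => allL (fun b => Bool.or (Nat.beq a b)
    (List.rec (motive := fun _ => Bool) false
      (fun c _ ih => Bool.rec ih true (Bool.and (Nat.beq (c1 c) a) (Nat.beq (c2 c) b))) L210)) L15) L15 = true := by
  decide +kernel

theorem pairs_exists {a b : ℕ} (ha : a ∈ L15) (hb : b ∈ L15) (hab : a ≠ b) :
    ∃ c ∈ L210, c1 c = a ∧ c2 c = b := by
  have h := allL_spec (allL_spec pairs_cover a ha) b hb
  have h2 : Nat.beq a b = false := by
    cases h3 : Nat.beq a b with
    | false => rfl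
    | true => exact absurd (Nat.eq_of_beq_eq_true h3) hab
  rw [h2, Bool.false_or] at h
  generalize L210 = L at h
  induction L with
  | nil => cases h
  | cons x xs ih =>
    have hk : (Bool.rec (List.rec (motive := fun _ => Bool) false
      (fun c _ ih => Bool.rec ih true (Bool.and (Nat.beq (c1 c) a) (Nat.beq (c2 c) b))) xs) true
      (Bool.and (Nat.beq (c1 x) a) (Nat.beq (c2 x) b)) : Bool) = true := h
    cases h3 : Bool.and (Nat.beq (c1 x) a) (Nat.beq (c2 x) b) with
    | false =>
      rw [h3] at hk
      obtain ⟨c, hc, h4⟩ := ih hk
      exact ⟨c, List.mem_cons_of_mem _ hc, h4⟩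
    | true =>
      simp only [Bool.and_eq_true] at h3
      exact ⟨x, List.mem_cons_self, Nat.eq_of_beq_eq_true h3.1, Nat.eq_of_beq_eq_true h3.2⟩

theorem through_loop : allL (fun c => Bool.rec true (memL c L15) (memL O0 (trF c))) trioL = true := by
  decide +kernel

/-- The trios through the base octad are listed. -/
theorem exists_L15 {T : Finset (Finset GolayPt)} (hT : T ∈ trios) (h : fs O0 ∈ T) :
    ∃ c ∈ L15, tr c = T := by
  obtain ⟨c, hc, rfl⟩ := exists_code_of_trio hT
  refine ⟨c, ?_, rfl⟩
  obtain ⟨m, hm, hfs⟩ := mem_tr.1 h
  have h1 : m = O0 := fs_injOn (trF_lt hm) O0_lt hfs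
  subst h1
  have h2 := allL_spec through_loop c hc
  rw [(memL_iff _ _).2 hm] at h2
  exact (memL_iff _ _).1 h2

theorem tr_mem_L15 {c : ℕ} (hc : c ∈ L15) : tr c ∈ trios ∧ fs O0 ∈ tr c := by
  obtain ⟨h1, h2⟩ := L15_sub c hc
  exact ⟨tr_mem_trios (allL_spec trioL_OK c h1), mem_tr.2 ⟨_, h2, rfl⟩⟩

theorem card_base : {T : Finset (Finset GolayPt) | T ∈ trios ∧ fs O0 ∈ T}.ncard = 15 := by
  have h := ncard_of_list (A := {T : Finset (Finset GolayPt) | T ∈ trios ∧ fs O0 ∈ T})
    (Q := fun _ => True) (test := fun _ => true) tr (L := L15) (by decide +kernel)
    (fun m hm n hn => tr_inj m (L15_sub m hm).1 n (L15_sub n hn).1)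
    (fun x => ⟨fun hx => exists_L15 hx.1 hx.2, by
      rintro ⟨m, hm, rfl⟩
      exact tr_mem_L15 hm⟩) (by simp)
  simp only [and_true, Set.ofPred_mem_eq] at h
  rw [h]
  decide +kernel

theorem T7_fix_L15 : allL (fun t => allL (fun c => trAct t c c) L15) T7 = true := by decide +kernel

theorem T7_fix_O0 : allL (fun t => allBelow (fun i => Bool.or (Bool.not (bitb O0 i)) (Nat.beq (pa t i) i)) 24) T7 = true := by
  decide +kernel

theorem T7_isM24 {t : ℕ} (ht : t ∈ T7) : isM24 t = true :=
  isFix_isM24 (allL_spec level7.hT t ht)

/-- Elements fixing the base octad pointwise fix the trios through it. -/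
theorem fix_of_pointwise {g : Equiv.Perm GolayPt} (hg : g ∈ M24) (hfix : ∀ p ∈ fs O0, g p = p)
    {T : Finset (Finset GolayPt)} (hT : T ∈ trios) (h0 : fs O0 ∈ T) : g • T = T := by
  have hm : g ∈ fixG [5, 3, 2, 1, 0, 23] := by
    refine ⟨hg, fun i hi => hfix _ ?_⟩
    revert i
    decide +kernel
  obtain ⟨t, ht, hok, rfl⟩ := exists_T7 hm
  obtain ⟨c, hc, rfl⟩ := exists_L15 hT h0
  exact (trAct_spec (T7_isM24 ht) (L15_sub c hc).1 (L15_sub c hc).1).1
    (allL_spec (allL_spec T7_fix_L15 t ht) c hc)

theorem sep_out : allBelow (fun i => Bool.or (bitb O0 i) (allBelow (fun j =>
    Bool.or (bitb O0 j) (Bool.or (Nat.beq i j) (sepL L15p i j))) 24)) 24 = true := by decide +kernel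

theorem L15p_trio : allL (fun Q => List.rec (motive := fun _ => Bool) false
    (fun c _ ih => Bool.rec ih true (memL Q (trF c))) L15) L15p = true := by decide +kernel

theorem L15p_exists {Q : ℕ} (hQ : Q ∈ L15p) : ∃ c ∈ L15, Q ∈ trF c := by
  have h := allL_spec L15p_trio Q hQ
  generalize L15 = L at h
  induction L with
  | nil => cases h
  | cons x xs ih =>
    have hk : (Bool.rec (List.rec (motive := fun _ => Bool) false
      (fun c _ ih => Bool.rec ih true (memL Q (trF c))) xs) true (memL Q (trF x)) : Bool) = true := h
    cases h3 : memL Q (trF x) with
    | false =>
      rw [h3] at hk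
      obtain ⟨c, hc, h4⟩ := ih hk
      exact ⟨c, List.mem_cons_of_mem _ hc, h4⟩
    | true =>
      exact ⟨x, List.mem_cons_self, (memL_iff _ _).1 h3⟩

theorem L15p_pt4 : ∀ Q ∈ L15p, pt 4 ∈ fs Q := by decide +kernel

theorem sep16_ok : qsOK l16 sep16 = true := by decide +kernel

theorem sep16_all : sepAll sep16 = true := by decide +kernel

theorem mem_l16 : ∀ i ∈ l16, i < 24 ∧ pt i ∉ fs O0 := by decide +kernel

theorem pt4_not : pt 4 ∉ fs O0 := by decide +kernel

/-- The converse: an element fixing all the trios through the base octad fixes it pointwise. -/
theorem pointwise_of_fix {g : Equiv.Perm GolayPt} (hg : g ∈ M24) (h0 : g • fs O0 = fs O0)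
    (hT : ∀ T ∈ trios, fs O0 ∈ T → g • T = T) : ∀ p ∈ fs O0, g p = p := by
  -- reduce to an element fixing `pt 4`
  have hq : g (pt 4) ∉ fs O0 := by
    rw [apply_mem_of_smul_eq h0]
    exact pt4_not
  have hq2 : g (pt 4) ∈ fs 8241104 := by
    have : ∀ q : GolayPt, q ∉ fs O0 → q ∈ fs 8241104 := by decide +kernel
    exact this _ hq
  obtain ⟨t, ht, htf, hok, hty⟩ := level7.exists_mem hq2
  set y := (P t)⁻¹ * g with hy
  have hyM : y ∈ M24 := M24.mul_mem (M24.inv_mem htf.1) hg
  have hy4 : y (pt 4) = pt 4 := by
    rw [hy, Equiv.Perm.mul_apply, ← hty]
    simp
  have hPtfix : ∀ p ∈ fs O0, P t p = p := by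
    intro p hp
    have h3 := allBelow_spec (allL_spec T7_fix_O0 t ht) _ (idx_lt p)
    rw [bitb_eq, mem_fs.1 hp] at h3
    simp only [Bool.not_true, Bool.false_or] at h3
    rw [P_apply hok, Nat.eq_of_beq_eq_true h3, pt_idx]
  have hPt : ∀ T ∈ trios, fs O0 ∈ T → P t • T = T := by
    intro T h1 h2
    exact fix_of_pointwise htf.1 hPtfix h1 h2
  have hPtO : P t • fs O0 = fs O0 := by
    ext q
    constructor
    · intro hq3
      obtain ⟨p, hp, rfl⟩ := Finset.mem_smul_finset.1 hq3
      show P t p ∈ _
      rwa [hPtfix p hp]
    · intro hq3
      exact Finset.mem_smul_finset.2 ⟨q, hq3, hPtfix q hq3⟩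
  have hyT : ∀ T ∈ trios, fs O0 ∈ T → y • T = T := by
    intro T h1 h2
    rw [hy, mul_smul, hT T h1 h2]
    have := hPt T h1 h2
    conv_lhs => rw [← this]
    rw [inv_smul_smul]
  have hyO : y • fs O0 = fs O0 := by
    rw [hy, mul_smul, h0]
    conv_lhs => rw [← hPtO]
    rw [inv_smul_smul]
  -- the octads through `pt 4` are fixed
  have hoct : ∀ Q ∈ L15p, y • fs Q = fs Q := by
    intro Q hQ
    obtain ⟨c, hc, hm⟩ := L15p_exists hQ
    obtain ⟨h1, h2⟩ := tr_mem_L15 hc
    have hfix := hyT _ h1 h2
    have hO : fs Q ∈ tr c := mem_tr.2 ⟨_, hm, rfl⟩
    have hO2 : y • fs Q ∈ tr c := by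
      rw [← hfix]
      exact Finset.smul_mem_smul_finset hO
    by_contra hne
    have hd := h1.2.2 _ hO2 _ hO hne
    have h4 := L15p_pt4 Q hQ
    have h5 : pt 4 ∈ y • fs Q := Finset.mem_smul_finset.2 ⟨_, h4, hy4⟩
    exact Finset.disjoint_left.1 hd h5 h4
  -- so all the points off the octad are fixed
  have hout : ∀ i ∈ l16, y (pt i) = pt i := by
    intro i hi
    obtain ⟨hi1, hi2⟩ := mem_l16 i hi
    have hj := idx_lt (y (pt i))
    have hj2 : y (pt i) ∉ fs O0 := by
      rw [apply_mem_of_smul_eq hyO]
      exact hi2
    have hb1 : bitb O0 i = false := by
      rw [bitb_eq]
      rw [mem_fs, idx_pt' hi1] at hi2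
      simpa using hi2
    have hb2 : bitb O0 (idx (y (pt i))) = false := by
      rw [bitb_eq]
      rw [mem_fs] at hj2
      simpa using hj2
    have h3 := allBelow_spec sep_out i hi1
    rw [hb1, Bool.false_or] at h3
    have h4 := allBelow_spec h3 _ hj
    rw [hb2, Bool.false_or] at h4
    cases h5 : Nat.beq i (idx (y (pt i))) with
    | true =>
      have h6 := Nat.eq_of_beq_eq_true h5
      have : pt i = pt (idx (y (pt i))) := by rw [← h6]
      rw [pt_idx] at this
      exact this.symm
    | false =>
      rw [h5, Bool.false_or] at h4
      exfalso
      obtain ⟨Q, hQ, hne⟩ := sepL_spec h4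
      have h6 := @apply_mem_of_smul_eq y _ (hoct Q hQ) (pt i)
      rw [mem_fs, mem_fs, idx_pt' hi1] at h6
      apply hne
      cases h7 : Q.testBit i <;> cases h8 : Q.testBit (idx (y (pt i))) <;> simp_all
  have hy1 : y = 1 := by
    have hfixy : y ∈ fixG l16 := ⟨hyM, hout⟩
    exact fix_of_sepAll sep16_ok sep16_all hfixy
  intro p hp
  have hgeq : g = P t := by
    have : (P t)⁻¹ * g = 1 := hy1
    have h2 := eq_of_inv_mul_eq_one this
    exact h2.symm
  rw [hgeq]
  exact hPtfix p hp


/-- An octad of the length-24 code lies in exactly 15 trios; the stabiliser of the octad in the code's group acts doubly transitively on these 15 trios, and the kernel of this action is the pointwise stabiliser of the octad. -/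
theorem result (o : Finset Cfsg.GolayPt) (ho : o ∈ Cfsg.octads) : {T : Finset (Finset Cfsg.GolayPt) | T ∈ Cfsg.trios ∧ o ∈ T}.ncard = 15 ∧ (∀ T₁ T₂ T₁' T₂' : Finset (Finset Cfsg.GolayPt), T₁ ∈ Cfsg.trios → T₂ ∈ Cfsg.trios → T₁' ∈ Cfsg.trios → T₂' ∈ Cfsg.trios → o ∈ T₁ → o ∈ T₂ → o ∈ T₁' → o ∈ T₂' → T₁ ≠ T₂ → T₁' ≠ T₂' → ∃ g ∈ Cfsg.M24, g • o = o ∧ g • T₁ = T₁' ∧ g • T₂ = T₂') ∧ ∀ g ∈ Cfsg.M24, g • o = o → ((∀ T ∈ Cfsg.trios, o ∈ T → g • T = T) ↔ ∀ p ∈ o, g p = p) := by
  obtain ⟨h, hh, rfl⟩ := exists_smul_O0 ho
  have hhi : h⁻¹ ∈ M24 := M24.inv_mem hh
  have htrans : ∀ {T : Finset (Finset GolayPt)}, T ∈ trios → h • fs O0 ∈ T → h⁻¹ • T ∈ trios ∧ fs O0 ∈ h⁻¹ • T := by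
    intro T h1 h2
    refine ⟨smul_mem_trios hhi h1, Finset.mem_smul_finset.2 ⟨_, h2, ?_⟩⟩
    rw [inv_smul_smul]
  refine ⟨?_, ?_, ?_⟩
  · have : {T : Finset (Finset GolayPt) | T ∈ trios ∧ h • fs O0 ∈ T} =
        (fun T => h • T) '' {T : Finset (Finset GolayPt) | T ∈ trios ∧ fs O0 ∈ T} := by
      ext T
      constructor
      · rintro ⟨h1, h2⟩
        exact ⟨h⁻¹ • T, htrans h1 h2, by simp⟩
      · rintro ⟨U, ⟨h1, h2⟩, rfl⟩
        exact ⟨smul_mem_trios hh h1, Finset.smul_mem_smul_finset h2⟩
    rw [this, Set.ncard_image_of_injective _ (MulAction.injective h), card_base]
  · intro T₁ T₂ T₁' T₂' a1 a2 a3 a4 b1 b2 b3 b4 hne hne'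
    obtain ⟨u1, c1', e1⟩ := exists_L15 (htrans a1 b1).1 (htrans a1 b1).2
    obtain ⟨u2, c2', e2⟩ := exists_L15 (htrans a2 b2).1 (htrans a2 b2).2
    obtain ⟨u3, c3', e3⟩ := exists_L15 (htrans a3 b3).1 (htrans a3 b3).2
    obtain ⟨u4, c4', e4⟩ := exists_L15 (htrans a4 b4).1 (htrans a4 b4).2
    have n1 : u1 ≠ u2 := by
      rintro rfl
      apply hne
      have := e1.symm.trans e2
      exact MulAction.injective _ this
    have n2 : u3 ≠ u4 := by
      rintro rfl
      apply hne'
      have := e3.symm.trans e4
      exact MulAction.injective _ this
    obtain ⟨p, hp, p1, p2⟩ := pairs_exists c1' c2' n1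
    obtain ⟨q, hq, q1, q2⟩ := pairs_exists c3' c4' n2
    obtain ⟨r, hr, hr2⟩ := reach210 p hp
    obtain ⟨r', hr', hr2'⟩ := reach210 q hq
    simp only [List.mem_singleton] at hr hr'
    subst hr
    subst hr'
    obtain ⟨s, hs, s1, s2⟩ := hr2
    obtain ⟨s', hs', s1', s2'⟩ := hr2'
    have hs3 : s • tr (c1 root210) = tr (c1 p) := congrArg Prod.fst s2
    have hs4 : s • tr (c2 root210) = tr (c2 p) := congrArg Prod.snd s2
    have hs3' : s' • tr (c1 root210) = tr (c1 q) := congrArg Prod.fst s2'
    have hs4' : s' • tr (c2 root210) = tr (c2 q) := congrArg Prod.snd s2'
    rw [p1] at hs3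
    rw [p2] at hs4
    rw [q1] at hs3'
    rw [q2] at hs4'
    refine ⟨h * (s' * s⁻¹) * h⁻¹, M24.mul_mem (M24.mul_mem hh (M24.mul_mem hs' (M24.inv_mem hs))) hhi, ?_, ?_, ?_⟩
    · simp only [mul_smul, inv_smul_smul]
      have : s⁻¹ • fs O0 = fs O0 := by
        conv_lhs => rw [← s1]
        rw [inv_smul_smul]
      rw [this, s1']
    · have e5 : T₁ = h • tr u1 := by rw [e1, smul_inv_smul]
      have e6 : T₁' = h • tr u3 := by rw [e3, smul_inv_smul]
      rw [e5, e6]
      simp only [mul_smul, inv_smul_smul]
      rw [← hs3, inv_smul_smul, hs3']
    · have e5 : T₂ = h • tr u2 := by rw [e2, smul_inv_smul]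
      have e6 : T₂' = h • tr u4 := by rw [e4, smul_inv_smul]
      rw [e5, e6]
      simp only [mul_smul, inv_smul_smul]
      rw [← hs4, inv_smul_smul, hs4']
  · intro g hg hgo
    set y := h⁻¹ * g * h with hy
    have hyM : y ∈ M24 := M24.mul_mem (M24.mul_mem hhi hg) hh
    have hgy : g = h * y * h⁻¹ := by rw [hy]; group
    have hyO : y • fs O0 = fs O0 := by
      rw [hy, mul_smul, mul_smul, hgo, inv_smul_smul]
    constructor
    · intro hT p hp
      obtain ⟨q, hq, rfl⟩ := Finset.mem_smul_finset.1 hp
      have hfix := pointwise_of_fix hyM hyO (fun T h1 h2 => by
        have h3 : h • T ∈ trios := smul_mem_trios hh h1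
        have h4 : h • fs O0 ∈ h • T := Finset.smul_mem_smul_finset h2
        have := hT _ h3 h4
        rw [hgy, mul_smul, mul_smul, inv_smul_smul] at this
        exact MulAction.injective h this) q hq
      show g (h q) = h q
      rw [hgy]
      simp [Equiv.Perm.mul_apply, hfix]
    · intro hp T h1 h2
      have hfix : ∀ p ∈ fs O0, y p = p := by
        intro p hp2
        have := hp (h p) (Finset.mem_smul_finset.2 ⟨p, hp2, rfl⟩)
        rw [hy]
        simp [Equiv.Perm.mul_apply, this]
      have := fix_of_pointwise hyM hfix (htrans h1 h2).1 (htrans h1 h2).2
      rw [hgy, mul_smul, mul_smul, this, smul_inv_smul]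

end Cfsg.Agent.S5615
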