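import Cfsg.Statements.S5619
import Cfsg.Agent.Lib.H27.GolayD

set_option autoImplicit false
open scoped Pointwise
open Cfsg

set_option maxRecDepth 100000
namespace Cfsg.Agent.S5619

open Cfsg.Agent.H27.Golay
open scoped Pointwise

section Q8
variable {G : Type*} [Group G]

/-- The map from the quaternion group given by two elements. -/
def q8Fun (A X : G) : QuaternionGroup 2 → G
  | .a i => A ^ (ZMod.val i)
  | .xa i => X * A ^ (ZMod.val i)

theorem val_add4 : ∀ i j : ZMod (2 * 2), (i + j).val = (i.val + j.val) % 4 := by decide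
theorem val_sub4 : ∀ i j : ZMod (2 * 2), (j - i).val = (3 * i.val + j.val) % 4 := by decide
theorem val_x4 : ∀ i j : ZMod (2 * 2), (((2 : ℕ) : ZMod (2 * 2)) + j - i).val = (2 + 3 * i.val + j.val) % 4 := by
  decide

theorem q8_hom (A X : G) (h4 : A ^ 4 = 1) (hX : X ^ 2 = A ^ 2) (hXA : X * A * X⁻¹ = A⁻¹) (a b : QuaternionGroup 2) :
    q8Fun A X (a * b) = q8Fun A X a * q8Fun A X b := by
  have hp : ∀ n : ℕ, A ^ (n % 4) = A ^ n := fun n => (pow_eq_pow_mod n h4).symm
  have hinv : A⁻¹ = A ^ 3 := by
    rw [inv_eq_iff_mul_eq_one, ← h4]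
    group
  have h0 : X * A⁻¹ * X⁻¹ = A := by
    have := congrArg (fun y => y⁻¹) hXA
    simpa [mul_assoc] using this
  have h1 : A * X = X * A ^ 3 := by
    rw [← hinv]
    nth_rewrite 1 [← h0]
    group
  have h2 : ∀ n : ℕ, A ^ n * X = X * A ^ (3 * n) := by
    intro n
    induction n with
    | zero => simp
    | succ k ih =>
      rw [pow_succ, mul_assoc, h1, ← mul_assoc, ih, mul_assoc, ← pow_add]
      congr 2
  cases a with
  | a i =>
    cases b with
    | a j =>
      show A ^ (i + j).val = A ^ i.val * A ^ j.val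
      rw [val_add4, hp, pow_add]
    | xa j =>
      show X * A ^ (j - i).val = A ^ i.val * (X * A ^ j.val)
      rw [val_sub4, hp, ← mul_assoc, h2, mul_assoc, ← pow_add]
  | xa i =>
    cases b with
    | a j =>
      show X * A ^ (i + j).val = X * A ^ i.val * A ^ j.val
      rw [val_add4, hp, pow_add, mul_assoc]
    | xa j =>
      show A ^ (((2 : ℕ) : ZMod (2 * 2)) + j - i).val = X * A ^ i.val * (X * A ^ j.val)
      rw [val_x4, hp, mul_assoc, ← mul_assoc (A ^ i.val), h2, mul_assoc, ← mul_assoc X, ← pow_two X, hX,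
        ← pow_add, ← pow_add]
      congr 1
      ring

/-- The hom from the quaternion group. -/
def q8Hom (A X : G) (h4 : A ^ 4 = 1) (hX : X ^ 2 = A ^ 2) (hXA : X * A * X⁻¹ = A⁻¹) :
    QuaternionGroup 2 →* G :=
  MonoidHom.mk' (q8Fun A X) (q8_hom A X h4 hX hXA)

end Q8

section Syl

theorem fact72_3 : (72 : ℕ).factorization 3 = 2 := by
  have : (72 : ℕ) = 3 ^ 2 * 8 := by norm_num
  rw [this, Nat.factorization_mul (by norm_num) (by norm_num), Nat.Prime.factorization_pow Nat.prime_three]
  simp only [Finsupp.add_apply, Finsupp.single_eq_same]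
  have : (8 : ℕ).factorization 3 = 0 := by
    apply Nat.factorization_eq_zero_of_not_dvd
    norm_num
  rw [this]

theorem fact72_2 : (72 : ℕ).factorization 2 = 3 := by
  have : (72 : ℕ) = 2 ^ 3 * 9 := by norm_num
  rw [this, Nat.factorization_mul (by norm_num) (by norm_num), Nat.Prime.factorization_pow Nat.prime_two]
  simp only [Finsupp.add_apply, Finsupp.single_eq_same]
  have : (9 : ℕ).factorization 2 = 0 := by
    apply Nat.factorization_eq_zero_of_not_dvd
    norm_num
  rw [this]

theorem sylow_facts {G : Type*} [Group G] (hG : Nat.card G = 72) (N : Subgroup G) (hN : N.Normal)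
    (hN9 : Nat.card N = 9) (hN3 : ∀ x ∈ N, x ^ 3 = 1) (f : QuaternionGroup 2 →* G)
    (hf : Function.Injective f) :
    (∀ Q : Sylow 3 G, (Q : Subgroup G).Normal ∧ Nat.card ↥Q = 9 ∧ ∀ x ∈ (Q : Subgroup G), x ^ 3 = 1) ∧
      ∀ P : Sylow 2 G, Nonempty (↥P ≃* QuaternionGroup 2) := by
  have hfin : Finite G := Nat.finite_of_card_ne_zero (by rw [hG]; norm_num)
  have : Fact (Nat.Prime 3) := ⟨Nat.prime_three⟩
  have : Fact (Nat.Prime 2) := ⟨Nat.prime_two⟩
  constructor
  · intro Q
    let R : Sylow 3 G := Sylow.ofCard N (by rw [hG, fact72_3, hN9]; norm_num)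
    have hR : (R : Subgroup G) = N := Sylow.coe_ofCard _ _
    have hU : Unique (Sylow 3 G) := R.unique_of_normal (by rw [hR]; exact hN)
    have hQ : Q = R := Subsingleton.elim _ _
    have hQ' : (Q : Subgroup G) = N := by rw [hQ, hR]
    refine ⟨by rw [hQ']; exact hN, ?_, by rw [hQ']; exact hN3⟩
    show Nat.card ↥(Q : Subgroup G) = 9
    rw [hQ', hN9]
  · intro P
    have hc : Nat.card ↥f.range = 8 := by
      rw [← Nat.card_congr (MonoidHom.ofInjective hf).toEquiv, Nat.card_eq_fintype_card, QuaternionGroup.card]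
    let R : Sylow 2 G := Sylow.ofCard f.range (by rw [hG, fact72_2, hc]; norm_num)
    have hR : (R : Subgroup G) = f.range := Sylow.coe_ofCard _ _
    have e1 : ↥P ≃* ↥R := P.equiv R
    have e2 : ↥R ≃* ↥f.range := MulEquiv.subgroupCongr hR
    exact ⟨(e1.trans e2).trans (MonoidHom.ofInjective hf).symm⟩

theorem sylow_facts_equiv {G K : Type*} [Group G] [Group K] (e : G ≃* K) (hG : Nat.card K = 72) (N : Subgroup K)
    (hN : N.Normal) (hN9 : Nat.card N = 9) (hN3 : ∀ x ∈ N, x ^ 3 = 1) (f : QuaternionGroup 2 →* K)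
    (hf : Function.Injective f) :
    (∀ Q : Sylow 3 G, (Q : Subgroup G).Normal ∧ Nat.card ↥Q = 9 ∧ ∀ x ∈ (Q : Subgroup G), x ^ 3 = 1) ∧
      ∀ P : Sylow 2 G, Nonempty (↥P ≃* QuaternionGroup 2) := by
  apply sylow_facts (N := N.comap e.toMonoidHom) (f := e.symm.toMonoidHom.comp f)
  · rw [Nat.card_congr e.toEquiv, hG]
  · exact hN.comap _
  · rw [← hN9]
    exact Nat.card_congr (Equiv.subtypeEquiv e.toEquiv (fun a => Iff.rfl))
  · intro x hx
    apply e.injective
    rw [map_pow, map_one]
    exact hN3 _ hx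
  · exact e.symm.injective.comp hf

end Syl
def gens21 : List ℕ := [964700707618551214678472686728356896, 973923736861094142714434559957808160, 974050930499262909373706893418714144]

def l280 : List ℕ := [8916911, 8712067, 12623715, 10637127, 15994635, 10108675, 10522331, 8470215, 9707187, 12144259, 9637483, 13659731, 9096755, 12930599, 8793631, 15212055, 13217291, 10984963, 10816995, 8936915, 11546007, 9543051, 9866579, 14224711, 10624315, 13380915, 8629543, 12635423, 9391371, 14777603, 10005731, 9718991, 8481979, 10542247, 9276567, 11287691, 15223915, 8813667, 12917851, 11218003, 9083983, 14986311, 15830067, 13646895, 12454951, 9657367, 11725835, 14474243, 8608675, 12598171, 11406227, 14781319, 8670075, 8956759, 11082571, 13052739, 13765431, 10324771, 11590419, 9530127, 13175539, 8817383, 9071307, 14965443, 13683371, 9677459, 11672207, 14428807, 9984615, 11864663, 9747019, 16419395, 8493631, 13507115, 14895643, 9271827, 11323919, 12777991, 12610023, 8587743, 13404619, 10664387, 9841067, 16259491, 13978003,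 10144135, 9517427, 11569519, 13785419, 12347715, 11094327, 8976683, 15124771, 10856731, 13342995, 15345935, 11684083, 13670615, 15804619, 10426563, 14944447, 9058487, 11241643, 12957859, 8837275, 15263891, 13195407, 10971271, 12757115, 11311219, 9250927, 14882919, 10516575, 13518935, 9758775, 11884587, 14379043, 16136211, 14125071, 12171271, 12847063, 9144259, 13707171, 9586587, 12060531, 9787203, 8419127, 10602283, 9213723, 14853907, 12785423, 11347719, 14161611, 11937475, 10684087, 8566443, 15500963, 12703379, 14706319, 9328263, 8758899, 10753647, 13248103, 8996447, 13026891, 11073091, 10249771, 15881763, 11613723, 14616083, 9573863, 15779267, 12866987, 11167139, 15271323, 8861075, 10913167, 13153671, 12797299, 9225575, 10589527, 15603011, 9766207, 14320939, 11842851, 10085651, 12080399, 14050567, 9307387, 14693619, 12682479, 8578263, 10704075, 13460675, 14173367, 9946275, 13935771, 12227731, 10167439, 16061575, 9491579, 11625575, 15860831, 10237015, 12420171, 13874243, 11052095, 13014071, 15148075,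 13267995, 8778767, 15451143, 14812139, 9188323, 10576851, 8442831, 11813799, 10032023, 12100491, 14062467, 9626467, 13730651, 10355535, 15741767, 9118523, 15012659, 12886831, 11178791, 8897303, 10908427, 9446143, 11637475, 10273491, 13845191, 11031227, 13001395, 9036455, 13271711, 10793623, 15413891, 14729847, 12677739, 11485795, 15475291, 10723919, 13472327, 11960891, 14201395, 16319023, 9908775, 13914655, 12214807, 10211851, 16114179, 10043883, 11801051, 14295507, 9806279, 10564015, 13566375, 9200031, 14832023, 12837259, 11391363, 13111679, 10887543, 8884587, 15311203, 11190619, 12906835, 15024463, 9138503, 15753531, 10375475, 13750567, 9613599, 16548119, 14496011, 8737015, 10805483, 13291747, 9023707, 15171795, 12988623, 13832379, 12394675, 10260655, 15900839, 11649183, 16662667, 10190967, 12202091, 9920603, 16339027, 14213199, 11980871, 13484091, 10743859, 15495207, 11472927]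

def inf280 : ℕ := 0x3200805400f04002303403c0520540640840240e406009b05003205207d0600950400bd0420ed04004a0540480500750500540501010540d30420f906406105200b0400410500e80620a205402404404a04406a0500010600a503411105008004404402005d06201f0620b40640dc0541040440bf05202b04204604006903203b0300c705005e0600810600b20420cd0520b305202a06401801400006004204011703003b0520c405202105203f0620dc0500a60520da04006a0600e604008a05405e05000f0440a30500820420c20500f104206406409e0620eb05010c03405a04208d0540a60420730700ff05009c02205d0520ee0620940400bf05409703009d0620700601000320c70640a903000805203d0400730600d60500520500cc0640940500fd04009905406204204105408706209b06201a0520370620b906007a05410b05009805401e0540770400cd0440bd04408a05208205204f0320f60501150640e70540b50520580520900240910401140541150540d80300880440690400a306402e0540cc0540ee06210606206f0100000440ec06007e0500c403005a05405605207503409d05002b0200e40400640620850500ef0521150500d804409905209c0440c206404e05002104204a03403b0500bb05010b0520d106202e04408d0540a80441170420e103203c06402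605007d0540b30500590340080520130600eb0540bb03408803209d06002605006205403d05003f03011105204b0400ec05005806407605210a0400460120000600b805403f02009104206a0421140600f804407305210104411406004704206e0620f006205b0400f90500970621000740780440cd03208805403204207c0500ca03205a0640a203211105207705409c0340f60520f70420690340c70440160220910220e406209a0640340620b80400ed0540c40520a605405406409f0420230600610620df05205e0520ef06209506206304402304406e0620550520fd06208b05200c05001204007c03003c0520050420ec0600a905207404404605001e0640d70420a30520ca05404b0520a80520e80300f60520cc0501040420bd04203e04006e0600d204004406409b0500b504008d0420bf05405206008e02405d06004e0420990421170640f00540a70540590440f9000000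

def l72 : List ℕ := [984818244535754528103549039458486304, 984202951082164080105044112956360736, 972848450169392308864318595955656736, 976971125888013483762491137029572640, 961079787467313937456055785353414688, 961327079413966076192995477454915616, 976787280418045890055396795727841312, 972962623561235543520306723090434080, 984493369334060478447889424982281248, 984189051602620912599443602052123680, 971779189269732981425585456875277344, 983354684816626474864219634232724512, 971138705012514210438232219795622944, 983230593436372928596153722443467808, 975524616548857975425063361142164512, 975602013179216351305727754606578720, 984486984162644182902365065882702880, 984797642623984997567594628879848480, 981852856453870691316231810670892064, 982011659827752467840231932522927136, 963881089842728872823583600816722976, 978927035172452579704480316776584224, 963754271241959923959502454930117664, 979383345905593356726534456079914016, 973173285074927723309371388176964640, 971575929332064763884533976411511840, 982095968504839095877435260045270048,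 982021395809094805106603186071018528, 971148618504046477153653171615472672, 974426636838602690109176054349634592, 973804896116145416835644806975036448, 972967873026611315860012049128594464, 976321969699999921182854778855694368, 983557785946333995028011165933477920, 982092115619579491954449515298332704, 981859216195515215789786245830516768, 977712706278281280736058963787030560, 983226071518244982684823836409798688, 976776987172681867258656533834473504, 977982431439811998543946361927737376, 961241848472040910898599805844530208, 971584878481603836252719053300409376, 964084547435473633100751553549214752, 971797536695641304457252446696350752, 978320980801228321302614373466121248, 961333268061182063838009932899492896, 963762134927222031982003561441895456, 978003035399514042350403113521357856, 961245712294459857336718169563277344, 983555191475459848604701580050147360, 979576111728874236425554375241541664, 974102355783867883902327031796574240, 983347448773007252887433374440106016, 961090354339738529234131903639234592,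 973824537473484797505665436880316448, 979364143124769747770282942427408416, 976341463770278259522643428475218976, 975362158564839855078191020298578976, 964079107011774612601288705943186464, 974088295451905503818847452589698080, 976979731805388921430930792976231456, 963883789474434064746836317010439200, 974433247249825690626314945982442528, 975612133939854899787795410356644896, 973165567093004945196831069452717088, 975358466417116351383961261436947488, 979586328606383424427148734998170656, 972846138368370277849551272681917472, 978307108142926337335364476894202912, 977718725454645408129497518449151008, 978917969576762296927153469988883488, 975531082919000886777675630794624032]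

def l9 : List ℕ := [984818244535754528103549039458486304, 984189051602620912599443602052123680, 984486984162644182902365065882702880, 974426636838602690109176054349634592, 977712706278281280736058963787030560, 978003035399514042350403113521357856, 973824537473484797505665436880316448, 974088295451905503818847452589698080, 978307108142926337335364476894202912]

def cA : ℕ := 972848450169392308864318595955656736

def cX : ℕ := 976971125888013483762491137029572640

def W9 : ℕ := 3


section Lists

theorem l72_ok : allL (fun π => stabO D0m π && Nat.beq (pa π 23) 23 && Nat.beq (pa π 0) 0 && Nat.beq (pa π 1) 1) l72 = true := by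
  decide +kernel

theorem l9_sub : ∀ π ∈ l9, π ∈ l72 := by decide +kernel

theorem l72_spec {π : ℕ} (h : π ∈ l72) : isM24 π = true ∧ P π • fs D0m = fs D0m ∧
    P π (pt 23) = pt 23 ∧ P π (pt 0) = pt 0 ∧ P π (pt 1) = pt 1 := by
  have h1 := allL_spec l72_ok π h
  simp only [Bool.and_eq_true] at h1
  obtain ⟨⟨⟨h2, h3⟩, h4⟩, h5⟩ := h1
  obtain ⟨h6, h7⟩ := stabO_spec h2
  have hok := isM24_permOK h6
  refine ⟨h6, h7, ?_, ?_, ?_⟩
  · rw [P_pt hok (by norm_num), Nat.eq_of_beq_eq_true h3]
  · rw [P_pt hok (by norm_num), Nat.eq_of_beq_eq_true h4]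
  · rw [P_pt hok (by norm_num), Nat.eq_of_beq_eq_true h5]

/-- The group of order 72 at the base. -/
def K0 : Subgroup (Equiv.Perm GolayPt) :=
  fixG [1, 0, 23] ⊓ MulAction.stabilizer (Equiv.Perm GolayPt) (fs D0m)

theorem mem_K0 {g : Equiv.Perm GolayPt} : g ∈ K0 ↔ g ∈ M24 ∧ g (pt 23) = pt 23 ∧ g (pt 0) = pt 0 ∧
    g (pt 1) = pt 1 ∧ g • fs D0m = fs D0m := by
  constructor
  · rintro ⟨⟨h1, h2⟩, h3⟩
    exact ⟨h1, h2 23 (by simp), h2 0 (by simp), h2 1 (by simp), h3⟩
  · rintro ⟨h1, h2, h3, h4, h5⟩
    refine ⟨⟨h1, ?_⟩, h5⟩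
    intro i hi
    simp only [List.mem_cons, List.not_mem_nil, or_false] at hi
    rcases hi with rfl | rfl | rfl
    · exact h4
    · exact h3
    · exact h2

theorem P_mem_K0 {π : ℕ} (h : π ∈ l72) : P π ∈ K0 := by
  obtain ⟨h1, h2, h3, h4, h5⟩ := l72_spec h
  exact mem_K0.2 ⟨P_mem_M24 h1, h3, h4, h5, h2⟩

/-- The base triple. -/
def t0 : GolayPt × GolayPt × GolayPt := (pt 23, pt 0, pt 1)

theorem smul_t0_iff {g : Equiv.Perm GolayPt} :
    g • t0 = t0 ↔ g (pt 23) = pt 23 ∧ g (pt 0) = pt 0 ∧ g (pt 1) = pt 1 := by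
  show (g • pt 23, g • pt 0, g • pt 1) = (pt 23, pt 0, pt 1) ↔ _
  simp [Equiv.Perm.smul_def]

theorem gens21_ok : allL (fun π => isM24 π && Nat.beq (pa π 23) 23 && Nat.beq (pa π 0) 0 && Nat.beq (pa π 1) 1) gens21 = true := by
  decide +kernel

theorem gens21_spec {π : ℕ} (h : π ∈ gens21) : isM24 π = true ∧ P π • t0 = t0 := by
  have h1 := allL_spec gens21_ok π h
  simp only [Bool.and_eq_true] at h1
  obtain ⟨⟨⟨h2, h3⟩, h4⟩, h5⟩ := h1
  have hok := isM24_permOK h2
  refine ⟨h2, smul_t0_iff.2 ⟨?_, ?_, ?_⟩⟩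
  · rw [P_pt hok (by norm_num), Nat.eq_of_beq_eq_true h3]
  · rw [P_pt hok (by norm_num), Nat.eq_of_beq_eq_true h4]
  · rw [P_pt hok (by norm_num), Nat.eq_of_beq_eq_true h5]

theorem reach280 : ∀ c ∈ l280, ∃ r ∈ [D0m], fs c ∈ Orb t0 (fs r) :=
  forest_reach t0 fs l280 actO gens21 24 (packL 24 l280) inf280 [D0m]
    (fun π hπ => ⟨P_mem_M24 (gens21_spec hπ).1, (gens21_spec hπ).2⟩)
    (fun π hπ _ _ _ _ h => actO_spec (gens21_spec hπ).1 h)
    (by decide +kernel) (by decide +kernel) (by decide +kernel)

/-- Test for a code of a dodecad through the three base points. -/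
def chk280 (d : ℕ) : Bool :=
  Bool.rec true (memL d l280)
    (Nat.testBit d 23 && Nat.testBit d 0 && Nat.testBit d 1)

theorem chk280_ok : allL chk280 dodecadL = true := by decide +kernel

theorem l280_sub : ∀ c ∈ l280, c ∈ dodecadL := by decide +kernel
theorem l280_lt : ∀ c ∈ l280, c < 2 ^ 24 := fun c hc => dodecadL_lt (l280_sub c hc)

theorem pts_D0 : pt 23 ∈ fs D0m ∧ pt 0 ∈ fs D0m ∧ pt 1 ∈ fs D0m := by decide +kernel

theorem mem_l280 {x : Finset GolayPt} (hx : x ∈ dodecads) (h1 : pt 23 ∈ x) (h2 : pt 0 ∈ x)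
    (h3 : pt 1 ∈ x) : ∃ c ∈ l280, fs c = x := by
  have hm := mem_dodecads_iff_mask.1 hx
  have hb := allL_spec chk280_ok _ hm
  have bit : ∀ i (hi : i < 24), pt i ∈ x → Nat.testBit (maskOf x) i = true := by
    intro i hi h
    have := testBit_maskOf x (pt i)
    rw [idx_pt' hi] at this
    rw [this]
    simpa using h
  have h4 : (Nat.testBit (maskOf x) 23 && Nat.testBit (maskOf x) 0 && Nat.testBit (maskOf x) 1) = true := by
    rw [bit 23 (by norm_num) h1, bit 0 (by norm_num) h2, bit 1 (by norm_num) h3]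
    rfl
  unfold chk280 at hb
  rw [h4] at hb
  exact ⟨maskOf x, (memL_iff _ _).1 hb, fs_maskOf x⟩

theorem Orb_eq280 : Orb t0 (fs D0m) = {x | ∃ c ∈ l280, fs c = x} := by
  ext x
  constructor
  · rintro ⟨s, hs, h1, rfl⟩
    obtain ⟨a1, a2, a3⟩ := smul_t0_iff.1 h1
    have hmem : ∀ i, s (pt i) = pt i → pt i ∈ fs D0m → pt i ∈ s • fs D0m := by
      intro i hi hh
      have := Finset.smul_mem_smul_finset (a := s) hh
      rwa [Equiv.Perm.smul_def, hi] at this
    exact mem_l280 (smul_mem_dodecads hs fsD0_mem) (hmem _ a1 pts_D0.1) (hmem _ a2 pts_D0.2.1)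
      (hmem _ a3 pts_D0.2.2)
  · rintro ⟨c, hc, rfl⟩
    obtain ⟨r, hr, h⟩ := reach280 c hc
    rw [List.mem_singleton] at hr
    subst hr
    exact h

theorem l280_nodup : l280.Nodup := by decide +kernel

theorem ncard_280 : (Orb t0 (fs D0m)).ncard = 280 := by
  have h := ncard_of_list (Q := fun _ => True) (test := fun _ => true) (A := {x | ∃ c ∈ l280, fs c = x}) fs l280_nodup
    (fun m hm n hn e => fs_injOn (l280_lt m hm) (l280_lt n hn) e) (fun x => Iff.rfl)
    (fun m _ => by simp)
  have h2 : {x | x ∈ {x | ∃ c ∈ l280, fs c = x} ∧ True} = Orb t0 (fs D0m) := by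
    rw [Orb_eq280]
    ext x; simp
  rw [h2] at h
  rw [h]
  decide +kernel

theorem card_K0 : Nat.card ↥K0 = 72 := by
  have h1 := card_inf_stab t0 (fs D0m)
  rw [ncard_280] at h1
  have h2 : Nat.card ↥(MulAction.stabilizer M24 t0) = 20160 := by
    rw [← card_fix3]
    apply Nat.card_congr
    exact {
      toFun := fun g => ⟨g.1.1, (mem_fixG).2 ⟨g.1.2, by
        obtain ⟨a1, a2, a3⟩ := smul_t0_iff.1 g.2
        intro i hi
        simp only [List.mem_cons, List.not_mem_nil, or_false] at hi
        rcases hi with rfl | rfl | rfl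
        · exact a3
        · exact a2
        · exact a1⟩⟩
      invFun := fun g => ⟨⟨g.1, ((mem_fixG).1 g.2).1⟩, smul_t0_iff.2
        ⟨((mem_fixG).1 g.2).2 23 (by simp), ((mem_fixG).1 g.2).2 0 (by simp), ((mem_fixG).1 g.2).2 1 (by simp)⟩⟩
      left_inv := fun g => rfl
      right_inv := fun g => rfl }
  have h3 : Nat.card ↥(MulAction.stabilizer M24 t0 ⊓ MulAction.stabilizer M24 (fs D0m)) = Nat.card ↥K0 := by
    apply Nat.card_congr
    exact {
      toFun := fun g => ⟨g.1.1, mem_K0.2 (by
        obtain ⟨a1, a2, a3⟩ := smul_t0_iff.1 g.2.1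
        exact ⟨g.1.2, a1, a2, a3, g.2.2⟩)⟩
      invFun := fun g => ⟨⟨g.1, (mem_K0.1 g.2).1⟩, by
        obtain ⟨b0, b1, b2, b3, b4⟩ := mem_K0.1 g.2
        exact ⟨smul_t0_iff.2 ⟨b1, b2, b3⟩, b4⟩⟩
      left_inv := fun g => rfl
      right_inv := fun g => rfl }
  rw [h2, h3] at h1
  omega

end Lists

section Sub

/-- Pairwise distinct as permutations. -/
def distL (L : List ℕ) : Prop := L.Pairwise fun a b => sameCode a b = false

instance (L : List ℕ) : Decidable (distL L) := by
  unfold distL
  infer_instance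

theorem nodup_map_P {L : List ℕ} (h : distL L) (hok : ∀ π ∈ L, permOK π = true) : (L.map P).Nodup := by
  rw [List.Nodup, List.pairwise_map]
  have h2 : L.Pairwise (fun a b => sameCode a b = false ∧ a ∈ L ∧ b ∈ L) :=
    List.Pairwise.and_mem.1 h |>.imp (fun {a b} h => ⟨h.2.2, h.1, h.2.1⟩)
  refine h2.imp ?_
  rintro a b ⟨h3, h4, h5⟩ heq
  rw [sameCode_of_P_eq (hok a h4) (hok b h5) heq] at h3
  cases h3

theorem ncard_P {L : List ℕ} (h : distL L) (hok : ∀ π ∈ L, permOK π = true) :
    {g | ∃ π ∈ L, g = P π}.ncard = L.length := by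
  classical
  have : {g | ∃ π ∈ L, g = P π} = ((L.map P).toFinset : Set (Equiv.Perm GolayPt)) := by
    ext g
    simp only [Set.mem_ofPred_eq, Finset.mem_coe, List.mem_toFinset, List.mem_map]
    constructor
    · rintro ⟨π, h1, rfl⟩
      exact ⟨π, h1, rfl⟩
    · rintro ⟨π, h1, rfl⟩
      exact ⟨π, h1, rfl⟩
  rw [this, Set.ncard_coe_finset, List.toFinset_card_of_nodup (nodup_map_P h hok), List.length_map]

theorem l72_dist : distL l72 := by decide +kernel
theorem l9_dist : distL l9 := by decide +kernel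

theorem l72_permOK : ∀ π ∈ l72, permOK π = true := fun π h => isM24_permOK (l72_spec h).1
theorem l9_permOK : ∀ π ∈ l9, permOK π = true := fun π h => l72_permOK π (l9_sub π h)

theorem K0_list {g : Equiv.Perm GolayPt} (hg : g ∈ K0) : ∃ π ∈ l72, g = P π := by
  have hsub : {g | ∃ π ∈ l72, g = P π} ⊆ (K0 : Set (Equiv.Perm GolayPt)) := by
    rintro _ ⟨π, h, rfl⟩
    exact P_mem_K0 h
  have h1 := ncard_P l72_dist l72_permOK
  have h2 : (K0 : Set (Equiv.Perm GolayPt)).ncard = 72 := by
    rw [← Nat.card_coe_set_eq]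
    exact card_K0
  have h3 : l72.length = 72 := by decide +kernel
  have := Set.eq_of_subset_of_ncard_le hsub (by rw [h1, h2, h3])
  have h4 : g ∈ (K0 : Set (Equiv.Perm GolayPt)) := hg
  rw [← this] at h4
  exact h4

theorem l9_idm : idCode ∈ l9 := by decide +kernel
theorem l9_mul : ∀ π ∈ l9, ∀ σ ∈ l9, pcomp π σ ∈ l9 := by decide +kernel
theorem l9_inv : ∀ π ∈ l9, pinv π ∈ l9 := by decide +kernel
theorem l9_norm : ∀ γ ∈ l72, ∀ ν ∈ l9, pcomp (pcomp γ ν) (pinv γ) ∈ l9 := by decide +kernel
theorem l9_cube : ∀ ν ∈ l9, pcomp (pcomp ν ν) ν = idCode := by decide +kernel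

/-- The normal subgroup of order 9. -/
def N9 : Subgroup (Equiv.Perm GolayPt) where
  carrier := {g | ∃ π ∈ l9, g = P π}
  one_mem' := ⟨idCode, l9_idm, P_idCode.symm⟩
  mul_mem' := by
    rintro _ _ ⟨π, h1, rfl⟩ ⟨σ, h2, rfl⟩
    exact ⟨_, l9_mul π h1 σ h2, (P_pcomp (l9_permOK π h1) (l9_permOK σ h2)).symm⟩
  inv_mem' := by
    rintro _ ⟨π, h1, rfl⟩
    exact ⟨_, l9_inv π h1, (P_pinv (l9_permOK π h1)).symm⟩

theorem N9_le : N9 ≤ K0 := by
  rintro _ ⟨π, h1, rfl⟩
  exact P_mem_K0 (l9_sub π h1)

theorem card_N9 : Nat.card ↥N9 = 9 := by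
  have h1 := ncard_P l9_dist l9_permOK
  have h3 : l9.length = 9 := by decide +kernel
  rw [h3] at h1
  rw [← h1, ← Nat.card_coe_set_eq]
  rfl

theorem N9_normal {g n : Equiv.Perm GolayPt} (hg : g ∈ K0) (hn : n ∈ N9) : g * n * g⁻¹ ∈ N9 := by
  obtain ⟨γ, h1, rfl⟩ := K0_list hg
  obtain ⟨ν, h2, rfl⟩ := hn
  have hγ := l72_permOK γ h1
  have hν := l9_permOK ν h2
  refine ⟨_, l9_norm γ h1 ν h2, ?_⟩
  rw [P_pcomp (permOK_pcomp hγ hν) (permOK_pinv hγ), P_pcomp hγ hν, P_pinv hγ]

theorem N9_cube {n : Equiv.Perm GolayPt} (hn : n ∈ N9) : n ^ 3 = 1 := by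
  obtain ⟨ν, h2, rfl⟩ := hn
  have hν := l9_permOK ν h2
  have := l9_cube ν h2
  have h3 : P (pcomp (pcomp ν ν) ν) = P idCode := by rw [this]
  rw [P_pcomp (permOK_pcomp hν hν) hν, P_pcomp hν hν, P_idCode] at h3
  rw [pow_succ, pow_two]
  exact h3

theorem cA_mem : cA ∈ l72 := by decide +kernel
theorem cX_mem : cX ∈ l72 := by decide +kernel

theorem cA_ok : permOK cA = true := l72_permOK _ cA_mem
theorem cX_ok : permOK cX = true := l72_permOK _ cX_mem

theorem rel4 : pcomp (pcomp cA cA) (pcomp cA cA) = idCode := by decide +kernel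
theorem relX : pcomp cX cX = pcomp cA cA := by decide +kernel
theorem relXA : pcomp (pcomp cX cA) (pinv cX) = pinv cA := by decide +kernel

theorem A4 : P cA ^ 4 = 1 := by
  have h : P (pcomp (pcomp cA cA) (pcomp cA cA)) = 1 := by rw [rel4, P_idCode]
  rw [P_pcomp (permOK_pcomp cA_ok cA_ok) (permOK_pcomp cA_ok cA_ok), P_pcomp cA_ok cA_ok] at h
  rw [show (4 : ℕ) = 2 + 2 from rfl, pow_add, pow_two]
  exact h

theorem X2 : P cX ^ 2 = P cA ^ 2 := by
  have h : P (pcomp cX cX) = P (pcomp cA cA) := by rw [relX]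
  rw [P_pcomp cX_ok cX_ok, P_pcomp cA_ok cA_ok] at h
  rw [pow_two, pow_two]
  exact h

theorem XA : P cX * P cA * (P cX)⁻¹ = (P cA)⁻¹ := by
  have h : P (pcomp (pcomp cX cA) (pinv cX)) = P (pinv cA) := by rw [relXA]
  rw [P_pcomp (permOK_pcomp cX_ok cA_ok) (permOK_pinv cX_ok), P_pcomp cX_ok cA_ok, P_pinv cX_ok, P_pinv cA_ok] at h
  exact h

/-- A point on which the quaternion subgroup acts semiregularly. -/
def img (q : QuaternionGroup 2) : ℕ :=
  match q with
  | .a i => (pa cA)^[i.val] W9
  | .xa i => pa cX ((pa cA)^[i.val] W9)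

theorem img_lt : ∀ k : Fin 4, (pa cA)^[k.val] W9 < 24 := by decide +kernel

theorem img_inj : ∀ a b : QuaternionGroup 2, img a = img b → a = b := by decide +kernel

theorem pow_pt (k : ℕ) (hk : k < 4) : (P cA ^ k) (pt W9) = pt ((pa cA)^[k] W9) := by
  have hlt : ∀ j, j < 4 → (pa cA)^[j] W9 < 24 := fun j hj => img_lt ⟨j, hj⟩
  induction k with
  | zero => rfl
  | succ j ih =>
    rw [pow_succ', Equiv.Perm.mul_apply, ih (by omega), Function.iterate_succ_apply',
      P_pt cA_ok (hlt j (by omega))]

theorem q8_apply (q : QuaternionGroup 2) : (q8Fun (P cA) (P cX) q) (pt W9) = pt (img q) := by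
  have hval : ∀ i : ZMod (2 * 2), i.val < 4 := fun i => ZMod.val_lt i
  cases q with
  | a i =>
    show (P cA ^ i.val) (pt W9) = _
    exact pow_pt _ (hval i)
  | xa i =>
    show (P cX * P cA ^ i.val) (pt W9) = _
    rw [Equiv.Perm.mul_apply, pow_pt _ (hval i), P_pt cX_ok (img_lt ⟨_, hval i⟩)]
    rfl

theorem img_lt' : ∀ q : QuaternionGroup 2, img q < 24 := by decide +kernel

theorem q8_inj : Function.Injective (q8Hom (P cA) (P cX) A4 X2 XA) := by
  intro a b h
  apply img_inj
  have h2 : q8Fun (P cA) (P cX) a = q8Fun (P cA) (P cX) b := h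
  have h3 := congrArg (fun f => f (pt W9)) h2
  simp only [q8_apply] at h3
  have h4 := congrArg idx h3
  rwa [idx_pt' (img_lt' a), idx_pt' (img_lt' b)] at h4

theorem q8_mem (q : QuaternionGroup 2) : q8Hom (P cA) (P cX) A4 X2 XA q ∈ K0 := by
  have hA := P_mem_K0 cA_mem
  have hX := P_mem_K0 cX_mem
  cases q with
  | a i => exact K0.pow_mem hA _
  | xa i => exact K0.mul_mem hX (K0.pow_mem hA _)

/-- The hom into the base group. -/
noncomputable def q8K : QuaternionGroup 2 →* ↥K0 :=
  (q8Hom (P cA) (P cX) A4 X2 XA).codRestrict K0 q8_mem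

theorem q8K_inj : Function.Injective q8K := by
  intro a b h
  apply q8_inj
  exact congrArg Subtype.val h

/-- The subgroup of order 9 inside the base group. -/
def N9K : Subgroup ↥K0 := N9.subgroupOf K0

theorem N9K_normal : N9K.Normal := ⟨fun n hn g => by
  have h1 : ((n : Equiv.Perm GolayPt)) ∈ N9 := hn
  show (g : Equiv.Perm GolayPt) * n * (g : Equiv.Perm GolayPt)⁻¹ ∈ N9
  exact N9_normal g.2 h1⟩

theorem card_N9K : Nat.card ↥N9K = 9 := by
  rw [← card_N9]
  exact Nat.card_congr (Subgroup.subgroupOfEquivOfLe N9_le).toEquiv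

theorem N9K_cube : ∀ x ∈ N9K, x ^ 3 = 1 := by
  intro x hx
  apply Subtype.ext
  exact N9_cube hx

end Sub

theorem exists_three {p q r : GolayPt} (hpq : p ≠ q) (hpr : p ≠ r) (hqr : q ≠ r) :
    ∃ g ∈ M24, g (pt 23) = p ∧ g (pt 0) = q ∧ g (pt 1) = r := by
  classical
  obtain ⟨x, -, hx⟩ := Finset.exists_mem_notMem_of_card_lt_card (s := {p, q, r}) (t := Finset.univ)
    (lt_of_le_of_lt Finset.card_le_three (by decide))
  obtain ⟨y, -, hy⟩ := Finset.exists_mem_notMem_of_card_lt_card (s := {p, q, r, x}) (t := Finset.univ)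
    (lt_of_le_of_lt Finset.card_le_four (by decide))
  simp only [Finset.mem_insert, Finset.mem_singleton, not_or] at hx hy
  obtain ⟨a1, a2, a3⟩ := hx
  obtain ⟨b1, b2, b3, b4⟩ := hy
  let X : Fin 5 → GolayPt := ![pt 23, pt 0, pt 1, pt 2, pt 3]
  let Y : Fin 5 → GolayPt := ![p, q, r, x, y]
  have hX : Function.Injective X := by decide +kernel
  have hY : Function.Injective Y := by
    intro i j h
    fin_cases i <;> fin_cases j <;> simp [Y] at h ⊢ <;> simp_all [eq_comm]
  obtain ⟨g, hg, h⟩ := five_transitive X Y hX hY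
  exact ⟨g, hg, h 0, h 1, h 2⟩

theorem exists_base_u {d : Finset GolayPt} (hd : d ∈ dodecads) {p q r : GolayPt} (hp : p ∈ d) (hq : q ∈ d)
    (hr : r ∈ d) (hpq : p ≠ q) (hpr : p ≠ r) (hqr : q ≠ r) :
    ∃ u ∈ M24, u • fs D0m = d ∧ u (pt 23) = p ∧ u (pt 0) = q ∧ u (pt 1) = r := by
  obtain ⟨g, hg, rfl, rfl, rfl⟩ := exists_three hpq hpr hqr
  have hgi := M24.inv_mem hg
  have hin : ∀ i, g (pt i) ∈ d → pt i ∈ g⁻¹ • d := by
    intro i h
    have := Finset.smul_mem_smul_finset (a := g⁻¹) h
    simpa [Equiv.Perm.smul_def] using this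
  obtain ⟨c, hc, e⟩ := mem_l280 (smul_mem_dodecads hgi hd) (hin _ hp) (hin _ hq) (hin _ hr)
  have h1 : fs c ∈ Orb t0 (fs D0m) := by
    rw [Orb_eq280]
    exact ⟨c, hc, rfl⟩
  obtain ⟨s, hs, h2, h3⟩ := h1
  obtain ⟨a1, a2, a3⟩ := smul_t0_iff.1 h2
  refine ⟨g * s, M24.mul_mem hg hs, ?_, ?_, ?_, ?_⟩
  · rw [mul_smul, h3, e, smul_inv_smul]
  · rw [Equiv.Perm.mul_apply, a1]
  · rw [Equiv.Perm.mul_apply, a2]
  · rw [Equiv.Perm.mul_apply, a3]

/-- The conjugation isomorphism with the base group. -/
def equivK {d : Finset GolayPt} {p q r : GolayPt} {u : Equiv.Perm GolayPt} (hu : u ∈ M24)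
    (h0 : u • fs D0m = d) (h1 : u (pt 23) = p) (h2 : u (pt 0) = q) (h3 : u (pt 1) = r) :
    ↥(MulAction.stabilizer M24 d ⊓ MulAction.stabilizer M24 p ⊓ MulAction.stabilizer M24 q ⊓
      MulAction.stabilizer M24 r) ≃* ↥K0 where
  toFun g := ⟨u⁻¹ * ((g : ↥M24) : Equiv.Perm GolayPt) * u, by
    obtain ⟨⟨⟨a0, a1⟩, a2⟩, a3⟩ := g.2
    have a0' : ((g : ↥M24) : Equiv.Perm GolayPt) • d = d := a0
    have a1' : ((g : ↥M24) : Equiv.Perm GolayPt) p = p := a1
    have a2' : ((g : ↥M24) : Equiv.Perm GolayPt) q = q := a2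
    have a3' : ((g : ↥M24) : Equiv.Perm GolayPt) r = r := a3
    refine mem_K0.2 ⟨M24.mul_mem (M24.mul_mem (M24.inv_mem hu) (g : ↥M24).2) hu, ?_, ?_, ?_, ?_⟩
    · show u⁻¹ (((g : ↥M24) : Equiv.Perm GolayPt) (u (pt 23))) = pt 23
      rw [h1, a1', ← h1]
      simp
    · show u⁻¹ (((g : ↥M24) : Equiv.Perm GolayPt) (u (pt 0))) = pt 0
      rw [h2, a2', ← h2]
      simp
    · show u⁻¹ (((g : ↥M24) : Equiv.Perm GolayPt) (u (pt 1))) = pt 1
      rw [h3, a3', ← h3]
      simp
    · rw [mul_smul, mul_smul, h0, a0', ← h0, inv_smul_smul]⟩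
  invFun g := ⟨⟨u * g * u⁻¹, M24.mul_mem (M24.mul_mem hu (mem_K0.1 g.2).1) (M24.inv_mem hu)⟩, by
    obtain ⟨b0, b1, b2, b3, b4⟩ := mem_K0.1 g.2
    refine ⟨⟨⟨?_, ?_⟩, ?_⟩, ?_⟩
    · show (u * (g : Equiv.Perm GolayPt) * u⁻¹) • d = d
      rw [← h0, mul_smul, mul_smul, inv_smul_smul, b4]
    · show (u * (g : Equiv.Perm GolayPt) * u⁻¹) p = p
      rw [← h1]
      simp [Equiv.Perm.mul_apply, b1]
    · show (u * (g : Equiv.Perm GolayPt) * u⁻¹) q = q
      rw [← h2]
      simp [Equiv.Perm.mul_apply, b2]
    · show (u * (g : Equiv.Perm GolayPt) * u⁻¹) r = r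
      rw [← h3]
      simp [Equiv.Perm.mul_apply, b3]⟩
  left_inv g := by
    apply Subtype.ext
    apply Subtype.ext
    show u * (u⁻¹ * ((g : ↥M24) : Equiv.Perm GolayPt) * u) * u⁻¹ = _
    group
  right_inv g := by
    apply Subtype.ext
    show u⁻¹ * (u * (g : Equiv.Perm GolayPt) * u⁻¹) * u = _
    group
  map_mul' a b := by
    apply Subtype.ext
    show u⁻¹ * (((a : ↥M24) : Equiv.Perm GolayPt) * ((b : ↥M24) : Equiv.Perm GolayPt)) * u =
      (u⁻¹ * ((a : ↥M24) : Equiv.Perm GolayPt) * u) * (u⁻¹ * ((b : ↥M24) : Equiv.Perm GolayPt) * u)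
    group


/-- In the group of the length-24 code, the subgroup fixing a dodecad setwise and three of its points individually (a group of order 72) has a normal Sylow 3-subgroup that is elementary abelian of order 9, and its Sylow 2-subgroups are quaternion of order 8. -/
theorem result (d : Finset Cfsg.GolayPt) (hd : d ∈ Cfsg.dodecads) (p q r : Cfsg.GolayPt) (hp : p ∈ d) (hq : q ∈ d) (hr : r ∈ d) (hpq : p ≠ q) (hpr : p ≠ r) (hqr : q ≠ r) : (∀ Q : Sylow 3 ↥(MulAction.stabilizer Cfsg.M24 d ⊓ MulAction.stabilizer Cfsg.M24 p ⊓ MulAction.stabilizer Cfsg.M24 q ⊓ MulAction.stabilizer Cfsg.M24 r), (Q : Subgroup ↥(MulAction.stabilizer Cfsg.M24 d ⊓ MulAction.stabilizer Cfsg.M24 p ⊓ MulAction.stabilizer Cfsg.M24 q ⊓ MulAction.stabilizer Cfsg.M24 r)).Normal ∧ Nat.card ↥Q = 9 ∧ ∀ x ∈ (Q : Subgroup ↥(MulAction.stabilizer Cfsg.M24 d ⊓ MulAction.stabilizer Cfsg.M24 p ⊓ MulAction.stabilizer Cfsg.M24 q ⊓ MulAction.stabilizer Cfsg.M24 r)), x ^ 3 = 1) ∧ ∀ P : Sylow 2 ↥(MulAction.stabilizer Cfsg.M24 d ⊓ MulAction.stabilizer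 Cfsg.M24 p ⊓ MulAction.stabilizer Cfsg.M24 q ⊓ MulAction.stabilizer Cfsg.M24 r), Nonempty (↥P ≃* QuaternionGroup 2) := by
  obtain ⟨u, hu, h0, h1, h2, h3⟩ := exists_base_u hd hp hq hr hpq hpr hqr
  exact sylow_facts_equiv (equivK hu h0 h1 h2 h3) card_K0 N9K N9K_normal card_N9K N9K_cube q8K q8K_inj

end Cfsg.Agent.S5619
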