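import Cfsg.Statements.S5726
import Cfsg.Agent.Lib.H27.SylowOrbit

set_option autoImplicit false
open Cfsg

namespace Cfsg.Agent.S5726

/-- If a finite group acts faithfully and transitively on a set with p^k elements, p a prime and k ≥ 1, then some element of order p fixes no point. -/
theorem result {G Ω : Type*} [Group G] [Finite G] [MulAction G Ω] [FaithfulSMul G Ω] [Fintype Ω] (htr : MulAction.IsPretransitive G Ω)
    (p k : ℕ) (hp : p.Prime) (hk : 1 ≤ k) (hΩ : Fintype.card Ω = p ^ k) :
    ∃ g : G, orderOf g = p ∧ ∀ ω : Ω, g • ω ≠ ω := by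
  classical
  haveI : Fact p.Prime := ⟨hp⟩
  obtain ⟨ω₀⟩ : Nonempty Ω := by
    apply Fintype.card_pos_iff.1
    rw [hΩ]; exact pow_pos hp.pos k
  let P : Sylow p G := default
  have hcard : Nat.card Ω = p ^ k := by rw [Nat.card_eq_fintype_card, hΩ]
  have hfac : (Nat.card Ω).factorization p = k := by
    rw [hcard, Nat.factorization_pow]; simp [hp]
  have hopos : ∀ ω : Ω, 0 < Nat.card (MulAction.orbit (P : Subgroup G) ω) := by
    intro ω
    rw [Nat.card_pos_iff]
    exact ⟨⟨⟨ω, MulAction.mem_orbit_self ω⟩⟩, inferInstance⟩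
  -- P is transitive
  have htrP : ∀ ω : Ω, MulAction.orbit (P : Subgroup G) ω = Set.univ := by
    intro ω
    have h := Cfsg.Agent.H27.sylow_orbit_card_dvd htr P ω
    rw [hfac] at h
    have hle : p ^ k ≤ Nat.card (MulAction.orbit (P : Subgroup G) ω) :=
      Nat.le_of_dvd (hopos ω) h
    by_contra hne
    have hlt : Nat.card (MulAction.orbit (P : Subgroup G) ω) < Nat.card Ω := by
      obtain ⟨x, hx⟩ := (Set.ne_univ_iff_exists_notMem _).1 hne
      have : Nat.card (MulAction.orbit (P : Subgroup G) ω) ≤ Nat.card ({x}ᶜ : Set Ω) := by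
        apply Nat.card_mono (Set.toFinite _)
        intro y hy hyx
        exact hx (by rw [Set.mem_singleton_iff] at hyx; exact hyx ▸ hy)
      have h2 : Nat.card ({x}ᶜ : Set Ω) < Nat.card Ω := by
        rw [Nat.card_eq_fintype_card, Nat.card_eq_fintype_card, Fintype.card_compl_set]
        simp
        have : 0 < Fintype.card Ω := Fintype.card_pos_iff.2 ⟨x⟩
        omega
      omega
    omega
  -- P is nontrivial
  have hPnt : Nontrivial (P : Subgroup G) := by
    have h := Cfsg.Agent.H27.sylow_orbit_card_dvd htr P ω₀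
    rw [hfac] at h
    have hone : 1 < Nat.card (MulAction.orbit (P : Subgroup G) ω₀) := by
      have : p ^ k ≤ Nat.card (MulAction.orbit (P : Subgroup G) ω₀) :=
        Nat.le_of_dvd (hopos ω₀) h
      have h2 : 1 < p ^ k := Nat.one_lt_pow (by omega) hp.one_lt
      omega
    by_contra hnt
    rw [not_nontrivial_iff_subsingleton] at hnt
    have : MulAction.orbit (P : Subgroup G) ω₀ = {ω₀} := by
      ext y
      constructor
      · rintro ⟨g, rfl⟩
        have : g = 1 := Subsingleton.elim _ _
        simp [this]
      · rintro rfl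
        exact MulAction.mem_orbit_self _
    rw [this] at hone
    simp at hone
  have hPp : IsPGroup p (P : Subgroup G) := P.isPGroup'
  haveI := hPp.center_nontrivial
  have hZ : IsPGroup p (Subgroup.center (P : Subgroup G)) := hPp.to_subgroup _
  have hdvd : p ∣ Nat.card (Subgroup.center (P : Subgroup G)) := by
    obtain ⟨n, hn, hc⟩ := (hZ.nontrivial_iff_card).1 inferInstance
    rw [hc]
    exact dvd_pow_self p (by omega)
  obtain ⟨z, hz⟩ := exists_prime_orderOf_dvd_card' p hdvd
  refine ⟨((z : Subgroup.center (P : Subgroup G)) : (P : Subgroup G)).1, ?_, ?_⟩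
  · have h1 := Subgroup.orderOf_coe (z : Subgroup.center (P : Subgroup G))
    have h2 := Subgroup.orderOf_coe ((z : Subgroup.center (P : Subgroup G)) : (P : Subgroup G))
    exact h2.trans (h1.trans hz)
  · intro ω hω
    have hall : ∀ ω' : Ω, ((z : Subgroup.center (P : Subgroup G)) : (P : Subgroup G)).1 • ω' = ω' := by
      intro ω'
      have hmem : ω' ∈ MulAction.orbit (P : Subgroup G) ω := by
        rw [htrP]; trivial
      obtain ⟨h, rfl⟩ := hmem
      have hcomm : ((z : Subgroup.center (P : Subgroup G)) : (P : Subgroup G)) * h =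
          h * ((z : Subgroup.center (P : Subgroup G)) : (P : Subgroup G)) :=
        Subgroup.mem_center_iff.1 z.2 h |>.symm
      have hcomm' : ((z : Subgroup.center (P : Subgroup G)) : (P : Subgroup G)).1 * h.1 =
          h.1 * ((z : Subgroup.center (P : Subgroup G)) : (P : Subgroup G)).1 :=
        congrArg Subtype.val hcomm
      show ((z : Subgroup.center (P : Subgroup G)) : (P : Subgroup G)).1 • (h.1 • ω) = h.1 • ω
      rw [← mul_smul, hcomm', mul_smul, hω]
    have hz1 : ((z : Subgroup.center (P : Subgroup G)) : (P : Subgroup G)).1 = 1 := by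
      apply FaithfulSMul.eq_of_smul_eq_smul (α := Ω)
      intro ω'
      rw [hall, one_smul]
    have : z = 1 := by
      apply Subtype.ext
      apply Subtype.ext
      exact hz1
    rw [this, orderOf_one] at hz
    exact hp.one_lt.ne hz

end Cfsg.Agent.S5726
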