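import Cfsg.Statements.S5727
import Cfsg.Agent.Lib.H27.SylowOrbit
import Cfsg.Agent.S5726

set_option autoImplicit false
open Cfsg

namespace Cfsg.Agent.S5727

/-- If a finite group acts faithfully and transitively on a set with m·p elements, where p is a prime and 1 ≤ m ≤ p, then some element of order p fixes no point. -/
theorem result {G Ω : Type*} [Group G] [Finite G] [MulAction G Ω] [FaithfulSMul G Ω] [Fintype Ω] (htr : MulAction.IsPretransitive G Ω)
    (p m : ℕ) (hp : p.Prime) (hm : 1 ≤ m) (hmp : m ≤ p) (hΩ : Fintype.card Ω = m * p) :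
    ∃ g : G, orderOf g = p ∧ ∀ ω : Ω, g • ω ≠ ω := by
  classical
  have hfact : Fact p.Prime := ⟨hp⟩
  rcases eq_or_lt_of_le hmp with rfl | hlt
  · exact Cfsg.Agent.S5726.result htr m 2 hp (by norm_num) (by rw [hΩ]; ring)
  let P : Sylow p G := default
  have hcard : Nat.card Ω = m * p := by rw [Nat.card_eq_fintype_card, hΩ]
  have hm0 : m ≠ 0 := by omega
  have hfac : (Nat.card Ω).factorization p = 1 := by
    rw [hcard, Nat.factorization_mul hm0 hp.ne_zero, Finsupp.add_apply, hp.factorization_self,
      Nat.factorization_eq_zero_of_not_dvd (fun h => by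
        have := Nat.le_of_dvd (by omega) h
        omega)]
  have hopos : ∀ ω : Ω, 0 < Nat.card (MulAction.orbit (P : Subgroup G) ω) := by
    intro ω
    rw [Nat.card_pos_iff]
    exact ⟨⟨⟨ω, MulAction.mem_orbit_self ω⟩⟩, inferInstance⟩
  have hPp : IsPGroup p (P : Subgroup G) := P.isPGroup'
  -- every orbit of `P` has exactly `p` points
  have horb : ∀ ω : Ω, Nat.card (MulAction.orbit (P : Subgroup G) ω) = p := by
    intro ω
    have h := Cfsg.Agent.H27.sylow_orbit_card_dvd htr P ω
    rw [hfac, pow_one] at h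
    obtain ⟨n, hn⟩ := hPp.card_orbit ω
    have hle : Nat.card (MulAction.orbit (P : Subgroup G) ω) ≤ Nat.card Ω := by
      exact Nat.card_le_card_of_injective Subtype.val Subtype.val_injective
    have hlt2 : p ^ n < p ^ 2 := by
      rw [← hn]
      calc _ ≤ m * p := hcard ▸ hle
        _ < p * p := Nat.mul_lt_mul_of_pos_right hlt hp.pos
        _ = p ^ 2 := by ring
    have hn2 : n < 2 := (Nat.pow_lt_pow_iff_right hp.one_lt).1 hlt2
    interval_cases n
    · rw [hn, pow_zero] at h
      exact absurd (Nat.le_of_dvd one_pos h) (by have := hp.two_le; omega)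
    · simpa using hn
  -- nontriviality of `P`
  obtain ⟨ω₀⟩ : Nonempty Ω := by
    apply Fintype.card_pos_iff.1
    rw [hΩ]; exact Nat.mul_pos (by omega) hp.pos
  -- point stabilisers have index `p`
  have hidx : ∀ ω : Ω, (MulAction.stabilizer (P : Subgroup G) ω).index = p := by
    intro ω
    rw [MulAction.index_stabilizer, ← Nat.card_coe_set_eq, horb]
  have hcardP : ∃ v, v ≠ 0 ∧ Nat.card (P : Subgroup G) = p ^ v := by
    have h1 := Cfsg.Agent.H27.nat_card_orbit_mul_stabilizer (P : Subgroup G) ω₀
    rw [horb] at h1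
    obtain ⟨v, hv⟩ := IsPGroup.iff_card.1 hPp
    refine ⟨v, ?_, hv⟩
    rintro rfl
    rw [hv, pow_zero] at h1
    have h2 : p ∣ 1 := ⟨_, h1.symm⟩
    exact hp.one_lt.ne' (Nat.dvd_one.1 h2)
  obtain ⟨v, hv0, hv⟩ := hcardP
  have hminFac : (Nat.card (P : Subgroup G)).minFac = p := by
    rw [hv]
    exact hp.pow_minFac hv0
  have hnormal : ∀ ω : Ω, (MulAction.stabilizer (P : Subgroup G) ω).Normal := by
    intro ω
    apply Subgroup.normal_of_index_eq_minFac_card
    rw [hidx, hminFac]
  -- an element with a fixed point fixes the whole orbit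
  have hfixorb : ∀ (x : (P : Subgroup G)) (ω : Ω), x • ω = ω →
      ∀ ω' ∈ MulAction.orbit (P : Subgroup G) ω, x • ω' = ω' := by
    rintro x ω hx _ ⟨h, rfl⟩
    have hmem : x ∈ MulAction.stabilizer (P : Subgroup G) ω := hx
    have := (hnormal ω).conj_mem x hmem h⁻¹
    rw [MulAction.mem_stabilizer_iff] at this
    have h2 : (h⁻¹ * x * h⁻¹⁻¹) • ω = ω := this
    change x • (h • ω) = h • ω
    rw [inv_inv] at h2
    have h3 : h⁻¹ • (x • (h • ω)) = ω := by
      rw [← mul_smul, ← mul_smul]
      exact h2
    calc x • (h • ω) = h • (h⁻¹ • (x • (h • ω))) := by simp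
      _ = h • ω := by rw [h3]
  -- there is an element without fixed points
  haveI : Fintype (P : Subgroup G) := Fintype.ofFinite _
  have hex : ∃ x : (P : Subgroup G), ∀ ω : Ω, x • ω ≠ ω := by
    by_contra hcon
    push Not at hcon
    have h1 : ∀ x : (P : Subgroup G), p ≤ (Finset.univ.filter fun ω : Ω => x • ω = ω).card := by
      intro x
      obtain ⟨ω, hω⟩ := hcon x
      have hsub : (MulAction.orbit (P : Subgroup G) ω).toFinset ⊆
          Finset.univ.filter fun ω : Ω => x • ω = ω := by
        intro y hy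
        rw [Set.mem_toFinset] at hy
        rw [Finset.mem_filter]
        exact ⟨Finset.mem_univ _, hfixorb x ω hω y hy⟩
      have := Finset.card_le_card hsub
      rwa [Set.toFinset_card, ← Nat.card_eq_fintype_card, horb] at this
    have h2 : ∀ ω : Ω, p * (Finset.univ.filter fun x : (P : Subgroup G) => x • ω = ω).card =
        Nat.card (P : Subgroup G) := by
      intro ω
      have := Cfsg.Agent.H27.nat_card_orbit_mul_stabilizer (P : Subgroup G) ω
      rw [horb] at this
      rw [← this]
      congr 1
      rw [Nat.card_eq_fintype_card, ← Fintype.card_subtype]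
      apply Fintype.card_congr
      exact Equiv.subtypeEquivRight (fun x => by rw [MulAction.mem_stabilizer_iff])
    have hdc := Finset.sum_card_bipartiteAbove_eq_sum_card_bipartiteBelow
      (s := (Finset.univ : Finset (P : Subgroup G))) (t := (Finset.univ : Finset Ω))
      (fun x ω => x • ω = ω)
    have h3 : Fintype.card (P : Subgroup G) * p ≤
        ∑ x : (P : Subgroup G), (Finset.univ.filter fun ω : Ω => x • ω = ω).card := by
      rw [← smul_eq_mul, ← Finset.card_univ]
      exact Finset.card_nsmul_le_sum _ _ _ (fun x _ => h1 x)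
    have h4 : p * ∑ ω : Ω, (Finset.univ.filter fun x : (P : Subgroup G) => x • ω = ω).card =
        Fintype.card Ω * Nat.card (P : Subgroup G) := by
      rw [Finset.mul_sum, Finset.sum_congr rfl (fun ω _ => h2 ω)]
      simp
    have hdc' : ∑ x : (P : Subgroup G), (Finset.univ.filter fun ω : Ω => x • ω = ω).card =
        ∑ ω : Ω, (Finset.univ.filter fun x : (P : Subgroup G) => x • ω = ω).card := hdc
    rw [hdc'] at h3
    have h5 : p * (Fintype.card (P : Subgroup G) * p) ≤ Fintype.card Ω * Nat.card (P : Subgroup G) := by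
      rw [← h4]
      exact Nat.mul_le_mul_left _ h3
    rw [hΩ, ← Nat.card_eq_fintype_card] at h5
    have hPpos : 0 < Nat.card (P : Subgroup G) := Nat.card_pos
    have h6 : p * p * Nat.card (P : Subgroup G) ≤ m * p * Nat.card (P : Subgroup G) := by
      nlinarith
    have h7 : p * p ≤ m * p := Nat.le_of_mul_le_mul_right h6 hPpos
    have h8 : p ≤ m := Nat.le_of_mul_le_mul_right h7 hp.pos
    omega
  obtain ⟨x, hx⟩ := hex
  refine ⟨(x : G), ?_, hx⟩
  have hx1 : (x : G) ≠ 1 := by
    intro h
    have : x = 1 := Subtype.ext h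
    exact hx ω₀ (by rw [this, one_smul])
  have hxp : (x : G) ^ p = 1 := by
    apply FaithfulSMul.eq_of_smul_eq_smul (α := Ω)
    intro ω
    rw [one_smul]
    have hmem := @Subgroup.pow_index_mem _ _ (MulAction.stabilizer (P : Subgroup G) ω) (hnormal ω) x
    rw [hidx, MulAction.mem_stabilizer_iff] at hmem
    have : ((x ^ p : (P : Subgroup G)) : G) = (x : G) ^ p := by simp
    rw [← this]
    exact hmem
  exact orderOf_eq_prime hxp hx1

end Cfsg.Agent.S5727
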