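import Cfsg.Statements.S5728

set_option autoImplicit false
open Cfsg

namespace Cfsg.Agent.S5728


section
variable {p : ℕ} [Fact p.Prime] {F : Type*} [Field F] [Algebra (ZMod p) F]

theorem exists_of_pow_eq (α : F) (h : α ^ p = α) : ∃ a : ZMod p, algebraMap (ZMod p) F a = α := by
  classical
  have hp : 1 < p := (Fact.out : p.Prime).one_lt
  let P : Polynomial F := Polynomial.X ^ p - Polynomial.X
  have hP0 : P ≠ 0 := FiniteField.X_pow_card_sub_X_ne_zero F hp
  have hdeg : P.natDegree = p := FiniteField.X_pow_card_sub_X_natDegree_eq F hp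
  let S : Finset F := Finset.univ.image (algebraMap (ZMod p) F)
  have hS : S.card = p := by
    rw [Finset.card_image_of_injective _ (algebraMap (ZMod p) F).injective, Finset.card_univ,
      ZMod.card]
  have hsub : S ⊆ P.roots.toFinset := by
    intro x hx
    obtain ⟨a, -, rfl⟩ := Finset.mem_image.mp hx
    rw [Multiset.mem_toFinset, Polynomial.mem_roots hP0, Polynomial.IsRoot.def]
    simp only [P, Polynomial.eval_sub, Polynomial.eval_pow, Polynomial.eval_X]
    rw [← map_pow, ZMod.pow_card, sub_self]
  have hle : P.roots.toFinset.card ≤ S.card := by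
    rw [hS]
    calc P.roots.toFinset.card ≤ Multiset.card P.roots := Multiset.toFinset_card_le _
      _ ≤ P.natDegree := Polynomial.card_roots' P
      _ = p := hdeg
  have heq := Finset.eq_of_subset_of_card_le hsub hle
  have hα : α ∈ P.roots.toFinset := by
    rw [Multiset.mem_toFinset, Polynomial.mem_roots hP0, Polynomial.IsRoot.def]
    simp only [P, Polynomial.eval_sub, Polynomial.eval_pow, Polynomial.eval_X]
    rw [h, sub_self]
  rw [← heq] at hα
  obtain ⟨a, -, ha⟩ := Finset.mem_image.mp hα
  exact ⟨a, ha⟩

end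

/-- the affine permutation `y ↦ c y + d` -/
def aff {F : Type*} [Field F] (c d : F) (hc : c ≠ 0) : Equiv.Perm F :=
  (Equiv.mulLeft₀ c hc).trans (Equiv.addRight d)

theorem aff_apply {F : Type*} [Field F] (c d : F) (hc : c ≠ 0) (y : F) :
    aff c d hc y = c * y + d := rfl

theorem aff_mem {F : Type*} [Field F] (c d : F) (hc : c ≠ 0) :
    aff c d hc ∈ Cfsg.affineGroup F :=
  ⟨Units.mk0 c hc, d, fun y => rfl⟩

theorem conj_apply_of {F : Type*} [Field F] (x g : Equiv.Perm F) (A B : F)
    (h : ∀ w, x (g w) = A * x w + B) (y : F) : (x * g * x⁻¹) y = A * y + B := by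
  have := h (x⁻¹ y)
  simpa using this

theorem pow_apply_of {F : Type*} [Field F] (h : Equiv.Perm F) (α : F)
    (hh : ∀ y, h y = α * y + 0) (k : ℕ) (y : F) : (h ^ k) y = α ^ k * y := by
  induction k generalizing y with
  | zero => simp
  | succ k ih =>
    rw [pow_succ, Equiv.Perm.mul_apply, ih, hh, add_zero, pow_succ, mul_assoc]


/-- An elusive transitive action. Let p = 2^s − 1 be a prime and let F be the field with p² elements. Inside the group of affine maps x ↦ a·x + b of F (a ≠ 0), consider the subgroup of maps with both coefficients in the prime field. Then every element of prime order of the affine group is conjugate, within the affine group, to an element of that subgroup; equivalently, in the transitive action of the affine group on the cosets of that subgroup (of degree p(p + 1)) every element of prime order fixes a point. -/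
theorem result (p s : ℕ) [Fact p.Prime] (hs : p = 2 ^ s - 1)
    (g : Equiv.Perm (GaloisField p 2)) (hg : g ∈ Cfsg.affineGroup (GaloisField p 2)) (hord : (orderOf g).Prime) :
    ∃ x ∈ Cfsg.affineGroup (GaloisField p 2), ∃ a b : ZMod p, a ≠ 0 ∧
      ∀ y : GaloisField p 2, (x * g * x⁻¹) y = algebraMap (ZMod p) (GaloisField p 2) a * y + algebraMap (ZMod p) (GaloisField p 2) b := by
  classical
  have hpp : p.Prime := Fact.out
  letI : Fintype (GaloisField p 2) := Fintype.ofFinite _
  obtain ⟨α, β, hg'⟩ := hg
  have hα0 : (α : GaloisField p 2) ≠ 0 := α.ne_zero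
  set a₀ : GaloisField p 2 := (α : GaloisField p 2) with ha₀
  by_cases h1 : a₀ = 1
  · -- translation
    by_cases hβ : β = 0
    · exfalso
      have : g = 1 := by
        ext y
        rw [hg', h1, hβ]; simp
      rw [this, orderOf_one] at hord
      exact Nat.not_prime_one hord
    · refine ⟨aff β⁻¹ 0 (inv_ne_zero hβ), aff_mem _ _ _, 1, 1, one_ne_zero, ?_⟩
      intro y
      rw [map_one, conj_apply_of _ _ 1 1]
      intro w
      simp only [aff_apply, hg', h1]
      field_simp
      ring
  · have hne : (1 : GaloisField p 2) - a₀ ≠ 0 := sub_ne_zero.mpr (Ne.symm h1)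
    set y₀ := β / (1 - a₀) with hy₀
    have hconj : ∀ w, aff 1 (-y₀) one_ne_zero (g w) = a₀ * aff 1 (-y₀) one_ne_zero w + 0 := by
      intro w
      simp only [aff_apply, hg']
      have : β = y₀ * (1 - a₀) := by
        rw [hy₀]; field_simp
      rw [this]; ring
    have hconj' := conj_apply_of _ _ a₀ 0 hconj
    set x := aff (1 : GaloisField p 2) (-y₀) one_ne_zero with hx
    set r := orderOf g with hr
    have hrpow : a₀ ^ r = 1 := by
      have h2 : (x * g * x⁻¹) ^ r = 1 := by
        have : (x * g * x⁻¹) ^ r = x * g ^ r * x⁻¹ := conj_pow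
        rw [this, hr, pow_orderOf_eq_one]; simp
      have h3 := pow_apply_of _ a₀ hconj' r 1
      rw [h2] at h3
      simpa using h3.symm
    have hordα : orderOf a₀ = r := by
      have := orderOf_eq_prime (p := r) (x := a₀) (hp := ⟨hord⟩) hrpow h1
      exact this
    have hcardF : Fintype.card (GaloisField p 2) = p ^ 2 := by
      rw [← Nat.card_eq_fintype_card]
      exact GaloisField.card p 2 (by norm_num)
    have hq : a₀ ^ (p ^ 2 - 1) = 1 := by
      rw [← hcardF]
      exact FiniteField.pow_card_sub_one_eq_one a₀ hα0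
    have hdvd : r ∣ p ^ 2 - 1 := by
      rw [← hordα]
      exact orderOf_dvd_of_pow_eq_one hq
    have hp2 : 2 ≤ p := hpp.two_le
    have hfac : p ^ 2 - 1 = (p - 1) * 2 ^ s := by
      have h2s : 2 ^ s = p + 1 := by
        have : 1 ≤ 2 ^ s := Nat.one_le_two_pow
        omega
      rw [h2s]
      obtain ⟨m, rfl⟩ : ∃ m, p = m + 1 := ⟨p - 1, by omega⟩
      simp only [Nat.add_sub_cancel]
      have : (m + 1) ^ 2 = m * (m + 1 + 1) + 1 := by ring
      omega
    rw [hfac] at hdvd
    have hα_in : ∃ a : ZMod p, algebraMap (ZMod p) (GaloisField p 2) a = a₀ := by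
      rcases (Nat.Prime.dvd_mul hord).mp hdvd with h3 | h3
      · apply exists_of_pow_eq
        have : a₀ ^ (p - 1) = 1 := by
          obtain ⟨c, hc⟩ := h3
          rw [hc, pow_mul, hrpow, one_pow]
        calc a₀ ^ p = a₀ ^ (p - 1) * a₀ := by
              rw [← pow_succ]; congr 1; omega
          _ = a₀ := by rw [this, one_mul]
      · have hr2 : r = 2 := (Nat.prime_dvd_prime_iff_eq hord Nat.prime_two).mp
          (hord.dvd_of_dvd_pow h3)
        rw [hr2] at hrpow
        have h4 : (a₀ - 1) * (a₀ + 1) = 0 := by
          have : (a₀ - 1) * (a₀ + 1) = a₀ ^ 2 - 1 := by ring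
          rw [this, hrpow, sub_self]
        rcases mul_eq_zero.mp h4 with h5 | h5
        · exact absurd (sub_eq_zero.mp h5) h1
        · refine ⟨-1, ?_⟩
          rw [map_neg, map_one]
          exact (eq_neg_of_add_eq_zero_left h5).symm
    obtain ⟨a, ha⟩ := hα_in
    refine ⟨x, aff_mem _ _ _, a, 0, ?_, ?_⟩
    · rintro rfl
      rw [map_zero] at ha
      exact hα0 ha.symm
    · intro y
      rw [hconj', ha, map_zero]

end Cfsg.Agent.S5728
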