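import Cfsg.Statements.S5850
import Cfsg.Agent.Lib.H28.GLX5

set_option autoImplicit false
open Cfsg

namespace Cfsg.Agent.S5850

/-- Every maximal subgroup of Ω_10^-(q) is of one of the listed geometric types or lies in the residual class. Let F be a finite field with q elements (characteristic p), Q a non-degenerate quadratic form on F^10 of minus type (Witt index 4: no totally singular 5-space), Ω the commutator subgroup of its isometry group, and H a maximal subgroup of Ω (inside GL_10(F)). Then H is the intersection with Ω of one of: the stabiliser of a non-zero totally singular subspace; for q odd, the stabiliser of a non-degenerate subspace of odd dimension ≠ 5; the stabiliser of a non-degenerate 2-space of minus type; for q ≥ 4, the stabiliser of a non-degenerate 2-space of plus type; the stabiliser of a non-degenerate 4-space; for q even, the stabiliser of the span of a non-singular vector; for q = p prime with p ≡ 3 mod 4, the stabiliser of a decomposition into 10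 pairwise orthogonal, pairwise isometric non-degenerate 1-spaces; for q ≠ 3, the stabiliser of a decomposition into 5 pairwise orthogonal, pairwise isometric non-degenerate 2-spaces; for q ≡ 3 mod 4, the stabiliser of a decomposition into 2 pairwise orthogonal, pairwise isometric non-degenerate 5-spaces; for q ≡ 1 mod 4, the stabiliser of a decomposition into two orthogonal, non-isometric non-degenerate 5-spaces; for q odd, the normaliser of a degree-2 subfield of the matrix algebra, self-adjoint for the polar form; the normaliser of a degree-2 subfield K, adjoint-closed but not self-adjoint, acting by similarities of Q; a subfield group (|F| = |F₀|^r, r odd prime) whose F₀-structure carries a non-zero multiple of Q — or else H lies in the residual class of the orthogonal case (modulo scalars H is almost simple, with absolutely irreducible perfect socle preimage realisable over no proper subfield and fixing no non-degenerate unitary form). -/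
theorem result {F : Type*} [Field F] [Fintype F] (Q : (Fin 10 → F) → F) (hQ : Cfsg.Geo.IsNondegenerateQuadraticForm Q) (hminus : ¬ Cfsg.Geo.IsPlusTypeOn Q ⊤) (H : Subgroup (Matrix.GeneralLinearGroup (Fin 10) F)) (hH : Cfsg.Geo.IsMaximalIn (Cfsg.Geo.omegaGL Q) H) :
    (∃ W : Submodule F (Fin 10 → F), W ≠ ⊥ ∧ Cfsg.Geo.IsTotallySingularQuad Q W ∧ H = Cfsg.Geo.subspaceStabilizer W ⊓ Cfsg.Geo.omegaGL Q) ∨
    (Odd (Fintype.card F) ∧ ∃ W : Submodule F (Fin 10 → F), W ≠ ⊥ ∧ W ≠ ⊤ ∧ Odd (Module.finrank F W) ∧ 2 * Module.finrank F W ≠ 10 ∧ Cfsg.Geo.IsNondegenerateOn (QuadraticMap.polar Q) W ∧ H = Cfsg.Geo.subspaceStabilizer W ⊓ Cfsg.Geo.omegaGL Q) ∨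
    (∃ W : Submodule F (Fin 10 → F), Module.finrank F W = 2 ∧ Cfsg.Geo.IsNondegenerateOn (QuadraticMap.polar Q) W ∧ ¬ Cfsg.Geo.IsPlusTypeOn Q W ∧ H = Cfsg.Geo.subspaceStabilizer W ⊓ Cfsg.Geo.omegaGL Q) ∨
    (4 ≤ Fintype.card F ∧ ∃ W : Submodule F (Fin 10 → F), Module.finrank F W = 2 ∧ Cfsg.Geo.IsNondegenerateOn (QuadraticMap.polar Q) W ∧ Cfsg.Geo.IsPlusTypeOn Q W ∧ H = Cfsg.Geo.subspaceStabilizer W ⊓ Cfsg.Geo.omegaGL Q) ∨
    (∃ W : Submodule F (Fin 10 → F), Module.finrank F W = 4 ∧ Cfsg.Geo.IsNondegenerateOn (QuadraticMap.polar Q) W ∧ H = Cfsg.Geo.subspaceStabilizer W ⊓ Cfsg.Geo.omegaGL Q) ∨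
    (¬ Odd (Fintype.card F) ∧ ∃ v : (Fin 10 → F), Q v ≠ 0 ∧ H = Cfsg.Geo.subspaceStabilizer (Submodule.span F {v}) ⊓ Cfsg.Geo.omegaGL Q) ∨
    ((∃ p : ℕ, p.Prime ∧ Fintype.card F = p ∧ (p % 4 = 3)) ∧ ∃ D : Fin 10 → Submodule F (Fin 10 → F), Cfsg.Geo.IsOrthogonalMDecomposition Q 1 D ∧ H = Cfsg.Geo.decompositionStabilizer D ⊓ Cfsg.Geo.omegaGL Q) ∨
    (Fintype.card F ≠ 3 ∧ ∃ D : Fin 5 → Submodule F (Fin 10 → F), Cfsg.Geo.IsOrthogonalMDecomposition Q 2 D ∧ H = Cfsg.Geo.decompositionStabilizer D ⊓ Cfsg.Geo.omegaGL Q) ∨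
    (Fintype.card F % 4 = 3 ∧ ∃ D : Fin 2 → Submodule F (Fin 10 → F), Cfsg.Geo.IsOrthogonalMDecomposition Q 5 D ∧ H = Cfsg.Geo.decompositionStabilizer D ⊓ Cfsg.Geo.omegaGL Q) ∨
    (Fintype.card F % 4 = 1 ∧ ∃ D : Fin 2 → Submodule F (Fin 10 → F), Cfsg.Geo.IsNondegenerateMDecomposition (QuadraticMap.polar Q) 5 D ∧ ¬ Cfsg.Geo.AreIsometricFor Q (D 0) (D 1) ∧ H = Cfsg.Geo.decompositionStabilizer D ⊓ Cfsg.Geo.omegaGL Q) ∨
    (Odd (Fintype.card F) ∧ ∃ K : Subalgebra F (Matrix (Fin 10) (Fin 10) F), Cfsg.Geo.IsFieldSubalgebra 2 K ∧ Cfsg.Geo.IsSelfAdjointFor (QuadraticMap.polar Q) K ∧ H = Cfsg.Geo.subalgebraNormalizer K ⊓ Cfsg.Geo.omegaGL Q) ∨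
    (∃ K : Subalgebra F (Matrix (Fin 10) (Fin 10) F), Cfsg.Geo.IsFieldSubalgebra 2 K ∧ Cfsg.Geo.IsAdjointClosedFor (QuadraticMap.polar Q) K ∧ ¬ Cfsg.Geo.IsSelfAdjointFor (QuadraticMap.polar Q) K ∧ (∀ k ∈ K, ∃ c : F, ∀ v : (Fin 10 → F), Q (Matrix.mulVec k v) = c * Q v) ∧ H = Cfsg.Geo.subalgebraNormalizer K ⊓ Cfsg.Geo.omegaGL Q) ∨
    (∃ (F₀ : Subfield F) (r : ℕ) (P : Matrix.GeneralLinearGroup (Fin 10) F) (ζ : F), r.Prime ∧ Odd r ∧ Fintype.card F = Nat.card F₀ ^ r ∧ ζ ≠ 0 ∧ Cfsg.Geo.IsQuadFormRationalStructure (fun v : Fin 10 → F => ζ * Q v) F₀ P ∧ H = Cfsg.Geo.subfieldSubgroup F₀ P ⊓ Cfsg.Geo.omegaGL Q) ∨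
    Cfsg.Geo.InOrthogonalResidualClass H := by
  classical
  have hn : 7 ≤ Fintype.card (Fin 10) := by simp
  have hHΩ : H ≤ Cfsg.Geo.omegaGL Q := hH.1.le
  have hHU : H ≤ Cfsg.isometryGroup F Q := fun g hg => Cfsg.Agent.H28.omega_le_isom (hHΩ hg)
  have htopfr : Module.finrank F (⊤ : Submodule F (Fin 10 → F)) = 10 := by
    rw [finrank_top]
    simp
  have hts5 : ∀ W : Submodule F (Fin 10 → F), Cfsg.Geo.IsTotallySingularQuad Q W → Module.finrank F W = 5 → False := by
    intro W hW hd
    exact hminus ⟨W, le_top, hW, by rw [hd, htopfr]⟩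
  have hpow : ∀ w k : ℕ, 2 ≤ w → 2 ≤ k → Fintype.card (Fin 10) ≠ w ^ k := by
    intro w k hw hk h
    rw [Fintype.card_fin] at h
    have hk4 : k < 4 := by
      by_contra hcon
      have h1 : 2 ^ 4 ≤ w ^ k := (Nat.pow_le_pow_left hw 4).trans (Nat.pow_le_pow_right (by omega) (by omega))
      omega
    have hw4 : w < 4 := by
      by_contra hcon
      have h1 : 4 ^ 2 ≤ w ^ k := (Nat.pow_le_pow_left (by omega) 2).trans (Nat.pow_le_pow_right (by omega) hk)
      omega
    interval_cases k <;> interval_cases w <;> omega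
  by_contra hgoal
  have hsqrt : Fintype.card F % 4 = 1 → ∃ i : F, i ^ 2 = -1 := by
    intro h1
    have h3 : IsSquare (-1 : F) := by
      rw [FiniteField.isSquare_neg_one_iff]
      omega
    obtain ⟨i, hi⟩ := h3
    exact ⟨i, by rw [hi]; ring⟩
  -- decompositions into two spaces of dimension five
  have hfive : ∀ D : Fin 2 → Submodule F (Fin 10 → F), Cfsg.Geo.IsNondegenerateMDecomposition (QuadraticMap.polar Q) 5 D →
      H ≤ Cfsg.Geo.decompositionStabilizer D → False := by
    intro D hD hle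
    have heq := Cfsg.Agent.H28.eq_inf_of_max hH hle (Cfsg.Agent.H28.omega_not_le_decomp hQ hn hD)
    have h2 : (2 : F) ≠ 0 := by
      intro h2
      have h1 := Cfsg.Agent.H28.even_nondeg_char2 hQ h2 (hD.nondegenerate 0)
      rw [hD.decomp.finrank_eq] at h1
      revert h1
      decide
    have hodd := Cfsg.Agent.H28.odd_of_two_ne_zero h2
    have hmod : Fintype.card F % 4 = 1 ∨ Fintype.card F % 4 = 3 := by
      obtain ⟨d, hd⟩ := hodd
      omega
    rcases hmod with h1 | h3
    · by_cases hiso : Cfsg.Geo.AreIsometricFor Q (D 0) (D 1)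
      · obtain ⟨i, hi⟩ := hsqrt h1
        exact hminus (Cfsg.Agent.H28.plus_square_blocks hQ (Cfsg.Agent.H28.orth_of_iso hD hiso) (by decide) hi)
      · exact hgoal (by iterate 9 right
                        left
                        exact ⟨h1, D, hD, hiso, heq⟩)
    · exact hgoal (by iterate 8 right
                      left
                      exact ⟨h3, D, Cfsg.Agent.H28.orth_of_iso hD (Cfsg.Agent.H28.iso_of_3mod4 hQ h3 (by decide) hD hminus), heq⟩)
  -- non-degenerate subspaces of small dimension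
  have key : ∀ W : Submodule F (Fin 10 → F), W ≠ ⊥ → W ≠ ⊤ → Cfsg.Geo.IsNondegenerateOn (QuadraticMap.polar Q) W →
      H ≤ Cfsg.Geo.subspaceStabilizer W → Module.finrank F W ≤ 5 → False := by
    intro W hW0 hW1 hWn hle hd
    have heq := Cfsg.Agent.H28.eq_inf_of_max hH hle (Cfsg.Agent.H28.omega_not_le_stab hQ hn hW0 hW1)
    have hd0 : Module.finrank F W ≠ 0 := by
      intro h
      exact hW0 (Submodule.finrank_eq_zero.1 h)
    rcases Nat.even_or_odd (Module.finrank F W) with he | ho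
    · obtain ⟨d, hdd⟩ := he
      have hcases : Module.finrank F W = 2 ∨ Module.finrank F W = 4 := by omega
      rcases hcases with h2 | h4
      · by_cases hp : Cfsg.Geo.IsPlusTypeOn Q W
        · by_cases hq : 4 ≤ Fintype.card F
          · exact hgoal (by iterate 3 right
                            left
                            exact ⟨hq, W, h2, hWn, hp, heq⟩)
          · exact Cfsg.Agent.H28.plane_contra hQ (by omega) hn hH h2 hWn hp heq
        · exact hgoal (by iterate 2 right
                          left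
                          exact ⟨W, h2, hWn, hp, heq⟩)
      · exact hgoal (by iterate 4 right
                        left
                        exact ⟨W, h4, hWn, heq⟩)
    · by_cases h5 : Module.finrank F W = 5
      · exact hfive _ (Cfsg.Agent.H28.pair_decomp hQ hWn h5 (by simp) (by norm_num)) (Cfsg.Agent.H28.pair_stab hQ hHU hle)
      · have h2ne : (2 : F) ≠ 0 := by
          intro h2
          have := Cfsg.Agent.H28.even_nondeg_char2 hQ h2 hWn
          exact (Nat.not_even_iff_odd.2 ho) this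
        exact hgoal (by iterate 1 right
                        left
                        exact ⟨Cfsg.Agent.H28.odd_of_two_ne_zero h2ne, W, hW0, hW1, ho, by omega, hWn, heq⟩)
  have hnd : ∀ W : Submodule F (Fin 10 → F), W ≠ ⊥ → W ≠ ⊤ → Cfsg.Geo.IsNondegenerateOn (QuadraticMap.polar Q) W →
      H ≤ Cfsg.Geo.subspaceStabilizer W → False := by
    intro W hW0 hW1 hWn hle
    by_cases hd : Module.finrank F W ≤ 5
    · exact key W hW0 hW1 hWn hle hd
    · have hfr := Cfsg.Agent.H28.finrank_qorth hQ W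
      rw [Fintype.card_fin] at hfr
      have hinv := Cfsg.Agent.H28.inv_qorth hQ hHU (W := W) fun g hg v hv => (hle hg v).1 hv
      refine key _ ?_ ?_ (Cfsg.Agent.H28.nondeg_qorth hQ hWn) (Cfsg.Agent.H28.le_stab_of_inv hinv) (by omega)
      · intro h
        rw [h, finrank_bot] at hfr
        exact hW1 (Submodule.eq_top_of_finrank_eq (by simp only [Module.finrank_fintype_fun_eq_card, Fintype.card_fin]; omega))
      · intro h
        rw [h, htopfr] at hfr
        have h0 : Module.finrank F W = 0 := by omega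
        exact hW0 (Submodule.finrank_eq_zero.1 h0)
  have hsing : ∀ W : Submodule F (Fin 10 → F), W ≠ ⊥ → Cfsg.Geo.IsTotallySingularQuad Q W →
      H ≤ Cfsg.Geo.subspaceStabilizer W → False := by
    intro W hW0 hts hle
    obtain ⟨g, hg, hgS⟩ := Cfsg.Agent.H27.GO.exists_not_stab hQ hn hW0 hts
    exact hgoal (Or.inl ⟨W, hW0, hts, Cfsg.Agent.H28.eq_inf_of_max hH hle fun h => hgS (h hg)⟩)
  have hvec : (2 : F) = 0 → ∀ v : Fin 10 → F, Q v ≠ 0 → H ≤ Cfsg.Geo.subspaceStabilizer (Submodule.span F {v}) → False := by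
    intro h2 v hv hle
    have hv0 : v ≠ 0 := by
      rintro rfl
      exact hv (Cfsg.Agent.H28.Q_zero hQ)
    have hfr := finrank_span_singleton (K := F) hv0
    have h1 : Submodule.span F {v} ≠ ⊥ := by
      intro h
      rw [h, finrank_bot] at hfr
      omega
    have h3 : Submodule.span F {v} ≠ ⊤ := by
      intro h
      rw [h, htopfr] at hfr
      omega
    exact hgoal (by iterate 5 right
                    left
                    exact ⟨fun ho => Cfsg.Agent.H28.two_ne_zero_of_odd ho h2, v, hv,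
                      Cfsg.Agent.H28.eq_inf_of_max hH hle (Cfsg.Agent.H28.omega_not_le_stab hQ hn h1 h3)⟩)
  have hirr : Cfsg.Agent.H28.Irr H := by
    intro W hW
    by_contra hcon
    push Not at hcon
    rcases Cfsg.Agent.H28.reducible_e hQ hHU hW hcon.1 hcon.2 with ⟨W', h0, hts, hle⟩ | ⟨W', h0, h1, hn', hle⟩ | ⟨h2, v, hv, hle⟩
    · exact hsing W' h0 hts hle
    · exact hnd W' h0 h1 hn' hle
    · exact hvec h2 v hv hle
  -- fields
  have hfield2 : ∀ K : Subalgebra F (Matrix (Fin 10) (Fin 10) F), Cfsg.Geo.IsFieldSubalgebra 2 K →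
      Cfsg.Geo.IsAdjointClosedFor (QuadraticMap.polar Q) K → H ≤ Cfsg.Geo.subalgebraNormalizer K → False := by
    intro K hK hadj hle
    have heq := Cfsg.Agent.H28.eq_inf_of_max hH hle (Cfsg.Agent.H28.omega_not_le_field hQ hn hK (by norm_num))
    by_cases hs : Cfsg.Geo.IsSelfAdjointFor (QuadraticMap.polar Q) K
    · by_cases h2 : (2 : F) = 0
      · have h4 := Cfsg.Agent.H28.k2_selfadj_char2 hQ h2 hK hs
        rw [Fintype.card_fin] at h4
        revert h4
        decide
      · exact hgoal (by iterate 10 right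
                        left
                        exact ⟨Cfsg.Agent.H28.odd_of_two_ne_zero h2, K, hK, hs, heq⟩)
    · exact hgoal (by iterate 11 right
                      left
                      exact ⟨K, hK, hadj, hs, Cfsg.Agent.H28.k2_sim hQ (by simp) hK hadj hs (Or.inr ⟨H, hirr, hle, hHU⟩), heq⟩)
  have hfield : ∀ (r : ℕ) (K : Subalgebra F (Matrix (Fin 10) (Fin 10) F)), r.Prime → Cfsg.Geo.IsFieldSubalgebra r K →
      Cfsg.Geo.IsAdjointClosedFor (QuadraticMap.polar Q) K → H ≤ Cfsg.Geo.subalgebraNormalizer K → False := by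
    intro r K hr hK hadj hle
    have hdvd := Cfsg.Agent.H28.IsFieldSubalgebra.finrank_dvd hK
    rw [Fintype.card_fin] at hdvd
    have hr12 : r = 2 ∨ r = 5 := by
      have hle12 : r ≤ 10 := Nat.le_of_dvd (by norm_num) hdvd
      interval_cases r <;> first | omega | (exfalso; revert hr; norm_num) | (exfalso; revert hdvd; norm_num)
    rcases hr12 with rfl | rfl
    · exact hfield2 K hK hadj hle
    · rcases Cfsg.Agent.H28.oddK_reduce hQ (d := 5) (by decide) (by simp) hK (Cfsg.Agent.H28.adj_mem_of_closed hQ hadj) hle hHU with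
        ⟨D, hD, hts, -⟩ | ⟨K', hK', hadj', hle'⟩
      · exact hts5 (D 0) (hts 0) (hD.finrank_eq 0)
      · exact hfield2 K' hK' hadj' hle'
  -- the tensor clause
  have hten2 : ∀ (e : Fin 10 ≃ Fin 5 × Fin 2) (P : Matrix.GeneralLinearGroup (Fin 10) F)
      (f₁ : (Fin 5 → F) → (Fin 5 → F) → F) (f₂ : (Fin 2 → F) → (Fin 2 → F) → F),
      (∀ x u y v, QuadraticMap.polar Q (Cfsg.Agent.H28.pureV e P x u) (Cfsg.Agent.H28.pureV e P y v) = f₁ x y * f₂ u v) →
      (((2 : F) ≠ 0 ∧ Cfsg.Geo.IsSymmetricForm f₁ ∧ Cfsg.Geo.IsSymmetricForm f₂) ∨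
        (Cfsg.Geo.IsSymplecticForm f₁ ∧ Cfsg.Geo.IsSymplecticForm f₂ ∧ ∀ x u, Q (Cfsg.Agent.H28.pureV e P x u) = 0)) →
      H ≤ Cfsg.Geo.tensorProductSubgroup 5 2 e P → False := by
    intro e P f₁ f₂ hsplit hforms hle
    rcases hforms with ⟨h2, hf₁, hf₂⟩ | ⟨hf₁, -, -⟩
    · rcases Cfsg.Agent.H28.tensor_sym_two hQ h2 (w := 5) (by simp) hHU hf₁.nondegenerate hf₂ hsplit hle with
        ⟨D, hD, hts, -⟩ | ⟨K, hK, hadj, -, hle'⟩
      · exact hts5 (D 0) (hts 0) (hD.finrank_eq 0)
      · exact hfield2 K hK hadj hle'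
    · exact Cfsg.Agent.H28.no_symplectic_odd (by simp; decide) hf₁
  have hsub : ∀ (F₁ : Subfield F) (r : ℕ) (P : Matrix.GeneralLinearGroup (Fin 10) F) (ζ : F), r.Prime →
      Fintype.card F = Nat.card F₁ ^ r → ζ ≠ 0 → Cfsg.Geo.IsQuadFormRationalStructure (fun v => ζ * Q v) F₁ P →
      H ≤ Cfsg.Geo.subfieldSubgroup F₁ P → False := by
    intro F₁ r P ζ hr hcard hζ hrat hle
    by_cases hr2 : r = 2
    · subst hr2
      exact hminus (Cfsg.Agent.H28.plus_of_rational_two hQ hζ hcard hrat (m := 5) (by simp))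
    · exact hgoal (by iterate 12 right
                      left
                      exact ⟨F₁, r, P, ζ, hr, hr.odd_of_ne_two hr2, hcard, hζ, hrat,
                        Cfsg.Agent.H28.eq_inf_of_max hH hle
                          (Cfsg.Agent.H28.omega_not_le_subfield hQ hn (Cfsg.Agent.H28.ne_top_of_card_pow hr hcard) P)⟩)
  rcases Cfsg.Agent.H28.e_le_main hQ (by simp) (by simp; norm_num) hpow hHU with
    ⟨W, hW0, hts, hle⟩ | ⟨W, hW0, hW1, hWn, hle⟩ | ⟨h2, v, hv, hle⟩ | ⟨t, k, D, hD, hle⟩ | ⟨k, D, hD, hts, hle⟩ |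
    ⟨r, K, hr, hK, hadj, hle⟩ | ⟨w, a, e, P, f₁, f₂, hw, ha, hirr', hsplit, hforms, hle⟩ |
    ⟨F₁, r, P, ζ, hr, hcard, hζ, hrat, hle⟩ | hres
  · exact hsing W hW0 hts hle
  · exact hnd W hW0 hW1 hWn hle
  · exact hvec h2 v hv hle
  · have hcard := Cfsg.Agent.H28.decomp_card hD.decomp.decomp
    rw [Fintype.card_fin] at hcard
    have ht2 := hD.decomp.decomp.two_le
    have hk0 := hD.decomp.decomp.pos
    have hcases : ∀ t k : ℕ, 2 ≤ t → 0 < k → t * k = 10 → (t = 2 ∧ k = 5) ∨ (t = 5 ∧ k = 2) ∨ (t = 10 ∧ k = 1) := by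
      intro t k h1 h3 h4
      have h5 : t ≤ 10 := by nlinarith
      interval_cases t <;> omega
    have hoddk : Odd k → (2 : F) ≠ 0 := by
      intro hk h2
      have ht0 : 0 < t := by omega
      have h1 := Cfsg.Agent.H28.even_nondeg_char2 hQ h2 (hD.decomp.nondegenerate ⟨0, ht0⟩)
      rw [hD.decomp.decomp.finrank_eq] at h1
      exact (Nat.not_even_iff_odd.2 hk) h1
    rcases hcases t k ht2 hk0 hcard with ⟨rfl, rfl⟩ | ⟨rfl, rfl⟩ | ⟨rfl, rfl⟩
    · exact hfive D hD.decomp hle
    · have heq := Cfsg.Agent.H28.eq_inf_of_max hH hle (Cfsg.Agent.H28.omega_not_le_decomp hQ hn hD.decomp)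
      by_cases hq3 : Fintype.card F = 3
      · obtain ⟨K, hK1, hK2⟩ := Cfsg.Agent.H27.GO.thmA hq3 hQ 2 (Or.inl rfl) D hD (by norm_num)
        rw [← heq] at hK1
        rcases hH.2 K hK1.le hK2.le with h | h
        · exact hK1.ne h.symm
        · exact hK2.ne h
      · exact hgoal (by iterate 7 right
                        left
                        exact ⟨hq3, D, hD, heq⟩)
    · have h2 := hoddk (by decide)
      have hodd := Cfsg.Agent.H28.odd_of_two_ne_zero h2
      by_cases hprime : (Fintype.card F).Prime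
      · have hmod : Fintype.card F % 4 = 1 ∨ Fintype.card F % 4 = 3 := by
          obtain ⟨d, hd⟩ := hodd
          omega
        rcases hmod with h1 | h3
        · obtain ⟨i, hi⟩ := hsqrt h1
          exact hminus (Cfsg.Agent.H28.plus_square_blocks hQ hD (by decide) hi)
        · exact hgoal (by iterate 6 right
                          left
                          exact ⟨⟨_, hprime, rfl, h3⟩, D, hD,
                            Cfsg.Agent.H28.eq_inf_of_max hH hle (Cfsg.Agent.H28.omega_not_le_decomp hQ hn hD.decomp)⟩)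
      · obtain ⟨F₁, r, P, ζ, hr, hcard', hζ, hrat, hle'⟩ :=
          Cfsg.Agent.H28.frame_subfield_e' hQ h2 hHU hirr (by simp) hD.decomp hle hprime
        exact hsub F₁ r P ζ hr hcard' hζ hrat hle'
  · have hcard := Cfsg.Agent.H28.decomp_card hD
    rw [Fintype.card_fin] at hcard
    exact hts5 (D 0) (hts 0) (by rw [hD.finrank_eq]; omega)
  · exact hfield r K hr hK hadj hle
  · have hcard : w * a = 10 := by
      have h1 := Fintype.card_congr e
      simpa using h1.symm
    have hcases : ∀ w a : ℕ, 2 ≤ w → 2 ≤ a → w * a = 10 → (w = 2 ∧ a = 5) ∨ (w = 5 ∧ a = 2) := by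
      intro t k h1 h3 h4
      have h5 : t ≤ 10 := by nlinarith
      interval_cases t <;> omega
    rcases hcases w a hw ha hcard with ⟨rfl, rfl⟩ | ⟨rfl, rfl⟩
    · refine hten2 (e.trans (Equiv.prodComm _ _)) P f₂ f₁ ?_ ?_ (hle.trans (Cfsg.Agent.H28.tensor_le_swap e P))
      · intro x u y v
        rw [Cfsg.Agent.H28.pureV_swap, Cfsg.Agent.H28.pureV_swap, hsplit, mul_comm]
      · rcases hforms with ⟨h2, h3, h4⟩ | ⟨h3, h4, h5⟩
        · exact Or.inl ⟨h2, h4, h3⟩
        · exact Or.inr ⟨h4, h3, fun x u => by rw [Cfsg.Agent.H28.pureV_swap]; exact h5 u x⟩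
    · exact hten2 e P f₁ f₂ hsplit hforms hle
  · exact hsub F₁ r P ζ hr hcard hζ hrat hle
  · exact hgoal (by iterate 13 right
                    exact hres)
end Cfsg.Agent.S5850
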