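import Cfsg.Statements.S5871
import Cfsg.Agent.Lib.H28.GLZ9
import Cfsg.Agent.Lib.H27.GeoImp
import Cfsg.Agent.Lib.H27.GeoF2T

set_option autoImplicit false
open Cfsg

namespace Cfsg.Agent.S5871

/-- Every maximal subgroup of Ω_12^+(q) is of one of the listed geometric types or lies in the residual class. Let F be a finite field with q elements (characteristic p), Q a non-degenerate quadratic form on F^12 of plus type (Witt index 6: some totally singular 6-space), Ω the commutator subgroup of its isometry group, and H a maximal subgroup of Ω (inside GL_12(F)). Then H is the intersection with Ω of one of: the stabiliser of a non-zero totally singular subspace of dimension ≠ 5; for q odd, the stabiliser of a non-degenerate subspace of odd dimension; the stabiliser of a non-degenerate 2-space of minus type; for q ≥ 4, the stabiliser of a non-degenerate 2-space of plus type; the stabiliser of a non-degenerate 4-space; for q even, the stabiliser of the span of a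 non-singular vector; for q = p an odd prime, the stabiliser of a decomposition into 12 pairwise orthogonal, pairwise isometric non-degenerate 1-spaces; for q ≥ 7, the stabiliser of a decomposition into 6 pairwise orthogonal, pairwise isometric non-degenerate 2-spaces of plus type; for q ≠ 3, the stabiliser of a decomposition into 6 pairwise orthogonal, pairwise isometric non-degenerate 2-spaces of minus type; for q odd with q ≥ 5, the stabiliser of a decomposition into 4 pairwise orthogonal, pairwise isometric non-degenerate 3-spaces; for q ≥ 3, the stabiliser of a decomposition into 3 pairwise orthogonal, pairwise isometric non-degenerate 4-spaces; the stabiliser of a decomposition into 2 pairwise orthogonal, pairwise isometric non-degenerate 6-spaces; of a decomposition into two totally singular 6-spaces; the normaliser of a degree-2 subfield of the matrix algebra; the normaliser of a degree-3 subfield of the matrix algebra; the normaliser of a degree-2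 subfield K, adjoint-closed but not self-adjoint, acting by similarities of Q; for q ≥ 3, the stabiliser of a tensor decomposition of Q into alternating forms on F^2 and F^6 (Q vanishing on pure tensors); a subfield group (|F| = |F₀|^r, r prime) whose F₀-structure carries a non-zero multiple of Q — or else H lies in the residual class of the orthogonal case (modulo scalars H is almost simple, with absolutely irreducible perfect socle preimage realisable over no proper subfield and fixing no non-degenerate unitary form). -/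
theorem result {F : Type*} [Field F] [Fintype F] (Q : (Fin 12 → F) → F) (hQ : Cfsg.Geo.IsNondegenerateQuadraticForm Q) (hplus : Cfsg.Geo.IsPlusTypeOn Q ⊤) (H : Subgroup (Matrix.GeneralLinearGroup (Fin 12) F)) (hH : Cfsg.Geo.IsMaximalIn (Cfsg.Geo.omegaGL Q) H) :
    (∃ W : Submodule F (Fin 12 → F), W ≠ ⊥ ∧ Cfsg.Geo.IsTotallySingularQuad Q W ∧ Module.finrank F W ≠ 5 ∧ H = Cfsg.Geo.subspaceStabilizer W ⊓ Cfsg.Geo.omegaGL Q) ∨
    (Odd (Fintype.card F) ∧ ∃ W : Submodule F (Fin 12 → F), W ≠ ⊥ ∧ W ≠ ⊤ ∧ Odd (Module.finrank F W) ∧ 2 * Module.finrank F W ≠ 12 ∧ Cfsg.Geo.IsNondegenerateOn (QuadraticMap.polar Q) W ∧ H = Cfsg.Geo.subspaceStabilizer W ⊓ Cfsg.Geo.omegaGL Q) ∨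
    (∃ W : Submodule F (Fin 12 → F), Module.finrank F W = 2 ∧ Cfsg.Geo.IsNondegenerateOn (QuadraticMap.polar Q) W ∧ ¬ Cfsg.Geo.IsPlusTypeOn Q W ∧ H = Cfsg.Geo.subspaceStabilizer W ⊓ Cfsg.Geo.omegaGL Q) ∨
    (4 ≤ Fintype.card F ∧ ∃ W : Submodule F (Fin 12 → F), Module.finrank F W = 2 ∧ Cfsg.Geo.IsNondegenerateOn (QuadraticMap.polar Q) W ∧ Cfsg.Geo.IsPlusTypeOn Q W ∧ H = Cfsg.Geo.subspaceStabilizer W ⊓ Cfsg.Geo.omegaGL Q) ∨
    (∃ W : Submodule F (Fin 12 → F), Module.finrank F W = 4 ∧ Cfsg.Geo.IsNondegenerateOn (QuadraticMap.polar Q) W ∧ H = Cfsg.Geo.subspaceStabilizer W ⊓ Cfsg.Geo.omegaGL Q) ∨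
    (¬ Odd (Fintype.card F) ∧ ∃ v : (Fin 12 → F), Q v ≠ 0 ∧ H = Cfsg.Geo.subspaceStabilizer (Submodule.span F {v}) ⊓ Cfsg.Geo.omegaGL Q) ∨
    ((∃ p : ℕ, p.Prime ∧ Odd p ∧ Fintype.card F = p) ∧ ∃ D : Fin 12 → Submodule F (Fin 12 → F), Cfsg.Geo.IsOrthogonalMDecomposition Q 1 D ∧ H = Cfsg.Geo.decompositionStabilizer D ⊓ Cfsg.Geo.omegaGL Q) ∨
    (7 ≤ Fintype.card F ∧ ∃ D : Fin 6 → Submodule F (Fin 12 → F), Cfsg.Geo.IsOrthogonalMDecomposition Q 2 D ∧ (∀ i, Cfsg.Geo.IsPlusTypeOn Q (D i)) ∧ H = Cfsg.Geo.decompositionStabilizer D ⊓ Cfsg.Geo.omegaGL Q) ∨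
    (Fintype.card F ≠ 3 ∧ ∃ D : Fin 6 → Submodule F (Fin 12 → F), Cfsg.Geo.IsOrthogonalMDecomposition Q 2 D ∧ (∀ i, ¬ Cfsg.Geo.IsPlusTypeOn Q (D i)) ∧ H = Cfsg.Geo.decompositionStabilizer D ⊓ Cfsg.Geo.omegaGL Q) ∨
    (Odd (Fintype.card F) ∧ 5 ≤ Fintype.card F ∧ ∃ D : Fin 4 → Submodule F (Fin 12 → F), Cfsg.Geo.IsOrthogonalMDecomposition Q 3 D ∧ H = Cfsg.Geo.decompositionStabilizer D ⊓ Cfsg.Geo.omegaGL Q) ∨
    (3 ≤ Fintype.card F ∧ ∃ D : Fin 3 → Submodule F (Fin 12 → F), Cfsg.Geo.IsOrthogonalMDecomposition Q 4 D ∧ H = Cfsg.Geo.decompositionStabilizer D ⊓ Cfsg.Geo.omegaGL Q) ∨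
    (∃ D : Fin 2 → Submodule F (Fin 12 → F), Cfsg.Geo.IsOrthogonalMDecomposition Q 6 D ∧ H = Cfsg.Geo.decompositionStabilizer D ⊓ Cfsg.Geo.omegaGL Q) ∨
    (∃ D : Fin 2 → Submodule F (Fin 12 → F), Cfsg.Geo.IsMDecomposition 6 D ∧ (∀ i, Cfsg.Geo.IsTotallySingularQuad Q (D i)) ∧ H = Cfsg.Geo.decompositionStabilizer D ⊓ Cfsg.Geo.omegaGL Q) ∨
    (∃ K : Subalgebra F (Matrix (Fin 12) (Fin 12) F), Cfsg.Geo.IsFieldSubalgebra 2 K ∧ H = Cfsg.Geo.subalgebraNormalizer K ⊓ Cfsg.Geo.omegaGL Q) ∨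
    (∃ K : Subalgebra F (Matrix (Fin 12) (Fin 12) F), Cfsg.Geo.IsFieldSubalgebra 3 K ∧ H = Cfsg.Geo.subalgebraNormalizer K ⊓ Cfsg.Geo.omegaGL Q) ∨
    (∃ K : Subalgebra F (Matrix (Fin 12) (Fin 12) F), Cfsg.Geo.IsFieldSubalgebra 2 K ∧ Cfsg.Geo.IsAdjointClosedFor (QuadraticMap.polar Q) K ∧ ¬ Cfsg.Geo.IsSelfAdjointFor (QuadraticMap.polar Q) K ∧ (∀ k ∈ K, ∃ c : F, ∀ v : (Fin 12 → F), Q (Matrix.mulVec k v) = c * Q v) ∧ H = Cfsg.Geo.subalgebraNormalizer K ⊓ Cfsg.Geo.omegaGL Q) ∨
    (3 ≤ Fintype.card F ∧ ∃ (e : Fin 12 ≃ Fin 2 × Fin 6) (P : Matrix.GeneralLinearGroup (Fin 12) F) (f₁ : (Fin 2 → F) → (Fin 2 → F) → F) (f₂ : (Fin 6 → F) → (Fin 6 → F) → F), Cfsg.Geo.IsSymplecticForm f₁ ∧ Cfsg.Geo.IsSymplecticForm f₂ ∧ Cfsg.Geo.IsTensorFormStructure id (QuadraticMap.polar Q) f₁ f₂ e P ∧ (∀ (x₁ : Fin 2 → F) (x₂ : Fin 6 → F), Q (Matrix.mulVec (P : Matrix (Fin 12) (Fin 12) F) ((fun a : Fin 2 × Fin 6 => x₁ a.1 * x₂ a.2) ∘ e)) = 0) ∧ H = Cfsg.Geo.tensorProductSubgroup 2 6 e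 P ⊓ Cfsg.Geo.omegaGL Q) ∨
    (∃ (F₀ : Subfield F) (r : ℕ) (P : Matrix.GeneralLinearGroup (Fin 12) F) (ζ : F), r.Prime ∧ Fintype.card F = Nat.card F₀ ^ r ∧ ζ ≠ 0 ∧ Cfsg.Geo.IsQuadFormRationalStructure (fun v : Fin 12 → F => ζ * Q v) F₀ P ∧ H = Cfsg.Geo.subfieldSubgroup F₀ P ⊓ Cfsg.Geo.omegaGL Q) ∨
    Cfsg.Geo.InOrthogonalResidualClass H := by
  classical
  have hn : 7 ≤ Fintype.card (Fin 12) := by simp
  have hHΩ : H ≤ Cfsg.Geo.omegaGL Q := hH.1.le
  have hHU : H ≤ Cfsg.isometryGroup F Q := fun g hg => Cfsg.Agent.H28.omega_le_isom (hHΩ hg)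
  have htopfr : Module.finrank F (⊤ : Submodule F (Fin 12 → F)) = 12 := by
    rw [finrank_top]
    simp
  have hpow : ∀ w k : ℕ, 2 ≤ w → 2 ≤ k → Fintype.card (Fin 12) ≠ w ^ k := by
    intro w k hw hk h
    rw [Fintype.card_fin] at h
    have hk4 : k < 4 := by
      by_contra hcon
      have h1 : 2 ^ 4 ≤ w ^ k := (Nat.pow_le_pow_left hw 4).trans (Nat.pow_le_pow_right (by omega) (by omega))
      omega
    have hw4 : w < 4 := by
      by_contra hcon
      have h1 : 4 ^ 2 ≤ w ^ k := (Nat.pow_le_pow_left (by omega) 2).trans (Nat.pow_le_pow_right (by omega) hk)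
      omega
    interval_cases k <;> interval_cases w <;> omega
  have hnm : ∀ X : Subgroup (Matrix.GeneralLinearGroup (Fin 12) F), H ≤ X →
      (∃ K : Subgroup (Matrix.GeneralLinearGroup (Fin 12) F), X ⊓ Cfsg.Geo.omegaGL Q < K ∧ K < Cfsg.Geo.omegaGL Q) → False := by
    rintro X hle ⟨K, h1, h2⟩
    have h3 : H < K := lt_of_le_of_lt (le_inf hle hHΩ) h1
    rcases hH.2 K h3.le h2.le with h | h
    · exact h3.ne h.symm
    · exact h2.ne h
  by_contra hgoal
  -- non-degenerate subspaces of small dimension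
  have key : ∀ W : Submodule F (Fin 12 → F), W ≠ ⊥ → W ≠ ⊤ → Cfsg.Geo.IsNondegenerateOn (QuadraticMap.polar Q) W →
      H ≤ Cfsg.Geo.subspaceStabilizer W → Module.finrank F W ≤ 6 → False := by
    intro W hW0 hW1 hWn hle hd
    have heq := Cfsg.Agent.H28.eq_inf_of_max hH hle (Cfsg.Agent.H28.omega_not_le_stab hQ hn hW0 hW1)
    have hd0 : Module.finrank F W ≠ 0 := by
      intro h
      exact hW0 (Submodule.finrank_eq_zero.1 h)
    rcases Nat.even_or_odd (Module.finrank F W) with he | ho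
    · obtain ⟨d, hdd⟩ := he
      have hcases : Module.finrank F W = 2 ∨ Module.finrank F W = 4 ∨ Module.finrank F W = 6 := by omega
      rcases hcases with h2 | h4 | h6
      · by_cases hp : Cfsg.Geo.IsPlusTypeOn Q W
        · by_cases hq : 4 ≤ Fintype.card F
          · exact hgoal (by iterate 3 right
                            left
                            exact ⟨hq, W, h2, hWn, hp, heq⟩)
          · exact Cfsg.Agent.H28.plane_contra hQ (by omega) hn hH h2 hWn hp heq
        · exact hgoal (by iterate 2 right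
                          left
                          exact ⟨W, h2, hWn, hp, heq⟩)
      · exact hgoal (by iterate 4 right
                        left
                        exact ⟨W, h4, hWn, heq⟩)
      · have hDec := Cfsg.Agent.H28.pair_decomp hQ hWn h6 (by simp) (by norm_num)
        have hle' := Cfsg.Agent.H28.pair_stab hQ hHU hle
        have hOrth := Cfsg.Agent.H28.orth_of_iso hDec (Cfsg.Agent.H28.iso_half hQ (by simp) hplus hWn h6)
        exact hgoal (by iterate 11 right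
                        left
                        exact ⟨_, hOrth, Cfsg.Agent.H28.eq_inf_of_max hH hle' (Cfsg.Agent.H28.omega_not_le_decomp hQ hn hDec)⟩)
    · have h2ne : (2 : F) ≠ 0 := by
        intro h2
        have := Cfsg.Agent.H28.even_nondeg_char2 hQ h2 hWn
        exact (Nat.not_even_iff_odd.2 ho) this
      exact hgoal (by iterate 1 right
                      left
                      exact ⟨Cfsg.Agent.H28.odd_of_two_ne_zero h2ne, W, hW0, hW1, ho, by
                        obtain ⟨d, hdd⟩ := ho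
                        omega, hWn, heq⟩)
  have hnd : ∀ W : Submodule F (Fin 12 → F), W ≠ ⊥ → W ≠ ⊤ → Cfsg.Geo.IsNondegenerateOn (QuadraticMap.polar Q) W →
      H ≤ Cfsg.Geo.subspaceStabilizer W → False := by
    intro W hW0 hW1 hWn hle
    by_cases hd : Module.finrank F W ≤ 6
    · exact key W hW0 hW1 hWn hle hd
    · have hfr := Cfsg.Agent.H28.finrank_qorth hQ W
      rw [Fintype.card_fin] at hfr
      have hinv := Cfsg.Agent.H28.inv_qorth hQ hHU (W := W) fun g hg v hv => (hle hg v).1 hv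
      refine key _ ?_ ?_ (Cfsg.Agent.H28.nondeg_qorth hQ hWn) (Cfsg.Agent.H28.le_stab_of_inv hinv) (by omega)
      · intro h
        rw [h, finrank_bot] at hfr
        exact hW1 (Submodule.eq_top_of_finrank_eq (by simp only [Module.finrank_fintype_fun_eq_card, Fintype.card_fin]; omega))
      · intro h
        rw [h, htopfr] at hfr
        have h0 : Module.finrank F W = 0 := by omega
        exact hW0 (Submodule.finrank_eq_zero.1 h0)
  have hsing : ∀ W : Submodule F (Fin 12 → F), W ≠ ⊥ → Cfsg.Geo.IsTotallySingularQuad Q W →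
      H ≤ Cfsg.Geo.subspaceStabilizer W → False := by
    intro W hW0 hts hle
    by_cases h5 : Module.finrank F W = 5
    · exact hnm _ hle (Cfsg.Agent.H27.GO.codim_one_main hQ hn hplus W hts (by rw [h5]; simp))
    · obtain ⟨g, hg, hgS⟩ := Cfsg.Agent.H27.GO.exists_not_stab hQ hn hW0 hts
      exact hgoal (Or.inl ⟨W, hW0, hts, h5, Cfsg.Agent.H28.eq_inf_of_max hH hle fun h => hgS (h hg)⟩)
  have hvec : (2 : F) = 0 → ∀ v : Fin 12 → F, Q v ≠ 0 → H ≤ Cfsg.Geo.subspaceStabilizer (Submodule.span F {v}) → False := by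
    intro h2 v hv hle
    have hv0 : v ≠ 0 := by
      rintro rfl
      exact hv (Cfsg.Agent.H28.Q_zero hQ)
    have hfr := finrank_span_singleton (K := F) hv0
    have h1 : Submodule.span F {v} ≠ ⊥ := by
      intro h
      rw [h, finrank_bot] at hfr
      omega
    have h3 : Submodule.span F {v} ≠ ⊤ := by
      intro h
      rw [h, htopfr] at hfr
      omega
    exact hgoal (by iterate 5 right
                    left
                    exact ⟨fun ho => Cfsg.Agent.H28.two_ne_zero_of_odd ho h2, v, hv,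
                      Cfsg.Agent.H28.eq_inf_of_max hH hle (Cfsg.Agent.H28.omega_not_le_stab hQ hn h1 h3)⟩)
  have hirr : Cfsg.Agent.H28.Irr H := by
    intro W hW
    by_contra hcon
    push Not at hcon
    rcases Cfsg.Agent.H28.reducible_e hQ hHU hW hcon.1 hcon.2 with ⟨W', h0, hts, hle⟩ | ⟨W', h0, h1, hn', hle⟩ | ⟨h2, v, hv, hle⟩
    · exact hsing W' h0 hts hle
    · exact hnd W' h0 h1 hn' hle
    · exact hvec h2 v hv hle
  -- fields
  have hfield : ∀ (r : ℕ) (K : Subalgebra F (Matrix (Fin 12) (Fin 12) F)), r.Prime → Cfsg.Geo.IsFieldSubalgebra r K →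
      H ≤ Cfsg.Geo.subalgebraNormalizer K → False := by
    intro r K hr hK hle
    have hdvd := Cfsg.Agent.H28.IsFieldSubalgebra.finrank_dvd hK
    rw [Fintype.card_fin] at hdvd
    have hr12 : r = 2 ∨ r = 3 := by
      have hle12 : r ≤ 12 := Nat.le_of_dvd (by norm_num) hdvd
      interval_cases r <;> first | omega | (exfalso; revert hr; norm_num) | (exfalso; revert hdvd; norm_num)
    have heq := Cfsg.Agent.H28.eq_inf_of_max hH hle (Cfsg.Agent.H28.omega_not_le_field hQ hn hK hr.ne_one)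
    rcases hr12 with rfl | rfl
    · exact hgoal (by iterate 13 right
                      left
                      exact ⟨K, hK, heq⟩)
    · exact hgoal (by iterate 14 right
                      left
                      exact ⟨K, hK, heq⟩)
  have hsub : ∀ (F₁ : Subfield F) (r : ℕ) (P : Matrix.GeneralLinearGroup (Fin 12) F) (ζ : F), r.Prime →
      Fintype.card F = Nat.card F₁ ^ r → ζ ≠ 0 → Cfsg.Geo.IsQuadFormRationalStructure (fun v => ζ * Q v) F₁ P →
      H ≤ Cfsg.Geo.subfieldSubgroup F₁ P → False := by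
    intro F₁ r P ζ hr hcard hζ hrat hle
    exact hgoal (by iterate 17 right
                    left
                    exact ⟨F₁, r, P, ζ, hr, hcard, hζ, hrat,
                      Cfsg.Agent.H28.eq_inf_of_max hH hle
                        (Cfsg.Agent.H28.omega_not_le_subfield hQ hn (Cfsg.Agent.H28.ne_top_of_card_pow hr hcard) P)⟩)
  have hpair : ∀ D : Fin 2 → Submodule F (Fin 12 → F), Cfsg.Geo.IsMDecomposition 6 D →
      (∀ i, Cfsg.Geo.IsTotallySingularQuad Q (D i)) → H ≤ Cfsg.Geo.decompositionStabilizer D → False := by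
    intro D hD hts hle
    exact hgoal (by iterate 12 right
                    left
                    exact ⟨D, hD, hts, Cfsg.Agent.H28.eq_inf_of_max hH hle
                      (Cfsg.Agent.H28.omega_not_le_pair hQ hn hD hts (by norm_num))⟩)
  -- tensor clauses
  have hsympl : ∀ (e : Fin 12 ≃ Fin 2 × Fin 6) (P : Matrix.GeneralLinearGroup (Fin 12) F)
      (f₁ : (Fin 2 → F) → (Fin 2 → F) → F) (f₂ : (Fin 6 → F) → (Fin 6 → F) → F),
      Cfsg.Geo.IsSymplecticForm f₁ → Cfsg.Geo.IsSymplecticForm f₂ →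
      (∀ x u y v, QuadraticMap.polar Q (Cfsg.Agent.H28.pureV e P x u) (Cfsg.Agent.H28.pureV e P y v) = f₁ x y * f₂ u v) →
      (∀ x u, Q (Cfsg.Agent.H28.pureV e P x u) = 0) →
      H ≤ Cfsg.Geo.tensorProductSubgroup 2 6 e P → False := by
    intro e P f₁ f₂ hf₁ hf₂ hsplit hpure hle
    have hT : Cfsg.Geo.IsTensorFormStructure id (QuadraticMap.polar Q) f₁ f₂ e P :=
      Cfsg.Agent.H28.tensor_struct (Cfsg.Agent.H28.pl_sesq hQ) id (fun _ => rfl) hsplit
    by_cases hq3 : 3 ≤ Fintype.card F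
    · exact hgoal (by iterate 16 right
                      left
                      exact ⟨hq3, e, P, f₁, f₂, hf₁, hf₂, hT, fun x₁ x₂ => hpure x₁ x₂,
                        Cfsg.Agent.H28.eq_inf_of_max hH hle
                          (Cfsg.Agent.H28.omega_not_le_tensor hQ hn (by norm_num) (by norm_num) e P)⟩)
    · have hq2 : Fintype.card F = 2 := by
        have h2 : 2 ≤ Fintype.card F := Fintype.one_lt_card
        omega
      exact hnm _ hle (Cfsg.Agent.H27.GO.f2tensor_main hq2 hn hQ (n₂ := 6) (by norm_num) e P f₁ f₂ hf₁ hf₂ hT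
        (fun x₁ x₂ => hpure x₁ x₂))
  have hten62 : ∀ (e : Fin 12 ≃ Fin 6 × Fin 2) (P : Matrix.GeneralLinearGroup (Fin 12) F)
      (f₁ : (Fin 6 → F) → (Fin 6 → F) → F) (f₂ : (Fin 2 → F) → (Fin 2 → F) → F),
      (∀ x u y v, QuadraticMap.polar Q (Cfsg.Agent.H28.pureV e P x u) (Cfsg.Agent.H28.pureV e P y v) = f₁ x y * f₂ u v) →
      (((2 : F) ≠ 0 ∧ Cfsg.Geo.IsSymmetricForm f₁ ∧ Cfsg.Geo.IsSymmetricForm f₂) ∨
        (Cfsg.Geo.IsSymplecticForm f₁ ∧ Cfsg.Geo.IsSymplecticForm f₂ ∧ ∀ x u, Q (Cfsg.Agent.H28.pureV e P x u) = 0)) →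
      H ≤ Cfsg.Geo.tensorProductSubgroup 6 2 e P → False := by
    intro e P f₁ f₂ hsplit hforms hle
    rcases hforms with ⟨h2, hf₁, hf₂⟩ | ⟨hf₁, hf₂, hp⟩
    · rcases Cfsg.Agent.H28.tensor_sym_two hQ h2 (w := 6) (by simp) hHU hf₁.nondegenerate hf₂ hsplit hle with
        ⟨D, hD, hts, hle'⟩ | ⟨K, hK, -, -, hle'⟩
      · exact hpair D hD hts hle'
      · exact hfield 2 K Nat.prime_two hK hle'
    · refine hsympl (e.trans (Equiv.prodComm _ _)) P f₂ f₁ hf₂ hf₁ ?_ ?_ (hle.trans (Cfsg.Agent.H28.tensor_le_swap e P))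
      · intro x u y v
        rw [Cfsg.Agent.H28.pureV_swap, Cfsg.Agent.H28.pureV_swap, hsplit, mul_comm]
      · intro x u
        rw [Cfsg.Agent.H28.pureV_swap]
        exact hp u x
  have hten34 : ∀ (e : Fin 12 ≃ Fin 3 × Fin 4) (P : Matrix.GeneralLinearGroup (Fin 12) F)
      (f₁ : (Fin 3 → F) → (Fin 3 → F) → F) (f₂ : (Fin 4 → F) → (Fin 4 → F) → F),
      (∀ x u y v, QuadraticMap.polar Q (Cfsg.Agent.H28.pureV e P x u) (Cfsg.Agent.H28.pureV e P y v) = f₁ x y * f₂ u v) →
      (((2 : F) ≠ 0 ∧ Cfsg.Geo.IsSymmetricForm f₁ ∧ Cfsg.Geo.IsSymmetricForm f₂) ∨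
        (Cfsg.Geo.IsSymplecticForm f₁ ∧ Cfsg.Geo.IsSymplecticForm f₂ ∧ ∀ x u, Q (Cfsg.Agent.H28.pureV e P x u) = 0)) →
      H ≤ Cfsg.Geo.tensorProductSubgroup 3 4 e P → False := by
    intro e P f₁ f₂ hsplit hforms hle
    rcases hforms with ⟨h2, hf₁, hf₂⟩ | ⟨hf₁, -, -⟩
    · obtain ⟨e', P', f₂', hf₂', hsplit', hpure', hle'⟩ :=
        Cfsg.Agent.H28.tensor_three_four hQ (by simp) h2 hplus hHΩ hf₁ hf₂ hsplit hle
      exact hsympl e' P' Cfsg.Agent.H28.std2 f₂' Cfsg.Agent.H28.std2_sympl hf₂' hsplit' hpure' hle'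
    · exact Cfsg.Agent.H28.no_symplectic_odd (by simp; decide) hf₁
  rcases Cfsg.Agent.H28.e_le_main hQ (by simp) (by simp; norm_num) hpow hHU with
    ⟨W, hW0, hts, hle⟩ | ⟨W, hW0, hW1, hWn, hle⟩ | ⟨h2, v, hv, hle⟩ | ⟨t, k, D, hD, hle⟩ | ⟨k, D, hD, hts, hle⟩ |
    ⟨r, K, hr, hK, hadj, hle⟩ | ⟨w, a, e, P, f₁, f₂, hw, ha, hirr', hsplit, hforms, hle⟩ |
    ⟨F₁, r, P, ζ, hr, hcard, hζ, hrat, hle⟩ | hres
  · exact hsing W hW0 hts hle
  · exact hnd W hW0 hW1 hWn hle
  · exact hvec h2 v hv hle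
  · have hcard := Cfsg.Agent.H28.decomp_card hD.decomp.decomp
    rw [Fintype.card_fin] at hcard
    have ht2 := hD.decomp.decomp.two_le
    have hk0 := hD.decomp.decomp.pos
    have hcases : ∀ t k : ℕ, 2 ≤ t → 0 < k → t * k = 12 →
        (t = 2 ∧ k = 6) ∨ (t = 3 ∧ k = 4) ∨ (t = 4 ∧ k = 3) ∨ (t = 6 ∧ k = 2) ∨ (t = 12 ∧ k = 1) := by
      intro t k h1 h3 h4
      have h5 : t ≤ 12 := by nlinarith
      interval_cases t <;> omega
    have hoddk : Odd k → (2 : F) ≠ 0 := by
      intro hk h2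
      have ht0 : 0 < t := by omega
      have h1 := Cfsg.Agent.H28.even_nondeg_char2 hQ h2 (hD.decomp.nondegenerate ⟨0, ht0⟩)
      rw [hD.decomp.decomp.finrank_eq] at h1
      exact (Nat.not_even_iff_odd.2 hk) h1
    have heq := Cfsg.Agent.H28.eq_inf_of_max hH hle (Cfsg.Agent.H28.omega_not_le_decomp hQ hn hD.decomp)
    have hq2 : 2 ≤ Fintype.card F := Fintype.one_lt_card
    rcases hcases t k ht2 hk0 hcard with ⟨rfl, rfl⟩ | ⟨rfl, rfl⟩ | ⟨rfl, rfl⟩ | ⟨rfl, rfl⟩ | ⟨rfl, rfl⟩
    · exact hgoal (by iterate 11 right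
                      left
                      exact ⟨D, hD, heq⟩)
    · by_cases hq3 : 3 ≤ Fintype.card F
      · exact hgoal (by iterate 10 right
                        left
                        exact ⟨hq3, D, hD, heq⟩)
      · have hq : Fintype.card F = 2 := by omega
        by_cases hp : Cfsg.Geo.IsPlusTypeOn Q (D 0)
        · have hall : ∀ i, Cfsg.Geo.IsPlusTypeOn Q (D i) := fun i => Cfsg.Agent.H28.plus_of_isometric (hD.isometric 0 i) hp
          exact hnm _ hle (Cfsg.Agent.H27.GO.caseq2k4 hq hn hQ D hD (by norm_num) hall)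
        · exact Cfsg.Agent.H28.not_plus_three_four hQ (by simp) hD 0 hp hplus
    · have h2 := hoddk (by decide)
      have hodd := Cfsg.Agent.H28.odd_of_two_ne_zero h2
      by_cases hq3 : Fintype.card F = 3
      · exact hnm _ hle (Cfsg.Agent.H27.GO.thmA hq3 hQ 3 (Or.inr rfl) D hD (by norm_num))
      · have hq5 : 5 ≤ Fintype.card F := by
          obtain ⟨d, hd⟩ := hodd
          omega
        exact hgoal (by iterate 9 right
                        left
                        exact ⟨hodd, hq5, D, hD, heq⟩)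
    · by_cases hp : Cfsg.Geo.IsPlusTypeOn Q (D 0)
      · have hall : ∀ i, Cfsg.Geo.IsPlusTypeOn Q (D i) := fun i => Cfsg.Agent.H28.plus_of_isometric (hD.isometric 0 i) hp
        by_cases hq7 : 7 ≤ Fintype.card F
        · exact hgoal (by iterate 7 right
                          left
                          exact ⟨hq7, D, hD, hall, heq⟩)
        · have hqc : Fintype.card F = 2 ∨ Fintype.card F = 3 ∨ Fintype.card F = 4 ∨ Fintype.card F = 5 ∨ Fintype.card F = 6 := by
            omega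
          rcases hqc with hq | hq | hq | hq | hq
          · exact hnm _ hle (Cfsg.Agent.H27.GO.caseq2k2 hq hn hQ D hD (by norm_num) hall)
          · exact hnm _ hle (Cfsg.Agent.H27.GO.thmA hq hQ 2 (Or.inl rfl) D hD (by norm_num))
          · exact hnm _ hle (Cfsg.Agent.H27.GO.caseq4 hq hQ D hD (by norm_num) hall)
          · exact hnm _ hle (Cfsg.Agent.H27.GO.caseq5 hq hQ D hD (by norm_num) hall)
          · have hpp := FiniteField.isPrimePow_card F
            rw [hq] at hpp
            revert hpp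
            decide
      · have hnot : ∀ i, ¬ Cfsg.Geo.IsPlusTypeOn Q (D i) := fun i hi => hp (Cfsg.Agent.H28.plus_of_isometric (hD.isometric i 0) hi)
        by_cases hq3 : Fintype.card F = 3
        · exact hnm _ hle (Cfsg.Agent.H27.GO.thmA hq3 hQ 2 (Or.inl rfl) D hD (by norm_num))
        · exact hgoal (by iterate 8 right
                          left
                          exact ⟨hq3, D, hD, hnot, heq⟩)
    · have h2 := hoddk (by decide)
      have hodd := Cfsg.Agent.H28.odd_of_two_ne_zero h2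
      by_cases hprime : (Fintype.card F).Prime
      · exact hgoal (by iterate 6 right
                        left
                        exact ⟨⟨_, hprime, hodd, rfl⟩, D, hD, heq⟩)
      · obtain ⟨F₁, r, P, ζ, hr, hcard', hζ, hrat, hle'⟩ :=
          Cfsg.Agent.H28.frame_subfield_e' hQ h2 hHU hirr (by simp) hD.decomp hle hprime
        exact hsub F₁ r P ζ hr hcard' hζ hrat hle'
  · have hcard := Cfsg.Agent.H28.decomp_card hD
    rw [Fintype.card_fin] at hcard
    obtain rfl : k = 6 := by omega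
    exact hpair D hD hts hle
  · exact hfield r K hr hK hle
  · have hcard : w * a = 12 := by
      have h1 := Fintype.card_congr e
      simpa using h1.symm
    have hcases : ∀ w a : ℕ, 2 ≤ w → 2 ≤ a → w * a = 12 →
        (w = 2 ∧ a = 6) ∨ (w = 3 ∧ a = 4) ∨ (w = 4 ∧ a = 3) ∨ (w = 6 ∧ a = 2) := by
      intro t k h1 h3 h4
      have h5 : t ≤ 12 := by nlinarith
      interval_cases t <;> omega
    rcases hcases w a hw ha hcard with ⟨rfl, rfl⟩ | ⟨rfl, rfl⟩ | ⟨rfl, rfl⟩ | ⟨rfl, rfl⟩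
    · refine hten62 (e.trans (Equiv.prodComm _ _)) P f₂ f₁ ?_ ?_ (hle.trans (Cfsg.Agent.H28.tensor_le_swap e P))
      · intro x u y v
        rw [Cfsg.Agent.H28.pureV_swap, Cfsg.Agent.H28.pureV_swap, hsplit, mul_comm]
      · rcases hforms with ⟨h2, h3, h4⟩ | ⟨h3, h4, h5⟩
        · exact Or.inl ⟨h2, h4, h3⟩
        · exact Or.inr ⟨h4, h3, fun x u => by rw [Cfsg.Agent.H28.pureV_swap]; exact h5 u x⟩
    · exact hten34 e P f₁ f₂ hsplit hforms hle
    · refine hten34 (e.trans (Equiv.prodComm _ _)) P f₂ f₁ ?_ ?_ (hle.trans (Cfsg.Agent.H28.tensor_le_swap e P))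
      · intro x u y v
        rw [Cfsg.Agent.H28.pureV_swap, Cfsg.Agent.H28.pureV_swap, hsplit, mul_comm]
      · rcases hforms with ⟨h2, h3, h4⟩ | ⟨h3, h4, h5⟩
        · exact Or.inl ⟨h2, h4, h3⟩
        · exact Or.inr ⟨h4, h3, fun x u => by rw [Cfsg.Agent.H28.pureV_swap]; exact h5 u x⟩
    · exact hten62 e P f₁ f₂ hsplit hforms hle
  · exact hsub F₁ r P ζ hr hcard hζ hrat hle
  · exact hgoal (by iterate 18 right
                    exact hres)

end Cfsg.Agent.S5871
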