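import Cfsg.Statements.S5904
-- import your own Cfsg.Agent.* helpers here

set_option autoImplicit false
open scoped Pointwise
open Cfsg

namespace Cfsg.Agent.S5904

/-- Let Ω be a finite set with more than two elements and O ⊆ Ω a subset with exactly as many elements as its complement. Then the setwise stabilizer of O in the symmetric group on Ω is not a maximal subgroup (it is properly contained in the stabilizer of the partition {O, Ω ∖ O}, which is proper). -/
theorem result {Ω : Type*} [Fintype Ω] [DecidableEq Ω] (hΩ : 2 < Fintype.card Ω)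
    (O : Set Ω) (hO : Nat.card O = Nat.card ↥Oᶜ) :
    ¬ IsCoatom (MulAction.stabilizer (Equiv.Perm Ω) O) := by
    classical
  -- cardinalities
  have hcard : Nat.card O + Nat.card ↥Oᶜ = Fintype.card Ω := by
    have := Nat.card_congr (Equiv.Set.sumCompl O)
    rw [Nat.card_sum] at this
    rw [this, Nat.card_eq_fintype_card]
  have hO2 : 1 < Nat.card O := by omega
  have hOc2 : 1 < Nat.card ↥Oᶜ := by omega
  haveI : Nontrivial O := (Finite.one_lt_card_iff_nontrivial).mp hO2
  haveI : Nontrivial ↥Oᶜ := (Finite.one_lt_card_iff_nontrivial).mp hOc2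
  obtain ⟨⟨x, hx⟩, ⟨y, hy⟩, hxy⟩ := exists_pair_ne O
  have hxy' : x ≠ y := fun h => hxy (Subtype.ext h)
  obtain ⟨⟨z, hz⟩, -⟩ := exists_pair_ne ↥Oᶜ
  have hzO : z ∉ O := hz
  -- the stabiliser of the partition `{O, Oᶜ}`
  let W : Subgroup (Equiv.Perm Ω) :=
    { carrier := {g | g • O = O ∨ g • O = Oᶜ}
      mul_mem' := by
        intro a b ha hb
        change a • O = O ∨ a • O = Oᶜ at ha
        change b • O = O ∨ b • O = Oᶜ at hb
        change (a * b) • O = O ∨ (a * b) • O = Oᶜ
        rw [mul_smul]
        rcases hb with hb | hb <;> rw [hb]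
        · exact ha
        · rw [Set.smul_set_compl]
          rcases ha with ha | ha <;> rw [ha]
          · right; rfl
          · left; simp
      one_mem' := by simp
      inv_mem' := by
        intro a ha
        change a • O = O ∨ a • O = Oᶜ at ha
        change a⁻¹ • O = O ∨ a⁻¹ • O = Oᶜ
        rcases ha with ha | ha
        · left
          rw [inv_smul_eq_iff, ha]
        · right
          rw [inv_smul_eq_iff, Set.smul_set_compl, ha, compl_compl] }
  intro hS
  have hle : MulAction.stabilizer (Equiv.Perm Ω) O ≤ W := fun g hg => Or.inl hg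
  -- an element swapping `O` and `Oᶜ`
  have hO' : Fintype.card {a // a ∈ O} = Fintype.card {a // a ∉ O} := by
    rw [← Nat.card_eq_fintype_card, ← Nat.card_eq_fintype_card]
    exact hO
  let e : {a // a ∈ O} ≃ {a // a ∉ O} := Fintype.equivOfCardEq hO'
  let σ : Equiv.Perm Ω := e.extendSubtype
  have hσ1 : ∀ a ∈ O, σ a ∉ O := fun a ha => Equiv.extendSubtype_mem e a ha
  have hσ2 : ∀ a, a ∉ O → σ a ∈ O := fun a ha => by
    have := Equiv.extendSubtype_not_mem e a ha
    simpa using this
  have hσW : σ ∈ W := by
    right
    ext a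
    constructor
    · rintro ⟨b, hb, rfl⟩
      exact hσ1 b hb
    · intro ha
      refine ⟨σ⁻¹ a, ?_, by simp⟩
      by_contra hcon
      have := hσ2 _ hcon
      rw [Equiv.Perm.inv_def, Equiv.apply_symm_apply] at this
      exact ha this
  have hσS : σ ∉ MulAction.stabilizer (Equiv.Perm Ω) O := by
    intro hmem
    rw [MulAction.mem_stabilizer_iff] at hmem
    have : σ x ∈ σ • O := Set.smul_mem_smul_set hx
    rw [hmem] at this
    exact hσ1 x hx this
  have hlt : MulAction.stabilizer (Equiv.Perm Ω) O < W :=
    lt_of_le_of_ne hle (fun h => hσS (h ▸ hσW))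
  have hWtop := hS.2 W hlt
  -- but some permutation does not preserve the partition
  have hτ : Equiv.swap y z ∉ W := by
    have hzne : y ≠ z := fun h => hzO (h ▸ hy)
    have hxz : x ≠ z := fun h => hzO (h ▸ hx)
    rintro (h | h)
    · have : Equiv.swap y z y ∈ Equiv.swap y z • O := Set.smul_mem_smul_set hy
      rw [h, Equiv.swap_apply_left] at this
      exact hzO this
    · have : Equiv.swap y z x ∈ Equiv.swap y z • O := Set.smul_mem_smul_set hx
      rw [h, Equiv.swap_apply_of_ne_of_ne hxy' hxz] at this
      exact this hx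
  exact hτ (hWtop ▸ Subgroup.mem_top _)

end Cfsg.Agent.S5904
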