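import Cfsg.Statements.S5894
import Cfsg.Agent.S5904
-- import your own Cfsg.Agent.* helpers here

set_option autoImplicit false
open Cfsg

namespace Cfsg.Agent.S5894

open MulAction
open scoped Pointwise

/-- The point stabiliser in `Perm α` of a point `a` lying in a set `O`: the joint stabiliser of `a` and `O`
is maximal in the point stabiliser, when the degree `|α| - 1` is odd. -/
lemma isCoatom_subgroupOf_pointStab {α : Type*} [Fintype α] [DecidableEq α] (a : α) (O : Set α)
    (hodd : Odd (Fintype.card α - 1))
    (h1 : ∃ b ∈ O, b ≠ a) (h2 : ∃ c, c ∉ O ∧ c ≠ a) :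
    IsCoatom (((stabilizer (Equiv.Perm α) a) ⊓ (stabilizer (Equiv.Perm α) O)).subgroupOf (stabilizer (Equiv.Perm α) a)) := by
  classical
  let p : α → Prop := fun x => x ≠ a
  let ι : Equiv.Perm {x // p x} →* Equiv.Perm α := Equiv.Perm.ofSubtype
  have hι : Function.Injective ι := Equiv.Perm.ofSubtype_injective
  have hmem : ∀ g : Equiv.Perm {x // p x}, ι g ∈ stabilizer (Equiv.Perm α) a := by
    intro g
    rw [mem_stabilizer_iff]
    exact Equiv.Perm.ofSubtype_apply_of_not_mem g (by simp [p])
  let ι' : Equiv.Perm {x // p x} →* stabilizer (Equiv.Perm α) a := ι.codRestrict _ hmem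
  have hι' : Function.Bijective ι' := by
    constructor
    · intro x y hxy
      exact hι (congrArg Subtype.val hxy)
    · rintro ⟨f, hf⟩
      rw [mem_stabilizer_iff] at hf
      have : f ∈ ι.range := by
        rw [Equiv.Perm.mem_range_ofSubtype_iff]
        intro x hx
        by_contra hcon
        have hxa : x = a := not_not.mp hcon
        rw [hxa] at hx
        exact (Equiv.Perm.mem_support.mp (by simpa using hx)) hf
      obtain ⟨g, hg⟩ := this
      exact ⟨g, Subtype.ext hg⟩
  let e := MulEquiv.ofBijective ι' hι'
  let O' : Set {x // p x} := {x | x.1 ∈ O}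
  have hO' : IsCoatom (stabilizer (Equiv.Perm {x // p x}) O') := by
    obtain ⟨b, hb, hba⟩ := h1
    obtain ⟨c, hc, hca⟩ := h2
    apply Equiv.Perm.isCoatom_stabilizer
    · exact ⟨⟨b, hba⟩, hb⟩
    · exact ⟨⟨c, hca⟩, hc⟩
    · have : Nat.card {x // p x} = Fintype.card α - 1 := by
        rw [Nat.card_eq_fintype_card]
        simp [p]
      rw [this]
      intro h
      rw [h] at hodd
      exact (Nat.not_odd_iff_even.mpr (even_two_mul _)) hodd
  have hstab : ∀ g : Equiv.Perm {x // p x}, ι g ∈ stabilizer (Equiv.Perm α) O ↔ g ∈ stabilizer (Equiv.Perm {x // p x}) O' := by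
    intro g
    rw [mem_stabilizer_iff, mem_stabilizer_iff]
    have hι1 : ∀ x : {x // p x}, ι g (x : α) = (g x : α) := fun x => Equiv.Perm.ofSubtype_apply_coe g x
    have hι2 : ι g a = a := Equiv.Perm.ofSubtype_apply_of_not_mem g (by simp [p])
    constructor
    · intro h
      ext x
      constructor
      · rintro ⟨y, hy, rfl⟩
        change (g y : α) ∈ O
        rw [← hι1 y, ← h]
        exact Set.smul_mem_smul_set hy
      · intro hx
        change (x : α) ∈ O at hx
        rw [← h] at hx
        obtain ⟨y, hy, hyx⟩ := hx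
        have hyp : p y := by
          intro hya
          have : (ι g) y = a := by rw [hya]; exact hι2
          have hxa : (x : α) = a := hyx.symm.trans this
          exact x.2 hxa
        refine ⟨⟨y, hyp⟩, hy, ?_⟩
        apply Subtype.ext
        change (g ⟨y, hyp⟩ : α) = x
        rw [← hι1]
        exact hyx
    · intro h
      have h' : ∀ x : {x // p x}, (g x) ∈ O' ↔ x ∈ O' := by
        intro x
        constructor
        · intro hx
          have : g x ∈ g • O' := by
            rw [h]; exact hx
          obtain ⟨y, hy, hyx⟩ := this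
          have : y = x := g.injective hyx
          exact this ▸ hy
        · intro hx
          have : g x ∈ g • O' := Set.smul_mem_smul_set hx
          rwa [h] at this
      ext x
      by_cases hxa : x = a
      · subst hxa
        constructor
        · rintro ⟨y, hy, hyx⟩
          have : y = x := by
            apply (ι g).injective
            change ι g y = ι g x
            rw [hι2]
            exact hyx
          exact this ▸ hy
        · intro hx
          exact ⟨x, hx, hι2⟩
      · constructor
        · rintro ⟨y, hy, hyx⟩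
          have hyp : p y := by
            intro hya
            have : ι g y = x := hyx
            rw [hya, hι2] at this
            exact hxa this.symm
          have h3 : (g ⟨y, hyp⟩ : α) ∈ O := (h' ⟨y, hyp⟩).mpr hy
          rw [← hι1] at h3
          have h4 : ι g y = x := hyx
          rwa [h4] at h3
        · intro hx
          obtain ⟨y, hy⟩ := g.surjective ⟨x, hxa⟩
          have h3 : (⟨x, hxa⟩ : {x // p x}) ∈ O' := hx
          rw [← hy] at h3
          have h4 := (h' y).mp h3
          refine ⟨y, h4, ?_⟩
          change ι g y = x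
          rw [hι1, hy]
  have hkey : ((stabilizer (Equiv.Perm α) a) ⊓ (stabilizer (Equiv.Perm α) O)).subgroupOf (stabilizer (Equiv.Perm α) a) =
      e.mapSubgroup (stabilizer (Equiv.Perm {x // p x}) O') := by
    ext ⟨f, hf⟩
    constructor
    · intro hmem'
      obtain ⟨g, hg⟩ := hι'.2 ⟨f, hf⟩
      have hfg : ι g = f := congrArg Subtype.val hg
      have h5 : f ∈ stabilizer (Equiv.Perm α) O := hmem'.2
      rw [← hfg, hstab] at h5
      exact ⟨g, h5, hg⟩
    · rintro ⟨g, hg, hgf⟩
      have hfg : ι g = f := congrArg Subtype.val hgf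
      refine ⟨hf, ?_⟩
      change f ∈ stabilizer (Equiv.Perm α) O
      rw [← hfg, hstab]
      exact hg
  rw [hkey]
  exact (OrderIso.isCoatom_iff _ _).mpr hO'


/-- For every m ≥ 2 the symmetric group on 2m letters has a maximal subgroup M of index 2m together with a maximal subgroup H of M that is not second maximal: some maximal subgroup K of the symmetric group contains H without H being maximal in K. (One may take M the stabiliser of a letter, H ≅ S_m × S_{m−1} inside it, and K ≅ S_m ≀ S₂ the stabiliser of a partition into two m-sets, with H < S_m × S_m < K.) So the prime-index hypothesis in the second-maximality criterion cannot be relaxed to any even index ≥ 4. -/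
theorem result (m : ℕ) (hm : 2 ≤ m) :
    ∃ M H K : Subgroup (Equiv.Perm (Fin (2 * m))), IsCoatom M ∧ M.index = 2 * m ∧ H ≤ M ∧ IsCoatom (H.subgroupOf M) ∧
      IsCoatom K ∧ H ≤ K ∧ ¬ IsCoatom (H.subgroupOf K) := by
    classical
  have hpos : 0 < 2 * m := by omega
  let a : Fin (2 * m) := ⟨0, hpos⟩
  let b : Fin (2 * m) := ⟨1, by omega⟩
  let c : Fin (2 * m) := ⟨m, by omega⟩
  let O : Set (Fin (2 * m)) := {x | x.val < m}
  have haO : a ∈ O := by simp [O, a]; omega
  have hbO : b ∈ O := by simp [O, b]; omega
  have hcO : c ∉ O := by simp [O, c]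
  have hba : b ≠ a := by simp [a, b, Fin.ext_iff]
  have hca : c ≠ a := by simp [a, c, Fin.ext_iff]; omega
  set M := stabilizer (Equiv.Perm (Fin (2 * m))) a with hM
  set S := stabilizer (Equiv.Perm (Fin (2 * m))) O with hS
  have hMcoatom : IsCoatom M := by
    have : Nontrivial (Fin (2 * m)) := Fin.nontrivial_iff_two_le.mpr (by omega)
    exact MulAction.IsPreprimitive.isCoatom_stabilizer_of_isPreprimitive (Equiv.Perm (Fin (2 * m))) a
  have hMindex : M.index = 2 * m := by
    have := MulAction.index_stabilizer_of_transitive (Equiv.Perm (Fin (2 * m))) a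
    rw [this]
    simp
  have hcoatom := isCoatom_subgroupOf_pointStab a O (by
      simp
      rw [show 2 * m - 1 = 2 * (m - 1) + 1 by omega]
      exact odd_two_mul_add_one _) ⟨b, hbO, hba⟩ ⟨c, hcO, hca⟩
  -- cardinalities of `O`
  have hOcard : Nat.card O = m := by
    have e : O ≃ Fin m :=
      { toFun := fun x => ⟨x.1.val, x.2⟩
        invFun := fun i => ⟨⟨i.val, by omega⟩, i.2⟩
        left_inv := fun x => rfl
        right_inv := fun i => rfl }
    rw [Nat.card_congr e, Nat.card_fin]
  have hOcompl : Nat.card ↥Oᶜ = m := by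
    have := Nat.card_congr (Equiv.Set.sumCompl O)
    rw [Nat.card_sum, hOcard, Nat.card_fin] at this
    omega
  have hSnot : ¬ IsCoatom S := Cfsg.Agent.S5904.result (by simp; omega) O (by rw [hOcard, hOcompl])
  have hStop : S ≠ ⊤ := by
    intro h
    have : Equiv.swap a c ∈ S := h ▸ Subgroup.mem_top _
    rw [hS, mem_stabilizer_iff] at this
    have h2 : Equiv.swap a c a ∈ Equiv.swap a c • O := Set.smul_mem_smul_set haO
    rw [this, Equiv.swap_apply_left] at h2
    exact hcO h2
  obtain ⟨K, hK, hSK⟩ := (eq_top_or_exists_le_coatom S).resolve_left hStop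
  refine ⟨M, M ⊓ S, K, hMcoatom, hMindex, inf_le_left, hcoatom, hK, inf_le_right.trans hSK, ?_⟩
  intro hcon
  -- `S` sits strictly between `M ⊓ S` and `K`
  have hne : S ≠ K := fun h => hSnot (h ▸ hK)
  have hlt : S < K := lt_of_le_of_ne hSK hne
  have hss : (M ⊓ S).subgroupOf K < S.subgroupOf K := by
    refine lt_of_le_of_ne (fun x hx => hx.2) ?_
    intro heq
    have hsw : Equiv.swap a b ∈ S := Equiv.Perm.swap_mem_stabilizer haO hbO
    have hsw2 : (⟨Equiv.swap a b, hSK hsw⟩ : K) ∈ S.subgroupOf K := hsw
    rw [← heq] at hsw2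
    have h3 : Equiv.swap a b ∈ M := hsw2.1
    rw [hM, mem_stabilizer_iff] at h3
    have h4 : Equiv.swap a b a = a := h3
    rw [Equiv.swap_apply_left] at h4
    exact hba h4
  have h5 := hcon.2 _ hss
  have h6 : K ≤ S := by
    intro x hx
    have : (⟨x, hx⟩ : K) ∈ S.subgroupOf K := h5 ▸ Subgroup.mem_top _
    exact this
  exact hne (le_antisymm hSK h6)

end Cfsg.Agent.S5894
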